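import Groth.Agent.PerfB.ColimHomology
import Mathlib.Algebra.Homology.DerivedCategory.Fractions
import Mathlib.Algebra.Homology.DerivedCategory.HomologySequence

/-!
# Coproducts in the derived category

Let `C` be an abelian category with exact coproducts of shape `J`.  Then the localization functor
`DerivedCategory.Q` preserves coproducts of shape `J`; in particular coproducts of shape `J` exist in
`DerivedCategory C`, and cohomology commutes with them.
-/

set_option autoImplicit false
universe w' w v u t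

open CategoryTheory CategoryTheory.Limits DerivedCategory Pretriangulated

namespace Groth.Agent.PerfB.CoprodDerived

variable {C : Type u} [Category.{v} C] [Abelian C]

/-- A null-homotopic morphism factors through an acyclic complex. -/
theorem exists_factor_of_homotopy [HasDerivedCategory.{t} C] {F K : CochainComplex C ℤ} (f : F ⟶ K)
    (h : Homotopy f 0) :
    ∃ (A : CochainComplex C ℤ) (i : F ⟶ A) (p : A ⟶ K), i ≫ p = f ∧ IsZero (Q.obj A) := by
  refine ⟨CochainComplex.mappingCone (𝟙 F), CochainComplex.mappingCone.inr (𝟙 F),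
    CochainComplex.mappingCone.desc (𝟙 F) (CochainComplex.HomComplex.Cochain.ofHomotopy h) f (by
      simp), by simp, ?_⟩
  have h := mappingCone_triangle_distinguished (𝟙 F)
  exact Triangle.isZero₃_of_isIso₁ _ h (inferInstanceAs (IsIso (Q.map (𝟙 F))))

/-- If a morphism of complexes becomes zero in the derived category, then it becomes null-homotopic, hence
factors through an acyclic complex, after composing with a quasi-isomorphism. -/
theorem exists_precomp_factor [HasDerivedCategory.{t} C] {F K : CochainComplex C ℤ} (f : F ⟶ K)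
    (hf : Q.map f = 0) :
    ∃ (F' A : CochainComplex C ℤ) (s : F' ⟶ F) (i : F' ⟶ A) (p : A ⟶ K), QuasiIso s ∧
      s ≫ f = i ≫ p ∧ IsZero (Q.obj A) := by
  have h : Qh.map ((HomotopyCategory.quotient C (ComplexShape.up ℤ)).map f) =
      Qh.map ((HomotopyCategory.quotient C (ComplexShape.up ℤ)).map (0 : F ⟶ K)) := by
    have h1 := quotientCompQhIso_hom_naturality f
    have h2 := quotientCompQhIso_hom_naturality (0 : F ⟶ K)
    rw [← cancel_mono ((quotientCompQhIso C).hom.app K), h1, h2, hf, Functor.map_zero]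
  rw [MorphismProperty.map_eq_iff_precomp Qh
    (HomotopyCategory.quasiIso C (ComplexShape.up ℤ))] at h
  obtain ⟨F', s, hs, fac⟩ := h
  obtain ⟨F', rfl⟩ := HomotopyCategory.quotient_obj_surjective F'
  obtain ⟨s, rfl⟩ := (HomotopyCategory.quotient _ _).map_surjective s
  rw [HomotopyCategory.quotient_map_mem_quasiIso_iff] at hs
  rw [← Functor.map_comp, ← Functor.map_comp, comp_zero] at fac
  obtain ⟨A, i, p, hip, hA⟩ := exists_factor_of_homotopy (s ≫ f) (HomotopyCategory.homotopyOfEq _ _ fac)
  exact ⟨F', A, s, i, p, hs, hip.symm, hA⟩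

section Coproducts

variable {J : Type w} [HasCoproductsOfShape J C]
  [HasExactColimitsOfShape (Discrete J) C]

/-- A coproduct of quasi-isomorphisms is a quasi-isomorphism. -/
theorem quasiIso_sigmaMap {F G : J → CochainComplex C ℤ} (s : ∀ j, F j ⟶ G j)
    (hs : ∀ j, QuasiIso (s j)) : QuasiIso (Limits.Sigma.map s) :=
  MorphismProperty.colimMap (W := HomologicalComplex.quasiIso C (ComplexShape.up ℤ))
    (X := Discrete.functor F) (Y := Discrete.functor G)
    (Discrete.natTrans fun j => s j.as) (fun j => hs j.as)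

variable [HasDerivedCategory.{t} C]

/-- A coproduct of acyclic complexes is acyclic. -/
theorem isZero_Q_sigma {A : J → CochainComplex C ℤ} (hA : ∀ j, IsZero (Q.obj (A j))) :
    IsZero (Q.obj (∐ A)) := by
  obtain ⟨Z, hZ⟩ := HasZeroObject.zero (C := CochainComplex C ℤ)
  have h : QuasiIso (Limits.Sigma.map fun j => (0 : Z ⟶ A j)) := by
    apply quasiIso_sigmaMap
    intro j
    rw [← isIso_Q_map_iff_quasiIso]
    exact isIso_of_source_target_iso_zero _ (Functor.map_isZero Q hZ).isoZero (hA j).isoZero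
  have h0 : IsZero (∐ fun _ : J => Z) := by
    rw [IsZero.iff_id_eq_zero]
    apply Sigma.hom_ext
    intro j
    exact hZ.eq_of_src _ _
  rw [← isIso_Q_map_iff_quasiIso] at h
  exact (Functor.map_isZero Q h0).of_iso
    (asIso (Q.map (Limits.Sigma.map fun j => (0 : Z ⟶ A j)))).symm

theorem hom_ext_Q_sigma (F : J → CochainComplex C ℤ) {Y : DerivedCategory C}
    (φ ψ : Q.obj (∐ F) ⟶ Y) (h : ∀ j, Q.map (Sigma.ι F j) ≫ φ = Q.map (Sigma.ι F j) ≫ ψ) : φ = ψ := by
  obtain ⟨K, ⟨e⟩⟩ : ∃ K, Nonempty (Q.obj K ≅ Y) := ⟨_, ⟨Q.objObjPreimageIso Y⟩⟩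
  suffices ∀ φ : Q.obj (∐ F) ⟶ Q.obj K, (∀ j, Q.map (Sigma.ι F j) ≫ φ = 0) → φ = 0 by
    rw [← sub_eq_zero, ← cancel_mono e.inv, zero_comp]
    apply this
    intro j
    rw [← Category.assoc, Preadditive.comp_sub, h j, sub_self, zero_comp]
  intro φ hφ
  obtain ⟨K', g, s, hs, rfl⟩ := left_fac φ
  have hg : ∀ j, Q.map (Sigma.ι F j ≫ g) = 0 := by
    intro j
    have := hφ j
    rwa [← Category.assoc, ← cancel_mono (Q.map s), Category.assoc, IsIso.inv_hom_id,
      Category.comp_id, zero_comp, ← Functor.map_comp] at this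
  choose F' A t i p ht fac hA using fun j => exists_precomp_factor _ (hg j)
  have hT := quasiIso_sigmaMap t ht
  rw [← isIso_Q_map_iff_quasiIso] at hT
  have hfac : Limits.Sigma.map t ≫ g = Limits.Sigma.map i ≫ Limits.Sigma.desc p := by
    apply Sigma.hom_ext
    intro j
    simp [fac]
  have hz : Q.map (Limits.Sigma.map t) ≫ Q.map g = 0 := by
    rw [← Functor.map_comp, hfac, Functor.map_comp, (isZero_Q_sigma hA).eq_of_tgt (Q.map _) 0,
      zero_comp]
  have : Q.map g = 0 := by
    rw [← cancel_epi (Q.map (Limits.Sigma.map t)), hz, comp_zero]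
  rw [this, zero_comp]

theorem exists_desc_Q_sigma (F : J → CochainComplex C ℤ) {Y : DerivedCategory C}
    (f : ∀ j, Q.obj (F j) ⟶ Y) :
    ∃ φ : Q.obj (∐ F) ⟶ Y, ∀ j, Q.map (Sigma.ι F j) ≫ φ = f j := by
  obtain ⟨K, ⟨e⟩⟩ : ∃ K, Nonempty (Q.obj K ≅ Y) := ⟨_, ⟨Q.objObjPreimageIso Y⟩⟩
  choose F' s hs g fac using fun j => right_fac (f j ≫ e.inv)
  have hS : IsIso (Q.map (Limits.Sigma.map s)) := by
    rw [isIso_Q_map_iff_quasiIso]
    exact quasiIso_sigmaMap s (fun j => by rw [← isIso_Q_map_iff_quasiIso]; exact hs j)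
  refine ⟨inv (Q.map (Limits.Sigma.map s)) ≫ Q.map (Limits.Sigma.desc g) ≫ e.hom, fun j => ?_⟩
  have h1 : Q.map (Sigma.ι F j) ≫ inv (Q.map (Limits.Sigma.map s)) =
      inv (Q.map (s j)) ≫ Q.map (Sigma.ι F' j) := by
    rw [IsIso.eq_inv_comp, ← Category.assoc, IsIso.comp_inv_eq, ← Functor.map_comp,
      ← Functor.map_comp]
    simp
  rw [← Category.assoc, h1, Category.assoc, ← Category.assoc (Q.map (Sigma.ι F' j)),
    ← Functor.map_comp, Sigma.ι_desc, ← Category.assoc, ← fac, Category.assoc, e.inv_hom_id,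
    Category.comp_id]

/-- `Q : CochainComplex C ℤ ⥤ DerivedCategory C` preserves exact coproducts. -/
noncomputable def isColimitQCofan (F : J → CochainComplex C ℤ) :
    IsColimit (Cofan.mk (Q.obj (∐ F)) (fun j => Q.map (Sigma.ι F j))) :=
  Cofan.IsColimit.mk _ (fun s => (exists_desc_Q_sigma F (fun j => s.inj j)).choose)
    (fun s => (exists_desc_Q_sigma F (fun j => s.inj j)).choose_spec)
    (fun s _ hm => hom_ext_Q_sigma F _ _ (fun j => (hm j).trans
      ((exists_desc_Q_sigma F (fun j => s.inj j)).choose_spec j).symm))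

instance hasCoproduct_derivedCategory (K : J → DerivedCategory C) : HasCoproduct K := by
  have e : ∀ j, Q.obj (Q.objPreimage (K j)) ≅ K j := fun j => Q.objObjPreimageIso (K j)
  have : HasCoproduct (fun j => Q.obj (Q.objPreimage (K j))) :=
    ⟨⟨⟨_, isColimitQCofan (fun j => Q.objPreimage (K j))⟩⟩⟩
  exact hasColimit_of_iso (F := Discrete.functor (fun j => Q.obj (Q.objPreimage (K j))))
    (G := Discrete.functor K) (Discrete.natIso fun j => (e j.as).symm)

instance hasCoproductsOfShape_derivedCategory : HasCoproductsOfShape J (DerivedCategory C) where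
  has_colimit _ := hasColimit_of_iso Discrete.natIsoFunctor

/-- `Q` commutes with exact coproducts. -/
noncomputable def QSigmaIso (F : J → CochainComplex C ℤ) (K : J → DerivedCategory C)
    (e : ∀ j, Q.obj (F j) ≅ K j) [HasCoproduct K] : Q.obj (∐ F) ≅ ∐ K :=
  IsColimit.coconePointsIsoOfNatIso (F := Discrete.functor fun j => Q.obj (F j))
    (G := Discrete.functor K) (isColimitQCofan F) (coproductIsCoproduct K)
    (Discrete.natIso fun j => e j.as)

/-- Cohomology commutes with exact coproducts. -/
noncomputable def homologySigmaIso (K : J → DerivedCategory C) [HasCoproduct K] (n : ℤ) :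
    (DerivedCategory.homologyFunctor C n).obj (∐ K) ≅
      ∐ fun j => (DerivedCategory.homologyFunctor C n).obj (K j) :=
  (DerivedCategory.homologyFunctor C n).mapIso
      (QSigmaIso (fun j => Q.objPreimage (K j)) K (fun j => Q.objObjPreimageIso (K j))).symm ≪≫
    (homologyFunctorFactors C n).app _ ≪≫
    ColimHomology.homologyColimitIso (Discrete.functor fun j => Q.objPreimage (K j)) n ≪≫
    HasColimit.isoOfNatIso (Discrete.natIso fun j =>
      ((homologyFunctorFactors C n).app (Q.objPreimage (K j.as))).symm ≪≫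
        (DerivedCategory.homologyFunctor C n).mapIso (Q.objObjPreimageIso (K j.as)))

end Coproducts

end Groth.Agent.PerfB.CoprodDerived
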