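import Groth.Prelude.Def_Coh
import Mathlib.CategoryTheory.Abelian.GrothendieckAxioms.Sheaf

/-!
# Exactness of colimits in the category of `O_X`-modules

Coproducts (indexed by small types) and filtered colimits are exact in `X.Modules`.
-/

set_option autoImplicit false
universe u

open CategoryTheory CategoryTheory.Limits AlgebraicGeometry

namespace Groth.Agent.PerfB.ModExactCoprod

variable (X : Scheme.{u})

theorem hasExactColimitsOfShape_modules (J : Type u) [SmallCategory J]
    [HasExactColimitsOfShape J AddCommGrpCat.{u}] : HasExactColimitsOfShape J X.Modules := by
  have : HasExactColimitsOfShape J (PresheafOfModules.{u} X.ringCatSheaf.obj) :=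
    HasExactColimitsOfShape.domain_of_functor J (PresheafOfModules.toPresheaf _)
  exact (PresheafOfModules.sheafificationAdjunction (𝟙 X.ringCatSheaf.obj)).hasExactColimitsOfShape J

instance hasExactCoproducts_modules (J : Type u) :
    HasExactColimitsOfShape (Discrete J) X.Modules := by
  have : HasExactColimitsOfShape (Discrete J) (PresheafOfModules.{u} X.ringCatSheaf.obj) :=
    HasExactColimitsOfShape.domain_of_functor (Discrete J) (PresheafOfModules.toPresheaf _)
  exact (PresheafOfModules.sheafificationAdjunction
    (𝟙 X.ringCatSheaf.obj)).hasExactColimitsOfShape (Discrete J)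

instance hasExactFilteredColimits_modules (J : Type u) [SmallCategory J] [IsFiltered J] :
    HasExactColimitsOfShape J X.Modules :=
  hasExactColimitsOfShape_modules X J

end Groth.Agent.PerfB.ModExactCoprod
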