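import Mathlib.Algebra.Homology.DerivedCategory.KInjective
import Mathlib.Algebra.Homology.DerivedCategory.ExactFunctor
import Mathlib.CategoryTheory.Adjunction.Additive

/-!
# Adjunctions with exact left adjoint and K-injective complexes

Let `adj : R ⊣ S` be an adjunction between abelian categories `R : A ⥤ B`, with `R` exact.
For a cochain complex `L` in `B` there is a canonical morphism
`cmap adj L : R.mapDerivedCategory.obj (Q.obj (S L)) ⟶ Q.obj L`.
We show that for `L` "adapted" (there is a quasi-isomorphism `L ⟶ I` with `I` K-injective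
which stays a quasi-isomorphism after applying `S` termwise) the map
`Hom(X, Q (S L)) ⟶ Hom(R X, Q L)` is bijective for all `X` in the derived category.
-/

universe w₁ w₂ v₁ v₂ u₁ u₂

namespace Groth.Agent.PerfB.DQAdj

open CategoryTheory CategoryTheory.Limits DerivedCategory

variable {A : Type u₁} {B : Type u₂} [Category.{v₁} A] [Category.{v₂} B] [Abelian A] [Abelian B]
  {R : A ⥤ B} {S : B ⥤ A} (adj : R ⊣ S) [R.Additive] [S.Additive]

/-- Termwise application of an additive functor to a cochain complex. -/
noncomputable abbrev mapCx (F : A ⥤ B) [F.Additive] : CochainComplex A ℤ ⥤ CochainComplex B ℤ :=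
  F.mapHomologicalComplex (ComplexShape.up ℤ)

/-- The counit of an adjunction, on cochain complexes. -/
@[simps]
noncomputable def counitCx (L : CochainComplex B ℤ) : (mapCx R).obj ((mapCx S).obj L) ⟶ L where
  f i := adj.counit.app (L.X i)
  comm' i j _ := (adj.counit.naturality (L.d i j)).symm

/-- The unit of an adjunction, on cochain complexes. -/
@[simps]
noncomputable def unitCx (K : CochainComplex A ℤ) : K ⟶ (mapCx S).obj ((mapCx R).obj K) where
  f i := adj.unit.app (K.X i)
  comm' i j _ := (adj.unit.naturality (K.d i j)).symm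

@[reassoc]
lemma counitCx_naturality {L L' : CochainComplex B ℤ} (f : L ⟶ L') :
    (mapCx R).map ((mapCx S).map f) ≫ counitCx adj L' = counitCx adj L ≫ f := by
  ext i
  exact adj.counit.naturality (f.f i)

@[reassoc]
lemma unitCx_naturality {K K' : CochainComplex A ℤ} (f : K ⟶ K') :
    f ≫ unitCx adj K' = unitCx adj K ≫ (mapCx S).map ((mapCx R).map f) := by
  ext i
  exact adj.unit.naturality (f.f i)

@[reassoc (attr := simp)]
lemma map_unitCx_counitCx (K : CochainComplex A ℤ) :
    (mapCx R).map (unitCx adj K) ≫ counitCx adj ((mapCx R).obj K) = 𝟙 _ := by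
  ext i
  exact adj.left_triangle_components (K.X i)

@[reassoc (attr := simp)]
lemma unitCx_map_counitCx (L : CochainComplex B ℤ) :
    unitCx adj ((mapCx S).obj L) ≫ (mapCx S).map (counitCx adj L) = 𝟙 _ := by
  ext i
  exact adj.right_triangle_components (L.X i)

instance isIso_counitCx [IsIso adj.counit] (L : CochainComplex B ℤ) :
    IsIso (counitCx adj L) := by
  have : ∀ i, IsIso ((counitCx adj L).f i) := fun i =>
    inferInstanceAs (IsIso (adj.counit.app (L.X i)))
  exact HomologicalComplex.Hom.isIso_of_components _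

variable [PreservesFiniteLimits R] [PreservesFiniteColimits R]

include adj in
/-- The right adjoint of an exact functor preserves K-injective complexes. -/
lemma isKInjective_mapCx (I : CochainComplex B ℤ) [h : I.IsKInjective] :
    ((mapCx S).obj I).IsKInjective := by
  refine ⟨fun {K} f hK => ?_⟩
  let g : (mapCx R).obj K ⟶ I := (mapCx R).map f ≫ counitCx adj I
  have hg : ((mapCx R).obj K).Acyclic := by
    intro n
    have := hK n
    rw [HomologicalComplex.exactAt_iff] at this ⊢
    exact this.map R
  have hf : f = unitCx adj K ≫ (mapCx S).map g := by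
    dsimp only [g]
    rw [Functor.map_comp, ← unitCx_naturality_assoc, unitCx_map_counitCx, Category.comp_id]
  obtain ⟨H⟩ := h.nonempty_homotopy_zero g hg
  exact ⟨(Homotopy.ofEq hf).trans
    (((S.mapHomotopy H).compLeft (unitCx adj K)).trans (Homotopy.ofEq (by simp)))⟩

variable [HasDerivedCategory.{w₁} A] [HasDerivedCategory.{w₂} B]

/-- The canonical map `R (Q (S L)) ⟶ Q L` in the derived category, for a complex `L`. -/
noncomputable def cmap (L : CochainComplex B ℤ) :
    R.mapDerivedCategory.obj (Q.obj ((mapCx S).obj L)) ⟶ Q.obj L :=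
  R.mapDerivedCategoryFactors.hom.app ((mapCx S).obj L) ≫ Q.map (counitCx adj L)

@[reassoc]
lemma cmap_naturality {L L' : CochainComplex B ℤ} (f : L ⟶ L') :
    R.mapDerivedCategory.map (Q.map ((mapCx S).map f)) ≫ cmap adj L' = cmap adj L ≫ Q.map f := by
  dsimp only [cmap]
  rw [Functor.mapDerivedCategoryFactors_hom_naturality_assoc, Category.assoc, ← Functor.map_comp,
    counitCx_naturality, Functor.map_comp]

instance isIso_cmap [IsIso adj.counit] (L : CochainComplex B ℤ) : IsIso (cmap adj L) := by
  dsimp only [cmap]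
  infer_instance

/-- The map `Hom(X, Q (S L)) → Hom(R X, Q L)`. -/
noncomputable def theta (X : DerivedCategory A) (L : CochainComplex B ℤ)
    (ψ : X ⟶ Q.obj ((mapCx S).obj L)) : R.mapDerivedCategory.obj X ⟶ Q.obj L :=
  R.mapDerivedCategory.map ψ ≫ cmap adj L

lemma exists_Q_map_eq {X : CochainComplex A ℤ} {I : CochainComplex A ℤ} [I.IsKInjective]
    (ψ : Q.obj X ⟶ Q.obj I) : ∃ f : X ⟶ I, Q.map f = ψ := by
  obtain ⟨g, hg⟩ := (CochainComplex.IsKInjective.Qh_map_bijective _ I).surjective
    ((quotientCompQhIso A).hom.app X ≫ ψ ≫ (quotientCompQhIso A).inv.app I)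
  obtain ⟨f, rfl⟩ := (HomotopyCategory.quotient _ _).map_surjective g
  refine ⟨f, ?_⟩
  rw [← cancel_epi ((quotientCompQhIso A).hom.app X), ← quotientCompQhIso_hom_naturality, hg]
  simp

lemma homotopic_of_Q_map_eq {X : CochainComplex A ℤ} {I : CochainComplex A ℤ} [I.IsKInjective]
    {f g : X ⟶ I} (h : Q.map f = Q.map g) : Nonempty (Homotopy f g) := by
  have : (HomotopyCategory.quotient _ _).map f = (HomotopyCategory.quotient _ _).map g := by
    apply (CochainComplex.IsKInjective.Qh_map_bijective _ I).injective
    rw [← cancel_mono ((quotientCompQhIso A).hom.app I), quotientCompQhIso_hom_naturality,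
      quotientCompQhIso_hom_naturality, h]
  exact ⟨HomotopyCategory.homotopyOfEq _ _ this⟩

/-- For a K-injective complex, `theta` is bijective. -/
lemma bijective_theta_of_isKInjective (X : DerivedCategory A) (I : CochainComplex B ℤ)
    [I.IsKInjective] : Function.Bijective (theta adj X I) := by
  have : ((mapCx S).obj I).IsKInjective := isKInjective_mapCx adj I
  suffices h : ∀ G : CochainComplex A ℤ, Function.Bijective (theta adj (Q.obj G) I) by
    have e := Q.objObjPreimageIso X
    have h' := h (Q.objPreimage X)
    constructor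
    · intro f g hfg
      rw [← cancel_epi e.hom]
      apply h'.1
      dsimp only [theta] at hfg ⊢
      rw [Functor.map_comp, Functor.map_comp, Category.assoc, Category.assoc, hfg]
    · intro g
      obtain ⟨f, hf⟩ := h'.2 (R.mapDerivedCategory.map e.hom ≫ g)
      refine ⟨e.inv ≫ f, ?_⟩
      dsimp only [theta] at hf ⊢
      rw [Functor.map_comp, Category.assoc, hf, ← Functor.map_comp_assoc, e.inv_hom_id,
        CategoryTheory.Functor.map_id, Category.id_comp]
  intro G
  constructor
  · intro ψ ψ' hψ
    obtain ⟨f, rfl⟩ := exists_Q_map_eq ψ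
    obtain ⟨f', rfl⟩ := exists_Q_map_eq ψ'
    dsimp only [theta, cmap] at hψ
    rw [Functor.mapDerivedCategoryFactors_hom_naturality_assoc,
      Functor.mapDerivedCategoryFactors_hom_naturality_assoc, cancel_epi, ← Functor.map_comp,
      ← Functor.map_comp] at hψ
    obtain ⟨H⟩ := homotopic_of_Q_map_eq hψ
    have key : ∀ f : G ⟶ (mapCx S).obj I,
        f = unitCx adj G ≫ (mapCx S).map ((mapCx R).map f ≫ counitCx adj I) := by
      intro f
      rw [Functor.map_comp, ← unitCx_naturality_assoc, unitCx_map_counitCx, Category.comp_id]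
    rw [key f, key f']
    exact Q_map_eq_of_homotopy _ ((S.mapHomotopy H).compLeft _)
  · intro φ
    obtain ⟨g, hg⟩ := exists_Q_map_eq (R.mapDerivedCategoryFactors.inv.app G ≫ φ)
    refine ⟨Q.map (unitCx adj G ≫ (mapCx S).map g), ?_⟩
    dsimp only [theta, cmap]
    rw [Functor.mapDerivedCategoryFactors_hom_naturality_assoc, ← Functor.map_comp,
      Functor.map_comp (mapCx R), Category.assoc, counitCx_naturality,
      map_unitCx_counitCx_assoc, hg]
    simp

/-- A complex `L` is adapted to `S` if it admits a quasi-isomorphism to a K-injective complex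
which stays a quasi-isomorphism after applying `S`. -/
def Adapted (S : B ⥤ A) [S.Additive] (L : CochainComplex B ℤ) : Prop :=
  ∃ (I : CochainComplex B ℤ) (s : L ⟶ I), I.IsKInjective ∧ QuasiIso s ∧
    QuasiIso ((S.mapHomologicalComplex (ComplexShape.up ℤ)).map s)

lemma bijective_theta (X : DerivedCategory A) {L : CochainComplex B ℤ}
    (hL : Adapted S L) : Function.Bijective (theta adj X L) := by
  obtain ⟨I, s, hI, hs, hs'⟩ := hL
  have hI' := bijective_theta_of_isKInjective adj X I
  have key : ∀ ψ : X ⟶ Q.obj ((mapCx S).obj L),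
      theta adj X I (ψ ≫ Q.map ((mapCx S).map s)) = theta adj X L ψ ≫ Q.map s := by
    intro ψ
    dsimp only [theta]
    rw [Functor.map_comp, Category.assoc, cmap_naturality, Category.assoc]
  constructor
  · intro ψ ψ' h
    rw [← cancel_mono (Q.map ((mapCx S).map s))]
    apply hI'.1
    rw [key, key, h]
  · intro φ
    obtain ⟨χ, hχ⟩ := hI'.2 (φ ≫ Q.map s)
    refine ⟨χ ≫ inv (Q.map ((mapCx S).map s)), ?_⟩
    rw [← cancel_mono (Q.map s), ← key, Category.assoc, IsIso.inv_hom_id, Category.comp_id, hχ]

omit [HasDerivedCategory A] [HasDerivedCategory B] in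
lemma adapted_of_isKInjective (I : CochainComplex B ℤ) [I.IsKInjective] : Adapted S I :=
  ⟨I, 𝟙 _, inferInstance, inferInstance, by
    rw [CategoryTheory.Functor.map_id]; infer_instance⟩

omit [HasDerivedCategory A] [HasDerivedCategory B] in
/-- If `S` is exact and every complex has a K-injective resolution, every complex is adapted. -/
lemma adapted_of_exact [PreservesFiniteLimits S] [PreservesFiniteColimits S]
    (L : CochainComplex B ℤ)
    (h : ∃ (I : CochainComplex B ℤ) (s : L ⟶ I), I.IsKInjective ∧ QuasiIso s) : Adapted S L := by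
  obtain ⟨I, s, hI, hs⟩ := h
  exact ⟨I, s, hI, hs, inferInstance⟩

end Groth.Agent.PerfB.DQAdj
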