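import Mathlib.Algebra.Category.ModuleCat.Descent
import Mathlib.RingTheory.Finiteness.Descent
import Mathlib.LinearAlgebra.TensorProduct.Pi
import Mathlib.RingTheory.Flat.FaithfullyFlat.Algebra
import Mathlib.Algebra.Category.ModuleCat.Abelian

/-!
# Jointly faithfully flat finite families of ring maps: vanishing and finiteness of modules descend
-/

set_option autoImplicit false
universe u v w
open CategoryTheory CategoryTheory.Limits TensorProduct

namespace Groth.Agent.PerfB.FFFamily

section Algebra

variable {A : Type u} [CommRing A] {ι : Type v} [Finite ι] (B : ι → Type w) [∀ j, CommRing (B j)]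
  [∀ j, Algebra A (B j)]

include A in
theorem faithfullyFlat_pi [∀ j, Module.Flat A (B j)]
    (h : ∀ p : PrimeSpectrum A, ∃ j, ∃ q : PrimeSpectrum (B j), PrimeSpectrum.comap (algebraMap A (B j)) q = p) :
    Module.FaithfullyFlat A (∀ j, B j) := by
  classical
  have := Fintype.ofFinite ι
  have : Module.Flat A (∀ j, B j) := Module.Flat.of_linearEquiv
    (DFinsupp.linearEquivFunOnFintype (R := A) (M := B)).symm
  apply Module.FaithfullyFlat.of_comap_surjective
  intro p
  obtain ⟨j, q, rfl⟩ := h p
  exact ⟨PrimeSpectrum.comap (Pi.evalRingHom B j) q, rfl⟩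

variable (A) in
theorem subsingleton_of_forall [Module.FaithfullyFlat A (∀ j, B j)] (M : Type*) [AddCommGroup M] [Module A M]
    (h : ∀ j, Subsingleton (B j ⊗[A] M)) : Subsingleton M := by
  classical
  have := Fintype.ofFinite ι
  have h' : ∀ j, Subsingleton (M ⊗[A] B j) := fun j => (TensorProduct.comm A M (B j)).toEquiv.subsingleton
  have : Subsingleton (M ⊗[A] (∀ j, B j)) := (TensorProduct.piRight A A M B).toEquiv.subsingleton
  exact Module.FaithfullyFlat.rTensor_reflects_triviality A (∀ j, B j) M

variable (A) in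
theorem finite_of_forall [Module.FaithfullyFlat A (∀ j, B j)] (M : Type*) [AddCommGroup M] [Module A M]
    (h : ∀ j, Module.Finite (B j) (B j ⊗[A] M)) : Module.Finite A M := by
  classical
  have := Fintype.ofFinite ι
  have key : ∀ j, ∃ S : Finset M, Submodule.span (B j) ((fun m => (1 : B j) ⊗ₜ[A] m) '' (S : Set M)) = ⊤ := by
    intro j
    obtain ⟨n, s, hs⟩ := Module.Finite.exists_fin (R := B j) (M := B j ⊗[A] M)
    choose k t m hm using fun i : Fin n => TensorProduct.exists_sum_tmul_eq (s i)
    refine ⟨Finset.univ.biUnion fun i : Fin n => Finset.univ.image fun l : Fin (k i) => m i l, ?_⟩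
    rw [eq_top_iff, ← hs, Submodule.span_le]
    rintro _ ⟨i, rfl⟩
    simp only [SetLike.mem_coe]
    rw [hm i]
    refine Submodule.sum_mem _ fun l _ => ?_
    have h1 : t i l ⊗ₜ[A] m i l = t i l • ((1 : B j) ⊗ₜ[A] m i l) := by
      rw [TensorProduct.smul_tmul', smul_eq_mul, mul_one]
    rw [h1]
    refine Submodule.smul_mem _ _ (Submodule.subset_span ⟨m i l, ?_, rfl⟩)
    simp only [Finset.coe_biUnion, Finset.coe_image, Set.mem_iUnion]
    exact ⟨i, by simp, l, by simp, rfl⟩
  choose S hS using key
  let N : Submodule A M := Submodule.span A (⋃ j, (S j : Set M))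
  have hN : N.FG := Submodule.fg_span (Set.finite_iUnion fun j => (S j).finite_toSet)
  have hq : Subsingleton (M ⧸ N) := by
    apply subsingleton_of_forall A B (M ⧸ N)
    intro j
    have hsurj : Function.Surjective (AlgebraTensorModule.lTensor (B j) (B j) N.mkQ) :=
      LinearMap.lTensor_surjective (B j) N.mkQ_surjective
    have hz : AlgebraTensorModule.lTensor (B j) (B j) N.mkQ = 0 := by
      apply LinearMap.ext_on_range (v := fun m : S j => (1 : B j) ⊗ₜ[A] (m : M))
      · rw [← hS j]
        congr 1
        ext x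
        simp
      · rintro ⟨m, hm⟩
        have : m ∈ N := Submodule.subset_span (Set.mem_iUnion.2 ⟨j, hm⟩)
        simp [(Submodule.Quotient.mk_eq_zero N).2 this]
    refine subsingleton_of_forall_eq 0 fun x => ?_
    obtain ⟨y, rfl⟩ := hsurj x
    rw [hz]
    rfl
  have hNt : N = ⊤ := by
    rw [← Submodule.Quotient.subsingleton_iff]
    exact hq
  exact ⟨hNt ▸ hN⟩

end Algebra

section Category

variable {A : Type u} [CommRing A] {ι : Type v} [Finite ι] (B : ι → Type u) [∀ j, CommRing (B j)] (φ : ∀ j, A →+* B j)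

include φ in
theorem isZero_of_forall (hφ : ∀ j, (φ j).Flat)
    (h : ∀ p : PrimeSpectrum A, ∃ j, ∃ q : PrimeSpectrum (B j), PrimeSpectrum.comap (φ j) q = p)
    (M : ModuleCat.{u} A) (hM : ∀ j, IsZero ((ModuleCat.extendScalars.{u, u, u} (φ j)).obj M)) : IsZero M := by
  let : ∀ j, Algebra A (B j) := fun j => (φ j).toAlgebra
  have : ∀ j, Module.Flat A (B j) := fun j => hφ j
  have := faithfullyFlat_pi (A := A) B h
  have : Subsingleton M := subsingleton_of_forall A B M fun j => ModuleCat.subsingleton_of_isZero (hM j)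
  exact ModuleCat.isZero_of_subsingleton M

theorem finite_module_of_forall (hφ : ∀ j, (φ j).Flat)
    (h : ∀ p : PrimeSpectrum A, ∃ j, ∃ q : PrimeSpectrum (B j), PrimeSpectrum.comap (φ j) q = p)
    (M : ModuleCat.{u} A) (hM : ∀ j, Module.Finite (B j) ((ModuleCat.extendScalars.{u, u, u} (φ j)).obj M)) :
    Module.Finite A M := by
  let : ∀ j, Algebra A (B j) := fun j => (φ j).toAlgebra
  have : ∀ j, Module.Flat A (B j) := fun j => hφ j
  have := faithfullyFlat_pi (A := A) B h
  exact finite_of_forall A B M hM

end Category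

end Groth.Agent.PerfB.FFFamily
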