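import Groth.Prelude.Def_DRing2
import Groth.Agent.PerfA.ExactD
import Groth.Agent.S2067
import Groth.Agent.S2068
import Groth.Agent.PerfB.FFFamily
import Mathlib.Algebra.Category.ModuleCat.Descent
import Mathlib.RingTheory.Finiteness.Descent

/-!
# Descent of pseudo-coherence along faithfully flat families of ring maps
-/

set_option autoImplicit false
universe u v w
open CategoryTheory CategoryTheory.Limits ZeroObject
attribute [local instance] HasDerivedCategory.standard

namespace Groth.Agent.PerfB.DescRing

section General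

variable {C : Type u} [Category.{v} C] [Abelian C]

open HomologicalComplex in
/-- A map from a projective object to the homology in degree `n` is induced by a map of complexes. -/
lemma exists_single_hom (K : CochainComplex C ℤ) (P : C) [Projective P] (n : ℤ) (g : P ⟶ K.homology n) :
    ∃ α : (single C (ComplexShape.up ℤ) n).obj P ⟶ K,
      homologyMap α n = (singleObjHomologySelfIso (ComplexShape.up ℤ) n P).hom ≫ g := by
  let l : P ⟶ K.cycles n := Projective.factorThru g (K.homologyπ n)
  have hl : l ≫ K.homologyπ n = g := Projective.factorThru_comp _ _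
  have hl0 : ∀ k, (ComplexShape.up ℤ).Rel n k → (l ≫ K.iCycles n) ≫ K.d n k = 0 := by
    intro k hk
    simp
  refine ⟨mkHomFromSingle (l ≫ K.iCycles n) hl0, ?_⟩
  rw [← cancel_epi (((single C (ComplexShape.up ℤ) n).obj P).homologyπ n), homologyπ_naturality,
    homologyπ_singleObjHomologySelfIso_hom_assoc, ← hl, ← Category.assoc]
  congr 1
  rw [← cancel_mono (K.iCycles n)]
  simp only [cyclesMap_i, mkHomFromSingle_f, Category.assoc, singleObjCyclesSelfIso_hom]

omit [Abelian C] in
lemma epi_map_iff {D : Type*} [Category D] {F G : C ⥤ D} (e : F ≅ G) {X Y : C} (f : X ⟶ Y) :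
    Epi (F.map f) ↔ Epi (G.map f) :=
  (MorphismProperty.epimorphisms D).arrow_mk_iso_iff (Arrow.isoOfNatIso e (Arrow.mk f))

end General

section Basic

variable {A : Type u} [CommRing A]

/-- `m`-pseudo-coherence is monotone in `m`. -/
lemma pc_mono {K : Dual.D A} {m m' : ℤ} (h : m ≤ m') (hK : DRing.IsPseudoCoherent A m K) :
    DRing.IsPseudoCoherent A m' K := by
  obtain ⟨E, a, b, α, h1, h2, h3, h4⟩ := hK
  refine ⟨E, a, b, α, h1, h2, fun i hi => h3 i (by omega), ?_⟩
  rcases h.eq_or_lt with rfl | h'
  · exact h4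
  · have := h3 m' h'
    infer_instance

lemma pc_of_iso {K L : Dual.D A} (e : K ≅ L) {m : ℤ} (hK : DRing.IsPseudoCoherent A m K) :
    DRing.IsPseudoCoherent A m L := by
  obtain ⟨E, a, b, α, h1, h2, h3, h4⟩ := hK
  refine ⟨E, a, b, α ≫ e.hom, h1, h2, fun i hi => ?_, ?_⟩
  · have := h3 i hi
    rw [Functor.map_comp]
    infer_instance
  · rw [Functor.map_comp]
    exact epi_comp _ _

/-- A bounded complex of finite free modules is `m`-pseudo-coherent for every `m`. -/
lemma pc_toD (E : DRing.Cx A) {a b : ℤ} (h1 : DRing.VanishesOutside E a b) (h2 : DRing.TermwiseFiniteFree E)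
    (m : ℤ) : DRing.IsPseudoCoherent A m (DRing.toD E) :=
  ⟨E, a, b, 𝟙 _, h1, h2, fun i _ => by rw [CategoryTheory.Functor.map_id]; infer_instance,
    by rw [CategoryTheory.Functor.map_id]; infer_instance⟩

/-- An object with vanishing cohomology in degrees `≥ m` is `m`-pseudo-coherent. -/
lemma pc_of_isZero {K : Dual.D A} {m : ℤ}
    (h : ∀ i : ℤ, m ≤ i → IsZero ((DerivedCategory.homologyFunctor (ModuleCat.{u} A) i).obj K)) :
    DRing.IsPseudoCoherent A m K := by
  have hz : IsZero (0 : DRing.Cx A) := isZero_zero _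
  have hzX : ∀ i, IsZero ((0 : DRing.Cx A).X i) := fun i =>
    (HomologicalComplex.eval (ModuleCat.{u} A) (ComplexShape.up ℤ) i).map_isZero hz
  refine ⟨0, 0, 0, 0, fun i _ => hzX i, fun i => ?_, fun i hi => ?_, ?_⟩
  · have : Subsingleton ((0 : DRing.Cx A).X i) := ModuleCat.subsingleton_of_isZero (hzX i)
    exact ⟨inferInstance, inferInstance⟩
  · rw [Functor.map_zero]
    have h1 : IsZero (DRing.toD (0 : DRing.Cx A)) := DerivedCategory.Q.map_isZero hz
    exact isIso_of_source_target_iso_zero _ (((DerivedCategory.homologyFunctor _ i).map_isZero h1).isoZero)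
      (h i hi.le).isoZero
  · exact IsZero.epi (h m le_rfl) _

/-- An `m`-pseudo-coherent object has bounded above cohomology. -/
lemma exists_bound {K : Dual.D A} {m : ℤ} (hK : DRing.IsPseudoCoherent A m K) :
    ∃ b : ℤ, ∀ i : ℤ, b < i → IsZero ((DerivedCategory.homologyFunctor (ModuleCat.{u} A) i).obj K) := by
  obtain ⟨E, a, b, α, h1, h2, h3, h4⟩ := hK
  refine ⟨max m b, fun i hi => ?_⟩
  have := h3 i (lt_of_le_of_lt (le_max_left _ _) hi)
  refine IsZero.of_iso ?_ (asIso ((DerivedCategory.homologyFunctor _ i).map α)).symm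
  have hE : E.IsStrictlyLE b := (CochainComplex.isStrictlyLE_iff _ _).2 fun i hi => h1 i (Or.inr hi)
  exact (DRing.toD E).isZero_of_isLE b i (lt_of_le_of_lt (le_max_right _ _) hi)

end Basic

section BaseChange

variable {A B : Type u} [CommRing A] [CommRing B] (φ : A →+* B)

attribute [local instance] preservesBinaryBiproducts_of_preservesBinaryCoproducts in
instance additive_ext : (ModuleCat.extendScalars.{u, u, u} φ).Additive :=
  Functor.additive_of_preservesBinaryBiproducts _

instance preservesFiniteColimits_ext : PreservesFiniteColimits (ModuleCat.extendScalars.{u, u, u} φ) :=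
  haveI : PreservesColimits (ModuleCat.extendScalars.{u, u, u} φ) :=
    (ModuleCat.extendRestrictScalarsAdj φ).leftAdjoint_preservesColimits
  PreservesColimits.preservesFiniteColimits _

/-- Base change of complexes along a ring map. -/
noncomputable abbrev bcCx : DRing.Cx A ⥤ DRing.Cx B :=
  (ModuleCat.extendScalars.{u, u, u} φ).mapHomologicalComplex (ComplexShape.up ℤ)

lemma finiteFree_ext (M : ModuleCat.{u} A) (h : Module.Finite A M ∧ Module.Free A M) :
    Module.Finite B ((ModuleCat.extendScalars.{u, u, u} φ).obj M) ∧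
      Module.Free B ((ModuleCat.extendScalars.{u, u, u} φ).obj M) := by
  obtain ⟨h1, h2⟩ := h
  algebraize [φ]
  exact ⟨inferInstanceAs (Module.Finite B (TensorProduct A B M)),
    inferInstanceAs (Module.Free B (TensorProduct A B M))⟩

/-- Flat base change of a pseudo-coherent object is pseudo-coherent. -/
lemma pc_baseChange [PreservesFiniteLimits (ModuleCat.extendScalars.{u, u, u} φ)] {K : Dual.D A} {m : ℤ}
    (hK : DRing.IsPseudoCoherent A m K) :
    DRing.IsPseudoCoherent B m ((ModuleCat.extendScalars.{u, u, u} φ).mapDerivedCategory.obj K) := by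
  obtain ⟨E, a, b, α, h1, h2, h3, h4⟩ := hK
  let e := (ModuleCat.extendScalars.{u, u, u} φ).mapDerivedCategoryFactors.app E
  refine ⟨(bcCx φ).obj E, a, b, e.inv ≫ (ModuleCat.extendScalars.{u, u, u} φ).mapDerivedCategory.map α,
    fun i hi => Functor.map_isZero (ModuleCat.extendScalars.{u, u, u} φ) (h1 i hi), fun i => finiteFree_ext φ _ (h2 i), fun i hi => ?_, ?_⟩
  · have := h3 i hi
    have h5 : IsIso ((DerivedCategory.homologyFunctor _ i).map
      ((ModuleCat.extendScalars.{u, u, u} φ).mapDerivedCategory.map α)) :=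
      (NatIso.isIso_map_iff (PerfA.ExactD.mapHomology (ModuleCat.extendScalars.{u, u, u} φ) i) α).2
        (inferInstanceAs (IsIso ((ModuleCat.extendScalars.{u, u, u} φ).map
          ((DerivedCategory.homologyFunctor _ i).map α))))
    rw [Functor.map_comp]
    infer_instance
  · have h5 : Epi ((DerivedCategory.homologyFunctor _ m).map
      ((ModuleCat.extendScalars.{u, u, u} φ).mapDerivedCategory.map α)) :=
      (epi_map_iff (PerfA.ExactD.mapHomology (ModuleCat.extendScalars.{u, u, u} φ) m) α).2
        (inferInstanceAs (Epi ((ModuleCat.extendScalars.{u, u, u} φ).map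
          ((DerivedCategory.homologyFunctor _ m).map α))))
    rw [Functor.map_comp]
    exact epi_comp _ _

end BaseChange

section Descent

variable {A : Type u} [CommRing A]

/-- If `H^b(K)` is finite there is a finite free module `P` and a map `P[-b] ⟶ K` which is surjective on `H^b`. -/
lemma exists_top_cover (K : Dual.D A) (b : ℤ)
    (h : Module.Finite A ((DerivedCategory.homologyFunctor (ModuleCat.{u} A) b).obj K)) :
    ∃ (E : DRing.Cx A) (α : DRing.toD E ⟶ K), DRing.VanishesOutside E b b ∧ DRing.TermwiseFiniteFree E ∧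
      Epi ((DerivedCategory.homologyFunctor (ModuleCat.{u} A) b).map α) := by
  let K' : DRing.Cx A := DerivedCategory.Q.objPreimage K
  let e : DerivedCategory.Q.obj K' ≅ K := DerivedCategory.Q.objObjPreimageIso K
  let e1 : K'.homology b ≅ (DerivedCategory.homologyFunctor (ModuleCat.{u} A) b).obj K :=
    ((DerivedCategory.homologyFunctorFactors (ModuleCat.{u} A) b).app K').symm ≪≫
      (DerivedCategory.homologyFunctor (ModuleCat.{u} A) b).mapIso e
  have hfin : Module.Finite A (K'.homology b) := Module.Finite.equiv e1.symm.toLinearEquiv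
  obtain ⟨n, f, hf⟩ := Module.Finite.exists_fin' A (K'.homology b)
  let P : ModuleCat.{u} A := ModuleCat.of A (Fin n → A)
  have hP : Projective P := ModuleCat.projective_of_categoryTheory_projective P
  let g : P ⟶ K'.homology b := ModuleCat.ofHom f
  have hg : Epi g := (ModuleCat.epi_iff_surjective _).2 hf
  obtain ⟨α, hα⟩ := exists_single_hom K' P b g
  have hepi : Epi (HomologicalComplex.homologyMap α b) := by
    rw [hα]
    exact epi_comp _ _
  refine ⟨(HomologicalComplex.single (ModuleCat.{u} A) (ComplexShape.up ℤ) b).obj P,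
    DerivedCategory.Q.map α ≫ e.hom, ?_, ?_, ?_⟩
  · intro i hi
    exact HomologicalComplex.isZero_single_obj_X _ _ _ _ (by omega)
  · intro i
    by_cases hi : i = b
    · subst hi
      let e2 : ((HomologicalComplex.single (ModuleCat.{u} A) (ComplexShape.up ℤ) i).obj P).X i ≅ P :=
        HomologicalComplex.singleObjXSelf _ _ _
      exact ⟨Module.Finite.equiv e2.symm.toLinearEquiv, Module.Free.of_equiv e2.symm.toLinearEquiv⟩
    · have hz : IsZero (((HomologicalComplex.single (ModuleCat.{u} A) (ComplexShape.up ℤ) b).obj P).X i) :=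
        HomologicalComplex.isZero_single_obj_X _ _ _ _ hi
      have := ModuleCat.subsingleton_of_isZero hz
      exact ⟨inferInstance, inferInstance⟩
  · rw [Functor.map_comp]
    have h3 : Epi ((DerivedCategory.homologyFunctor (ModuleCat.{u} A) b).map (DerivedCategory.Q.map α)) :=
      (epi_map_iff (DerivedCategory.homologyFunctorFactors (ModuleCat.{u} A) b) α).2 hepi
    exact epi_comp _ _

lemma isZero_map_homology {B : Type u} [CommRing B] (φ : A →+* B)
    [PreservesFiniteLimits (ModuleCat.extendScalars.{u, u, u} φ)] {K : Dual.D A} {i : ℤ}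
    (h : IsZero ((DerivedCategory.homologyFunctor _ i).obj
      ((ModuleCat.extendScalars.{u, u, u} φ).mapDerivedCategory.obj K))) :
    IsZero ((ModuleCat.extendScalars.{u, u, u} φ).obj ((DerivedCategory.homologyFunctor _ i).obj K)) :=
  h.of_iso ((PerfA.ExactD.mapHomology (ModuleCat.extendScalars.{u, u, u} φ) i).app K).symm

open Pretriangulated in
/-- If the cohomology of `K` is zero above degree `b` and `P ⟶ K` is a map from a complex concentrated in degree `b`
which is surjective on `H^b`, the cohomology of the cone vanishes above degree `b - 1`. -/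
lemma isZero_cone (T : Triangle (Dual.D A)) (hT : T ∈ distinguishedTriangles) (b : ℤ)
    (h1 : ∀ i : ℤ, b < i → IsZero ((DerivedCategory.homologyFunctor (ModuleCat.{u} A) i).obj T.obj₁))
    (h2 : ∀ i : ℤ, b < i → IsZero ((DerivedCategory.homologyFunctor (ModuleCat.{u} A) i).obj T.obj₂))
    (h3 : Epi ((DerivedCategory.homologyFunctor (ModuleCat.{u} A) b).map T.mor₁)) (i : ℤ) (hi : b - 1 < i) :
    IsZero ((DerivedCategory.homologyFunctor (ModuleCat.{u} A) i).obj T.obj₃) := by
  have hex := DerivedCategory.HomologySequence.exact₃ T hT i (i + 1) rfl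
  have hg : DerivedCategory.HomologySequence.δ T i (i + 1) = 0 := (h1 (i + 1) (by omega)).eq_of_tgt _ _
  have hf : (DerivedCategory.homologyFunctor (ModuleCat.{u} A) i).map T.mor₂ = 0 := by
    rcases eq_or_ne i b with rfl | hne
    · exact (DerivedCategory.HomologySequence.epi_homologyMap_mor₁_iff T hT i).1 h3
    · exact (h2 i (by omega)).eq_of_src _ _
  exact hex.isZero_of_both_zeros hf hg

open Pretriangulated in
theorem pc_descent_aux {ι : Type w} (B : ι → Type u) [∀ j, CommRing (B j)] (φ : ∀ j, A →+* B j)
    [∀ j, PreservesFiniteLimits (ModuleCat.extendScalars.{u, u, u} (φ j))]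
    (hfin : ∀ M : ModuleCat.{u} A, (∀ j, Module.Finite (B j) ((ModuleCat.extendScalars.{u, u, u} (φ j)).obj M)) →
      Module.Finite A M) (n : ℕ) :
    ∀ (m b : ℤ) (_ : b < m + n) (K : Dual.D A)
      (_ : ∀ i : ℤ, b < i → IsZero ((DerivedCategory.homologyFunctor (ModuleCat.{u} A) i).obj K))
      (_ : ∀ j, DRing.IsPseudoCoherent (B j) m ((ModuleCat.extendScalars.{u, u, u} (φ j)).mapDerivedCategory.obj K)),
      DRing.IsPseudoCoherent A m K := by
  induction n with
  | zero =>
    intro m b hb K hK _
    exact pc_of_isZero fun i hi => hK i (by omega)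
  | succ n ih =>
    intro m b hb K hKb hK
    rcases lt_or_ge b m with hbm | hbm
    · exact pc_of_isZero fun i hi => hKb i (by omega)
    have hf : Module.Finite A ((DerivedCategory.homologyFunctor (ModuleCat.{u} A) b).obj K) := by
      apply hfin
      intro j
      have h1 := (S2068.result _ b (pc_mono hbm (hK j))).1 (fun i hi => by
        have h2 := (ModuleCat.extendScalars.{u, u, u} (φ j)).map_isZero (hKb i hi)
        exact h2.of_iso ((PerfA.ExactD.mapHomology (ModuleCat.extendScalars.{u, u, u} (φ j)) i).app K))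
      exact @Module.Finite.equiv _ _ _ _ _ _ _ _ h1 ((PerfA.ExactD.mapHomology
        (ModuleCat.extendScalars.{u, u, u} (φ j)) b).app K).toLinearEquiv
    obtain ⟨E, α, hE1, hE2, hα⟩ := exists_top_cover K b hf
    obtain ⟨C, β, γ, hT⟩ := distinguished_cocone_triangle α
    have hE3 : ∀ i : ℤ, b < i → IsZero ((DerivedCategory.homologyFunctor (ModuleCat.{u} A) i).obj (DRing.toD E)) := by
      intro i hi
      have hE : E.IsStrictlyLE b := (CochainComplex.isStrictlyLE_iff _ _).2 fun i hi => hE1 i (Or.inr hi)
      exact (DRing.toD E).isZero_of_isLE b i hi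
    have hC := isZero_cone _ hT b hE3 hKb hα
    have hC' : DRing.IsPseudoCoherent A m C := by
      refine ih m (b - 1) (by push_cast at hb; omega) C hC fun j => ?_
      have hT' := (ModuleCat.extendScalars.{u, u, u} (φ j)).mapDerivedCategory.map_distinguished _ hT
      exact (S2067.result _ hT' m).1 (pc_baseChange (φ j) (pc_toD E hE1 hE2 (m + 1))) (hK j)
    exact (S2067.result _ hT m).2.1 (pc_toD E hE1 hE2 m) hC'

/-- **Descent of pseudo-coherence** along a finite family of flat ring maps which jointly detects vanishing and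
finiteness of modules. -/
theorem pc_descent {ι : Type w} [Finite ι] (B : ι → Type u) [∀ j, CommRing (B j)] (φ : ∀ j, A →+* B j)
    [∀ j, PreservesFiniteLimits (ModuleCat.extendScalars.{u, u, u} (φ j))]
    (h0 : ∀ M : ModuleCat.{u} A, (∀ j, IsZero ((ModuleCat.extendScalars.{u, u, u} (φ j)).obj M)) → IsZero M)
    (hfin : ∀ M : ModuleCat.{u} A, (∀ j, Module.Finite (B j) ((ModuleCat.extendScalars.{u, u, u} (φ j)).obj M)) →
      Module.Finite A M) (m : ℤ) (K : Dual.D A)
    (hK : ∀ j, DRing.IsPseudoCoherent (B j) m ((ModuleCat.extendScalars.{u, u, u} (φ j)).mapDerivedCategory.obj K)) :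
    DRing.IsPseudoCoherent A m K := by
  choose b hb using fun j => exists_bound (hK j)
  obtain ⟨b', hb'⟩ := (Set.finite_range b).bddAbove
  have hKb : ∀ i : ℤ, b' < i → IsZero ((DerivedCategory.homologyFunctor (ModuleCat.{u} A) i).obj K) := by
    intro i hi
    exact h0 _ fun j => isZero_map_homology (φ j) (hb j i (lt_of_le_of_lt (hb' ⟨j, rfl⟩) hi))
  exact pc_descent_aux B φ hfin (b' - m + 1).toNat m b' (by
    have := Int.self_le_toNat (b' - m + 1)
    omega) K hKb hK

/-- **Descent of pseudo-coherence** along a finite family of flat ring maps which is jointly surjective on spectra. -/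
theorem pc_descent_family {ι : Type w} [Finite ι] (B : ι → Type u) [∀ j, CommRing (B j)] (φ : ∀ j, A →+* B j)
    (hφ : ∀ j, (φ j).Flat)
    (h : ∀ p : PrimeSpectrum A, ∃ j, ∃ q : PrimeSpectrum (B j), PrimeSpectrum.comap (φ j) q = p)
    [∀ j, PreservesFiniteLimits (ModuleCat.extendScalars.{u, u, u} (φ j))] (m : ℤ) (K : Dual.D A)
    (hK : ∀ j, DRing.IsPseudoCoherent (B j) m ((ModuleCat.extendScalars.{u, u, u} (φ j)).mapDerivedCategory.obj K)) :
    DRing.IsPseudoCoherent A m K :=
  pc_descent B φ (FFFamily.isZero_of_forall B φ hφ h) (FFFamily.finite_module_of_forall B φ hφ h) m K hK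

end Descent


end Groth.Agent.PerfB.DescRing
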