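import Groth.Agent.Dcoh.FlatTor
import Mathlib.CategoryTheory.Abelian.Exact

/-!
# The skyscraper functor `ModuleCat O_{X,x} ⥤ X.Modules`

It is right adjoint to the stalk functor, exact, and the counit is an isomorphism.
-/

set_option autoImplicit false
universe u

open CategoryTheory CategoryTheory.Limits TopologicalSpace Opposite AlgebraicGeometry

namespace Groth.Agent.PerfB.SkyFun

open Groth.Agent.Fdesc.Skyscraper Groth.Agent.Dcoh.Stalk Groth.Agent.Dcoh.FlatTor

variable {X : Scheme.{u}} (x : X)

/-- maps out of the stalk are maps to the skyscraper. -/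
noncomputable def skyHomEquiv (M : X.Modules) (Q : ModuleCat.{u} (X.presheaf.stalk x)) :
    ((stalkF x).obj M ⟶ Q) ≃ (M ⟶ sky x Q) where
  toFun f := toSky f.hom
  invFun g := ModuleCat.ofHom (ofSky g)
  left_inv f := by
    ext1
    exact ofSky_toSky f.hom
  right_inv g := toSky_ofSky g

lemma skyHomEquiv_app_apply {M : X.Modules} {Q : ModuleCat.{u} (X.presheaf.stalk x)}
    (f : (stalkF x).obj M ⟶ Q) (U : X.Opens) (s : Γ(M, U)) (h : PLift (x ∈ U)) :
    ((skyHomEquiv x M Q f).app U s : Sec x Q U) h = f.hom (M.presheaf.germ U x h.down s) := rfl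

lemma hom_sky_ext {M : X.Modules} {Q : ModuleCat.{u} (X.presheaf.stalk x)} (f g : M ⟶ sky x Q)
    (h : ∀ (U : X.Opens) (s : Γ(M, U)) (hx : PLift (x ∈ U)),
      (f.app U s : Sec x Q U) hx = (g.app U s : Sec x Q U) hx) : f = g := by
  ext U s
  exact (funext fun hx => h U s hx : (_ : Sec x Q U) = _)

lemma skyHomEquiv_naturality {M' M : X.Modules} {Q : ModuleCat.{u} (X.presheaf.stalk x)}
    (f : M' ⟶ M) (g : (stalkF x).obj M ⟶ Q) :
    skyHomEquiv x M' Q ((stalkF x).map f ≫ g) = f ≫ skyHomEquiv x M Q g := by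
  refine hom_sky_ext x _ _ (fun U s hx => ?_)
  rw [skyHomEquiv_app_apply]
  change g.hom (((stalkF x).map f).hom (M'.presheaf.germ U x hx.down s)) =
    g.hom (M.presheaf.germ U x hx.down (f.app U s))
  rw [stalkF_map_germ]

/-- The skyscraper functor. -/
noncomputable def skyF : ModuleCat.{u} (X.presheaf.stalk x) ⥤ X.Modules :=
  Adjunction.rightAdjointOfEquiv (F := stalkF x) (skyHomEquiv x)
    (fun _ _ _ f g => skyHomEquiv_naturality x f g)

lemma skyF_obj (Q : ModuleCat.{u} (X.presheaf.stalk x)) : (skyF x).obj Q = sky x Q := rfl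

/-- The stalk functor is left adjoint to the skyscraper functor. -/
noncomputable def skyAdj : stalkF x ⊣ skyF x :=
  Adjunction.adjunctionOfEquivRight (skyHomEquiv x) _

noncomputable instance : PreservesLimits (skyF x) := (skyAdj x).rightAdjoint_preservesLimits

instance : (skyF x).Additive := Functor.additive_of_preserves_binary_products _

lemma skyF_map_app {A B : ModuleCat.{u} (X.presheaf.stalk x)} (f : A ⟶ B) (U : X.Opens)
    (s : Γ(sky x A, U)) (h : PLift (x ∈ U)) :
    (((skyF x).map f).app U s : Sec x B U) h = f ((s : Sec x A U) h) := by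
  change ((skyHomEquiv x _ _ ((skyHomEquiv x _ _).symm (𝟙 (sky x A)) ≫ f)).app U s : Sec x B U) h = _
  rw [skyHomEquiv_app_apply]
  change f.hom (ofSky (𝟙 (sky x A)) _) = _
  rw [ofSky_germ]
  rfl

lemma epi_of_app_surjective {M N : X.Modules} (g : M ⟶ N)
    (h : ∀ U : X.Opens, Function.Surjective (g.app U)) : Epi g := by
  have h1 : Epi ((Scheme.Modules.toPresheaf X).map g) := by
    rw [NatTrans.epi_iff_epi_app]
    intro U
    rw [AddCommGrpCat.epi_iff_surjective]
    exact h U.unop
  exact (Scheme.Modules.toPresheaf X).epi_of_epi_map h1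

instance : (skyF x).PreservesEpimorphisms where
  preserves {A B} f hf := by
    refine epi_of_app_surjective _ (fun U t => ?_)
    have hf' : Function.Surjective f := (ModuleCat.epi_iff_surjective f).1 hf
    refine ⟨((fun h => (hf' ((t : Sec x B U) h)).choose) : Sec x A U), ?_⟩
    refine (funext fun h => ?_ : (_ : Sec x B U) = _)
    rw [skyF_map_app]
    exact (hf' ((t : Sec x B U) h)).choose_spec

instance : (skyF x).PreservesHomology := Functor.preservesHomology_of_preservesEpis_and_kernels _

instance isIso_skyAdj_counit_app (Q : ModuleCat.{u} (X.presheaf.stalk x)) :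
    IsIso ((skyAdj x).counit.app Q) := by
  have h : (skyAdj x).counit.app Q = (stalkSkyIso x Q).hom := by
    have : (skyAdj x).counit.app Q = (skyHomEquiv x _ _).symm (𝟙 (sky x Q)) := by
      simp [skyAdj]
    rw [this]
    rfl
  rw [h]
  infer_instance

instance isIso_skyAdj_counit : IsIso (skyAdj x).counit := NatIso.isIso_of_isIso_app _

/-- The stalk of a skyscraper. -/
noncomputable def skyStalkIso : skyF x ⋙ stalkF x ≅ 𝟭 _ := asIso (skyAdj x).counit

end Groth.Agent.PerfB.SkyFun
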