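import Groth.Agent.PerfB.RingKFlat
import Groth.Agent.PerfB.SkyFun
import Groth.Agent.Dcoh.KFlat
import Groth.Agent.Fdesc.PullbackStalk

/-!
# K-flatness on stalks; pullback of K-flat complexes

* `isKFlat_iff_stalk`: a complex of `O_X`-modules is K-flat iff its stalks are;
* `stalkPull`: the stalk of `f^* M` at `x` is `O_{X,x} ⊗ M_{f x}`, naturally;
* `acyclic_pullback`: `f^* K` is acyclic if `K` is acyclic and K-flat;
* `isKFlat_pullback`: `f^* K` is K-flat if `K` is.
-/

set_option autoImplicit false

universe u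

open CategoryTheory CategoryTheory.Limits MonoidalCategory HomologicalComplex AlgebraicGeometry

namespace Groth.Agent.PerfB.StalkKFlat

open Groth.Agent.Dcoh.KFlatAbs Groth.Agent.Dcoh.KFlatSingle Groth.Agent.Dcoh.Stalk
  Groth.Agent.PerfB.SkyFun Groth.Agent.PerfB.RingKFlat

section Stalk

variable {X : Scheme.{u}}

/-- Stalks of tensor products. -/
noncomputable def stalkData (x : X) : BifCompare.Data (DCoh.tensorBi (X := X))
    (TR (X.presheaf.stalk x)) (stalkF x) (stalkF x) (stalkF x) where
  e M N := tensorStalkIso M N x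
  nat₁ f _ := tensorStalkIso_naturality_left f x
  nat₂ _ _ _ g := tensorStalkIso_naturality_right g x

/-- The stalk of the total tensor product. -/
noncomputable def stalkTensorCx (x : X) (K L : CochainComplex X.Modules ℤ) :
    ((TR (X.presheaf.stalk x)).map₂CochainComplex.obj
      (((stalkF x).mapHomologicalComplex (ComplexShape.up ℤ)).obj K)).obj
      (((stalkF x).mapHomologicalComplex (ComplexShape.up ℤ)).obj L) ≅
    ((stalkF x).mapHomologicalComplex (ComplexShape.up ℤ)).obj ((DCoh.tensorCx.obj K).obj L) :=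
  BifCompare.iso (stalkData x) K L

lemma acyclic_iff_stalk (K : CochainComplex X.Modules ℤ) :
    K.Acyclic ↔ ∀ x : X, (((stalkF x).mapHomologicalComplex (ComplexShape.up ℤ)).obj K).Acyclic := by
  constructor
  · intro hK x
    exact acyclic_map_of_preservesHomology (stalkF x) K hK
  · intro h n
    exact ((jointlyReflectIsos X).exact_iff (K.sc n)).2 (fun x => h x n)

/-- Stalks of K-flat complexes are K-flat. -/
theorem kfl_stalk {K : CochainComplex X.Modules ℤ} (hK : DCoh.IsKFlat K) (x : X) :
    KFl (TR (X.presheaf.stalk x)) (((stalkF x).mapHomologicalComplex (ComplexShape.up ℤ)).obj K) := by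
  rw [Groth.Agent.Dcoh.KFlat.isKFlat_iff] at hK
  intro L hL
  have h1 : (((skyF x).mapHomologicalComplex (ComplexShape.up ℤ)).obj L).Acyclic :=
    acyclic_map_of_preservesHomology (skyF x) L hL
  have h2 := (acyclic_iff_stalk _).1 (hK _ h1) x
  have h3 := acyclic_of_iso (stalkTensorCx x _ K).symm h2
  let e : ((stalkF x).mapHomologicalComplex (ComplexShape.up ℤ)).obj
      (((skyF x).mapHomologicalComplex (ComplexShape.up ℤ)).obj L) ≅ L :=
    (NatIso.mapHomologicalComplex (skyStalkIso x) (ComplexShape.up ℤ)).app L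
  exact acyclic_of_iso (((TR (X.presheaf.stalk x)).map₂CochainComplex.mapIso e).app _) h3

theorem isKFlat_of_stalk {K : CochainComplex X.Modules ℤ}
    (hK : ∀ x : X, KFl (TR (X.presheaf.stalk x))
      (((stalkF x).mapHomologicalComplex (ComplexShape.up ℤ)).obj K)) : DCoh.IsKFlat K := by
  rw [Groth.Agent.Dcoh.KFlat.isKFlat_iff]
  intro L hL
  rw [acyclic_iff_stalk]
  intro x
  exact acyclic_of_iso (stalkTensorCx x L K) (hK x _ ((acyclic_iff_stalk L).1 hL x))

/-- A complex of `O_X`-modules is K-flat iff its stalks are. -/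
theorem isKFlat_iff_stalk (K : CochainComplex X.Modules ℤ) : DCoh.IsKFlat K ↔
    ∀ x : X, KFl (TR (X.presheaf.stalk x))
      (((stalkF x).mapHomologicalComplex (ComplexShape.up ℤ)).obj K) :=
  ⟨kfl_stalk, isKFlat_of_stalk⟩

end Stalk

section Pullback

open TensorProduct Groth.Agent.Fdesc.PullbackStalk Groth.Agent.Fdesc.Skyscraper

variable {X Y : Scheme.{u}} (f : X ⟶ Y)

lemma stalkF_map_eq {M N : X.Modules} (φ : M ⟶ N) (x : X) (t : M.presheaf.stalk x) :
    ((stalkF x).map φ).hom t = stalkMap φ x t := by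
  obtain ⟨U, hU, s, rfl⟩ := TopCat.Presheaf.exists_germ_eq M.presheaf t
  rw [stalkMap_germ]
  exact Groth.Agent.Dcoh.FlatTor.stalkF_map_germ x φ U hU s

lemma stalkF_map_hom {M N : X.Modules} (φ : M ⟶ N) (x : X) :
    ((stalkF x).map φ).hom = stalkMap φ x :=
  LinearMap.ext (stalkF_map_eq φ x)

lemma stalkPullbackEquiv_naturality {M N : Y.Modules} (φ : M ⟶ N) (x : X) :
    letI := stalkAlg f x
    ∀ z : X.presheaf.stalk x ⊗[Y.presheaf.stalk (f.base x)] M.presheaf.stalk (f.base x),
    stalkPullbackEquiv f N x ((stalkMap φ (f.base x)).baseChange (X.presheaf.stalk x) z) =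
      stalkMap ((Scheme.Modules.pullback f).map φ) x (stalkPullbackEquiv f M x z) := by
  letI := stalkAlg f x
  intro z
  induction z using TensorProduct.induction_on with
  | zero => simp only [map_zero]
  | add z w hz hw => simp only [map_add, hz, hw]
  | tmul a m =>
    rw [LinearMap.baseChange_tmul, stalkPullbackEquiv_tmul,
      stalkPullbackEquiv_tmul, map_smul, stalkMap_pullback_canAdd]

/-- The stalk of `f^* M`, as an object of `ModuleCat`. -/
noncomputable def stalkPullIso (x : X) (M : Y.Modules) :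
    letI := stalkAlg f x
    (ext (Y.presheaf.stalk (f.base x)) (X.presheaf.stalk x)).obj ((stalkF (f.base x)).obj M) ≅
      (stalkF x).obj ((Scheme.Modules.pullback f).obj M) :=
  letI := stalkAlg f x
  LinearEquiv.toModuleIso
    (X₁ := X.presheaf.stalk x ⊗[Y.presheaf.stalk (f.base x)] M.presheaf.stalk (f.base x))
    (stalkPullbackEquiv f M x)

/-- `(f^* M)_x = O_{X,x} ⊗ M_{f x}`, naturally in `M`. -/
noncomputable def stalkPull (x : X) :
    letI := stalkAlg f x
    stalkF (f.base x) ⋙ ext (Y.presheaf.stalk (f.base x)) (X.presheaf.stalk x) ≅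
      Scheme.Modules.pullback f ⋙ stalkF x :=
  letI := stalkAlg f x
  NatIso.ofComponents (fun M => stalkPullIso f x M) (fun {M N} φ => by
    ext1
    apply LinearMap.ext
    intro z
    exact (congrArg (fun F : M.presheaf.stalk (f.base x) →ₗ[Y.presheaf.stalk (f.base x)]
      N.presheaf.stalk (f.base x) =>
        stalkPullbackEquiv f N x (F.baseChange (X.presheaf.stalk x) z))
        (stalkF_map_hom φ (f.base x))).trans
      ((stalkPullbackEquiv_naturality f φ x z).trans
        (stalkF_map_eq ((Scheme.Modules.pullback f).map φ) x _).symm))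

/-- The pullback of an acyclic K-flat complex is acyclic. -/
theorem acyclic_pullback (K : CochainComplex Y.Modules ℤ) (hK : DCoh.IsKFlat K)
    (hK2 : K.Acyclic) :
    (((Scheme.Modules.pullback f).mapHomologicalComplex (ComplexShape.up ℤ)).obj K).Acyclic := by
  rw [acyclic_iff_stalk]
  intro x
  let _ := stalkAlg f x
  have h1 := acyclic_ext (X.presheaf.stalk x) _ (kfl_stalk hK (f.base x))
    ((acyclic_iff_stalk K).1 hK2 (f.base x))
  exact acyclic_of_iso ((NatIso.mapHomologicalComplex (stalkPull f x)
    (ComplexShape.up ℤ)).app K) h1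

/-- The pullback of a K-flat complex is K-flat. -/
theorem isKFlat_pullback (K : CochainComplex Y.Modules ℤ) (hK : DCoh.IsKFlat K) :
    DCoh.IsKFlat (((Scheme.Modules.pullback f).mapHomologicalComplex (ComplexShape.up ℤ)).obj K) := by
  apply isKFlat_of_stalk
  intro x
  let _ := stalkAlg f x
  have h1 := kfl_ext (X.presheaf.stalk x) _ (kfl_stalk hK (f.base x))
  exact KFl.of_iso ((NatIso.mapHomologicalComplex (stalkPull f x)
    (ComplexShape.up ℤ)).app K) h1

end Pullback

end Groth.Agent.PerfB.StalkKFlat
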