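import Groth.Prelude.Def_DDual2
import Mathlib.Algebra.Category.ModuleCat.Sheaf.PullbackFree

/-!
# Unit isomorphisms: `O_X ⊗ G ≅ G` (for `DCoh.tensorRightMod`) and `f^* O_Y ≅ O_X`
-/

set_option autoImplicit false
universe u v v' u'
open CategoryTheory CategoryTheory.Limits AlgebraicGeometry MonoidalCategory

namespace Groth.Agent.PerfB.TensUnit

section

variable {C : Type u'} [Category.{v'} C] {J : GrothendieckTopology C}
   {R : Sheaf J RingCat.{u}} [HasSheafify J AddCommGrpCat.{v}]
   [J.WEqualsLocallyBijective AddCommGrpCat.{v}]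

/-- The counit of sheafification of presheaves of modules. -/
noncomputable def sheafifyCounit (M : SheafOfModules.{v} R) :
    (PresheafOfModules.sheafification.{v} (𝟙 R.obj)).obj M.val ≅ M :=
  haveI : IsIso (PresheafOfModules.sheafificationAdjunction.{v} (𝟙 R.obj)).counit := inferInstance
  letI e := (asIso (PresheafOfModules.sheafificationAdjunction.{v} (𝟙 R.obj)).counit).app M
  e

/-- The counit of sheafification of presheaves of modules, as a natural isomorphism. -/
noncomputable def sheafifyCounitNat :
    SheafOfModules.forget R ⋙ PresheafOfModules.sheafification.{v} (𝟙 R.obj) ≅ 𝟭 _ :=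
  haveI : IsIso (PresheafOfModules.sheafificationAdjunction.{v} (𝟙 R.obj)).counit := inferInstance
  letI e := (asIso (PresheafOfModules.sheafificationAdjunction.{v} (𝟙 R.obj)).counit)
  e

end

variable {X Y : Scheme.{u}}

/-- Sheafifying the presheaf of modules underlying a sheaf of modules gives it back. -/
noncomputable def shToP (M : X.Modules) : DCoh.shP.obj (DCoh.toP.obj M) ≅ M :=
  sheafifyCounit (R := X.ringCatSheaf) M

/-- `O_X ⊗ G ≅ G`. -/
noncomputable def unitTensor (G : X.Modules) :
    (DCoh.tensorRightMod G).obj (Coh.structureModule X) ≅ G :=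
  DCoh.shP.mapIso (λ_ (CohB1.toPMod G)) ≪≫ shToP G

/-- `M ⊗ O_X ≅ M`, natural in `M`. -/
noncomputable def tensorUnit :
    DCoh.tensorRightMod (Coh.structureModule X) ≅ 𝟭 X.Modules :=
  Functor.isoWhiskerLeft DCoh.toP (Functor.isoWhiskerRight (rightUnitorNatIso (CohB1.PMod X))
    DCoh.shP) ≪≫ sheafifyCounitNat (R := X.ringCatSheaf)

lemma final_opensMap (f : X ⟶ Y) : (TopologicalSpace.Opens.map f.base).Final where
  out V := by
    have : Nonempty (StructuredArrow V (TopologicalSpace.Opens.map f.base)) :=
      ⟨StructuredArrow.mk (Y := (⊤ : Y.Opens)) (homOfLE le_top)⟩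
    refine zigzag_isConnected fun a b => ?_
    have h (a : StructuredArrow V (TopologicalSpace.Opens.map f.base)) :
        Zigzag a (StructuredArrow.mk (Y := (⊤ : Y.Opens)) (homOfLE le_top)) :=
      Zigzag.of_hom (StructuredArrow.homMk (homOfLE le_top) (Subsingleton.elim _ _))
    exact (h a).trans (h b).symm

set_option backward.isDefEq.respectTransparency.types false in
/-- `f^* O_Y ≅ O_X`, auxiliary version. -/
noncomputable def pullbackUnit' (f : X ⟶ Y) :
    (SheafOfModules.pullback f.toRingCatSheafHom).obj (SheafOfModules.unit _) ≅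
      SheafOfModules.unit _ :=
  haveI : (TopologicalSpace.Opens.map f.base).Final := final_opensMap f
  asIso (SheafOfModules.pullbackObjUnitToUnit (F := TopologicalSpace.Opens.map f.base)
    f.toRingCatSheafHom)

/-- `f^* O_Y ≅ O_X`. -/
noncomputable def pullbackUnit (f : X ⟶ Y) :
    (Scheme.Modules.pullback f).obj (Coh.structureModule Y) ≅ Coh.structureModule X :=
  pullbackUnit' f

end Groth.Agent.PerfB.TensUnit
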