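import Groth.Agent.PerfB.FlatPull
import Groth.Agent.PerfA.QCohD
import Groth.Agent.S0911
import Groth.Agent.S0959

/-!
# `Lf^*` and restriction to open subschemes
-/

set_option autoImplicit false
universe u
open CategoryTheory CategoryTheory.Limits AlgebraicGeometry
attribute [local instance] HasDerivedCategory.standard

namespace Groth.Agent.PerfB.LpullOpens
open Groth.Agent.PerfA.Restrict Groth.Agent.PerfB.FlatPull

/-- `Lj^*` is restriction for an open immersion `j`. -/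
noncomputable def lpullRestrictD {X Y : Scheme.{u}} (j : X ⟶ Y) [IsOpenImmersion j] [DCoh.HasLpull j] :
    DCoh.Lpull j ≅ restrictD j :=
  lpullIso j ≪≫ Groth.Agent.PerfA.ExactD.mapDIso
    (Scheme.Modules.restrictFunctorIsoPullback j).symm

theorem nonempty_lpullComp {X Y Z : Scheme.{u}} (f : X ⟶ Y) (g : Y ⟶ Z)
    [DCoh.HasLpull f] [DCoh.HasLpull g] [DCoh.HasLpull (f ≫ g)] :
    Nonempty (DCoh.Lpull g ⋙ DCoh.Lpull f ≅ DCoh.Lpull (f ≫ g)) := S0911.result f g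

/-- `Lp^*` only depends on `p`. -/
theorem nonempty_lpullCongr {W Z : Scheme.{u}} {p q : W ⟶ Z} (h : p = q) [DCoh.HasLpull p]
    [DCoh.HasLpull q] : Nonempty (DCoh.Lpull p ≅ DCoh.Lpull q) := by
  subst h
  exact ⟨Iso.refl _⟩

/-- For a commutative square `v ≫ f = g ≫ j`: `Lv^* Lf^* ≅ Lg^* Lj^*`. -/
theorem nonempty_lpullSquare {W X Y Z : Scheme.{u}} (v : W ⟶ X) (f : X ⟶ Z) (g : W ⟶ Y) (j : Y ⟶ Z)
    [DCoh.HasLpull v] [DCoh.HasLpull f] [DCoh.HasLpull g] [DCoh.HasLpull j] (h : v ≫ f = g ≫ j) :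
    Nonempty (DCoh.Lpull f ⋙ DCoh.Lpull v ≅ DCoh.Lpull j ⋙ DCoh.Lpull g) := by
  have h0 : DCoh.HasLpull (v ≫ f) := S0959.result _
  obtain ⟨e₁⟩ := nonempty_lpullComp v f
  have h1 : DCoh.HasLpull (g ≫ j) := S0959.result _
  obtain ⟨e₂⟩ := nonempty_lpullComp g j
  obtain ⟨e₃⟩ := nonempty_lpullCongr h
  exact ⟨e₁ ≪≫ e₃ ≪≫ e₂.symm⟩

/-- `(Lf^* K)|_W ≅ Lg^* (K|_Y)` for a commutative square with open immersions. -/
theorem nonempty_lpullRestrict {W X Y Z : Scheme.{u}} (v : W ⟶ X) (f : X ⟶ Z) (g : W ⟶ Y) (j : Y ⟶ Z)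
    [IsOpenImmersion v] [IsOpenImmersion j] [DCoh.HasLpull f] [DCoh.HasLpull g]
    (h : v ≫ f = g ≫ j) :
    Nonempty (DCoh.Lpull f ⋙ restrictD v ≅ restrictD j ⋙ DCoh.Lpull g) := by
  have h0 : DCoh.HasLpull v := S0959.result _
  have h1 : DCoh.HasLpull j := S0959.result _
  obtain ⟨e⟩ := nonempty_lpullSquare v f g j h
  exact ⟨Functor.isoWhiskerLeft _ (lpullRestrictD v).symm ≪≫ e ≪≫
    Functor.isoWhiskerRight (lpullRestrictD j) _⟩

/-- Affine charts for a morphism of schemes at a point of the source. -/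
theorem exists_affine_chart {X Y : Scheme.{u}} (f : X ⟶ Y) (x : X) :
    ∃ (A B : CommRingCat.{u}) (φ : A ⟶ B) (v : Spec B ⟶ X) (j : Spec A ⟶ Y)
      (_ : IsOpenImmersion v) (_ : IsOpenImmersion j) (y : Spec B), v y = x ∧
      v ≫ f = Spec.map φ ≫ j := by
  obtain ⟨V, hV, hfV, -⟩ := exists_isAffineOpen_mem_and_subset (U := (⊤ : Y.Opens)) (x := f x)
    (TopologicalSpace.Opens.mem_top _)
  obtain ⟨U, hU, hxU, hUV⟩ := exists_isAffineOpen_mem_and_subset (U := f ⁻¹ᵁ V) (x := x) hfV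
  exact ⟨Γ(Y, V), Γ(X, U), f.appLE V U hUV, hU.fromSpec, hV.fromSpec, inferInstance, inferInstance,
    hU.primeIdealOf ⟨x, hxU⟩, hU.fromSpec_primeIdealOf ⟨x, hxU⟩,
    (hV.SpecMap_appLE_fromSpec f hU hUV).symm⟩

end Groth.Agent.PerfB.LpullOpens
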