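import Groth.Agent.Dcoh.KFlatZd
import Mathlib.Algebra.Homology.DerivedCategory.KProjective
import Mathlib.Algebra.Category.ModuleCat.Monoidal.Closed
import Mathlib.Algebra.Category.ModuleCat.Monoidal.Symmetric
import Mathlib.Algebra.Category.ModuleCat.AB
import Mathlib.Algebra.Category.ModuleCat.Projective
import Mathlib.RingTheory.Flat.CategoryTheory
import Mathlib.Algebra.Homology.Monoidal
import Groth.Prelude.Def_DRing4

/-!
# K-projective complexes of modules over a commutative ring are K-flat
-/

set_option autoImplicit false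

universe u

open CategoryTheory CategoryTheory.Limits MonoidalCategory HomologicalComplex

namespace Groth.Agent.PerfB.KProjFlat

open Groth.Agent.Dcoh.KFlatAbs Groth.Agent.Dcoh.CellStep

variable {A : Type u} [CommRing A]

/-- the tensor product as a bifunctor -/
noncomputable abbrev tens (A : Type u) [CommRing A] : ModuleCat.{u} A ⥤ ModuleCat.{u} A ⥤ ModuleCat.{u} A :=
  curriedTensor (ModuleCat.{u} A)

theorem preservesHomology_flip (M : ModuleCat.{u} A) [Module.Flat A M] :
    ((tens A).flip.obj M).PreservesHomology := by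
  have h1 : PreservesFiniteLimits (tensorRight M) :=
    (Module.Flat.iff_preservesFiniteLimits_tensorRight M).1 inferInstance
  have h2 : PreservesFiniteColimits (tensorRight M) :=
    preservesFiniteColimits_of_natIso (BraidedCategory.tensorLeftIsoTensorRight M)
  have h4 : (tensorRight M).PreservesHomology := inferInstance
  exact h4

instance hasExactColimitsOfShape_nat : HasExactColimitsOfShape ℕ (ModuleCat.{u} A) := by
  have := AB5OfSize_of_univLE.{0, 0, u, u} (ModuleCat.{u} A)
  exact AB5OfSize.ofShape ℕ

instance hasExactColimitsOfShape_int : HasExactColimitsOfShape (Discrete ℤ) (ModuleCat.{u} A) := by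
  infer_instance

instance preservesColimits₀_tens_obj (M : ModuleCat.{u} A) :
    PreservesColimitsOfSize.{0, 0} ((tens A).obj M) :=
  preservesColimitsOfSize_shrink.{0, u, 0, u} _

theorem exists_kfl (G : CochainComplex (ModuleCat.{u} A) ℤ) :
    ∃ (N : CochainComplex (ModuleCat.{u} A) ℤ) (c : N ⟶ G), QuasiIso c ∧ KFl (tens A) N := by
  have hP : Enough (fun M : ModuleCat.{u} A => Projective M) := fun X =>
    ⟨Projective.over X, Projective.π X, inferInstance, inferInstance⟩
  have hP' : ∀ M : ModuleCat.{u} A, Projective M → ((tens A).flip.obj M).PreservesHomology := by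
    intro M hM
    have : Module.Projective A M := (IsProjective.iff_projective M).2 hM
    exact preservesHomology_flip M
  obtain ⟨N, c, hc, hc', h⟩ := Groth.Agent.Dcoh.CellRes.exists_resolution hP G
  exact ⟨N, c, hc, h (KFl (tens A))
    (fun F hF => Groth.Agent.Dcoh.KFlatZd.kfl_zd F (fun n => hP' _ (hF n)))
    (fun F hF K' φ hK' => KFl.mappingCone φ (Groth.Agent.Dcoh.KFlatZd.kfl_zd F (fun n => hP' _ (hF n))) hK')
    (fun S cc hcc hS => KFl.of_isColimit (T := tens A) (cK := cc) hcc hS)⟩

/-- K-flatness passes to homotopy retracts. -/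
theorem kfl_of_retract {N P : CochainComplex (ModuleCat.{u} A) ℤ} (s : P ⟶ N) (c : N ⟶ P)
    (h : Homotopy (s ≫ c) (𝟙 P)) (hN : KFl (tens A) N) : KFl (tens A) P := by
  intro L hL
  have h1 := hN L hL
  let G := (tens A).map₂CochainComplex.obj L
  have h2 : Homotopy (G.map s ≫ G.map c) (𝟙 (G.obj P)) := by
    have := (Groth.Agent.Dcoh.CxFun.HtpyFunctor.homotopy G h).some
    rwa [G.map_comp, G.map_id] at this
  intro n
  rw [HomologicalComplex.exactAt_iff_isZero_homology]
  have h3 : IsZero ((G.obj N).homology n) := (HomologicalComplex.exactAt_iff_isZero_homology _ _).1 (h1 n)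
  rw [IsZero.iff_id_eq_zero, ← HomologicalComplex.homologyMap_id, ← h2.homologyMap_eq,
    HomologicalComplex.homologyMap_comp]
  rw [h3.eq_of_tgt (HomologicalComplex.homologyMap (G.map s) n) 0, zero_comp]

/-- K-projective complexes are K-flat. -/
theorem kfl_of_isKProjective (P : CochainComplex (ModuleCat.{u} A) ℤ) [P.IsKProjective] :
    KFl (tens A) P := by
  let _ : HasDerivedCategory (ModuleCat.{u} A) := HasDerivedCategory.standard _
  obtain ⟨N, c, hc, hN⟩ := exists_kfl P
  let c' := (HomotopyCategory.quotient (ModuleCat.{u} A) (ComplexShape.up ℤ)).map c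
  have h1 : IsIso (DerivedCategory.Qh.map c') := by
    rw [DerivedCategory.isIso_Qh_map_iff, HomotopyCategory.quotient_map_mem_quasiIso_iff]
    exact hc
  obtain ⟨s', hs'⟩ := (CochainComplex.IsKProjective.Qh_map_bijective P
    ((HomotopyCategory.quotient _ _).obj N)).2 (inv (DerivedCategory.Qh.map c'))
  obtain ⟨s, rfl⟩ := (HomotopyCategory.quotient _ _).map_surjective s'
  have h2 : (HomotopyCategory.quotient (ModuleCat.{u} A) (ComplexShape.up ℤ)).map (s ≫ c) =
      (HomotopyCategory.quotient (ModuleCat.{u} A) (ComplexShape.up ℤ)).map (𝟙 P) := by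
    apply (CochainComplex.IsKProjective.Qh_map_bijective P _).1
    rw [Functor.map_comp, Functor.map_comp, hs', CategoryTheory.Functor.map_id,
      CategoryTheory.Functor.map_id]
    exact IsIso.inv_hom_id _
  exact kfl_of_retract s c (HomotopyCategory.homotopyOfEq _ _ h2) hN

/-- `KFl` in terms of the monoidal structure on complexes (the hypothesis of S1121). -/
theorem isZero_homology_tensor {P : DRing.Cx A} (hP : KFl (tens A) P) (L : DRing.Cx A)
    (hL : ∀ i : ℤ, IsZero (L.homology i)) (i : ℤ) : IsZero (((tensorRight P).obj L).homology i) := by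
  have h1 : L.Acyclic := fun n => (HomologicalComplex.exactAt_iff_isZero_homology _ _).2 (hL n)
  exact (HomologicalComplex.exactAt_iff_isZero_homology _ _).1 (hP L h1 i)

end Groth.Agent.PerfB.KProjFlat
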