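import Groth.Prelude.Def_DDual2
import Groth.Agent.LoccohB.LBC
import Groth.Agent.LoccohB.KDer
import Groth.Agent.Ega1.TildePullback

/-!
# `(K ⊗^L_A B)~ ≅ Lf^*(K~)` for `f = Spec φ`

`nonempty_iso`: the comparison, given that the counit of `Lf^*` is an isomorphism on `P~` for `P` K-projective.
-/

set_option autoImplicit false
universe u
open CategoryTheory CategoryTheory.Limits AlgebraicGeometry Opposite
attribute [local instance] HasDerivedCategory.standard

set_option linter.unusedSectionVars false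

namespace Groth.Agent.PerfB.TildeLpull

open Groth.Agent.LoccohB

/-- The counit of `Lf^*`. -/
noncomputable def lpullCounit {X Y : Scheme.{u}} (f : X ⟶ Y) [DCoh.HasLpull f] :
    DerivedCategory.Qh ⋙ DCoh.Lpull f ⟶ DCoh.pullKh f :=
  (DCoh.pullKh f).totalLeftDerivedCounit DerivedCategory.Qh
    (HomotopyCategory.quasiIso Y.Modules (ComplexShape.up ℤ))

instance {X Y : Scheme.{u}} (f : X ⟶ Y) [DCoh.HasLpull f] :
    (DCoh.Lpull f).IsLeftDerivedFunctor (lpullCounit f)
      (HomotopyCategory.quasiIso Y.Modules (ComplexShape.up ℤ)) := by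
  unfold lpullCounit
  infer_instance

variable {A B : CommRingCat.{u}} (φ : A ⟶ B)
  [PreservesFiniteLimits (tilde.functor A)]
  [PreservesFiniteLimits (tilde.functor B)]

instance additive_comp :
    (ModuleCat.extendScalars.{u, u, u} φ.hom ⋙ tilde.functor B).Additive :=
  inferInstance

instance additive_comp' : Functor.Additive (D := (Spec B).Modules)
    (ModuleCat.extendScalars.{u, u, u} φ.hom ⋙ tilde.functor B) := additive_comp φ

/-- `K(A) ⥤ D(O_{Spec B})`, `P ↦ (P ⊗ B)~`. -/
noncomputable abbrev target : HomotopyCategory (ModuleCat.{u} A) (ComplexShape.up ℤ) ⥤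
    DCoh.D (Spec B) :=
  (ModuleCat.extendScalars.{u, u, u} φ.hom ⋙ tilde.functor B).mapHomotopyCategory
    (ComplexShape.up ℤ) ⋙ DerivedCategory.Qh

/-- The counit for `LBaseChange ⋙ tildeD`. -/
noncomputable def counit₁ [DRing.HasLBaseChange φ.hom] :
    DerivedCategory.Qh ⋙ (DRing.LBaseChange φ.hom ⋙ DCoh.tildeD B) ⟶ target φ :=
  (Functor.associator _ _ _).inv ≫
    Functor.whiskerRight (LBC.lbcCounit φ.hom) (DCoh.tildeD B) ≫
    (Functor.associator _ _ _).hom ≫
    Functor.whiskerLeft _ (tilde.functor B).mapDerivedCategoryFactorsh.hom ≫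
    (Functor.associator _ _ _).inv ≫
    Functor.whiskerRight (Functor.mapHomotopyCategoryCompIso (Iso.refl _) (ComplexShape.up ℤ)).hom
      DerivedCategory.Qh

/-- The base change isomorphism on modules. -/
noncomputable def modIso : tilde.functor A ⋙ Scheme.Modules.pullback (Spec.map φ) ≅
    ModuleCat.extendScalars.{u, u, u} φ.hom ⋙ tilde.functor B :=
  Groth.Agent.Ega1.TildePullback.tildePullbackIso φ

/-- The base change isomorphism on homotopy categories. -/
noncomputable def modIsoK : (tilde.functor A).mapHomotopyCategory (ComplexShape.up ℤ) ⋙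
      (Scheme.Modules.pullback (Spec.map φ)).mapHomotopyCategory (ComplexShape.up ℤ) ≅
    (ModuleCat.extendScalars.{u, u, u} φ.hom ⋙ tilde.functor B).mapHomotopyCategory
      (ComplexShape.up ℤ) :=
  Functor.mapHomotopyCategoryCompIso (modIso φ) (ComplexShape.up ℤ)

/-- The counit for `tildeD ⋙ Lpull`. -/
noncomputable def counit₂ [DCoh.HasLpull (Spec.map φ)] :
    DerivedCategory.Qh ⋙ (DCoh.tildeD A ⋙ DCoh.Lpull (Spec.map φ)) ⟶ target φ :=
  (Functor.associator _ _ _).inv ≫
    Functor.whiskerRight (tilde.functor A).mapDerivedCategoryFactorsh.hom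
      (DCoh.Lpull (Spec.map φ)) ≫
    (Functor.associator _ _ _).hom ≫
    Functor.whiskerLeft _ (lpullCounit (Spec.map φ)) ≫
    (Functor.associator _ _ _).inv ≫
    Functor.whiskerRight (modIsoK φ).hom DerivedCategory.Qh

theorem isIso_counit₁ [DRing.HasLBaseChange φ.hom] (P : CochainComplex (ModuleCat.{u} A) ℤ)
    [P.IsKProjective] : IsIso ((counit₁ φ).app ((HomotopyCategory.quotient _ _).obj P)) := by
  dsimp only [counit₁, NatTrans.comp_app, Functor.whiskerRight_app, Functor.whiskerLeft_app,
    Functor.associator_hom_app, Functor.associator_inv_app]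
  infer_instance

theorem isIso_counit₂ [DCoh.HasLpull (Spec.map φ)]
    (P : CochainComplex (ModuleCat.{u} A) ℤ)
    (h : IsIso ((lpullCounit (Spec.map φ)).app ((HomotopyCategory.quotient _ _).obj
      (((tilde.functor A).mapHomologicalComplex (ComplexShape.up ℤ)).obj P)))) :
    IsIso ((counit₂ φ).app ((HomotopyCategory.quotient _ _).obj P)) := by
  dsimp only [counit₂, NatTrans.comp_app, Functor.whiskerRight_app, Functor.whiskerLeft_app,
    Functor.associator_hom_app, Functor.associator_inv_app]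
  have h' : IsIso ((lpullCounit (Spec.map φ)).app
    (((tilde.functor A).mapHomotopyCategory (ComplexShape.up ℤ)).obj
      ((HomotopyCategory.quotient _ _).obj P))) := h
  infer_instance

theorem nonempty_iso [DRing.HasLBaseChange φ.hom] [DCoh.HasLpull (Spec.map φ)]
    (h : ∀ (P : CochainComplex (ModuleCat.{u} A) ℤ) [P.IsKProjective],
      IsIso ((lpullCounit (Spec.map φ)).app ((HomotopyCategory.quotient _ _).obj
      (((tilde.functor A).mapHomologicalComplex (ComplexShape.up ℤ)).obj P)))) :
    Nonempty (DRing.LBaseChange φ.hom ⋙ DCoh.tildeD B ≅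
      DCoh.tildeD A ⋙ DCoh.Lpull (Spec.map φ)) := by
  have h1 : (DRing.LBaseChange φ.hom ⋙ DCoh.tildeD B).IsLeftDerivedFunctor (counit₁ φ)
      (HomotopyCategory.quasiIso (ModuleCat.{u} A) (ComplexShape.up ℤ)) :=
    KDer.isLeftDerivedFunctor_of_isIso _ (KDer.enoughKProjectives_moduleCat A) (counit₁ φ)
      (fun P _ => isIso_counit₁ φ P)
  have h2 : (DCoh.tildeD A ⋙ DCoh.Lpull (Spec.map φ)).IsLeftDerivedFunctor (counit₂ φ)
      (HomotopyCategory.quasiIso (ModuleCat.{u} A) (ComplexShape.up ℤ)) :=
    KDer.isLeftDerivedFunctor_of_isIso _ (KDer.enoughKProjectives_moduleCat A) (counit₂ φ)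
      (fun P _ => isIso_counit₂ φ P (h P))
  exact ⟨Functor.leftDerivedUnique _ _ (counit₁ φ) (counit₂ φ)
    (HomotopyCategory.quasiIso (ModuleCat.{u} A) (ComplexShape.up ℤ))⟩

end Groth.Agent.PerfB.TildeLpull
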