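import Groth.Agent.PerfA.TensDev
import Groth.Agent.PerfA.QCohD
import Groth.Agent.PerfA.Restrict
import Groth.Agent.PerfA.TildeMain
import Groth.Agent.Dcoh.TensRestr
import Groth.Agent.Dcoh.TensSymm
import Groth.Agent.PerfB.StalkKFlat
import Groth.Agent.PerfB.QCohLocal
import Groth.Agent.PerfC.TildeKFlat
import Groth.Agent.LoccohB.LTen
import Groth.Agent.Ega1.TensorRestrict

/-!
# The derived tensor product preserves `D_QCoh`

* `isKFlat_restrict`: the restriction of a K-flat complex to an open is K-flat.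
* `exists_tilde_kflat`: an object of `D_QCoh(O_{Spec R})` is represented by the tilde of a complex `M` such that
  `tilde M` is K-flat.
* `isQCohD_LTensorCx`: Stacks 08DX.
-/

set_option autoImplicit false
universe u
open CategoryTheory CategoryTheory.Limits AlgebraicGeometry Opposite
attribute [local instance] HasDerivedCategory.standard

namespace Groth.Agent.PerfB.TensQCoh

open Groth.Agent.PerfA Groth.Agent.Dcoh Groth.Agent.PerfC.DInd Groth.Agent.PerfA.TensDev
  Groth.Agent.PerfA.QCohD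

section Terms

variable {X : Scheme.{u}}

/-- Terms of a tensor product of complexes with quasi-coherent terms. -/
theorem isQCoh_tensor_X (K L : CochainComplex X.Modules ℤ) (hK : ∀ i, Coh.IsQCoh (K.X i))
    (hL : ∀ i, Coh.IsQCoh (L.X i)) (n : ℤ) :
    Coh.IsQCoh (((DCoh.tensorCx.obj K).obj L).X n) := by
  refine QCohLocal.isQCoh_of_isColimit _ ?_ _
    (BifCompare.isColimitTotal (T := DCoh.tensorBi (X := X)) K L n)
  rintro ⟨i⟩
  exact Ega1.TensorRestrict.isQCoh_tensorMod _ _ (hK _) (hL _)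

/-- K-flat complexes are K-flat in both variables. -/
theorem kf₂_iff (K : CochainComplex X.Modules ℤ) : KF₂ K ↔ DCoh.IsKFlat K :=
  ⟨fun h => h.1, fun h => ⟨h, (TensSymm.isKFlat_iff_kfl_flip K).1 h⟩⟩

theorem isKFlat_of_iso {K L : CochainComplex X.Modules ℤ} (e : K ≅ L) (h : DCoh.IsKFlat K) :
    DCoh.IsKFlat L := fun M hM i =>
  (h M hM i).of_iso (HomologicalComplex.homologyMapIso ((DCoh.tensorCx.obj M).mapIso e.symm) i)

theorem isKFlat_restrict {Y : Scheme.{u}} (j : Y ⟶ X) [IsOpenImmersion j]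
    {K : CochainComplex X.Modules ℤ} (h : DCoh.IsKFlat K) :
    DCoh.IsKFlat (((Scheme.Modules.restrictFunctor j).mapHomologicalComplex (ComplexShape.up ℤ)).obj K) :=
  isKFlat_of_iso ((NatIso.mapHomologicalComplex (Scheme.Modules.restrictFunctorIsoPullback j).symm
    (ComplexShape.up ℤ)).app K) (StalkKFlat.isKFlat_pullback j K h)

instance hasLTensorCx (K : CochainComplex X.Modules ℤ) : DCoh.HasLTensorCx K := by
  have : PerfC.DBif.HasLT (DCoh.tensorCx (X := X)) := bifData.hasLT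
  infer_instance

/-- `E ⊗ -` for `E` K-flat depends only on the class in `D`. -/
theorem nonempty_tensor_right {P : CochainComplex X.Modules ℤ} (hP : DCoh.IsKFlat P)
    (K L : CochainComplex X.Modules ℤ) (e : DerivedCategory.Q.obj K ≅ DerivedCategory.Q.obj L) :
    Nonempty (DerivedCategory.Q.obj ((DCoh.tensorCx.obj P).obj K) ≅
      DerivedCategory.Q.obj ((DCoh.tensorCx.obj P).obj L)) := by
  have := presQis ((kf₂_iff P).2 hP)
  exact ⟨((indFactors (DCoh.tensorCx.obj P)).app K).symm ≪≫ (ind (DCoh.tensorCx.obj P)).mapIso e ≪≫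
    (indFactors (DCoh.tensorCx.obj P)).app L⟩

/-- `- ⊗ K` on K-flat complexes depends only on the class in `D`. -/
theorem nonempty_tensor_left {P P' : CochainComplex X.Modules ℤ} (hP : DCoh.IsKFlat P)
    (hP' : DCoh.IsKFlat P') (K : CochainComplex X.Modules ℤ)
    (e : DerivedCategory.Q.obj P ≅ DerivedCategory.Q.obj P') :
    Nonempty (DerivedCategory.Q.obj ((DCoh.tensorCx.obj P).obj K) ≅
      DerivedCategory.Q.obj ((DCoh.tensorCx.obj P').obj K)) := by
  obtain ⟨a⟩ := nonempty_isoQ K ((kf₂_iff P).2 hP)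
  obtain ⟨b⟩ := nonempty_isoQ K ((kf₂_iff P').2 hP')
  exact ⟨a.symm ≪≫ (DCoh.LTensorCx K).mapIso e ≪≫ b⟩

end Terms

section Affine

open MonoidalCategory

variable {R : CommRingCat.{u}}

theorem zero_whiskerRight (P L L' : DRing.Cx R) : (0 : L ⟶ L') ▷ P = 0 := by
  refine LoccohB.TenCx.cx_hom_ext fun p q n h x y => ?_
  refine (LoccohB.TenCx.whiskerRight_tmk (0 : L ⟶ L') P p q n h x y).trans ?_
  have h0 : (((0 : L ⟶ L').f p).hom x) = 0 := rfl
  rw [h0, map_zero]
  rfl

theorem acyclic_tensorRight (P : DRing.Cx R) [P.IsKProjective] (L : DRing.Cx R)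
    (hL : ∀ i : ℤ, IsZero (L.homology i)) (i : ℤ) :
    IsZero (((tensorRight P).obj L).homology i) := by
  have hq : QuasiIso (0 : L ⟶ L) := by
    rw [quasiIso_iff]
    intro j
    rw [quasiIsoAt_iff_isIso_homologyMap]
    exact ⟨0, (hL j).eq_of_src _ _, (hL j).eq_of_src _ _⟩
  have h1 := LoccohB.LTen.quasiIso_whiskerRight P (0 : L ⟶ L)
  rw [zero_whiskerRight] at h1
  have h3 := (quasiIso_iff _).1 h1 i
  rw [quasiIsoAt_iff_isIso_homologyMap] at h3
  have h4 : HomologicalComplex.homologyMap (0 : (L ⊗ P : DRing.Cx R) ⟶ (L ⊗ P : DRing.Cx R)) i = 0 :=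
    HomologicalComplex.homologyMap_zero _ _ _
  rw [h4] at h3
  exact ((isIsoZero_iff_source_target_isZero _ _).1 h3).1

/-- An object of `D_QCoh(O_{Spec R})` is represented by the tilde of a K-projective complex. -/
theorem exists_tilde (E : DCoh.D (Spec R)) (hE : DCoh.IsQCohD E) :
    ∃ M : DRing.Cx R, M.IsKProjective ∧
      Nonempty (DerivedCategory.Q.obj
        (((tilde.functor R).mapHomologicalComplex (ComplexShape.up ℤ)).obj M) ≅ E) := by
  obtain ⟨N, ⟨e⟩⟩ := TildeMain.exists_iso R E hE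
  obtain ⟨P, hP, ⟨e'⟩⟩ := LoccohB.LTen.exists_kproj (A := R) N
  exact ⟨P, hP, ⟨((tilde.functor R).mapDerivedCategoryFactors.app P).symm ≪≫
    (tilde.functor R).mapDerivedCategory.mapIso e' ≪≫ e⟩⟩

/-- The affine case: `E` K-flat and `F` any complex, both with quasi-coherent cohomology. -/
theorem isQCohD_tensor_Spec (E F : CochainComplex (Spec R).Modules ℤ) (hE : DCoh.IsKFlat E)
    (hE' : DCoh.IsQCohD (DerivedCategory.Q.obj E)) (hF : DCoh.IsQCohD (DerivedCategory.Q.obj F)) :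
    DCoh.IsQCohD (DerivedCategory.Q.obj ((DCoh.tensorCx.obj E).obj F)) := by
  obtain ⟨M, hM, ⟨e⟩⟩ := exists_tilde _ hE'
  obtain ⟨N, -, ⟨e'⟩⟩ := exists_tilde _ hF
  have hM' : DCoh.IsKFlat (((tilde.functor R).mapHomologicalComplex (ComplexShape.up ℤ)).obj M) :=
    PerfC.TildeKFlat.isKFlat_tilde M (fun L hL i => acyclic_tensorRight M L hL i)
  obtain ⟨a⟩ := nonempty_tensor_left hM' hE F e
  obtain ⟨b⟩ := nonempty_tensor_right hM' _ _ e'
  refine isQCohD_of_iso (b ≪≫ a) (isQCohD_Q_of_terms _ (isQCoh_tensor_X _ _ (fun i => ?_) (fun i => ?_)))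
  · exact (inferInstance : (tilde (M.X i)).IsQuasicoherent)
  · exact (inferInstance : (tilde (N.X i)).IsQuasicoherent)

end Affine

/-- Stacks 08DX. -/
theorem isQCohD_LTensorCx {X : Scheme.{u}} (F : CochainComplex X.Modules ℤ)
    (hF : DCoh.IsQCohD (DerivedCategory.Q.obj F)) [DCoh.HasLTensorCx F]
    (E : DCoh.D X) (hE : DCoh.IsQCohD E) : DCoh.IsQCohD ((DCoh.LTensorCx F).obj E) := by
  obtain ⟨P, hP, ⟨e⟩⟩ := TensDev.exists_rep E
  obtain ⟨a⟩ := nonempty_isoQ F hP
  refine isQCohD_of_iso (a.symm ≪≫ (DCoh.LTensorCx F).mapIso e) ?_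
  have hQP : DCoh.IsQCohD (DerivedCategory.Q.obj P) := isQCohD_of_iso e.symm hE
  refine isQCohD_of_restrictD _ fun x => ?_
  refine ⟨_, X.affineOpenCover.f (X.affineOpenCover.idx x), inferInstance,
    (X.affineOpenCover.covers x).choose, (X.affineOpenCover.covers x).choose_spec, ?_⟩
  let j := X.affineOpenCover.f (X.affineOpenCover.idx x)
  obtain ⟨b⟩ := TensRestr.nonempty_restrCx j P F
  refine isQCohD_of_iso (PerfA.Restrict.restrictDQ j _ ≪≫ DerivedCategory.Q.mapIso b).symm ?_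
  exact isQCohD_tensor_Spec _ _ (isKFlat_restrict j hP.1)
    (isQCohD_of_iso (PerfA.Restrict.restrictDQ j P) (isQCohD_restrictD j hQP))
    (isQCohD_of_iso (PerfA.Restrict.restrictDQ j F) (isQCohD_restrictD j hF))

end Groth.Agent.PerfB.TensQCoh
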