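import Groth.Agent.PerfA.QCohSerre
import Groth.Agent.PerfB.FlatPull
import Groth.Agent.Ega1.QcqsPush
import Groth.Agent.FormalA.PullbackQC

/-!
# Descent of quasi-coherence along flat surjective quasi-compact morphisms

`isQCoh_of_pullback`: for `f : X ⟶ Y` flat, surjective and quasi-compact and `M` an ARBITRARY `O_Y`-module,
`f^* M` quasi-coherent implies `M` quasi-coherent.  (The fork `M ⟶ f_* f^* M ⇉ f_* f^* f_* f^* M` is a split
equalizer after `f^*`.)
-/

set_option autoImplicit false
universe u v₁ v₂ u₁ u₂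
open CategoryTheory CategoryTheory.Limits AlgebraicGeometry TopologicalSpace Opposite
attribute [local instance] HasDerivedCategory.standard

namespace Groth.Agent.PerfB.QCohDesc

section Abstract

set_option linter.unusedSectionVars false

variable {C : Type u₁} {D : Type u₂} [Category.{v₁} C] [Category.{v₂} D] [Abelian C] [Abelian D]
  {L : C ⥤ D} {R : D ⥤ C} (adj : L ⊣ R)

/-- The unit, with simplified type. -/
abbrev un (F : C) : F ⟶ R.obj (L.obj F) := adj.unit.app F

/-- The counit, with simplified type. -/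
abbrev cou (G : D) : L.obj (R.obj G) ⟶ G := adj.counit.app G

/-- The difference of the two maps `R L F ⇉ R L R L F`. -/
def diff (F : C) : R.obj (L.obj F) ⟶ R.obj (L.obj (R.obj (L.obj F))) :=
  un adj (R.obj (L.obj F)) - R.map (L.map (un adj F))

lemma unit_diff (F : C) : un adj F ≫ diff adj F = 0 := by
  rw [diff, Preadditive.comp_sub, sub_eq_zero]
  exact (adj.unit.naturality (adj.unit.app F))

/-- The comparison map `F ⟶ ker (R L F ⟶ R L R L F)`. -/
noncomputable def comparison (F : C) : F ⟶ kernel (diff adj F) :=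
  kernel.lift _ (un adj F) (unit_diff adj F)

lemma tri (F : C) : L.map (un adj F) ≫ cou adj (L.obj F) = 𝟙 (L.obj F) :=
  adj.left_triangle_components F

lemma key_aux [L.Additive] {F : C} {W : D} (k : W ⟶ L.obj (R.obj (L.obj F)))
    (hk : k ≫ L.map (diff adj F) = 0) : (k ≫ cou adj (L.obj F)) ≫ L.map (un adj F) = k := by
  have h1 : k ≫ L.map (un adj (R.obj (L.obj F))) = k ≫ L.map (R.map (L.map (un adj F))) := by
    rw [diff, L.map_sub, Preadditive.comp_sub, sub_eq_zero] at hk
    exact hk
  have h2 : L.map (R.map (L.map (un adj F))) ≫ cou adj _ = cou adj (L.obj F) ≫ L.map (un adj F) :=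
    adj.counit.naturality _
  rw [Category.assoc, ← h2, ← Category.assoc, ← h1, Category.assoc, tri, Category.comp_id]

theorem isIso_comparison [PreservesFiniteLimits L] [L.Additive] [L.ReflectsIsomorphisms] (F : C) :
    IsIso (comparison adj F) := by
  have hfac : L.map (comparison adj F) ≫ L.map (kernel.ι (diff adj F)) = L.map (un adj F) := by
    rw [← L.map_comp, comparison, kernel.lift_ι]
  have hmono : Mono (L.map (comparison adj F)) := by
    have h1 : IsSplitMono (L.map (comparison adj F)) :=
      ⟨⟨⟨L.map (kernel.ι (diff adj F)) ≫ cou adj (L.obj F), by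
        rw [← Category.assoc, hfac, tri]⟩⟩⟩
    infer_instance
  have hepi : Epi (L.map (comparison adj F)) := by
    have h0 : L.map (kernel.ι (diff adj F)) ≫ L.map (diff adj F) = 0 := by
      rw [← L.map_comp, kernel.condition, L.map_zero]
    have h1 : (L.map (kernel.ι (diff adj F)) ≫ cou adj (L.obj F)) ≫
        L.map (comparison adj F) = 𝟙 _ := by
      rw [← cancel_mono (L.map (kernel.ι (diff adj F))), Category.assoc, hfac, key_aux adj _ h0,
        Category.id_comp]
    have h2 : IsSplitEpi (L.map (comparison adj F)) := ⟨⟨⟨_, h1⟩⟩⟩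
    infer_instance
  have : IsIso (L.map (comparison adj F)) := isIso_of_mono_of_epi _
  exact isIso_of_reflects_iso (comparison adj F) L

end Abstract

variable {X Y : Scheme.{u}} (f : X ⟶ Y)

theorem isQCoh_of_pullback_qcqs [Flat f] [Surjective f] [QuasiCompact f] [QuasiSeparated f]
    (M : Y.Modules) (h : Coh.IsQCoh ((Scheme.Modules.pullback f).obj M)) : Coh.IsQCoh M := by
  have := FlatPull.reflectsIsomorphisms_pullback f
  have h1 := isIso_comparison (Scheme.Modules.pullbackPushforwardAdjunction f) M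
  have h2 : Coh.IsQCoh ((Scheme.Modules.pushforward f).obj ((Scheme.Modules.pullback f).obj M)) :=
    Groth.Agent.Ega1.QcqsPush.isQCoh_pushforward f _ h
  have h3 : Coh.IsQCoh ((Scheme.Modules.pullback f).obj
      ((Scheme.Modules.pushforward f).obj ((Scheme.Modules.pullback f).obj M))) :=
    Groth.Agent.FormalA.PullbackQC.isQCoh_pullback f _ h2
  have h4 : Coh.IsQCoh ((Scheme.Modules.pushforward f).obj ((Scheme.Modules.pullback f).obj
      ((Scheme.Modules.pushforward f).obj ((Scheme.Modules.pullback f).obj M)))) :=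
    Groth.Agent.Ega1.QcqsPush.isQCoh_pushforward f _ h3
  exact Groth.Agent.PerfA.QCohSerre.isQCoh_of_iso
    (asIso (comparison (Scheme.Modules.pullbackPushforwardAdjunction f) M)).symm
    (Groth.Agent.PerfA.QCohSerre.isQCoh_kernel _ h2 h4)

/-- A compact scheme receives a flat surjective morphism from an affine scheme. -/
theorem exists_affine_cover (X : Scheme.{u}) [CompactSpace X] :
    ∃ (Z : Scheme.{u}) (g : Z ⟶ X), IsAffine Z ∧ Flat g ∧ Surjective g := by
  let 𝒰 := X.affineCover.finiteSubcover
  have : ∀ i, IsAffine (𝒰.X i) := fun i => by dsimp [𝒰]; infer_instance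
  refine ⟨∐ 𝒰.X, Sigma.desc 𝒰.f, inferInstance, inferInstance, inferInstance⟩

theorem isQCoh_of_pullback_affine [IsAffine Y] [Flat f] [Surjective f] [QuasiCompact f]
    (M : Y.Modules) (h : Coh.IsQCoh ((Scheme.Modules.pullback f).obj M)) : Coh.IsQCoh M := by
  have : CompactSpace X := (quasiCompact_iff_compactSpace f).mp inferInstance
  obtain ⟨Z, g, h1, h2, h3⟩ := exists_affine_cover X
  apply isQCoh_of_pullback_qcqs (g ≫ f) M
  exact Groth.Agent.PerfA.QCohSerre.isQCoh_of_iso ((Scheme.Modules.pullbackComp g f).app M)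
    (Groth.Agent.FormalA.PullbackQC.isQCoh_pullback g _ h)

/-- Quasi-coherence of an arbitrary module descends along flat surjective quasi-compact
morphisms. -/
theorem isQCoh_restrict_of_pullback [Flat f] [Surjective f] [QuasiCompact f]
    (M : Y.Modules) (h : Coh.IsQCoh ((Scheme.Modules.pullback f).obj M)) (V : Y.Opens)
    (hV : IsAffineOpen V) : Coh.IsQCoh (M.restrict V.ι) := by
  have : IsAffine V := hV
  have : Surjective (f ∣_ V) := IsZariskiLocalAtTarget.restrict ‹_› V
  apply isQCoh_of_pullback_affine (f ∣_ V)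
  have h1 : Coh.IsQCoh (((Scheme.Modules.pullback f).obj M).restrict (f ⁻¹ᵁ V).ι) :=
    Groth.Agent.PerfA.QCohSerre.isQCoh_restrict _ h
  exact Groth.Agent.PerfA.QCohSerre.isQCoh_of_iso ((FlatPull.pullbackRestrict f V).app M) h1

/-- Quasi-coherence of an arbitrary module descends along flat surjective quasi-compact
morphisms. -/
theorem isQCoh_of_pullback [Flat f] [Surjective f] [QuasiCompact f]
    (M : Y.Modules) (h : Coh.IsQCoh ((Scheme.Modules.pullback f).obj M)) : Coh.IsQCoh M := by
  apply Groth.Agent.PerfA.QCohSerre.isQCoh_of_restrict_opens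
  intro y
  obtain ⟨V, hV, hyV, -⟩ := exists_isAffineOpen_mem_and_subset (U := (⊤ : Y.Opens)) (x := y)
    (Opens.mem_top y)
  exact ⟨V, hyV, isQCoh_restrict_of_pullback f M h V hV⟩

theorem isQCoh_pullback_iff [Flat f] [Surjective f] [QuasiCompact f] (M : Y.Modules) :
    Coh.IsQCoh ((Scheme.Modules.pullback f).obj M) ↔ Coh.IsQCoh M :=
  ⟨isQCoh_of_pullback f M, Groth.Agent.FormalA.PullbackQC.isQCoh_pullback f M⟩

/-- `E` has quasi-coherent cohomology sheaves iff `f^* E` has. -/
theorem isQCohD_pullbackD_iff [Flat f] [Surjective f] [QuasiCompact f] (E : DCoh.D Y) :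
    DCoh.IsQCohD ((FlatPull.pullbackD f).obj E) ↔ DCoh.IsQCohD E := by
  refine forall_congr' fun i => ?_
  rw [← isQCoh_pullback_iff f]
  exact ⟨Groth.Agent.PerfA.QCohSerre.isQCoh_of_iso (FlatPull.HDpullback f E i),
    Groth.Agent.PerfA.QCohSerre.isQCoh_of_iso (FlatPull.HDpullback f E i).symm⟩

theorem isQCohD_pullbackD [Flat f] {E : DCoh.D Y} (hE : DCoh.IsQCohD E) :
    DCoh.IsQCohD ((FlatPull.pullbackD f).obj E) := fun i =>
  Groth.Agent.PerfA.QCohSerre.isQCoh_of_iso (FlatPull.HDpullback f E i).symm
    (Groth.Agent.FormalA.PullbackQC.isQCoh_pullback f _ (hE i))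

end Groth.Agent.PerfB.QCohDesc
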