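import Groth.Agent.Fdesc.QCohStalk
import Groth.Agent.CohqB.LocalQC

/-!
# A quasi-coherent module whose sections over an affine cover vanish is zero
-/

set_option autoImplicit false

universe u

open CategoryTheory CategoryTheory.Limits AlgebraicGeometry Opposite TopologicalSpace

namespace Groth.Agent.PerfB.SecEnd

/-- A quasi-coherent module whose sections over an affine cover vanish is zero. -/
theorem isZero_of_affine_sections {X : Scheme.{u}} (M : X.Modules) (hM : Coh.IsQCoh M)
    (h : ∀ x : X, ∃ U : X.Opens, IsAffineOpen U ∧ x ∈ U ∧ ∀ s : Γ(M, U), s = 0) : IsZero M := by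
  refine CohqB.LocalQC.isZero_of_stalks fun x => ?_
  obtain ⟨U, hU, hx, h0⟩ := h x
  refine subsingleton_of_forall_eq 0 fun t => ?_
  obtain ⟨V, hxV, t, rfl⟩ := TopCat.Presheaf.exists_germ_eq _ t
  obtain ⟨g, hg, hxg⟩ := hU.exists_basicOpen_le ⟨x, hxV⟩ hx
  obtain ⟨n, s, hs⟩ := Fdesc.QCohStalk.exists_map_eq_pow_smul M hU hM g
    (M.presheaf.map (homOfLE hg).op t)
  rw [h0 s, map_zero] at hs
  have hunit : IsUnit (X.presheaf.map (homOfLE (X.basicOpen_le g)).op g) :=
    RingedSpace.isUnit_res_basicOpen _ _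
  have h1 : M.presheaf.map (homOfLE hg).op t = 0 := by
    have h2 := (hunit.pow n).smul_eq_zero.1 hs.symm
    exact h2
  rw [← Fdesc.QCohStalk.germ_map M hg x hxg t, h1, map_zero]

end Groth.Agent.PerfB.SecEnd
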