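import Groth.Agent.PerfB.SecTwist
import Groth.Agent.PerfB.TwistDer
import Groth.Agent.PerfB.TwistMul

/-!
# The sequence `O → O(1) → O(2) → …` given by a linear form on `Proj`
-/

set_option autoImplicit false

universe u

open CategoryTheory CategoryTheory.Limits AlgebraicGeometry Opposite TopologicalSpace
open Groth.Agent.Fdesc.LocGen Groth.Agent.PerfB.SecTwist Groth.Agent.PerfB.TwistMul
open Groth.Agent.Ega2.TwistBasic Groth.Agent.Ega2.TwistInv Twist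

attribute [local instance] HasDerivedCategory.standard

namespace Groth.Agent.PerfB.SecProj

variable {R A : Type u} [CommRing R] [CommRing A] [Algebra R A] {𝒜 : ℕ → Submodule R A} [GradedAlgebra 𝒜]

/-- The sequence `O → O(1) → O(2) → …` given by multiplication with `a` of degree one. -/
noncomputable def Lseq (a : 𝒜 1) : ℕ ⥤ (Proj 𝒜).Modules :=
  Functor.ofSequence (X := fun k : ℕ => twist 𝒜 (k : ℤ))
    (fun k => mulT a (k : ℤ) ((k + 1 : ℕ) : ℤ) (by push_cast; rfl))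

/-- The degree `k` element `b ^ k`, as a section of `O(k)` over `U`. -/
noncomputable def esec (b : 𝒜 1) (k : ℕ) (U : (Proj 𝒜).Opens) : sectN (𝒜 := 𝒜) (k : ℤ) (op U) :=
  fracSec (k : ℤ) (powOne b k) (⟨1, SetLike.GradedOne.one_mem⟩ : 𝒜 0) (by simp) U
    (fun x _ h => x.isPrime.ne_top ((Ideal.eq_top_iff_one _).mpr h))

lemma isGen_esec (b : 𝒜 1) (k : ℕ) {U : (Proj 𝒜).Opens} (hU : ∀ x ∈ U, b.1 ∉ x.asHomogeneousIdeal) :
    IsGen (M := twist 𝒜 (k : ℤ)) (U := U) (esec b k U) := by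
  intro V hV
  exact isGen_fracSec (k : ℤ) (powOne b k) _ _ U _ (fun x hx => powOne_notMem (hU x hx) _) V hV

lemma esec_val (b : 𝒜 1) (k : ℕ) (U : (Proj 𝒜).Opens) (x : U) :
    ((esec b k U).1 x).1 = Localization.mk (b.1 ^ k) (oneC x.1) := rfl

/-- `a` and `b` of degree one: `a / b` on `D_+(b)`. -/
lemma exists_ratio (a b : 𝒜 1) {U : (Proj 𝒜).Opens} (hU : ∀ x ∈ U, b.1 ∉ x.asHomogeneousIdeal) :
    ∃ f : Γ(Proj 𝒜, U), ∀ x : U, Localization.mk a.1 (oneC x.1) =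
      ((show O (𝒜 := 𝒜) (op U) from f).1 x).val * Localization.mk b.1 (oneC x.1) := by
  let a' : sectN (𝒜 := 𝒜) ((1 : ℕ) : ℤ) (op U) :=
    fracSec ((1 : ℕ) : ℤ) a (⟨1, SetLike.GradedOne.one_mem⟩ : 𝒜 0) (by simp) U
      (fun x _ h => x.isPrime.ne_top ((Ideal.eq_top_iff_one _).mpr h))
  obtain ⟨f, hf⟩ := (isGen_esec b 1 hU).exists_eq (m := a')
  refine ⟨f, fun x => ?_⟩
  have h1 := congrArg (fun t : sectN (𝒜 := 𝒜) ((1 : ℕ) : ℤ) (op U) => (t.1 x).1) hf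
  have h2 := smulS_val ((1 : ℕ) : ℤ) (show O (𝒜 := 𝒜) (op U) from f) (esec b 1 U) x
  rw [esec_val, pow_one] at h2
  exact h1.trans h2

lemma Lseq_map_succ (a : 𝒜 1) (k : ℕ) : (Lseq a).map (homOfLE (Nat.le_succ k)) =
    mulT a (k : ℤ) ((k + 1 : ℕ) : ℤ) (by push_cast; rfl) :=
  Functor.ofSequence_map_homOfLE_succ _ k

lemma isUnit_mk_one_iff (x : ProjectiveSpectrum 𝒜) (a : A) :
    IsUnit (Localization.mk a (oneC x) : Loc 𝒜 x) ↔ a ∉ x.asHomogeneousIdeal := by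
  have : (Localization.mk a (oneC x) : Loc 𝒜 x) = algebraMap A (Loc 𝒜 x) a := Localization.mk_one_eq_algebraMap a
  rw [this, IsLocalization.AtPrime.isUnit_to_map_iff (Loc 𝒜 x) x.asHomogeneousIdeal.toIdeal]
  rfl

/-- The local structure of the sequence over `D_+(b)`. -/
lemma loc_Lseq (a b : 𝒜 1) {U : (Proj 𝒜).Opens} (hU : ∀ x ∈ U, b.1 ∉ x.asHomogeneousIdeal)
    (f : Γ(Proj 𝒜, U)) (hf : ∀ x : U, Localization.mk a.1 (oneC x.1) =
      ((show O (𝒜 := 𝒜) (op U) from f).1 x).val * Localization.mk b.1 (oneC x.1)) :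
    Loc (Lseq a) U f (fun k => (esec b k U : sectN (𝒜 := 𝒜) (k : ℤ) (op U))) where
  gen k := isGen_esec b k hU
  map k := by
    rw [Lseq_map_succ]
    refine (mulT_app a (k : ℤ) ((k + 1 : ℕ) : ℤ) (by push_cast; rfl) U (esec b k U)).trans ?_
    refine sectN_ext (𝒜 := 𝒜) (n := ((k + 1 : ℕ) : ℤ)) (U := op U) fun x => ?_
    refine (mulSect_val_val a (k : ℤ) ((k + 1 : ℕ) : ℤ) (by push_cast; rfl) (op U) _ x).trans ?_
    refine Eq.trans ?_ (smulS_val ((k + 1 : ℕ) : ℤ) (show O (𝒜 := 𝒜) (op U) from f) (esec b (k + 1) U) x).symm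
    have h1 : (((toSect (n := (k : ℤ)) (esec b k U)).1 x).1 : Twist.Loc 𝒜 x.1) =
      Localization.mk (b.1 ^ k) (oneC x.1) := rfl
    rw [h1, hf x, esec_val, mul_assoc, Localization.mk_mul]
    congr 2
    · rw [pow_succ']
    · exact Subtype.ext (one_mul _)

lemma basicOpen_ratio (a b : 𝒜 1) {U : (Proj 𝒜).Opens} (hU : ∀ x ∈ U, b.1 ∉ x.asHomogeneousIdeal)
    (f : Γ(Proj 𝒜, U)) (hf : ∀ x : U, Localization.mk a.1 (oneC x.1) =
      ((show O (𝒜 := 𝒜) (op U) from f).1 x).val * Localization.mk b.1 (oneC x.1)) :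
    U ⊓ Proj.basicOpen 𝒜 a.1 = (Proj 𝒜).basicOpen f := by
  apply le_antisymm
  · -- on `U ⊓ D_+(a)` both sections are generators
    set V := U ⊓ Proj.basicOpen 𝒜 a.1
    have hVU : V ≤ U := inf_le_left
    have hVb : ∀ x ∈ V, b.1 ∉ x.asHomogeneousIdeal := fun x hx => hU x hx.1
    have hVa : ∀ x ∈ V, a.1 ∉ x.asHomogeneousIdeal := fun x hx => hx.2
    let eb : Γ(twist 𝒜 ((1 : ℕ) : ℤ), V) := esec b 1 V
    have h1 : ores hVU f • eb = esec a 1 V := by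
      refine sectN_ext (𝒜 := 𝒜) (n := ((1 : ℕ) : ℤ)) (U := op V) fun x => ?_
      refine (smulS_val ((1 : ℕ) : ℤ) (show O (𝒜 := 𝒜) (op V) from ores hVU f) (esec b 1 V) x).trans ?_
      rw [esec_val, esec_val, pow_one, pow_one]
      exact (hf ⟨x.1, hVU x.2⟩).symm
    have h2 : IsUnit (ores hVU f) := by
      refine IsGen.isUnit_of_smul (e := eb) (isGen_esec b 1 hVb) ?_
      rw [h1]
      exact isGen_esec a 1 hVa
    have h3 := (Proj 𝒜).basicOpen_of_isUnit h2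
    rw [show (Proj 𝒜).basicOpen (ores hVU f) = V ⊓ (Proj 𝒜).basicOpen f from
      Ega1.QCohLoc.basicOpen_resO hVU f] at h3
    exact h3.symm.le.trans inf_le_right
  · refine le_inf ((Proj 𝒜).basicOpen_le f) ?_
    intro x hx
    have hxU : x ∈ U := (Proj 𝒜).basicOpen_le f hx
    have hle := (Proj 𝒜).basicOpen_le f
    obtain ⟨g, hg⟩ := ((Proj 𝒜).toRingedSpace.isUnit_res_basicOpen f).exists_right_inv
    have h1 : ((show O (𝒜 := 𝒜) (op ((Proj 𝒜).basicOpen f)) from ores hle f).1 ⟨x, hx⟩).val *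
      ((show O (𝒜 := 𝒜) (op ((Proj 𝒜).basicOpen f)) from g).1 ⟨x, hx⟩).val = 1 := by
      rw [← HomogeneousLocalization.val_mul]
      have := congrArg (fun t : O (𝒜 := 𝒜) (op ((Proj 𝒜).basicOpen f)) => (t.1 ⟨x, hx⟩).val) hg
      refine this.trans ?_
      exact HomogeneousLocalization.val_one
    have h2 : IsUnit (((show O (𝒜 := 𝒜) (op U) from f).1 ⟨x, hxU⟩).val) :=
      IsUnit.of_mul_eq_one _ h1
    have h3 : IsUnit (Localization.mk a.1 (oneC x) : Twist.Loc 𝒜 x) := by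
      rw [hf ⟨x, hxU⟩]
      exact h2.mul ((isUnit_mk_one_iff x b.1).2 (hU x hxU))
    exact (isUnit_mk_one_iff x a.1).1 h3

/-- The local data for the sequence. -/
theorem dat_Lseq (a b : 𝒜 1) : Dat (Lseq a) (Proj.basicOpen 𝒜 a.1) (Proj.basicOpen 𝒜 b.1) := by
  refine ⟨Proj.isAffineOpen_basicOpen 𝒜 b.1 b.2 one_pos, ?_⟩
  have hU : ∀ x ∈ Proj.basicOpen 𝒜 b.1, b.1 ∉ x.asHomogeneousIdeal := fun x hx => hx
  obtain ⟨f, hf⟩ := exists_ratio a b hU
  exact ⟨f, _, loc_Lseq a b hU f hf, basicOpen_ratio a b hU f hf⟩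

end Groth.Agent.PerfB.SecProj
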