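import Groth.Agent.PerfB.KoszulSigns
import Groth.Agent.PerfB.ModExact
import Mathlib.Algebra.Homology.HomologicalComplex
import Mathlib.Algebra.Homology.ShortComplex.HomologicalComplex
import Mathlib.CategoryTheory.Preadditive.Biproducts

/-!
# The Koszul complex on commuting operators of a graded family of `O_X`-modules
-/

set_option autoImplicit false

universe u

open CategoryTheory CategoryTheory.Limits AlgebraicGeometry TopologicalSpace Opposite

noncomputable section

namespace Groth.Agent.PerfB.KoszulMod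

open Groth.Agent.PerfB.KoszulSigns Groth.Agent.PerfB.ModExact

variable {X : Scheme.{u}} {N : ℕ} (M : ℤ → X.Modules) (T : Fin N → ∀ i : ℤ, M i ⟶ M (i + 1))

instance hasFinBiprod (X : Scheme.{u}) : HasFiniteBiproducts X.Modules :=
  HasFiniteBiproducts.of_hasFiniteProducts

/-- index set of the degree `i` term. -/
abbrev Idx (N : ℕ) (i : ℤ) : Type := {S : Finset (Fin N) // (S.card : ℤ) = i}

/-- The degree `i` term `⨁_{|S| = i} M i`. -/
abbrev kTerm (i : ℤ) : X.Modules := ⨁ fun _ : Idx N i => M i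

lemma card_erase {i : ℤ} {S : Finset (Fin N)} (hS : (S.card : ℤ) = i + 1) {k : Fin N} (hk : k ∈ S) :
    ((S.erase k).card : ℤ) = i := by
  rw [Finset.card_erase_of_mem hk]
  have : 0 < S.card := Finset.card_pos.mpr ⟨k, hk⟩
  omega

/-- The Koszul differential. -/
def diff (i : ℤ) : kTerm (N := N) M i ⟶ kTerm (N := N) M (i + 1) :=
  biproduct.lift fun S => ∑ k : {k // k ∈ S.1},
    sgn k.1 S.1 • (biproduct.π (fun _ : Idx N i => M i) ⟨S.1.erase k.1, card_erase S.2 k.2⟩ ≫ T k.1 i)

/-- The components of a section of the degree `i` term. -/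
def kComp {i : ℤ} {U : X.Opens} (x : Γ(kTerm (N := N) M i, U)) : Finset (Fin N) → Γ(M i, U) := fun S =>
  if h : (S.card : ℤ) = i then (biproduct.π (fun _ : Idx N i => M i) ⟨S, h⟩).app U x else 0

lemma comp_of_card {i : ℤ} {U : X.Opens} (x : Γ(kTerm (N := N) M i, U)) {S : Finset (Fin N)}
    (h : (S.card : ℤ) = i) :
    kComp M x S = (biproduct.π (fun _ : Idx N i => M i) ⟨S, h⟩).app U x := dif_pos h

lemma comp_of_not {i : ℤ} {U : X.Opens} (x : Γ(kTerm (N := N) M i, U)) {S : Finset (Fin N)}
    (h : ¬ (S.card : ℤ) = i) : kComp M x S = 0 := dif_neg h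

lemma sum_app {ι : Type*} (s : Finset ι) {A B : X.Modules} (f : ι → (A ⟶ B)) (U : X.Opens)
    (x : Γ(A, U)) : (∑ k ∈ s, f k).app U x = ∑ k ∈ s, (f k).app U x := by
  classical
  induction s using Finset.induction_on with
  | empty => simp only [Finset.sum_empty]; rfl
  | insert a s ha ih =>
    rw [Finset.sum_insert ha, Finset.sum_insert ha, ← ih]
    rfl

lemma zsmul_app {A B : X.Modules} (n : ℤ) (f : A ⟶ B) (U : X.Opens)
    (x : Γ(A, U)) : (n • f).app U x = n • f.app U x := by
  have h1 : (evalAt U).map (n • f) = n • (evalAt U).map f := Functor.map_zsmul _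
  have h2 : (n • f).app U = n • f.app U := h1
  rw [h2]
  rfl

lemma comp_apply {A B C : X.Modules} (f : A ⟶ B) (g : B ⟶ C) (U : X.Opens) (x : Γ(A, U)) :
    (f ≫ g).app U x = g.app U (f.app U x) := rfl

lemma comp_injective {i : ℤ} {U : X.Opens} {x y : Γ(kTerm (N := N) M i, U)}
    (h : kComp M x = kComp M y) : x = y := by
  have key : ∀ z : Γ(kTerm (N := N) M i, U), z = ∑ S : Idx N i,
      (biproduct.ι (fun _ : Idx N i => M i) S).app U (kComp M z S.1) := fun z => by
    have h1 := biproduct.total (f := fun _ : Idx N i => M i)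
    have h2 : (𝟙 (kTerm (N := N) M i) : kTerm (N := N) M i ⟶ _).app U z = z := rfl
    conv_lhs => rw [← h2, ← h1, sum_app]
    refine Finset.sum_congr rfl fun S _ => ?_
    rw [comp_apply, comp_of_card M z S.2]
  rw [key x, key y, h]

lemma exists_comp (i : ℤ) {U : X.Opens} (y : Finset (Fin N) → Γ(M i, U)) :
    ∃ x : Γ(kTerm (N := N) M i, U), ∀ S : Finset (Fin N), (S.card : ℤ) = i → kComp M x S = y S := by
  refine ⟨∑ S : Idx N i, (biproduct.ι (fun _ : Idx N i => M i) S).app U (y S.1), fun S hS => ?_⟩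
  rw [comp_of_card M _ hS, map_sum, Finset.sum_eq_single ⟨S, hS⟩]
  · rw [← comp_apply, biproduct.ι_π_self]; rfl
  · intro S' _ hS'
    rw [← comp_apply, biproduct.ι_π_ne _ hS']; rfl
  · intro h; exact absurd (Finset.mem_univ _) h

lemma comp_diff {i : ℤ} {U : X.Opens} (x : Γ(kTerm (N := N) M i, U)) :
    kComp M ((diff M T i).app U x) = D (fun k => ((T k i).app U).hom) (kComp M x) := by
  funext S
  by_cases h : (S.card : ℤ) = i + 1
  · rw [comp_of_card M _ h, ← comp_apply, diff, biproduct.lift_π, sum_app, D, ← Finset.sum_coe_sort S]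
    refine Finset.sum_congr rfl fun k _ => ?_
    rw [zsmul_app, comp_apply, comp_of_card M x (card_erase h k.2)]
  · rw [comp_of_not M _ h, D]
    symm
    refine Finset.sum_eq_zero fun k hk => ?_
    have : ¬ (((S.erase k).card : ℤ) = i) := by
      rw [Finset.card_erase_of_mem hk]
      have : 0 < S.card := Finset.card_pos.mpr ⟨k, hk⟩
      omega
    rw [comp_of_not M x this, map_zero, smul_zero]

variable (hT : ∀ (k l : Fin N) (i : ℤ), T k i ≫ T l (i + 1) = T l i ≫ T k (i + 1))

include hT in
lemma diff_diff (i : ℤ) : diff M T i ≫ diff M T (i + 1) = 0 := by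
  apply Scheme.Modules.hom_ext
  intro U
  ext x
  apply comp_injective M
  rw [comp_apply, comp_diff, comp_diff, D_D]
  · funext S
    by_cases h : (S.card : ℤ) = i + 1 + 1
    · rw [comp_of_card M _ h]
      change 0 = (biproduct.π (fun _ : Idx N (i+1+1) => M (i+1+1)) ⟨S, h⟩).app U 0
      rw [map_zero]
    · rw [comp_of_not M _ h]; rfl
  · intro k l x
    have := congrArg (fun f => Scheme.Modules.Hom.app f U x) (hT l k i)
    exact this

/-- The Koszul complex. -/
def koszulCx : CochainComplex X.Modules ℤ :=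
  CochainComplex.of (kTerm (N := N) M) (diff M T) (diff_diff M T hT)

lemma koszulCx_X (i : ℤ) : (koszulCx M T hT).X i = kTerm (N := N) M i := rfl

/-- If locally on `X` some `T j` is bijective on sections over small opens, the Koszul complex is exact. -/
theorem koszulCx_exactAt
    (hloc : ∀ x : X, ∃ (V : X.Opens) (_ : x ∈ V) (j : Fin N), ∀ (U : X.Opens), U ≤ V →
      ∀ i, Function.Bijective ((T j i).app U)) (i : ℤ) :
    (koszulCx M T hT).ExactAt i := by
  obtain ⟨i, rfl⟩ : ∃ i', i = i' + 1 := ⟨i - 1, by ring⟩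
  rw [HomologicalComplex.exactAt_iff' _ i (i + 1) (i + 1 + 1) (by simp) (by simp)]
  apply exact_of_locally_lifts
  intro U y hy x hx
  obtain ⟨V, hxV, j, hj⟩ := hloc x
  have hd : ∀ i : ℤ, (koszulCx M T hT).d i (i + 1) = diff M T i := fun i => by
    exact CochainComplex.of_d _ _ _
  refine ⟨U ⊓ V, inf_le_left, ⟨hx, hxV⟩, ?_⟩
  set W : X.Opens := U ⊓ V
  let y' : Γ(kTerm (N := N) M (i + 1), W) :=
    (kTerm (N := N) M (i + 1)).presheaf.map (homOfLE (inf_le_left : U ⊓ V ≤ U)).op y
  have hy1 : (diff M T (i + 1)).app U y = 0 := by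
    have := hd (i + 1)
    change ((koszulCx M T hT).d (i+1) (i + 1 + 1)).app U y = 0 at hy
    rwa [this] at hy
  have hy' : (diff M T (i + 1)).app W y' = 0 := by
    have h3 := ConcreteCategory.congr_hom ((diff M T (i + 1)).mapPresheaf.naturality
      (homOfLE (inf_le_left : U ⊓ V ≤ U)).op) y
    refine h3.trans ?_
    change (kTerm (N := N) M (i + 1 + 1)).presheaf.map _ ((diff M T (i + 1)).app U y) = 0
    rw [hy1, map_zero]
  have hD : D (fun k => ((T k (i + 1)).app W).hom) (kComp M y') = 0 := by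
    rw [← comp_diff M T y', hy']
    funext S
    by_cases h : (S.card : ℤ) = i + 1 + 1
    · rw [comp_of_card M _ h, map_zero]; rfl
    · rw [comp_of_not M _ h]; rfl
  let e : Γ(M i, W) ≃+ Γ(M (i + 1), W) :=
    AddEquiv.ofBijective ((T j i).app W).hom (hj W inf_le_right i)
  have hDH := D_H j (fun k => ((T k i).app W).hom) (fun k => ((T k (i + 1)).app W).hom)
    (fun k l z => congrArg (fun f => Scheme.Modules.Hom.app f W z) (hT l k i))
    e.symm.toAddMonoidHom (fun z => e.apply_symm_apply z) (hj W inf_le_right (i + 1)).1 (kComp M y') hD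
  obtain ⟨z, hz⟩ := exists_comp M i (H j e.symm.toAddMonoidHom (kComp M y'))
  refine ⟨z, ?_⟩
  have hz2 : (diff M T i).app W z = y' := ?_
  · change ((koszulCx M T hT).d i (i + 1)).app W z = y'
    rw [hd i]
    exact hz2
  apply comp_injective M
  rw [comp_diff]
  funext S
  by_cases h : (S.card : ℤ) = i + 1
  · rw [← hDH]
    unfold D
    refine Finset.sum_congr rfl fun k hk => ?_
    rw [hz _ (card_erase h hk)]
  · rw [comp_of_not M _ h, D]
    refine Finset.sum_eq_zero fun k hk => ?_
    have : ¬ (((S.erase k).card : ℤ) = i) := by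
      rw [Finset.card_erase_of_mem hk]
      have : 0 < S.card := Finset.card_pos.mpr ⟨k, hk⟩
      omega
    rw [comp_of_not M z this, map_zero, smul_zero]

end Groth.Agent.PerfB.KoszulMod
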