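import Groth.Agent.PerfB.ExactDevissage
import Groth.Agent.S1071
import Groth.Prelude.Def_DCoh2
import Mathlib.CategoryTheory.Triangulated.Yoneda
import Mathlib.CategoryTheory.Triangulated.Orthogonal
import Mathlib.CategoryTheory.ObjectProperty.Shift

/-!
# Triangulated subcategories of `D(O_{P^n})` containing `n + 1` consecutive twists contain all the twists
-/

set_option autoImplicit false

universe u

open CategoryTheory CategoryTheory.Limits AlgebraicGeometry
attribute [local instance] HasDerivedCategory.standard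

namespace Groth.Agent.PerfB.TwistClosure

open ExactDevissage

lemma sg_coprod {C : Type*} [Category* C] [Abelian C] [HasDerivedCategory C]
    {P : ObjectProperty (DerivedCategory C)} [P.IsTriangulated] [P.IsClosedUnderIsomorphisms]
    (k : ℕ) (M : C) (h : Sg P M) : Sg P (∐ fun _ : Fin k => M) := by
  have : HasFiniteBiproducts C := HasFiniteBiproducts.of_hasFiniteProducts
  exact sg_iso (biproduct.isoCoproduct (fun _ : Fin k => M)) (sg_biproduct _ fun _ => h)

lemma sg_of_coprod_one {C : Type*} [Category* C] [Abelian C] [HasDerivedCategory C]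
    {P : ObjectProperty (DerivedCategory C)} [P.IsTriangulated] [P.IsClosedUnderIsomorphisms]
    (k : ℕ) (hk : k = 1) (M : C) (h : Sg P (∐ fun _ : Fin k => M)) : Sg P M := by
  subst hk
  have : HasFiniteBiproducts C := HasFiniteBiproducts.of_hasFiniteProducts
  exact sg_iso ((biproduct.isoCoproduct (fun _ : Fin 1 => M)).symm ≪≫ biproductUniqueIso _) h

variable {n : ℕ} {A : Type u} [CommRing A]
variable {P : ObjectProperty (DCoh.D (CohB1.ProjSpace n A))} [P.IsTriangulated]
  [P.IsClosedUnderIsomorphisms]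

/-- from `n + 1` consecutive twists to the next one. -/
lemma next (c : ℤ) (h : ∀ i : ℕ, i ≤ n → Sg P (Twist.twistProjSpace n A (c + i))) :
    Sg P (Twist.twistProjSpace n A (c + (n + 1 : ℕ))) := by
  obtain ⟨C, hC, hX, h0⟩ := Groth.Agent.S1071.result n A c
  have key : Sg P (C.X ((n + 1 : ℕ) : ℤ)) := by
    refine sg_of_others hC 0 (n + 1) h0 _ fun i hi => ?_
    rcases lt_or_ge i 0 with h1 | h1
    · exact sg_of_isZero (h0 i (Or.inl h1))
    rcases lt_or_ge ((n : ℤ) + 1) i with h2 | h2
    · exact sg_of_isZero (h0 i (Or.inr h2))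
    obtain ⟨j, rfl⟩ := Int.eq_ofNat_of_zero_le h1
    have hj : j ≤ n := by
      have : (j : ℤ) ≠ (n + 1 : ℕ) := hi
      push_cast at this
      omega
    obtain ⟨e⟩ := hX j (by omega)
    exact sg_iso e.symm (sg_coprod _ _ (h j hj))
  obtain ⟨e⟩ := hX (n + 1) le_rfl
  exact sg_of_coprod_one _ (Nat.choose_self _) _ (sg_iso e key)

/-- from `n + 1` consecutive twists to the previous one. -/
lemma prev (c : ℤ) (h : ∀ i : ℕ, i ≤ n → Sg P (Twist.twistProjSpace n A (c + i))) :
    Sg P (Twist.twistProjSpace n A (c - 1)) := by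
  obtain ⟨C, hC, hX, h0⟩ := Groth.Agent.S1071.result n A (c - 1)
  have key : Sg P (C.X ((0 : ℕ) : ℤ)) := by
    refine sg_of_others hC 0 (n + 1) h0 _ fun i hi => ?_
    rcases lt_or_ge i 0 with h1 | h1
    · exact sg_of_isZero (h0 i (Or.inl h1))
    rcases lt_or_ge ((n : ℤ) + 1) i with h2 | h2
    · exact sg_of_isZero (h0 i (Or.inr h2))
    obtain ⟨j, rfl⟩ := Int.eq_ofNat_of_zero_le h1
    have hj : j ≠ 0 := by rintro rfl; exact hi rfl
    obtain ⟨j, rfl⟩ := Nat.exists_eq_succ_of_ne_zero hj
    obtain ⟨e⟩ := hX (j + 1) (by omega)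
    refine sg_iso e.symm (sg_coprod _ _ ?_)
    have h3 : c - 1 + ((j + 1 : ℕ) : ℤ) = c + j := by push_cast; ring
    rw [h3]
    exact h j (by omega)
  obtain ⟨e⟩ := hX 0 (by omega)
  have h4 := sg_of_coprod_one _ (Nat.choose_zero_right _) _ (sg_iso e key)
  simpa using h4

/-- A triangulated subcategory of `D(O_{P^n})` containing `n + 1` consecutive twists contains all twists. -/
theorem all_twists (c : ℤ) (h : ∀ i : ℕ, i ≤ n → Sg P (Twist.twistProjSpace n A (c + i))) (d : ℤ) :
    Sg P (Twist.twistProjSpace n A d) := by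
  have up : ∀ k : ℕ, ∀ i : ℕ, i ≤ n → Sg P (Twist.twistProjSpace n A (c + k + i)) := by
    intro k
    induction k with
    | zero => simpa using h
    | succ k ih =>
      intro i hi
      rcases Nat.lt_or_ge i n with h1 | h1
      · have h2 : c + ((k + 1 : ℕ) : ℤ) + i = c + k + ((i + 1 : ℕ) : ℤ) := by push_cast; ring
        rw [h2]
        exact ih (i + 1) h1
      · obtain rfl : i = n := le_antisymm hi h1
        have h2 : c + ((k + 1 : ℕ) : ℤ) + i = c + k + ((i + 1 : ℕ) : ℤ) := by push_cast; ring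
        rw [h2]
        exact next (c + k) ih
  have down : ∀ k : ℕ, ∀ i : ℕ, i ≤ n → Sg P (Twist.twistProjSpace n A (c - k + i)) := by
    intro k
    induction k with
    | zero => simpa using h
    | succ k ih =>
      intro i hi
      rcases Nat.eq_zero_or_pos i with h1 | h1
      · subst h1
        have h2 : c - ((k + 1 : ℕ) : ℤ) + ((0 : ℕ) : ℤ) = c - k - 1 := by push_cast; ring
        rw [h2]
        exact prev (c - k) ih
      · obtain ⟨j, rfl⟩ := Nat.exists_eq_succ_of_ne_zero h1.ne'
        have h2 : c - ((k + 1 : ℕ) : ℤ) + ((j.succ : ℕ) : ℤ) = c - k + j := by push_cast; ring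
        rw [h2]
        exact ih j (by omega)
  rcases le_total c d with hd | hd
  · obtain ⟨k, hk⟩ := Int.le.dest hd
    have := up k 0 (Nat.zero_le _)
    simpa [hk] using this
  · obtain ⟨k, hk⟩ := Int.le.dest hd
    have := down k 0 (Nat.zero_le _)
    have h3 : c - k + ((0 : ℕ) : ℤ) = d := by push_cast; omega
    rwa [h3] at this

section

variable {T : Type*} [Category* T] [Preadditive T] [HasZeroObject T] [HasShift T ℤ]
  [∀ n : ℤ, (shiftFunctor T n).Additive]

/-- `X` has only zero maps to the shifts of `K`. -/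
def leftOrth (K : T) : ObjectProperty T :=
  ((ObjectProperty.singleton K).shiftClosure ℤ).leftOrthogonal

instance (K : T) : (leftOrth K).IsClosedUnderIsomorphisms := by
  unfold leftOrth; infer_instance

instance [Pretriangulated T] (K : T) : (leftOrth K).IsTriangulated := by
  unfold leftOrth; infer_instance

lemma homEquiv_zero {F G : T ⥤ T} (adj : F ⊣ G) [G.PreservesZeroMorphisms] (X Y : T) :
    adj.homEquiv X Y 0 = 0 := by
  simp [Adjunction.homEquiv_unit]

/-- maps `X⟦m⟧ ⟶ K` and maps `X ⟶ K⟦-m⟧`. -/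
lemma leftOrth_iff (K X : T) : leftOrth K X ↔ ∀ (m : ℤ) (φ : X⟦m⟧ ⟶ K), φ = 0 := by
  constructor
  · intro h m φ
    let adj : shiftFunctor T m ⊣ shiftFunctor T (-m) := (shiftEquiv T m).toAdjunction
    apply (adj.homEquiv X K).injective
    rw [homEquiv_zero adj]
    exact h _ ⟨K, -m, Iso.refl _, by simp⟩
  · intro h Y φ hY
    obtain ⟨Z, a, e, hZ⟩ := hY
    obtain rfl : K = Z := by simpa using hZ
    let adj : shiftFunctor T (-a) ⊣ shiftFunctor T a := (shiftEquiv T a).symm.toAdjunction
    have h1 : φ ≫ e.hom = 0 := by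
      obtain ⟨g, hg⟩ := (adj.homEquiv _ _).surjective (φ ≫ e.hom)
      have hg0 : g = 0 := h (-a) g
      rw [hg0, homEquiv_zero adj] at hg
      exact hg.symm
    rw [← cancel_mono e.hom, h1, zero_comp]

end

/-- If `K` receives only zero maps from the shifts of `n + 1` consecutive twists then it receives only zero maps
from the shifts of all twists. -/
theorem hom_from_twist_eq_zero (K : DCoh.D (CohB1.ProjSpace n A)) (c : ℤ)
    (h : ∀ i : ℕ, i ≤ n → ∀ (m : ℤ)
      (φ : (DCoh.inD (CohB1.ProjSpace n A) (Twist.twistProjSpace n A (c + i)))⟦m⟧ ⟶ K), φ = 0)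
    (d m : ℤ) (φ : (DCoh.inD (CohB1.ProjSpace n A) (Twist.twistProjSpace n A d))⟦m⟧ ⟶ K) : φ = 0 :=
  (leftOrth_iff K _).mp (all_twists (P := leftOrth K) c
    (fun i hi => (leftOrth_iff K _).mpr (h i hi)) d) m φ

end Groth.Agent.PerfB.TwistClosure
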