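import Groth.Agent.PerfB.ProjPush
import Groth.Agent.PerfB.QCohDesc
import Groth.Agent.S0999
import Groth.Agent.S1067

/-!
# Pseudo-coherence on `P^n_A` is detected by the twists `0, …, n`
-/

set_option autoImplicit false

universe v u

open CategoryTheory CategoryTheory.Limits AlgebraicGeometry Opposite TopologicalSpace Pretriangulated

attribute [local instance] HasDerivedCategory.standard

namespace Groth.Agent.PerfB.ProjBeil

open Groth.Agent.Dcoh.DerSch
open Groth.Agent.PerfA Groth.Agent.PerfA.ExtZero Groth.Agent.PerfA.Hyp0 Groth.Agent.PerfA.Hyp1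
open FlatPull FlatAdj UnitStr TwistDer PcDev PcTop TensD ExactDevissage ProjPush

attribute [local instance] rpushCommShift rpush_isTriangulated

section Amp

/-- `Rf_*` has bounded amplitude on `D_QCoh`. -/
theorem exists_amp {X S : Scheme.{u}} (f : X ⟶ S) [QuasiCompact f] [QuasiSeparated f] [CompactSpace ↥S]
    [DCoh.HasRpush f] : ∃ c : ℤ, 0 ≤ c ∧ ∀ (K : DCoh.D X) (b : ℤ), DCoh.IsQCohD K → K.IsLE b →
      ((DCoh.Rpush f).obj K).IsLE (b + c) := by
  obtain ⟨N, hN⟩ := Groth.Agent.S0999.result f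
  refine ⟨max N 0, le_max_right _ _, fun K b hK hb => ?_⟩
  have h1 : (K⟦b⟧).IsLE 0 := DerivedCategory.TStructure.t.isLE_shift K b b 0 (by omega)
  have h2 := hN (K⟦b⟧) (QCohD.isQCohD_shift hK b) h1
  have h3 : (((DCoh.Rpush f).obj K)⟦b⟧).IsLE (max N 0) := by
    rw [DerivedCategory.isLE_iff]
    intro i hi
    exact (h2 i (by omega)).of_iso ((DerivedCategory.homologyFunctor _ i).mapIso
      ((((DCoh.Rpush f).commShiftIso b).app K).symm))
  exact (DerivedCategory.TStructure.t.isLE_shift_iff ((DCoh.Rpush f).obj K) (b + max N 0) b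
    (max N 0) rfl).1 h3

end Amp

variable (n : ℕ) (A : Type u) [CommRing A]

theorem isQCohD_tw {K : DCoh.D (CohB1.ProjSpace n A)} (m : ℤ) (hK : DCoh.IsQCohD K) :
    DCoh.IsQCohD ((twD n A m).obj K) := isQCohD_tens (isInvertible_tw n A m) hK

theorem pc_tw {K : DCoh.D (CohB1.ProjSpace n A)} (m : ℤ) (hK : PC K) :
    PC ((twD n A m).obj K) := fun _ => pc_tens (isInvertible_tw n A m) (hK _)

theorem pc_pull {C : DCoh.D (Spec (CommRingCat.of A))} (hC : PC C) : PC ((pullbackD (pr n A)).obj C) :=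
  fun m => isPseudoCoherentD_pullbackD (pr n A) (hC m)

variable [DCoh.HasRpush (pr n A)]

/-- `C ↦ Rπ_*(Lπ^* C ⊗ O(m))`. -/
noncomputable abbrev G (m : ℤ) : DCoh.D (Spec (CommRingCat.of A)) ⥤ DCoh.D (Spec (CommRingCat.of A)) :=
  pullbackD (pr n A) ⋙ twD n A m ⋙ DCoh.Rpush (pr n A)

theorem exists_amp_G : ∃ c : ℤ, 0 ≤ c ∧ ∀ (m : ℤ) (K : DCoh.D (Spec (CommRingCat.of A))) (b : ℤ),
    DCoh.IsQCohD K → K.IsLE b → ((G n A m).obj K).IsLE (b + c) := by
  obtain ⟨c, hc, h⟩ := exists_amp (pr n A)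
  refine ⟨c, hc, fun m K b hK hb => h _ b (isQCohD_tw n A m (QCohDesc.isQCohD_pullbackD (pr n A) hK)) ?_⟩
  have h1 : ((pullbackD (pr n A)).obj K).IsLE b := ExactD.isLE_map _ K b
  exact ExactD.isLE_map _ _ b

/-- `G_m(O_S) = Rπ_* O(m)`. -/
noncomputable def GO (m : ℤ) : (G n A m).obj (DCoh.inD _ (Coh.structureModule _)) ≅
    (DCoh.Rpush (pr n A)).obj (DCoh.inD _ (tw n A m)) :=
  (DCoh.Rpush (pr n A)).mapIso ((twD n A m).mapIso (pullO (pr n A) ≪≫
    (DerivedCategory.singleFunctor _ 0).mapIso (twZero n A)) ≪≫ twDSingle n A 0 m m (zero_add m))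

/-- `Rπ_*(Lπ^* C(m)) = 0` for `-n ≤ m < 0`, `C` pseudo-coherent. -/
theorem isZero_G (m : ℤ) (h1 : m < 0) (h2 : -(n : ℤ) ≤ m) {C : DCoh.D (Spec (CommRingCat.of A))}
    (hC : PC C) : IsZero ((G n A m).obj C) := by
  obtain ⟨c, -, hc⟩ := exists_amp_G n A
  refine isZero_map (G n A m) c (hc m) ((zeroP _).inverseImage (G n A m))
    (topEpi_affine _ ?_) (fun P hP => hP) hC
  exact (isZero_Rpush_tw n A m h1 h2).of_iso (GO n A m)

/-- `Rπ_*(Lπ^* C(m))` is pseudo-coherent if `C` is. -/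
theorem pc_G (m : ℤ) {C : DCoh.D (Spec (CommRingCat.of A))} (hC : PC C) : PC ((G n A m).obj C) := by
  obtain ⟨c, -, hc⟩ := exists_amp_G n A
  refine pc_map (G n A m) c (hc m) ((pcP _).inverseImage (G n A m))
    (topEpi_affine _ ?_) (fun P hP => hP) hC
  exact PC.of_iso (GO n A m).symm (pc_Rpush_tw n A m)

/-- The unit `C ⟶ Rπ_* Lπ^* C` is an isomorphism for `C` pseudo-coherent. -/
theorem isIso_unit {C : DCoh.D (Spec (CommRingCat.of A))} (hC : PC C) :
    IsIso ((pullAdj (pr n A)).unit.app C) := by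
  obtain ⟨c, h0, hc⟩ := exists_amp (pr n A)
  refine isIso_app (𝟭 _) c (fun K b _ hb => ?_) (DQTri.homBij (pullbackD (pr n A)))
    (topEpi_affine _ (homBij_of_isIso_unit _ (isIso_unit_O n A)))
    (pullbackD (pr n A) ⋙ DCoh.Rpush (pr n A)) (fun K b hK hb => ?_) (pullAdj (pr n A)).unit
    (fun P hP => isIso_unit_of_homBij _ hP) hC
  · exact DerivedCategory.TStructure.t.isLE_of_le K b (b + c) (by omega)
  · have h1 : ((pullbackD (pr n A)).obj K).IsLE b := ExactD.isLE_map _ K b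
    exact hc _ b (QCohDesc.isQCohD_pullbackD (pr n A) hK) h1

/-- `K ↦ Rπ_*(K(d))`. -/
noncomputable abbrev F (d : ℤ) : DCoh.D (CohB1.ProjSpace n A) ⥤ DCoh.D (Spec (CommRingCat.of A)) :=
  twD n A d ⋙ DCoh.Rpush (pr n A)

/-- An object of `D_QCoh(P^n)` with `Rπ_* K(d) = 0` for `0 ≤ d ≤ n` is zero. -/
theorem isZero_of_twists {K : DCoh.D (CohB1.ProjSpace n A)} (hK : DCoh.IsQCohD K)
    (h : ∀ d : ℕ, d ≤ n → IsZero ((F n A d).obj K)) : IsZero K := by
  refine Groth.Agent.S1067.result n A K hK fun d hd m φ => ?_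
  have h1 : ∀ ψ : P (-m) (⊤ : (CohB1.ProjSpace n A).Opens) ⟶ (twD n A d).obj K, ψ = 0 := by
    intro ψ
    have h2 : (pullP (pr n A) (-m)).hom ≫ ψ = 0 := by
      apply ((pullAdj (pr n A)).homEquiv _ _).injective
      exact (h d hd).eq_of_tgt _ _
    rw [← cancel_epi (pullP (pr n A) (-m)).hom, h2, comp_zero]
  have : (twD n A d).Faithful := inferInstanceAs ((twDEquiv n A d).functor.Faithful)
  apply (twD n A d).map_injective
  rw [Functor.map_zero]
  let e : P (-m) (⊤ : (CohB1.ProjSpace n A).Opens) ≅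
      (twD n A d).obj ((DCoh.inD (CohB1.ProjSpace n A) (tw n A (-(d : ℤ))))⟦m⟧) :=
    ((DerivedCategory.singleFunctors _).shiftIso m (-m) 0 (by simp)).symm.app _ ≪≫
      (shiftFunctor _ m).mapIso ((DerivedCategory.singleFunctor _ 0).mapIso
        ((UnitOU.unitIsoOU _).symm ≪≫ twZero n A) ≪≫ (twDSingle n A (-(d : ℤ)) d 0 (by ring)).symm) ≪≫
      (((twD n A d).commShiftIso m).app _).symm
  rw [← cancel_epi e.hom, comp_zero]
  exact h1 _

/-- The counit is inverted by `Rπ_*` if the pushforward is pseudo-coherent. -/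
theorem isIso_Rpush_counit {M : DCoh.D (CohB1.ProjSpace n A)} (h : PC ((DCoh.Rpush (pr n A)).obj M)) :
    IsIso ((DCoh.Rpush (pr n A)).map ((pullAdj (pr n A)).counit.app M)) := by
  have h1 := isIso_unit n A h
  have h2 := (pullAdj (pr n A)).right_triangle_components M
  rw [← IsIso.eq_inv_comp, Category.comp_id] at h2
  rw [h2]
  infer_instance

/-- `(K(-i))(j) = K(j-i)`. -/
noncomputable def FT (i j m : ℤ) (h : -i + j = m) (C : DCoh.D (Spec (CommRingCat.of A))) :
    (F n A j).obj ((twD n A (-i)).obj ((pullbackD (pr n A)).obj C)) ≅ (G n A m).obj C :=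
  (DCoh.Rpush (pr n A)).mapIso ((twDComp n A (-i) j m h).app _)

theorem step (k : ℕ) : ∀ (i : ℕ), i + k = n + 1 → ∀ (K : DCoh.D (CohB1.ProjSpace n A)),
    DCoh.IsQCohD K → (∀ j : ℕ, j < i → IsZero ((F n A j).obj K)) →
    (∀ j : ℕ, i ≤ j → j ≤ n → PC ((F n A j).obj K)) → PC K := by
  induction k with
  | zero =>
    intro i hi K hK h0 _
    exact PC.of_isZero (isZero_of_twists n A hK fun d hd => h0 d (by omega))
  | succ k ih =>
    intro i hi K hK h0 hpc
    let C := (F n A i).obj K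
    have hC : PC C := hpc i le_rfl (by omega)
    let T₀ := (pullbackD (pr n A)).obj C
    let ε : T₀ ⟶ (twD n A i).obj K := (pullAdj (pr n A)).counit.app ((twD n A i).obj K)
    have hε : IsIso ((DCoh.Rpush (pr n A)).map ε) := isIso_Rpush_counit n A hC
    let α : twD n A i ⋙ twD n A (-i) ≅ 𝟭 _ := twDComp n A i (-i) 0 (by ring) ≪≫ twDZero n A
    let β : twD n A (-i) ⋙ twD n A i ≅ 𝟭 _ := twDComp n A (-i) i 0 (by ring) ≪≫ twDZero n A
    let T := (twD n A (-i)).obj T₀
    let t : T ⟶ K := (twD n A (-i)).map ε ≫ α.hom.app K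
    have hT : PC T := pc_tw n A _ (pc_pull n A hC)
    have ht : IsIso ((F n A i).map t) := by
      have h1 : (F n A i).map ((twD n A (-i)).map ε) =
          (DCoh.Rpush (pr n A)).map (β.hom.app _) ≫ (DCoh.Rpush (pr n A)).map ε ≫
            (DCoh.Rpush (pr n A)).map (β.inv.app _) := by
        rw [← Functor.map_comp, ← Functor.map_comp]
        change (DCoh.Rpush (pr n A)).map ((twD n A (-i) ⋙ twD n A i).map ε) = _
        congr 1
        have := β.hom.naturality ε
        rw [← Category.assoc, ← Iso.app_inv, Iso.eq_comp_inv]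
        exact this
      rw [Functor.map_comp, h1]
      infer_instance
    obtain ⟨K', g, h, hTr⟩ := distinguished_cocone_triangle t
    have hF : ∀ j : ℕ, (F n A j).mapTriangle.obj (Triangle.mk t g h) ∈ distTriang _ :=
      fun j => (F n A j).map_distinguished _ hTr
    have hK' : DCoh.IsQCohD K' := QCohD.isQCohD_ext₃ _ hTr hT.isQCohD hK
    have hPC' : PC K' := by
      refine ih (i + 1) (by omega) K' hK' (fun j hj => ?_) (fun j hj hj' => ?_)
      · rcases Nat.lt_or_ge j i with hji | hji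
        · have h1 : IsZero ((F n A j).obj T) :=
            (isZero_G n A (-i + j) (by omega) (by omega) hC).of_iso (FT n A i j _ rfl C)
          exact (zeroP _).ext_of_isTriangulatedClosed₃ _ (hF j) h1 (h0 j hji)
        · obtain rfl : j = i := by omega
          exact Triangle.isZero₃_of_isIso₁ _ (hF j) ht
      · have h1 : PC ((F n A j).obj T) := PC.of_iso (FT n A i j _ rfl C).symm (pc_G n A _ hC)
        exact (pcP _).ext_of_isTriangulatedClosed₃ _ (hF j) h1 (hpc j (by omega) hj')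
    exact PC.obj₂ hTr hT hPC'

/-- If `Rπ_* K(d)` is pseudo-coherent for `0 ≤ d ≤ n` then so is `K`. -/
theorem pc_of_twists {K : DCoh.D (CohB1.ProjSpace n A)} (hK : DCoh.IsQCohD K)
    (h : ∀ d : ℕ, d ≤ n → PC ((F n A d).obj K)) : PC K :=
  step n A (n + 1) 0 (by omega) K hK (fun j hj => absurd hj (by omega)) (fun j _ hj => h j hj)

end Groth.Agent.PerfB.ProjBeil
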