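import Groth.Agent.PerfA.PostHom
import Groth.Agent.PerfA.Hyp2
import Groth.Agent.PerfA.AffVan
import Groth.Agent.PerfA.QCohD
import Groth.Agent.Cohder.KInjProd
import Groth.Agent.CohtopA.KInjRes2

/-!
# Maps from `j_! O_U [-m]`, `U` affine, to complexes with quasi-coherent cohomology

`H^m(U, K) = Γ(U, H^m(K))` for `U` an affine open of an arbitrary scheme and `K ∈ D_QCoh(O_X)` (unbounded).
-/

set_option autoImplicit false

universe u

open CategoryTheory CategoryTheory.Limits AlgebraicGeometry Opposite TopologicalSpace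
open Groth.Agent.PerfA Groth.Agent.PerfA.ExtZero Groth.Agent.PerfA.Hyp0 Groth.Agent.PerfA.Hyp1

attribute [local instance] HasDerivedCategory.standard

namespace Groth.Agent.PerfB.AffHD

section Prod

universe w v u'

/-- The derived category of a Grothendieck abelian category has products. -/
theorem hasProductsOfShape {A : Type u'} [Category.{v} A] [Abelian A] [IsGrothendieckAbelian.{v} A]
    [HasDerivedCategory.{w} A] (J : Type v) : HasProductsOfShape J (DerivedCategory A) := by
  constructor
  intro F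
  have h : ∀ j : J, ∃ (I : CochainComplex A ℤ), I.IsKInjective ∧ Nonempty (F.obj ⟨j⟩ ≅ DerivedCategory.Q.obj I) := by
    intro j
    let e := DerivedCategory.Q.objObjPreimageIso (F.obj ⟨j⟩)
    obtain ⟨I, f, hI, hf, -, -⟩ :=
      Groth.Agent.CohtopA.KInjRes2.exists_kInjective_resolution.{v} (DerivedCategory.Q.objPreimage (F.obj ⟨j⟩))
    have : IsIso (DerivedCategory.Q.map f) := by
      rw [DerivedCategory.isIso_Q_map_iff_quasiIso]
      exact hf
    exact ⟨I, hI, ⟨e.symm ≪≫ asIso (DerivedCategory.Q.map f)⟩⟩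
  choose I hI e using h
  have : HasProduct (fun j : J => F.obj ⟨j⟩) :=
    Groth.Agent.Cohder.KInjProd.hasProduct_of_iso (fun j : J => F.obj ⟨j⟩) I hI (fun j => (e j).some)
  exact hasLimit_of_iso (F := Discrete.functor (fun j : J => F.obj ⟨j⟩)) (Discrete.natIso (fun j => Iso.refl _))

end Prod

variable (X : Scheme.{u})

instance hasCountableProducts : HasProductsOfShape ℕ (DerivedCategory X.Modules) := by
  have := AffVan.isGrothendieckAbelian X
  have h := hasProductsOfShape (A := X.Modules) (ULift.{u} ℕ)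
  exact hasLimitsOfShape_of_equivalence (Discrete.equivalence Equiv.ulift)

/-- The sheaves `j_! O_U`, `U` affine. -/
def affP : ObjectProperty X.Modules := fun G => ∃ U : X.Opens, IsAffineOpen U ∧ G = OU U

variable {X}

lemma detects : PostAbs.Detects (affP X) := by
  intro A B f hf
  by_contra H
  push Not at H
  apply hf
  apply Scheme.Modules.hom_ext
  intro U
  ext s
  -- check on affine opens inside `U`
  refine TopCat.Sheaf.eq_of_locally_eq' ⟨B.presheaf, B.isSheaf⟩
    (fun V : {V : X.affineOpens // V.1 ≤ U} => V.1.1) U (fun V => homOfLE V.2) ?_ _ _ ?_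
  · intro x hx
    obtain ⟨_, ⟨V, hV, rfl⟩, hxV, hVU⟩ := X.isBasis_affineOpens.exists_subset_of_mem_open hx U.2
    exact Opens.mem_iSup.2 ⟨⟨⟨V, hV⟩, hVU⟩, hxV⟩
  · rintro ⟨V, hV⟩
    have h := H (OU V.1) ⟨V.1, V.2, rfl⟩ (desc (A.presheaf.map (homOfLE hV).op s))
    rw [desc_comp] at h
    have h1 : f.app V.1 (A.presheaf.map (homOfLE hV).op s) = 0 := by
      apply desc_injective
      rw [h, desc_zero]
    have h2 := NatTrans.naturality_apply f.mapPresheaf (homOfLE hV).op s
    refine (h2.symm.trans h1).trans ?_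
    exact (map_zero (B.presheaf.map (homOfLE hV).op).hom).symm

lemma acyc : PostHom.Acyc (affP X) (fun M : X.Modules => Coh.IsQCoh M) where
  detects := detects
  iso _ _ e h := QCohSerre.isQCoh_of_iso e h
  zero Z hZ := by
    exact (QCohSerre.qcoh X).prop_of_isZero hZ
  van := by
    rintro G ⟨U, hU, rfl⟩ M hM m n hmn φ
    exact AffVan.hom_single_OU_eq_zero M hM U hU m n hmn φ

/-- `H^m(U, K) = Γ(U, H^m(K))` for `U` affine. -/
theorem toHD_bijective {K : DCoh.D X} (hK : DCoh.IsQCohD K) {U : X.Opens} (hU : IsAffineOpen U) (m : ℤ) :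
    Function.Bijective (toHD : (P m U ⟶ K) → Γ(DCoh.HD K m, U)) := by
  have h1 := acyc.bijective_homology (K := K) hK (G := OU U) ⟨U, hU, rfl⟩ m
  have h2 : (toHD : (P m U ⟶ K) → Γ(DCoh.HD K m, U)) = (homEquiv U (DCoh.HD K m)) ∘
      (fun φ => (DerivedCategory.singleFunctorCompHomologyFunctorIso X.Modules m).inv.app (OU U) ≫ φ) ∘
      (fun φ : P m U ⟶ K => (DerivedCategory.homologyFunctor X.Modules m).map φ) := rfl
  rw [h2]
  refine (homEquiv U _).bijective.comp (Function.Bijective.comp ?_ h1)
  exact (Iso.homFromEquiv ((DerivedCategory.singleFunctorCompHomologyFunctorIso X.Modules m).app (OU U))).bijective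

end Groth.Agent.PerfB.AffHD
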