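import Groth.Agent.CohqB.HomSheafQCoh
import Groth.Agent.VarietyA.StalkCrit

/-!
# Morphisms out of quasi-coherent modules from linear maps on affine opens (helper342)

`exists_hom_of_affine`: `M` quasi-coherent, `N` arbitrary; a family of linear maps
`Γ(M, U) → Γ(N, U)`, `U` affine open, compatible with restriction, comes from a unique morphism.
Also `hom_ext_of_affine`, `epi_of_affine`.
-/

set_option autoImplicit false
universe u

open CategoryTheory AlgebraicGeometry Opposite TopologicalSpace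
open Groth.Agent.Ega1.QCohLoc (res resO IsLocAt IsLocOnAffines)

namespace Groth.Agent.PerfB.AffHom

open Groth.Agent.CohqB.HomSheaf

variable {X : Scheme.{u}} {M N : X.Modules}

/-- Comparison of a section of `homSheaf M N` over an affine `U` with a section over `D(g) ⊆ U`. -/
theorem res_eq_of_comp_eq (hM : Coh.IsQCoh M) {U : X.Opens} (hU : IsAffineOpen U) (g : Γ(X, U))
    {W : X.Opens} (hW : W = X.basicOpen g) (hWU : W ≤ U)
    (s : Γ(homSheaf M N, U)) (t : Γ(homSheaf M N, W))
    (h : ∀ m : Γ(M, U), res N hWU (comp s U le_rfl m) = comp t W le_rfl (res M hWU m)) :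
    res (homSheaf M N) hWU s = t := by
  subst hW
  refine comp_injective hM (hU.basicOpen g) fun m => ?_
  rw [comp_res']
  obtain ⟨n, m', hm'⟩ := (Ega1.QCohLoc.isLocAt_of_isQCoh hM hU g).surj m
  apply smul_cancel_basicOpen N g le_rfl n
  rw [← map_smul, ← map_smul, ← hm', ← h m', ← comp_map']

/-- Morphisms out of a quasi-coherent module can be given on affine opens. -/
theorem exists_hom_of_affine (hM : Coh.IsQCoh M)
    (f : ∀ U : X.Opens, IsAffineOpen U → Γ(M, U) →ₗ[Γ(X, U)] Γ(N, U))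
    (hf : ∀ (U V : X.Opens) (hU : IsAffineOpen U) (hV : IsAffineOpen V) (h : V ≤ U) (m : Γ(M, U)),
      f V hV (res M h m) = res N h (f U hU m)) :
    ∃ φ : M ⟶ N, ∀ (U : X.Opens) (hU : IsAffineOpen U) (m : Γ(M, U)), φ.app U m = f U hU m := by
  let s : ∀ U : X.affineOpens, Γ(homSheaf M N, U.1) := fun U =>
    (affineEquiv hM U.2).symm (f U.1 U.2)
  have hs : ∀ (U : X.affineOpens), comp (s U) U.1 le_rfl = f U.1 U.2 := fun U =>
    comp_affineEquiv_symm hM U.2 _
  have hres : ∀ (U : X.affineOpens) (W : X.affineOpens) (g : Γ(X, U.1)) (hW : W.1 = X.basicOpen g)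
      (hWU : W.1 ≤ U.1), res (homSheaf M N) hWU (s U) = s W := by
    intro U W g hW hWU
    refine res_eq_of_comp_eq hM U.2 g hW hWU _ _ fun m => ?_
    rw [hs, hs, hf U.1 W.1 U.2 W.2 hWU]
  have hcov : (⊤ : X.Opens) ≤ ⨆ U : X.affineOpens, U.1 := by
    rw [iSup_affineOpens_eq_top]
  obtain ⟨t, ht⟩ := exists_glue (homSheaf M N) (fun U : X.affineOpens => U.1) ⊤ hcov
    (fun _ => le_top) s (by
      intro U V W hWU hWV
      choose gU gV e hg using fun x : W =>
        exists_basicOpen_le_affine_inter U.2 V.2 x.1 ⟨hWU x.2, hWV x.2⟩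
      refine Ega1.QCohLoc.eq_of_locally_eq (homSheaf M N)
        (fun x : W => W ⊓ X.basicOpen (gU x)) W (fun x => inf_le_left) ?_ _ _ ?_
      · intro x hx
        exact Opens.mem_iSup.mpr ⟨⟨x, hx⟩, hx, hg _⟩
      · intro x
        have h1 : X.basicOpen (gU x) ≤ U.1 := X.basicOpen_le _
        have h2 : X.basicOpen (gU x) ≤ V.1 := (e x).le.trans (X.basicOpen_le _)
        let B : X.affineOpens := ⟨X.basicOpen (gU x), U.2.basicOpen _⟩
        have h3 : res (homSheaf M N) h1 (s U) = s B := hres U B (gU x) rfl h1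
        have h4 : res (homSheaf M N) h2 (s V) = s B := hres V B (gV x) (e x) h2
        have h5 := congrArg (res (homSheaf M N) (inf_le_right : W ⊓ X.basicOpen (gU x) ≤ _))
          (h3.trans h4.symm)
        rw [Ega1.QCohLoc.res_res, Ega1.QCohLoc.res_res] at h5
        exact (Ega1.QCohLoc.res_res _ _ _ _).trans (h5.trans (Ega1.QCohLoc.res_res _ _ _ _).symm))
  refine ⟨toHom t, fun U hU m => ?_⟩
  rw [toHom_app]
  have h1 : comp t U le_top m = comp (s ⟨U, hU⟩) U le_rfl m := by
    rw [← ht ⟨U, hU⟩]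
    rfl
  exact h1.trans (congrArg (fun φ : Γ(M, U) →ₗ[Γ(X, U)] Γ(N, U) => φ m) (hs ⟨U, hU⟩))

theorem exists_affine_le (U : X.Opens) {x : X} (hx : x ∈ U) :
    ∃ V : X.Opens, IsAffineOpen V ∧ x ∈ V ∧ V ≤ U := by
  obtain ⟨_, ⟨V, hV, rfl⟩, hxV, hVU⟩ := X.isBasis_affineOpens.exists_subset_of_mem_open hx U.2
  exact ⟨V, hV, hxV, hVU⟩

/-- Morphisms are determined by their components on affine opens. -/
theorem hom_ext_of_affine {φ ψ : M ⟶ N}
    (h : ∀ (U : X.Opens) (_ : IsAffineOpen U) (m : Γ(M, U)), φ.app U m = ψ.app U m) : φ = ψ := by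
  apply Scheme.Modules.hom_ext
  intro U
  ext m
  choose V hV hxV hVU using fun x : U => exists_affine_le U x.2
  refine Ega1.QCohLoc.eq_of_locally_eq N V U hVU (fun x hx => ?_) _ _ fun x => ?_
  · exact Opens.mem_iSup.mpr ⟨⟨x, hx⟩, hxV _⟩
  · have h1 := congr($(φ.mapPresheaf.naturality (homOfLE (hVU x)).op) m)
    have h2 := congr($(ψ.mapPresheaf.naturality (homOfLE (hVU x)).op) m)
    exact h1.symm.trans ((h _ (hV x) _).trans h2)

/-- A morphism surjective on sections over small affine opens is an epimorphism. -/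
theorem epi_of_affine {φ : M ⟶ N}
    (h : ∀ (U : X.Opens) (_ : IsAffineOpen U) (n : Γ(N, U)), ∃ m, φ.app U m = n) : Epi φ := by
  refine Groth.Agent.VarietyA.StalkCrit.epi_of_stalks φ fun x => ?_
  intro t
  obtain ⟨U, hx, n, rfl⟩ := TopCat.Presheaf.exists_germ_eq N.presheaf t
  obtain ⟨V, hV, hxV, hVU⟩ := exists_affine_le U hx
  obtain ⟨m, hm⟩ := h V hV (N.presheaf.map (homOfLE hVU).op n)
  refine ⟨M.presheaf.germ V x hxV m, ?_⟩
  rw [Groth.Agent.CycB.StalkExact.stalkLin_germ, hm]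
  exact TopCat.Presheaf.germ_res_apply _ _ _ _ _

end Groth.Agent.PerfB.AffHom
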