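import Groth.Agent.PerfB.PcDev
import Groth.Agent.PerfB.AffHD
import Groth.Agent.PerfB.AffHom
import Groth.Agent.PerfA.UnitOU
import Groth.Agent.CohqB.FiniteType2
import Groth.Agent.Ega2.QCohLocal

/-!
# Finitely many maps onto the top cohomology of a pseudo-coherent complex; the affine case
-/

set_option autoImplicit false

universe u

open CategoryTheory CategoryTheory.Limits AlgebraicGeometry Opposite TopologicalSpace
attribute [local instance] HasDerivedCategory.standard

namespace Groth.Agent.PerfB.PcTop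

open Groth.Agent.PerfA Groth.Agent.PerfC.PcLocal Groth.Agent.PerfA.Hyp0 Groth.Agent.PerfA.Hyp1
open Groth.Agent.PerfA.ExtZero
open Groth.Agent.Ega1.QCohLoc (resO IsLocAt isLocAt_of_isQCoh)
open ExactDevissage PcDev

variable {X : Scheme.{u}}

/-- A morphism out of a quasi-coherent module vanishing on the sections over the members of an affine cover
is zero. -/
theorem hom_eq_zero {M T : X.Modules} (hM : Coh.IsQCoh M) {ι : Type*} (V : ι → X.Opens)
    (hV : ∀ i, IsAffineOpen (V i)) (hcov : ∀ x : X, ∃ i, x ∈ V i) (t : M ⟶ T)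
    (h : ∀ i (m : Γ(M, V i)), t.app (V i) m = 0) : t = 0 := by
  refine AffHom.hom_ext_of_affine fun W _ m => ?_
  change t.app W m = 0
  choose i hi using hcov
  choose g hgW hxg using fun x : W =>
    CohqB.HomSheaf.exists_basicOpen_le (hV (i x)) (V := W ⊓ V (i x)) inf_le_right x.1 ⟨x.2, hi x⟩
  refine Ega1.QCohLoc.eq_of_locally_eq T (fun x : W => X.basicOpen (g x)) W
    (fun x => (hgW x).trans inf_le_left) (fun x hx => Opens.mem_iSup.mpr ⟨⟨x, hx⟩, hxg _⟩) _ _
    fun x => ?_
  rw [map_zero, ← Ega1.QCohLoc.res_app]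
  obtain ⟨n, m', hm'⟩ := (isLocAt_of_isQCoh hM (hV (i x)) (g x)).surj
    (Ega1.QCohLoc.res M ((hgW x).trans inf_le_left) m)
  apply CohqB.HomSheaf.smul_cancel_basicOpen T (g x) le_rfl n
  rw [smul_zero, ← Scheme.Modules.Hom.app_smul, ← hm', Ega1.QCohLoc.res_app, h, map_zero]

/-- The same, for finitely generated sections. -/
theorem hom_eq_zero_of_span {M T : X.Modules} (hM : Coh.IsQCoh M) {ι : Type*} (V : ι → X.Opens)
    (hV : ∀ i, IsAffineOpen (V i)) (hcov : ∀ x : X, ∃ i, x ∈ V i) (t : M ⟶ T)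
    (s : ∀ i, Set Γ(M, V i)) (hs : ∀ i, Submodule.span Γ(X, V i) (s i) = ⊤)
    (h : ∀ i, ∀ m ∈ s i, t.app (V i) m = 0) : t = 0 := by
  refine hom_eq_zero hM V hV hcov t fun i m => ?_
  have hm : m ∈ Submodule.span Γ(X, V i) (s i) := by rw [hs]; trivial
  induction hm using Submodule.span_induction with
  | mem x hx => exact h i x hx
  | zero => rw [map_zero]
  | add x y _ _ hx hy => rw [map_add, hx, hy, add_zero]
  | smul a x _ hx => rw [Scheme.Modules.Hom.app_smul, hx, smul_zero]

/-- A finite locally free module is pseudo-coherent. -/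
theorem pc_of_isFinLocFree {M : X.Modules} (h : FlatMod.IsFinLocFree M) : PC (DCoh.inD X M) := fun m =>
  PCohQCoh.isPseudoCoherentD_of_isPerfect (PerfLocal.isPerfect_inD_of_isFinLocFree h) m

theorem pc_of_isInvertible {L : X.Modules} (h : PicF.IsInvertible L) : PC (DCoh.inD X L) :=
  pc_of_isFinLocFree
    (Ega2.QCohLocal.isFinLocFree_of_rank (Ega2.QCohLocal.isFinLocFreeOfRank_one_iff.mpr h))

variable (X) in
theorem pc_structureModule : PC (DCoh.inD X (Coh.structureModule X)) :=
  PC.of_iso ((DerivedCategory.singleFunctor X.Modules 0).mapIso (Ega2.QCohLocal.freeModOneIso X).symm)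
    (pc_of_isFinLocFree (PerfLocal.isFinLocFree_freeMod X 1))

/-- On an affine scheme, a triangulated class containing `O_X` satisfies the hypothesis of the dévissage. -/
theorem topEpi_affine [IsAffine X] (R : ObjectProperty (DCoh.D X)) [R.IsTriangulated]
    [R.IsClosedUnderIsomorphisms] (hR : R (DCoh.inD X (Coh.structureModule X)))
    : TopEpi X R := by
  intro K b hK hb
  have hq : Coh.IsQCoh (DCoh.HD K b) := hK.isQCohD b
  have hfin : Module.Finite Γ(X, ⊤) Γ(DCoh.HD K b, ⊤) :=
    CohqB.FiniteType2.finite_sections_of_isFT _ (hK.isFT b) (isAffineOpen_top X)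
  obtain ⟨n, s, hs⟩ := Module.Finite.exists_fin (R := Γ(X, ⊤)) (M := Γ(DCoh.HD K b, ⊤))
  have hbij := AffHD.toHD_bijective hK.isQCohD (isAffineOpen_top X) b
  choose φ hφ using fun i : Fin n => hbij.2 (s i)
  have : HasFiniteBiproducts X.Modules := HasFiniteBiproducts.of_hasFiniteProducts
  obtain ⟨ψ, hψ⟩ := exists_sum (fun _ : Fin n => OU (⊤ : X.Opens)) φ (by
    intro T t ht
    refine hom_eq_zero_of_span hq (fun _ : Unit => ⊤) (fun _ => isAffineOpen_top X)
      (fun x => ⟨(), trivial⟩) t (fun _ => Set.range s) (fun _ => hs) ?_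
    rintro - _ ⟨i, rfl⟩
    rw [← hφ i]
    change t.app ⊤ ((toH (φ i)).app ⊤ (gen ⊤)) = 0
    rw [← ConcreteCategory.comp_apply, ← Scheme.Modules.Hom.comp_app, ht i]
    rfl)
  have hO : ∀ (S : ObjectProperty (DCoh.D X)) [S.IsTriangulated] [S.IsClosedUnderIsomorphisms],
      S (DCoh.inD X (Coh.structureModule X)) →
        S (DCoh.inD X (⨁ fun _ : Fin n => OU (⊤ : X.Opens))) := by
    intro S _ _ hS
    exact sg_biproduct (P := S) _ fun _ => sg_iso (UnitOU.unitIsoOU X) hS
  exact ⟨_, hO R hR, hO (pcP X) (pc_structureModule X), ψ, hψ⟩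

end Groth.Agent.PerfB.PcTop
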