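import Groth.Agent.PerfB.ExtendTop
import Groth.Agent.PerfB.PcTop
import Groth.Agent.S1067

/-!
# Surjections from sums of twists onto the top cohomology of a pseudo-coherent complex on `P^n_A`
-/

set_option autoImplicit false

universe u

open CategoryTheory CategoryTheory.Limits AlgebraicGeometry Opposite TopologicalSpace Pretriangulated

attribute [local instance] HasDerivedCategory.standard

namespace Groth.Agent.PerfB.ProjTop

open Groth.Agent.PerfA Groth.Agent.PerfA.ExtZero Groth.Agent.PerfA.Hyp0 Groth.Agent.PerfA.Hyp1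
open Groth.Agent.PerfB.SecTwist TensExact TensD SecExtend ExtendTop TwistDer SecProj PcDev PcTop

variable (n : ℕ) (A : Type u) [CommRing A]

/-- `O(-N)[-b](N) ≅ O[-b]`. -/
noncomputable def kap (b : ℤ) (N : ℤ) :
    (twD n A N).obj ((DerivedCategory.singleFunctor _ b).obj (tw n A (-N))) ≅
      P b (⊤ : (CohB1.ProjSpace n A).Opens) :=
  ((twM n A N).mapDerivedCategorySingleFunctor b).app (tw n A (-N)) ≪≫
    (DerivedCategory.singleFunctor _ b).mapIso
      (twMul n A (-N) N 0 (by ring) ≪≫ (twZero n A).symm ≪≫ UnitOU.unitIsoOU _)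

variable {n A}

theorem exists_chi {E : CochainComplex (CohB1.ProjSpace n A).Modules ℤ} (b N : ℤ)
    (ψ : P b (⊤ : (CohB1.ProjSpace n A).Opens) ⟶ DerivedCategory.Q.obj ((tcx E).obj (tw n A N))) :
    ∃ χ : (DerivedCategory.singleFunctor _ b).obj (tw n A (-N)) ⟶ DerivedCategory.Q.obj E,
      ∀ (T : (CohB1.ProjSpace n A).Modules) (t : DCoh.HD (DerivedCategory.Q.obj E) b ⟶ T),
        toH χ ≫ t = 0 →
        (DerivedCategory.homologyFunctor _ b).map ψ ≫ hI E b (tw n A N) ≫
          (DCoh.tensorRightMod (tw n A N)).map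
            ((DerivedCategory.homologyFunctorFactors _ b).inv.app E ≫ t) = 0 := by
  let fac : (twD n A N).obj (DerivedCategory.Q.obj E) ≅ DerivedCategory.Q.obj ((tcx E).obj (tw n A N)) :=
    (twM n A N).mapDerivedCategoryFactors.app E
  have : (twD n A N).Full := (twDEquiv n A N).full_functor
  obtain ⟨χ, hχ⟩ := (twD n A N).map_surjective ((kap n A b N).hom ≫ ψ ≫ fac.inv)
  refine ⟨χ, fun T t ht => ?_⟩
  let Hb := DerivedCategory.homologyFunctor (CohB1.ProjSpace n A).Modules b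
  let c : DCoh.HD (DerivedCategory.Q.obj E) b ⟶ E.homology b :=
    (DerivedCategory.homologyFunctorFactors _ b).hom.app E
  let c' : E.homology b ⟶ DCoh.HD (DerivedCategory.Q.obj E) b :=
    (DerivedCategory.homologyFunctorFactors _ b).inv.app E
  have hcc : c ≫ c' = 𝟙 _ := Iso.hom_inv_id_app _ _
  have hψ : ψ = (kap n A b N).inv ≫ (twD n A N).map χ ≫ fac.hom := by
    rw [hχ]
    simp
  have h1 : Hb.map χ ≫ t = 0 := by
    have h2 : (DerivedCategory.singleFunctorCompHomologyFunctorIso _ b).inv.app (tw n A (-N)) ≫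
      Hb.map χ ≫ t = 0 := by
      rw [← Category.assoc]
      exact ht
    rw [← cancel_epi ((DerivedCategory.singleFunctorCompHomologyFunctorIso _ b).inv.app (tw n A (-N))),
      comp_zero]
    exact h2
  have h3 : Hb.map ((twD n A N).map χ) ≫
      (ExactD.mapHomology (DCoh.tensorRightMod (tw n A N)) b).hom.app (DerivedCategory.Q.obj E) =
      (ExactD.mapHomology (DCoh.tensorRightMod (tw n A N)) b).hom.app _ ≫
        (DCoh.tensorRightMod (tw n A N)).map (Hb.map χ) :=
    (ExactD.mapHomology (DCoh.tensorRightMod (tw n A N)) b).hom.naturality χ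
  have h4 : Hb.map fac.hom ≫ hI E b (tw n A N) =
      (ExactD.mapHomology (DCoh.tensorRightMod (tw n A N)) b).hom.app (DerivedCategory.Q.obj E) ≫
        (DCoh.tensorRightMod (tw n A N)).map c := hI_eq E b
  have h5 : (DCoh.tensorRightMod (tw n A N)).map c ≫ (DCoh.tensorRightMod (tw n A N)).map (c' ≫ t) =
      (DCoh.tensorRightMod (tw n A N)).map t := by
    rw [← Functor.map_comp, reassoc_of% hcc]
  have h6 : (DCoh.tensorRightMod (tw n A N)).map (Hb.map χ) ≫
      (DCoh.tensorRightMod (tw n A N)).map t = 0 := by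
    rw [← Functor.map_comp, h1, Functor.map_zero]
  change Hb.map ψ ≫ hI E b (tw n A N) ≫ (DCoh.tensorRightMod (tw n A N)).map (c' ≫ t) = 0
  rw [hψ, Functor.map_comp, Functor.map_comp, Category.assoc, Category.assoc,
    reassoc_of% h4, h5, reassoc_of% h3, h6, comp_zero, comp_zero]

section Coord

variable (n A)

/-- `D_+(X_i)`. -/
noncomputable abbrev Vx (i : Fin (n + 1)) : (CohB1.ProjSpace n A).Opens :=
  Proj.basicOpen (CohB1.polyGrading n A) (MvPolynomial.X i)

theorem isAffineOpen_Vx (i : Fin (n + 1)) : IsAffineOpen (Vx n A i) :=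
  Proj.isAffineOpen_basicOpen _ _ (MvPolynomial.isHomogeneous_X A i) one_pos

/-- `X_i` as an element of degree one. -/
noncomputable abbrev ax (i : Fin (n + 1)) : CohB1.polyGrading n A 1 :=
  ⟨MvPolynomial.X i, MvPolynomial.isHomogeneous_X _ _⟩

/-- The sequence `O → O(1) → …` given by multiplication with `X_i`. -/
noncomputable abbrev Lx (i : Fin (n + 1)) : ℕ ⥤ (CohB1.ProjSpace n A).Modules := Lseq (ax n A i)

theorem dat_Lx (i j : Fin (n + 1)) : Dat (Lx n A i) (Vx n A i) (Vx n A j) :=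
  dat_Lseq (ax n A i) (ax n A j)

/-- `O ≅ (Lx i) 0`. -/
noncomputable def unitLx (i : Fin (n + 1)) : Coh.structureModule _ ≅ (Lx n A i).obj 0 := twZero n A

theorem isInvertible_Lx (i : Fin (n + 1)) (k : ℕ) : PicF.IsInvertible ((Lx n A i).obj k) :=
  isInvertible_tw n A (k : ℤ)

end Coord

theorem exists_psi {E : CochainComplex (CohB1.ProjSpace n A).Modules ℤ}
    (hE : DCoh.IsQCohD (DerivedCategory.Q.obj E)) (b : ℤ) (i : Fin (n + 1))
    (φ : P b (Vx n A i) ⟶ DerivedCategory.Q.obj E) :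
    ∃ (m : ℕ) (ψ : P b ⊤ ⟶ DerivedCategory.Q.obj ((tcx E).obj (tw n A (m : ℤ)))),
      ∀ (T : (CohB1.ProjSpace n A).Modules)
        (t : DCoh.HD (DerivedCategory.Q.obj E) b ⟶ T),
        (DerivedCategory.homologyFunctor _ b).map ψ ≫ hI E b (tw n A (m : ℤ)) ≫
          (DCoh.tensorRightMod (tw n A (m : ℤ))).map
            ((DerivedCategory.homologyFunctorFactors _ b).inv.app E ≫ t) = 0 →
        toH φ ≫ t = 0 := by
  have hc : CompactSpace (CohB1.ProjSpace n A) := Groth.Agent.S1067.compactSpace_proj A n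
  have hqs : QuasiSeparatedSpace (CohB1.ProjSpace n A) :=
    inferInstanceAs (QuasiSeparatedSpace (Proj (CohB1.polyGrading n A)))
  obtain ⟨N, ψ, hψ⟩ := exists_ext_top (L := Lx n A i) (isInvertible_Lx n A i)
    (fun x => (ProjSpaceCover.exists_mem_basicOpen_X n A x).elim fun j hj =>
      ⟨Vx n A j, hj, dat_Lx n A i j⟩) (dat_Lx n A i i) (unitLx n A i) hE b φ
  have hfl : PreservesFiniteLimits (DCoh.tensorRightMod ((Lx n A i).obj N)) :=
    preservesFiniteLimits_tw n A (N : ℤ)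
  exact ⟨N, ψ, fun T t => hψ T t⟩

/-- Every section over `D_+(X_i)` of the top cohomology sheaf is in the image of a map `O(-N)[-b] ⟶ K`. -/
theorem exists_map_Q {E : CochainComplex (CohB1.ProjSpace n A).Modules ℤ}
    (hE : DCoh.IsQCohD (DerivedCategory.Q.obj E)) (b : ℤ) (i : Fin (n + 1))
    (s : Γ(DCoh.HD (DerivedCategory.Q.obj E) b, Vx n A i)) :
    ∃ (N : ℕ) (χ : (DerivedCategory.singleFunctor _ b).obj (tw n A (-(N : ℤ))) ⟶ DerivedCategory.Q.obj E),
      ∀ (T : (CohB1.ProjSpace n A).Modules) (t : DCoh.HD (DerivedCategory.Q.obj E) b ⟶ T),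
        toH χ ≫ t = 0 → t.app (Vx n A i) s = 0 := by
  obtain ⟨φ, rfl⟩ := (AffHD.toHD_bijective hE (isAffineOpen_Vx n A i) b).2 s
  obtain ⟨N, ψ, hψ⟩ := exists_psi hE b i φ
  obtain ⟨χ, hχ⟩ := exists_chi (n := n) (A := A) (E := E) b (N : ℤ) ψ
  refine ⟨N, χ, fun T t ht => ?_⟩
  have h1 : toH φ ≫ t = 0 := hψ T t (hχ T t ht)
  have h2 := congrArg (fun g => g.app (Vx n A i) (gen (Vx n A i))) h1
  rw [toHD, homEquiv_apply]
  exact h2

theorem exists_map {K : DCoh.D (CohB1.ProjSpace n A)} (hK : DCoh.IsQCohD K) (b : ℤ) (i : Fin (n + 1))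
    (s : Γ(DCoh.HD K b, Vx n A i)) :
    ∃ (N : ℕ) (χ : (DerivedCategory.singleFunctor _ b).obj (tw n A (-(N : ℤ))) ⟶ K),
      ∀ (T : (CohB1.ProjSpace n A).Modules) (t : DCoh.HD K b ⟶ T),
        toH χ ≫ t = 0 → t.app (Vx n A i) s = 0 := by
  let E := DerivedCategory.Q.objPreimage K
  let eK : DerivedCategory.Q.obj E ≅ K := DerivedCategory.Q.objObjPreimageIso K
  have hE : DCoh.IsQCohD (DerivedCategory.Q.obj E) := QCohD.isQCohD_of_iso eK.symm hK
  let Hb := DerivedCategory.homologyFunctor (CohB1.ProjSpace n A).Modules b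
  obtain ⟨N, χ, hχ⟩ := exists_map_Q hE b i ((Hb.map eK.inv).app (Vx n A i) s)
  refine ⟨N, χ ≫ eK.hom, fun T t ht => ?_⟩
  have h1 := hχ T (Hb.map eK.hom ≫ t) (by
    rw [← Category.assoc, ← toH_comp]
    exact ht)
  have h2 : (Hb.map eK.inv ≫ Hb.map eK.hom ≫ t) = t := by
    rw [← Category.assoc, ← Functor.map_comp, Iso.inv_hom_id, CategoryTheory.Functor.map_id, Category.id_comp]
  have h3 : (Hb.map eK.inv ≫ Hb.map eK.hom ≫ t).app (Vx n A i) s = 0 := h1
  rwa [h2] at h3

/-- The hypothesis of the dévissage on `P^n_A`, for a triangulated class containing all twists. -/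
theorem topEpi_proj (R : ObjectProperty (DCoh.D (CohB1.ProjSpace n A))) [R.IsTriangulated]
    [R.IsClosedUnderIsomorphisms] (hR : ∀ d : ℤ, R (DCoh.inD _ (tw n A d))) :
    TopEpi (CohB1.ProjSpace n A) R := by
  intro K b hK hb
  have hq : Coh.IsQCoh (DCoh.HD K b) := hK.isQCohD b
  let V : Fin (n + 1) → (CohB1.ProjSpace n A).Opens := Vx n A
  have hV : ∀ i, IsAffineOpen (V i) := isAffineOpen_Vx n A
  have hfin : ∀ i, Module.Finite Γ(CohB1.ProjSpace n A, V i) Γ(DCoh.HD K b, V i) := fun i =>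
    CohqB.FiniteType2.finite_sections_of_isFT _ (hK.isFT b) (hV i)
  choose r s hs using fun i => (hfin i).exists_fin
  choose N χ hχ using fun j : (Σ i, Fin (r i)) => exists_map hK.isQCohD b j.1 (s j.1 j.2)
  have : HasFiniteBiproducts (CohB1.ProjSpace n A).Modules := HasFiniteBiproducts.of_hasFiniteProducts
  obtain ⟨ψ, hψ⟩ := exists_sum (fun j : (Σ i, Fin (r i)) => tw n A (-(N j : ℤ))) χ (by
    intro T t ht
    refine hom_eq_zero_of_span hq V hV (fun x => ProjSpaceCover.exists_mem_basicOpen_X n A x) t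
      (fun i => Set.range (s i)) (fun i => hs i) ?_
    rintro i _ ⟨k, rfl⟩
    exact hχ ⟨i, k⟩ T t (ht ⟨i, k⟩))
  have hO : ∀ (S : ObjectProperty (DCoh.D (CohB1.ProjSpace n A))) [S.IsTriangulated]
      [S.IsClosedUnderIsomorphisms], (∀ d : ℤ, S (DCoh.inD _ (tw n A d))) →
        S (DCoh.inD _ (⨁ fun j : (Σ i, Fin (r i)) => tw n A (-(N j : ℤ)))) := by
    intro S _ _ hS
    exact ExactDevissage.sg_biproduct (P := S) _ fun j => hS _
  exact ⟨_, hO R hR, hO (pcP _) (fun d => pc_of_isInvertible (isInvertible_tw n A d)), ψ, hψ⟩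

end Groth.Agent.PerfB.ProjTop
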