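import Mathlib.Algebra.Homology.DerivedCategory.ShortExact
import Mathlib.Algebra.Homology.DerivedCategory.TStructure
import Mathlib.Algebra.Homology.HomologicalComplexAbelian
import Mathlib.CategoryTheory.Triangulated.Subcategory

/-!
# A triangulated property containing the terms of a bounded complex contains the complex
-/

set_option autoImplicit false
universe w v u

open CategoryTheory CategoryTheory.Limits CategoryTheory.Pretriangulated

namespace Groth.Agent.PerfB.BoundedInd

variable {C : Type u} [Category.{v} C] [Abelian C] [HasDerivedCategory.{w} C]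

/-- the projection to the lowest term. -/
noncomputable def toLowest (L : CochainComplex C ℤ) (a : ℤ) (h : ∀ i, i < a → IsZero (L.X i)) :
    L ⟶ (HomologicalComplex.single C (ComplexShape.up ℤ) a).obj (L.X a) :=
  HomologicalComplex.mkHomToSingle (𝟙 (L.X a)) (fun i hi => by
    have : i < a := by
      have : i + 1 = a := hi
      omega
    rw [(h i this).eq_of_src (L.d i a) 0, zero_comp])

omit [HasDerivedCategory.{w} C] in
lemma shortExact (L : CochainComplex C ℤ) (a : ℤ) (h : ∀ i, i < a → IsZero (L.X i)) :
    (ShortComplex.mk (kernel.ι (toLowest L a h)) (toLowest L a h) (kernel.condition _)).ShortExact := by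
  have : Epi (toLowest L a h) := by
    have : ∀ i, Epi ((toLowest L a h).f i) := by
      intro i
      by_cases hi : i = a
      · subst hi
        dsimp [toLowest]
        rw [HomologicalComplex.mkHomToSingle_f]
        infer_instance
      · exact ⟨fun _ _ _ => (HomologicalComplex.isZero_single_obj_X _ _ _ _ hi).eq_of_src _ _⟩
    exact HomologicalComplex.epi_of_epi_f _ this
  exact { exact := ShortComplex.exact_of_f_is_kernel _ (kernelIsKernel _)
          mono_f := inferInstanceAs (Mono (kernel.ι _))
          epi_g := this }

lemma prop_single (S : ObjectProperty (DerivedCategory C)) [S.IsTriangulated]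
    [S.IsClosedUnderIsomorphisms] (X : C) (h : S ((DerivedCategory.singleFunctor C 0).obj X))
    (a : ℤ) : S ((DerivedCategory.singleFunctor C a).obj X) :=
  S.prop_of_iso (((DerivedCategory.singleFunctors C).shiftIso (-a) a 0 (by simp)).app X)
    (S.le_shift (-a) _ h)

lemma aux (S : ObjectProperty (DerivedCategory C)) [S.IsTriangulated]
    [S.IsClosedUnderIsomorphisms] (n : ℕ) : ∀ (a : ℤ) (L : CochainComplex C ℤ),
    (∀ i : ℤ, i < a ∨ a + n ≤ i → IsZero (L.X i)) →
    (∀ i : ℤ, S ((DerivedCategory.singleFunctor C 0).obj (L.X i))) →
    S (DerivedCategory.Q.obj L) := by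
  induction n with
  | zero =>
    intro a L h _
    have : IsZero L := by
      rw [IsZero.iff_id_eq_zero]
      ext i
      exact (h i (by omega)).eq_of_src _ _
    exact S.prop_of_isZero (DerivedCategory.Q.map_isZero this)
  | succ n ih =>
    intro a L h hS
    have hlow : ∀ i, i < a → IsZero (L.X i) := fun i hi => h i (Or.inl hi)
    let SC := ShortComplex.mk (kernel.ι (toLowest L a hlow)) (toLowest L a hlow)
      (kernel.condition _)
    have hSC : SC.ShortExact := shortExact L a hlow
    have hSCi : ∀ i : ℤ, (SC.map (HomologicalComplex.eval C (ComplexShape.up ℤ) i)).ShortExact :=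
      fun i => hSC.map_of_exact _
    have hiso : ∀ i : ℤ, i ≠ a → IsIso ((kernel.ι (toLowest L a hlow)).f i) := by
      intro i hi
      have hz : IsZero (SC.map (HomologicalComplex.eval C (ComplexShape.up ℤ) i)).X₃ :=
        HomologicalComplex.isZero_single_obj_X (ComplexShape.up ℤ) a (L.X a) i hi
      exact (hSCi i).isIso_f_iff.2 hz
    have hzero : IsZero ((kernel (toLowest L a hlow)).X a) := by
      have : IsIso (SC.map (HomologicalComplex.eval C (ComplexShape.up ℤ) a)).g := by
        change IsIso ((toLowest L a hlow).f a)
        dsimp [toLowest]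
        rw [HomologicalComplex.mkHomToSingle_f]
        infer_instance
      exact (hSCi a).isIso_g_iff.1 this
    have h1 : S (DerivedCategory.Q.obj (kernel (toLowest L a hlow))) := by
      refine ih (a + 1) _ (fun i hi => ?_) (fun i => ?_)
      · by_cases hia : i = a
        · subst hia; exact hzero
        · have := hiso i hia
          exact (h i (by push_cast at hi ⊢; omega)).of_iso
            (asIso ((kernel.ι (toLowest L a hlow)).f i))
      · by_cases hia : i = a
        · subst hia
          exact S.prop_of_isZero ((DerivedCategory.singleFunctor C 0).map_isZero hzero)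
        · have := hiso i hia
          exact S.prop_of_iso ((DerivedCategory.singleFunctor C 0).mapIso
            (asIso ((kernel.ι (toLowest L a hlow)).f i)).symm) (hS i)
    have h3 : S ((DerivedCategory.singleFunctor C a).obj (L.X a)) :=
      prop_single S _ (hS a) a
    exact S.ext_of_isTriangulatedClosed₂ _ (DerivedCategory.triangleOfSES_distinguished hSC) h1 h3

/-- A triangulated property containing the terms of a bounded complex contains the complex. -/
theorem bounded_induction (S : ObjectProperty (DerivedCategory C)) [S.IsTriangulated]
    [S.IsClosedUnderIsomorphisms] (L : CochainComplex C ℤ) (a b : ℤ)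
    (h : ∀ i : ℤ, i < a ∨ b < i → IsZero (L.X i))
    (hS : ∀ i : ℤ, S ((DerivedCategory.singleFunctor C 0).obj (L.X i))) :
    S (DerivedCategory.Q.obj L) :=
  aux S (b + 1 - a).toNat a L (fun i hi => h i (by omega)) hS

end Groth.Agent.PerfB.BoundedInd
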