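import Groth.Agent.PerfB.PCDesc
import Groth.Agent.PerfA.CohSerre
import Groth.Agent.PerfA.CohomIn
import Groth.Agent.CohqB.QC6

/-!
# Pseudo-coherence on locally Noetherian schemes
-/

set_option autoImplicit false
universe u
open CategoryTheory CategoryTheory.Limits AlgebraicGeometry CategoryTheory.Pretriangulated
attribute [local instance] HasDerivedCategory.standard

namespace Groth.Agent.PerfB.PCNoeth
open Groth.Agent.PerfA Groth.Agent.PerfA.Restrict Groth.Agent.PerfC.PcLocal
open Groth.Agent.PerfB.PCLift Groth.Agent.PerfB.PCCone Groth.Agent.PerfB.PCDesc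
open Groth.Agent.PerfA.CohSerre

variable {X : Scheme.{u}}

/-- Extensions of coherent modules on a locally Noetherian scheme are coherent. -/
instance [IsLocallyNoetherian X] : (cohp X).IsClosedUnderExtensions where
  prop_X₂_of_shortExact {S} hS h1 h3 := by
    have hq : Coh.IsQCoh S.X₂ := CohqB.QC6.isQCoh_of_shortExact₂ hS h1.1 h3.1
    have := hS.mono_f
    have := h1.1
    have := h3.1
    exact ⟨hq, CohqB.FiniteType2.isFT_of_exact S hS.exact h1.2 h3.2⟩

/-- The cohomology of a strictly perfect complex on a locally Noetherian scheme is coherent. -/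
lemma isCoh_HD_of_isStrictlyPerfect [IsLocallyNoetherian X] {E : CochainComplex X.Modules ℤ}
    (hE : DCoh.IsStrictlyPerfect E) (i : ℤ) : Coh.IsCoh (DCoh.HD (DerivedCategory.Q.obj E) i) :=
  CohomIn.coh_Q_of_terms (cohp X) E (fun i => isCoh_of_isFinLocFree (hE.2 i)) i

/-- (←): bounded above complexes with coherent cohomology in degrees `≥ m` are `m`-pseudo-coherent. -/
theorem pc_of_isCoh (k : ℕ) : ∀ {X : Scheme.{u}} [IsLocallyNoetherian X] (K : DCoh.D X) (b m : ℤ)
    (_ : K.IsLE b) (_ : b - m < k) (_ : ∀ i : ℤ, m ≤ i → Coh.IsCoh (DCoh.HD K i)),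
      DCoh.IsPseudoCoherentD m K := by
  induction k with
  | zero =>
    intro X _ K b m hb hk hK
    exact pc_of_vanish fun i hi => K.isZero_of_isLE b i (by push_cast at hk; omega)
  | succ k ih =>
    intro X _ K b m hb hk hK
    by_cases hbm : b < m
    · exact pc_of_vanish fun i hi => K.isZero_of_isLE b i (by omega)
    apply pc_of_cover
    intro x
    obtain ⟨U, j, hj, y, n, α, rfl, hα⟩ := exists_free_approx K b (hK b (by omega)).2 x
    refine ⟨U, j, hj, y, rfl, ?_⟩
    have hU : IsLocallyNoetherian U := isLocallyNoetherian_of_isOpenImmersion j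
    obtain ⟨C, β, γ, hT⟩ := distinguished_cocone_triangle α
    let T := Triangle.mk α β γ
    have hL : (DerivedCategory.Q.obj (freeCx U n b)).IsLE b := by
      have : (freeCx U n b).IsStrictlyLE b :=
        (CochainComplex.isStrictlyLE_iff _ _).2 fun i hi =>
          HomologicalComplex.isZero_single_obj_X _ _ _ _ (by omega)
      infer_instance
    have hC : C.IsLE (b - 1) := isLE_obj₃ T hT b hL (ExactD.isLE_map _ K b) hα (b - 1) (by omega)
    have h1 : ∀ i, Coh.IsCoh (DCoh.HD T.obj₁ i) := fun i =>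
      isCoh_HD_of_isStrictlyPerfect (isStrictlyPerfect_freeCx n b) i
    have h2 : ∀ i, m ≤ i → Coh.IsCoh (DCoh.HD T.obj₂ i) := fun i hi =>
      isCoh_of_iso (HDrestrict j K i).symm (isCoh_restrict j (hK i hi))
    have h3 : ∀ i, m ≤ i → Coh.IsCoh (DCoh.HD C i) := fun i hi =>
      CohomIn.prop_middle (cohp U) _ _ _ _ _ _ _ (DerivedCategory.HomologySequence.exact₂ T hT i)
        (DerivedCategory.HomologySequence.exact₃ T hT i (i + 1) rfl)
        (DerivedCategory.HomologySequence.exact₁ T hT i (i + 1) rfl)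
        (h1 _) (h2 _ hi) (h1 _) (h2 _ (by omega))
    have hCm : DCoh.IsPseudoCoherentD m C := ih C (b - 1) m hC (by push_cast at hk; omega) h3
    exact (S0889.result m T hT).2.1
      (pc_of_isStrictlyPerfect (isStrictlyPerfect_freeCx n b) _) hCm

/-- (→) -/
theorem isCoh_of_pc [IsLocallyNoetherian X] (K : DCoh.D X) (m : ℤ)
    (hK : DCoh.IsPseudoCoherentD m K) (i : ℤ) (hi : m < i) : Coh.IsCoh (DCoh.HD K i) := by
  refine isCoh_of_restrict _ fun x => ?_
  obtain ⟨V, hx, E, α, hE, h1, -⟩ := (pc_iff m K).1 hK x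
  have := h1 i hi
  refine ⟨V, hx, isCoh_of_iso ?_ (isCoh_HD_of_isStrictlyPerfect hE i)⟩
  exact asIso ((DerivedCategory.homologyFunctor _ i).map α) ≪≫ HDrestrict V.ι K i

theorem isFT_of_pc [IsLocallyNoetherian X] (K : DCoh.D X) (m : ℤ)
    (hK : DCoh.IsPseudoCoherentD m K) : CohB1.IsFT (DCoh.HD K m) := by
  refine isFT_of_restrict _ fun x => ?_
  obtain ⟨V, hx, E, α, hE, -, h2⟩ := (pc_iff m K).1 hK x
  refine ⟨V, hx, isFT_of_iso (HDrestrict V.ι K m) ?_⟩
  exact CohqB.FiniteType.IsFT.of_epi (isCoh_HD_of_isStrictlyPerfect hE m).2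
    ((DerivedCategory.homologyFunctor _ m).map α)

end Groth.Agent.PerfB.PCNoeth
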