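import Groth.Prelude.Def_DCoh2
import Groth.Agent.PerfA.Restrict
import Groth.Agent.PerfA.AffVan
import Groth.Agent.Dcoh.DerAdj
import Groth.Agent.S0476

/-!
# Derived adjunction for an open immersion

* `hasKInj X`: complexes of `O_X`-modules have K-injective resolutions (from S0476);
* for an open immersion `j : U ⟶ X` (and any `[HasRpush j]`) an adjunction `restrictD j ⊣ Rpush j`
  whose counit is an isomorphism.
-/

set_option autoImplicit false
universe u
open CategoryTheory CategoryTheory.Limits AlgebraicGeometry
attribute [local instance] HasDerivedCategory.standard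

namespace Groth.Agent.PerfB.OpenAdj
open AlgebraicGeometry.Scheme.Modules
open Groth.Agent.Dcoh.DerAbs Groth.Agent.Dcoh.DerHo Groth.Agent.Dcoh.DerAdj
open Groth.Agent.PerfA

/-- Complexes of `O_X`-modules have K-injective resolutions. -/
theorem hasKInj (X : Scheme.{u}) : HasKInj X.Modules := by
  have := AffVan.isGrothendieckAbelian X
  intro K
  obtain ⟨I, f, h1, h2, -, -⟩ := Groth.Agent.S0476.result K
  exact ⟨I, f, h1, h2⟩

/-- `Rf_*` exists for every morphism of schemes. -/
theorem hasRpush {X Y : Scheme.{u}} (f : X ⟶ Y) : DCoh.HasRpush f :=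
  hasRightDerivedFunctor (hasKInj X) _

section Exact

universe w w' v v' u₁ u₂
variable {A : Type u₁} [Category.{v} A] [Abelian A] [HasDerivedCategory.{w} A]
  {B : Type u₂} [Category.{v'} B] [Abelian B] [HasDerivedCategory.{w'} B]
  {F : A ⥤ B} {G : B ⥤ A} [F.Additive] [G.Additive] [PreservesFiniteLimits F]
  [PreservesFiniteColimits F] (adj : F ⊣ G)

variable (F) in
/-- All complexes are adapted to an exact functor. -/
lemma leftData_exact :
    LeftData (𝟭 _) (HomotopyCategory.quasiIso A (ComplexShape.up ℤ))
      (F.mapHomotopyCategory (ComplexShape.up ℤ) ⋙ DerivedCategory.Qh) (ofCx ⊤) :=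
  leftDataMap F ⊤ (fun K => ⟨K, 𝟙 K, trivial, inferInstance⟩) (fun _ _ _ _ => inferInstance)

/-- If `F` is exact with right adjoint `G` then `D(F) ⊣ RG`, with compatibility of units and
counits. -/
theorem exists_adj (hB : HasKInj B) (RG : DerivedCategory B ⥤ DerivedCategory A)
    (β : G.mapHomotopyCategory (ComplexShape.up ℤ) ⋙ DerivedCategory.Qh ⟶ DerivedCategory.Qh ⋙ RG)
    [RG.IsRightDerivedFunctor β (HomotopyCategory.quasiIso B (ComplexShape.up ℤ))] :
    ∃ (dadj : F.mapDerivedCategory ⊣ RG),
    (∀ K : HomotopyCategory A (ComplexShape.up ℤ),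
      dadj.unit.app (DerivedCategory.Qh.obj K) ≫ RG.map (F.mapDerivedCategoryFactorsh.hom.app K) =
        DerivedCategory.Qh.map ((adjHo adj (ComplexShape.up ℤ)).unit.app K) ≫
          β.app ((F.mapHomotopyCategory (ComplexShape.up ℤ)).obj K)) ∧
    (∀ K : HomotopyCategory B (ComplexShape.up ℤ),
      F.mapDerivedCategory.map (β.app K) ≫ dadj.counit.app (DerivedCategory.Qh.obj K) =
        F.mapDerivedCategoryFactorsh.hom.app ((G.mapHomotopyCategory (ComplexShape.up ℤ)).obj K) ≫
          DerivedCategory.Qh.map ((adjHo adj (ComplexShape.up ℤ)).counit.app K)) := by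
  have := Functor.isLeftDerivedFunctor_of_inverts
    (HomotopyCategory.quasiIso A (ComplexShape.up ℤ)) (F.mapDerivedCategory)
    F.mapDerivedCategoryFactorsh
  exact exists_derivedAdj adj hB (leftData_exact F) F.mapDerivedCategory
    F.mapDerivedCategoryFactorsh.hom RG β

/-- If the underived counit is an isomorphism, so is the derived counit. -/
theorem isIso_counit_of (hB : HasKInj B) (RG : DerivedCategory B ⥤ DerivedCategory A)
    (β : G.mapHomotopyCategory (ComplexShape.up ℤ) ⋙ DerivedCategory.Qh ⟶ DerivedCategory.Qh ⋙ RG)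
    [RG.IsRightDerivedFunctor β (HomotopyCategory.quasiIso B (ComplexShape.up ℤ))]
    [IsIso adj.counit]
    (dadj : F.mapDerivedCategory ⊣ RG)
    (h : ∀ K : HomotopyCategory B (ComplexShape.up ℤ),
      F.mapDerivedCategory.map (β.app K) ≫ dadj.counit.app (DerivedCategory.Qh.obj K) =
        F.mapDerivedCategoryFactorsh.hom.app ((G.mapHomotopyCategory (ComplexShape.up ℤ)).obj K) ≫
          DerivedCategory.Qh.map ((adjHo adj (ComplexShape.up ℤ)).counit.app K)) :
    IsIso dadj.counit := by
  have hc : ∀ K : HomologicalComplex B (ComplexShape.up ℤ),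
      IsIso ((adjCx adj (ComplexShape.up ℤ)).counit.app K) := fun K => by
    have : ∀ i, IsIso (((adjCx adj (ComplexShape.up ℤ)).counit.app K).f i) := fun i =>
      inferInstanceAs (IsIso (adj.counit.app (K.X i)))
    exact HomologicalComplex.Hom.isIso_of_components _
  have hh : ∀ K : HomotopyCategory B (ComplexShape.up ℤ),
      IsIso ((adjHo adj (ComplexShape.up ℤ)).counit.app K) := fun K => by
    have := hc K.as
    exact inferInstanceAs (IsIso ((HomotopyCategory.quotient B _).map
      ((adjCx adj (ComplexShape.up ℤ)).counit.app K.as)))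
  have key : ∀ I : CochainComplex B ℤ, I.IsKInjective →
      IsIso (dadj.counit.app (DerivedCategory.Qh.obj ((HomotopyCategory.quotient B _).obj I))) := by
    intro I hI
    have := isIso_unit_app' hB RG β I hI
    have := hh ((HomotopyCategory.quotient B _).obj I)
    have : IsIso (F.mapDerivedCategory.map (β.app ((HomotopyCategory.quotient B _).obj I)) ≫
        dadj.counit.app (DerivedCategory.Qh.obj ((HomotopyCategory.quotient B _).obj I))) := by
      rw [h]; infer_instance
    exact IsIso.of_isIso_comp_left
      (F.mapDerivedCategory.map (β.app ((HomotopyCategory.quotient B _).obj I))) _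
  have : ∀ K : DerivedCategory B, IsIso (dadj.counit.app K) := by
    intro K
    obtain ⟨L, ⟨e⟩⟩ : ∃ L : CochainComplex B ℤ, Nonempty (DerivedCategory.Q.obj L ≅ K) :=
      ⟨DerivedCategory.Q.objPreimage K, ⟨DerivedCategory.Q.objObjPreimageIso K⟩⟩
    obtain ⟨I, f, hI, hf⟩ := hB L
    have : IsIso (DerivedCategory.Q.map f) := by infer_instance
    let e' : DerivedCategory.Qh.obj ((HomotopyCategory.quotient B _).obj I) ≅ K :=
      (DerivedCategory.quotientCompQhIso B).app I ≪≫ (asIso (DerivedCategory.Q.map f)).symm ≪≫ e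
    exact (NatTrans.isIso_app_iff_of_iso dadj.counit e').1 (key I hI)
  exact NatIso.isIso_of_isIso_app _

end Exact

/-- For an adjunction with invertible counit, the left adjoint inverts the unit. -/
theorem isIso_map_unit_of_isIso_counit {C D : Type*} [Category* C] [Category* D] {L : C ⥤ D}
    {R : D ⥤ C} (adj : L ⊣ R) [IsIso adj.counit] (K : C) : IsIso (L.map (adj.unit.app K)) := by
  have h1 : IsIso (𝟙 (L.obj K)) := IsIso.id _
  exact IsIso.of_isIso_fac_right (adj.left_triangle_components K)

variable {X U : Scheme.{u}} (j : U ⟶ X) [IsOpenImmersion j] [DCoh.HasRpush j]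

/-- The derived adjunction `j^* ⊣ Rj_*` of an open immersion, with invertible counit. -/
theorem exists_openAdj : ∃ (dadj : Restrict.restrictD j ⊣ DCoh.Rpush j), IsIso dadj.counit ∧
    (∀ K : HomotopyCategory X.Modules (ComplexShape.up ℤ),
      dadj.unit.app (DerivedCategory.Qh.obj K) ≫
          (DCoh.Rpush j).map ((restrictFunctor j).mapDerivedCategoryFactorsh.hom.app K) =
        DerivedCategory.Qh.map ((adjHo (restrictAdjunction j) (ComplexShape.up ℤ)).unit.app K) ≫
          ((DCoh.pushKh j).totalRightDerivedUnit DerivedCategory.Qh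
            (HomotopyCategory.quasiIso U.Modules (ComplexShape.up ℤ))).app
              (((restrictFunctor j).mapHomotopyCategory (ComplexShape.up ℤ)).obj K)) := by
  obtain ⟨dadj, h1, h2⟩ := exists_adj (restrictAdjunction j) (hasKInj U) (DCoh.Rpush j)
    ((DCoh.pushKh j).totalRightDerivedUnit DerivedCategory.Qh
      (HomotopyCategory.quasiIso U.Modules (ComplexShape.up ℤ)))
  exact ⟨dadj, isIso_counit_of (restrictAdjunction j) (hasKInj U) (DCoh.Rpush j) _ dadj h2, h1⟩

/-- The derived adjunction `j^* ⊣ Rj_*` of an open immersion. -/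
noncomputable def openAdj : Restrict.restrictD j ⊣ DCoh.Rpush j := (exists_openAdj j).choose

instance isIso_openAdj_counit : IsIso (openAdj j).counit := (exists_openAdj j).choose_spec.1

instance : (DCoh.Rpush j).Full := (openAdj j).fullyFaithfulROfIsIsoCounit.full
instance : (DCoh.Rpush j).Faithful := (openAdj j).fullyFaithfulROfIsIsoCounit.faithful

/-- The restriction of the unit `K ⟶ Rj_* j^* K` is an isomorphism. -/
instance isIso_restrictD_map_unit (K : DCoh.D X) :
    IsIso ((Restrict.restrictD j).map ((openAdj j).unit.app K)) :=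
  isIso_map_unit_of_isIso_counit (openAdj j) K

end Groth.Agent.PerfB.OpenAdj
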