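import Mathlib.RingTheory.Finiteness.Projective
import Mathlib.Algebra.Module.Projective
import Mathlib.RingTheory.Flat.FaithfullyFlat.Algebra
import Mathlib.RingTheory.Spectrum.Prime.Basic

/-!
# Evaluation at one: `Hom_R(B, M) → M` is surjective for `B` a faithful finite projective algebra
-/

universe u v w

namespace Groth.Agent.PerfB.EvalOne

variable {R : Type u} {B : Type v} [CommRing R] [CommRing B] [Algebra R B]

/-- If `B` is a projective `R`-module and `Spec B → Spec R` hits all closed points, there is a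
linear functional `ψ : B → R` with `ψ 1 = 1`. -/
theorem exists_functional [Module.Projective R B]
    (h : ∀ m : Ideal R, m.IsMaximal → m.map (algebraMap R B) ≠ ⊤) :
    ∃ ψ : B →ₗ[R] R, ψ 1 = 1 := by
  let I : Ideal R := LinearMap.range (LinearMap.applyₗ (R := R) (M := B) (M₂ := R) (1 : B))
  suffices hI : I = ⊤ by
    have : (1 : R) ∈ I := hI ▸ Submodule.mem_top
    obtain ⟨ψ, hψ⟩ := this
    exact ⟨ψ, hψ⟩
  by_contra hne
  obtain ⟨m, hm, hIm⟩ := Ideal.exists_le_maximal I hne
  apply h m hm
  rw [Ideal.eq_top_iff_one]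
  -- choose a section of `(B →₀ R) → B`
  obtain ⟨s, hs⟩ := (Module.projective_def' (R := R) (P := B)).mp inferInstance
  have h1 : (Finsupp.linearCombination R id) (s (1 : B)) = (1 : B) := by
    have := LinearMap.congr_fun hs (1 : B)
    simpa using this
  rw [← h1, Finsupp.linearCombination_apply, Finsupp.sum]
  refine Submodule.sum_mem _ fun b _ => ?_
  rw [Algebra.smul_def]
  refine Ideal.mul_mem_right _ _ (Ideal.mem_map_of_mem _ (hIm ?_))
  exact ⟨(Finsupp.lapply b).comp s, rfl⟩

/-- Evaluation at `1`, `Hom_R(B, M) → M`, is surjective for `B` projective over `R` with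
`Spec B → Spec R` hitting all closed points. -/
theorem eval_one_surjective [Module.Projective R B]
    (h : ∀ m : Ideal R, m.IsMaximal → m.map (algebraMap R B) ≠ ⊤)
    {M : Type w} [AddCommGroup M] [Module R M] (x : M) :
    ∃ φ : B →ₗ[R] M, φ 1 = x := by
  obtain ⟨ψ, hψ⟩ := exists_functional (R := R) (B := B) h
  exact ⟨(LinearMap.toSpanSingleton R M x).comp ψ, by simp [hψ]⟩

theorem map_ne_top_of_comap_surjective
    (h : Function.Surjective (PrimeSpectrum.comap (algebraMap R B))) :
    ∀ m : Ideal R, m.IsMaximal → m.map (algebraMap R B) ≠ ⊤ := by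
  intro m hm htop
  obtain ⟨q, hq⟩ := h ⟨m, hm.isPrime⟩
  have h1 : m = q.asIdeal.comap (algebraMap R B) := by
    have := congr_arg PrimeSpectrum.asIdeal hq
    simpa using this.symm
  have h2 : m.map (algebraMap R B) ≤ q.asIdeal := Ideal.map_le_iff_le_comap.mpr h1.le
  rw [htop] at h2
  exact q.isPrime.ne_top (top_le_iff.mp h2)

end Groth.Agent.PerfB.EvalOne
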