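import Groth.Agent.PerfB.AffHom
import Groth.Agent.PerfB.EvalOne
import Groth.Agent.Desc.FinLocFreeSections
import Groth.Agent.VarietyB.PullSec
import Groth.Agent.FormalA.PullbackQC
import Groth.Agent.PerfA.QCohEpi
import Groth.Agent.Fdesc.StructMod
import Groth.Prelude.Def_Mor2
import Groth.Prelude.Def_PerfAux

/-!
# Finite locally free morphisms: pushforward of finite locally free modules, and the evaluation map
`f_* f^* Hom(f_* O_X, M) ⟶ M` (helper342)
-/

set_option autoImplicit false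
universe u

open CategoryTheory CategoryTheory.Limits AlgebraicGeometry Opposite TopologicalSpace
open Groth.Agent.Ega1.QCohLoc (res resO IsLocAt IsLocOnAffines)
open scoped TensorProduct

namespace Groth.Agent.PerfB.PushFLF

open Groth.Agent.CohqB.HomSheaf Groth.Agent.VarietyB.PullSec

variable {X Y : Scheme.{u}} (f : X ⟶ Y)

section Affine

variable {f} {V : Y.Opens}

/-- The algebra of functions on the preimage of an open. -/
noncomputable abbrev algPre (f : X ⟶ Y) (V : Y.Opens) : Algebra Γ(Y, V) Γ(X, f ⁻¹ᵁ V) :=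
  (f.app V).hom.toAlgebra

theorem finite_pre [IsFinite f] (hV : IsAffineOpen V) :
    letI := algPre f V
    Module.Finite Γ(Y, V) Γ(X, f ⁻¹ᵁ V) :=
  IsFinite.finite_app f V hV

theorem flat_pre [Flat f] [IsAffineHom f] (hV : IsAffineOpen V) :
    letI := algPre f V
    Module.Flat Γ(Y, V) Γ(X, f ⁻¹ᵁ V) := by
  have h1 := f.flat_appLE hV (hV.preimage f) le_rfl
  rw [Scheme.Hom.appLE_eq_app] at h1
  exact h1

theorem finitePresentation_pre [IsFinite f] [LocallyOfFinitePresentation f] (hV : IsAffineOpen V) :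
    letI := algPre f V
    Module.FinitePresentation Γ(Y, V) Γ(X, f ⁻¹ᵁ V) := by
  letI := algPre f V
  have hfin : Module.Finite Γ(Y, V) Γ(X, f ⁻¹ᵁ V) := finite_pre hV
  have hfp : Algebra.FinitePresentation Γ(Y, V) Γ(X, f ⁻¹ᵁ V) := by
    have h1 := f.finitePresentation_appLE hV (hV.preimage f) le_rfl
    rw [Scheme.Hom.appLE_eq_app] at h1
    exact h1
  exact Module.FinitePresentation.of_finite_of_finitePresentation _ _

theorem projective_pre [IsFinite f] [Flat f] [LocallyOfFinitePresentation f]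
    (hV : IsAffineOpen V) :
    letI := algPre f V
    Module.Projective Γ(Y, V) Γ(X, f ⁻¹ᵁ V) := by
  letI := algPre f V
  have := finitePresentation_pre (f := f) hV
  have := flat_pre (f := f) hV
  exact Module.Flat.projective_of_finitePresentation

end Affine

theorem comap_pre_surjective (f : X ⟶ Y) [IsAffineHom f] [Surjective f] {V : Y.Opens}
    (hV : IsAffineOpen V) :
    letI := algPre f V
    Function.Surjective (PrimeSpectrum.comap (algebraMap Γ(Y, V) Γ(X, f ⁻¹ᵁ V))) := by
  letI := algPre f V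
  intro p
  obtain ⟨x, hx⟩ := f.surjective (hV.fromSpec p)
  have hyV : hV.fromSpec p ∈ V := by
    have : hV.fromSpec p ∈ hV.fromSpec.opensRange := ⟨p, rfl⟩
    rwa [hV.opensRange_fromSpec] at this
  have hxV : x ∈ f ⁻¹ᵁ V := by
    change f x ∈ V
    rw [hx]
    exact hyV
  refine ⟨(hV.preimage f).primeIdealOf ⟨x, hxV⟩, ?_⟩
  have h1 := IsAffineOpen.comap_primeIdealOf_appLE (f := f) V hV (f ⁻¹ᵁ V) (hV.preimage f)
    le_rfl hxV
  rw [Scheme.Hom.appLE_eq_app] at h1
  refine h1.trans ?_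
  apply hV.fromSpec.isOpenEmbedding.injective
  rw [hV.fromSpec_primeIdealOf]
  exact hx

/-- The pushforward of a finite locally free module along a finite locally free morphism. -/
theorem isFinLocFree_pushforward [IsFinite f] [Flat f] [LocallyOfFinitePresentation f]
    {E : X.Modules} (hE : FlatMod.IsFinLocFree E) :
    FlatMod.IsFinLocFree ((Scheme.Modules.pushforward f).obj E) := by
  have hEq : Coh.IsQCoh E := Groth.Agent.PerfA.QCohEpi.isQCoh_of_isFinLocFree hE
  have hq : Coh.IsQCoh ((Scheme.Modules.pushforward f).obj E) :=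
    Groth.Agent.Ega1.QcqsPush.isQCoh_pushforward f E hEq
  have hc : ∀ {Z : Scheme.{u}} (x : Z), ∃ V : Z.Opens, True ∧ IsAffineOpen V ∧ x ∈ V := by
    intro Z x
    obtain ⟨V, hV, hx, -⟩ := exists_isAffineOpen_mem_and_subset (x := x) (U := ⊤) trivial
    exact ⟨V, trivial, hV, hx⟩
  rw [Groth.Agent.Desc.FinLocFreeSections.isFinLocFree_iff_of_cover hq (fun _ => True) hc]
  rw [Groth.Agent.Desc.FinLocFreeSections.isFinLocFree_iff_of_cover hEq (fun _ => True) hc] at hE
  intro W _ hW
  let : Algebra Γ(Y, W) Γ(X, f ⁻¹ᵁ W) := (f.app W).hom.toAlgebra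
  let : Module Γ(X, f ⁻¹ᵁ W) Γ((Scheme.Modules.pushforward f).obj E, W) :=
    inferInstanceAs (Module Γ(X, f ⁻¹ᵁ W) Γ(E, f ⁻¹ᵁ W))
  have : IsScalarTower Γ(Y, W) Γ(X, f ⁻¹ᵁ W) Γ((Scheme.Modules.pushforward f).obj E, W) :=
    ⟨fun a b c => mul_smul (f.app W a) b (show Γ(E, f ⁻¹ᵁ W) from c)⟩
  have h1 : Module.FinitePresentation Γ(Y, W) Γ(X, f ⁻¹ᵁ W) := finitePresentation_pre hW
  have h2 : Module.Flat Γ(Y, W) Γ(X, f ⁻¹ᵁ W) := flat_pre hW
  obtain ⟨h3, h4⟩ := hE (f ⁻¹ᵁ W) trivial (hW.preimage f)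
  have h3' : Module.FinitePresentation Γ(X, f ⁻¹ᵁ W) Γ((Scheme.Modules.pushforward f).obj E, W) := h3
  have h4' : Module.Flat Γ(X, f ⁻¹ᵁ W) Γ((Scheme.Modules.pushforward f).obj E, W) := h4
  exact ⟨Module.FinitePresentation.trans Γ(Y, W) _ Γ(X, f ⁻¹ᵁ W),
    Module.Flat.trans Γ(Y, W) Γ(X, f ⁻¹ᵁ W) _⟩


/-! ### The module `Hom_Y(f_* O_X, M)` -/

theorem finite_hom_of_projective {R P M : Type*} [CommRing R] [AddCommGroup P] [Module R P]
    [AddCommGroup M] [Module R M] [Module.Finite R P] [Module.Projective R P] [Module.Finite R M] :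
    Module.Finite R (P →ₗ[R] M) := by
  obtain ⟨n, p, hp⟩ := Module.Finite.exists_fin' R P
  obtain ⟨i, hi⟩ := Module.projective_lifting_property p LinearMap.id hp
  have : Function.Surjective (LinearMap.lcomp R M i) := by
    intro ψ
    refine ⟨ψ.comp p, ?_⟩
    ext x
    exact congrArg ψ (LinearMap.congr_fun hi x)
  exact Module.Finite.of_surjective _ this

/-- `f_* O_X`. -/
noncomputable abbrev pushO : Y.Modules := (Scheme.Modules.pushforward f).obj (Coh.structureModule X)

/-- `Hom_Y(f_* O_X, M)`. -/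
noncomputable abbrev homO (M : Y.Modules) : Y.Modules := homSheaf (pushO f) M

theorem isQCoh_pushO [QuasiCompact f] [QuasiSeparated f] : Coh.IsQCoh (pushO f) :=
  Groth.Agent.Ega1.QcqsPush.isQCoh_pushforward f _
    (Groth.Agent.Fdesc.StructMod.isQCoh_structureModule X)

/-- Sections of `f_* O_X`. -/
noncomputable def pushOEquiv (V : Y.Opens) :
    letI := algPre f V
    Γ(X, f ⁻¹ᵁ V) ≃ₗ[Γ(Y, V)] Γ(pushO f, V) :=
  letI := algPre f V
  { toFun := fun b => b
    invFun := fun b => b
    left_inv := fun _ => rfl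
    right_inv := fun _ => rfl
    map_add' := fun _ _ => rfl
    map_smul' := fun _ _ => rfl }

theorem finitePresentation_pushO [IsFinite f] [LocallyOfFinitePresentation f]
    {V : Y.Opens} (hV : IsAffineOpen V) : Module.FinitePresentation Γ(Y, V) Γ(pushO f, V) := by
  letI := algPre f V
  have := finitePresentation_pre (f := f) hV
  exact Module.FinitePresentation.of_equiv (pushOEquiv f V)

theorem projective_pushO [IsFinite f] [Flat f] [LocallyOfFinitePresentation f]
    {V : Y.Opens} (hV : IsAffineOpen V) : Module.Projective Γ(Y, V) Γ(pushO f, V) := by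
  letI := algPre f V
  have := projective_pre (f := f) hV
  exact Module.Projective.of_equiv (pushOEquiv f V)

theorem isQCoh_homO [IsFinite f] [LocallyOfFinitePresentation f] {M : Y.Modules}
    (hM : Coh.IsQCoh M) : Coh.IsQCoh (homO f M) :=
  isQCoh_homSheaf (isQCoh_pushO f) hM fun _ hU => finitePresentation_pushO f hU

theorem isFT_homO [IsFinite f] [Flat f] [LocallyOfFinitePresentation f] {M : Y.Modules}
    (hM : Coh.IsQCoh M) (hft : CohB1.IsFT M) : CohB1.IsFT (homO f M) := by
  have := isQCoh_homO f hM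
  refine CohqB.FiniteType2.isFT_of_finite_sections _ fun y => ?_
  obtain ⟨V, hV, hx, -⟩ := exists_isAffineOpen_mem_and_subset (x := y) (U := ⊤) trivial
  refine ⟨V, hx, hV, ?_⟩
  have h1 := finitePresentation_pushO f hV
  have h2 := projective_pushO f hV
  have h3 := CohqB.FiniteType2.finite_sections_of_isFT M hft hV
  have h4 : Module.Finite Γ(Y, V) (Γ(pushO f, V) →ₗ[Γ(Y, V)] Γ(M, V)) := finite_hom_of_projective
  exact Module.Finite.equiv (affineEquiv (isQCoh_pushO f) hV).symm

/-! ### The evaluation map -/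

section Eval

variable {f} {M : Y.Modules} {V : Y.Opens}

/-- The canonical map `Γ(H, V) → Γ(f^* H, f⁻¹ V)`. -/
noncomputable abbrev sc (H : Y.Modules) (V : Y.Opens) :
    Γ(H, V) →+ Γ((Scheme.Modules.pullback f).obj H, f ⁻¹ᵁ V) :=
  sec f H (le_refl (f ⁻¹ᵁ V))

/-- Additive maps out of `Γ(f^* H, f⁻¹ V)` agreeing on `b • s` are equal. -/
theorem pullback_induction [IsAffineHom f] {H : Y.Modules} (hH : Coh.IsQCoh H)
    (hV : IsAffineOpen V) (P : Γ((Scheme.Modules.pullback f).obj H, f ⁻¹ᵁ V) → Prop)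
    (h : ∀ (b : Γ(X, f ⁻¹ᵁ V)) (s : Γ(H, V)), P (b • sc H V s))
    (hadd : ∀ x y, P x → P y → P (x + y))
    (x : Γ((Scheme.Modules.pullback f).obj H, f ⁻¹ᵁ V)) : P x := by
  letI : Algebra Γ(Y, V) Γ(X, f ⁻¹ᵁ V) := (f.appLE V (f ⁻¹ᵁ V) le_rfl).hom.toAlgebra
  letI := secModule f H (le_refl (f ⁻¹ᵁ V))
  haveI : IsScalarTower Γ(Y, V) Γ(X, f ⁻¹ᵁ V) Γ((Scheme.Modules.pullback f).obj H, f ⁻¹ᵁ V) :=
    ⟨fun a b c => by rw [Algebra.smul_def, mul_smul]; rfl⟩
  have hb := isBaseChange_secₗ f H le_rfl hH hV (hV.preimage f)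
  obtain ⟨t, rfl⟩ := hb.equiv.surjective x
  induction t using TensorProduct.induction_on with
  | zero =>
    have := h 0 0
    rw [zero_smul] at this
    rwa [map_zero]
  | tmul b s =>
    rw [hb.equiv_tmul]
    exact h b s
  | add x y hx hy =>
    rw [map_add]
    exact hadd _ _ hx hy

/-- Evaluation: there is an additive map `Γ(f^* Hom(f_* O_X, M), f⁻¹ V) → Γ(M, V)`,
`b • s ↦ s(b)`. -/
theorem exists_eval [IsAffineHom f] {M : Y.Modules} (hH : Coh.IsQCoh (homO f M))
    (hV : IsAffineOpen V) :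
    ∃ θ : Γ((Scheme.Modules.pullback f).obj (homO f M), f ⁻¹ᵁ V) →+ Γ(M, V),
      ∀ (b : Γ(X, f ⁻¹ᵁ V)) (s : Γ(homO f M, V)), θ (b • sc _ V s) =
        comp s V le_rfl (pushOEquiv f V b) := by
  letI : Algebra Γ(Y, V) Γ(X, f ⁻¹ᵁ V) := (f.appLE V (f ⁻¹ᵁ V) le_rfl).hom.toAlgebra
  letI := secModule f (homO f M) (le_refl (f ⁻¹ᵁ V))
  haveI : IsScalarTower Γ(Y, V) Γ(X, f ⁻¹ᵁ V)
      Γ((Scheme.Modules.pullback f).obj (homO f M), f ⁻¹ᵁ V) :=
    ⟨fun a b c => by rw [Algebra.smul_def, mul_smul]; rfl⟩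
  have hb := isBaseChange_secₗ f (homO f M) le_rfl hH hV (hV.preimage f)
  let β : Γ(X, f ⁻¹ᵁ V) →ₗ[Γ(Y, V)] Γ(homO f M, V) →ₗ[Γ(Y, V)] Γ(M, V) :=
    LinearMap.mk₂ Γ(Y, V) (fun b s => comp s V le_rfl (pushOEquiv f V b))
      (fun b b' s => by rw [map_add, map_add])
      (fun r b s => by
        have : r • b = f.app V r * b := by
          rw [Algebra.smul_def]
          change f.appLE V (f ⁻¹ᵁ V) le_rfl r * b = _
          rw [Scheme.Hom.appLE_eq_app]
        rw [this]
        exact (comp s V le_rfl).map_smul r (pushOEquiv f V b))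
      (fun b s s' => rfl)
      (fun r b s => LinearMap.congr_fun (comp_self_smul r s) _)
  refine ⟨(TensorProduct.lift β).toAddMonoidHom.comp hb.equiv.symm.toLinearMap.toAddMonoidHom, ?_⟩
  intro b s
  have h1 : b • sc (homO f M) V s = hb.equiv (b ⊗ₜ s) := by
    rw [hb.equiv_tmul]
    rfl
  rw [h1]
  change TensorProduct.lift β (hb.equiv.symm (hb.equiv (b ⊗ₜ s))) = _
  rw [LinearEquiv.symm_apply_apply, TensorProduct.lift.tmul]
  rfl

/-- `f` finite locally free, `M` quasi-coherent: the evaluation morphism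
`f_* f^* Hom(f_* O_X, M) ⟶ M`, and its values `b • s ↦ s(b)` over affine opens. -/
theorem exists_evalHom (f : X ⟶ Y) [IsAffineHom f] {M : Y.Modules}
    (hH : Coh.IsQCoh (homO f M)) :
    ∃ θ : (Scheme.Modules.pushforward f).obj ((Scheme.Modules.pullback f).obj (homO f M)) ⟶ M,
      ∀ (V : Y.Opens) (_ : IsAffineOpen V) (b : Γ(X, f ⁻¹ᵁ V)) (s : Γ(homO f M, V)),
        θ.app V (b • sc (f := f) _ V s : Γ((Scheme.Modules.pullback f).obj (homO f M), f ⁻¹ᵁ V)) =
        comp s V le_rfl (pushOEquiv f V b) := by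
  have hq : Coh.IsQCoh ((Scheme.Modules.pushforward f).obj
      ((Scheme.Modules.pullback f).obj (homO f M))) :=
    Groth.Agent.Ega1.QcqsPush.isQCoh_pushforward f _ (isQCoh_pullback f _ hH)
  choose θ hθ using fun (V : Y.Opens) (hV : IsAffineOpen V) => exists_eval (f := f) hH hV
  have hlin : ∀ (V : Y.Opens) (hV : IsAffineOpen V) (r : Γ(Y, V))
      (x : Γ((Scheme.Modules.pullback f).obj (homO f M), f ⁻¹ᵁ V)),
      θ V hV (f.app V r • x) = r • θ V hV x := by
    intro V hV r x
    refine pullback_induction hH hV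
      (fun x => θ V hV (f.app V r • x) = r • θ V hV x) (fun b s => ?_) (fun x y hx hy => ?_) x
    · rw [← mul_smul, hθ, hθ]
      exact (comp s V le_rfl).map_smul r (pushOEquiv f V b)
    · rw [smul_add, map_add, map_add, smul_add, hx, hy]
  obtain ⟨φ, hφ⟩ := Groth.Agent.PerfB.AffHom.exists_hom_of_affine (N := M) hq
    (fun V hV => { toFun := θ V hV, map_add' := map_add _, map_smul' := hlin V hV }) (by
      intro U V hU hV h x
      change Γ((Scheme.Modules.pullback f).obj (homO f M), f ⁻¹ᵁ U) at x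
      change θ V hV (((Scheme.Modules.pullback f).obj (homO f M)).presheaf.map
        (homOfLE (Scheme.Hom.preimage_mono f h)).op x) = res M h (θ U hU x)
      refine pullback_induction hH hU (fun x =>
        θ V hV (((Scheme.Modules.pullback f).obj (homO f M)).presheaf.map
          (homOfLE (Scheme.Hom.preimage_mono f h)).op x) = res M h (θ U hU x))
        (fun b s => ?_) (fun x y hx hy => ?_) x
      · have h1 : ((Scheme.Modules.pullback f).obj (homO f M)).presheaf.map
            (homOfLE (Scheme.Hom.preimage_mono f h)).op (b • sc (f := f) _ U s) =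
            (X.presheaf.map (homOfLE (Scheme.Hom.preimage_mono f h)).op b) •
              sc (f := f) _ V ((homO f M).presheaf.map (homOfLE h).op s) := by
          rw [Scheme.Modules.map_smul]
          congr 1
          exact sec_res f (homO f M) _ _ h _ s
        rw [h1, hθ, hθ]
        exact comp_map s le_rfl h (pushOEquiv f U b)
      · rw [map_add, map_add, map_add, map_add, hx, hy])
  exact ⟨φ, fun V hV b s => (hφ V hV _).trans (hθ V hV b s)⟩

end Eval

end Groth.Agent.PerfB.PushFLF
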