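import Mathlib.Algebra.Homology.HomologicalComplexLimitsEventuallyConstant
import Mathlib.Algebra.Homology.HomotopyCategory.MappingCone
import Mathlib.Algebra.Homology.HomotopyCategory.HomComplexSingle
import Mathlib.Algebra.Homology.Refinements
import Mathlib.Algebra.Homology.Embedding.CochainComplex
import Mathlib.CategoryTheory.Functor.OfSequence
import Mathlib.CategoryTheory.ObjectProperty.ContainsZero

/-!
# Inductive construction of left resolutions by objects of a given class

`C` abelian, `P : ObjectProperty C` closed under isomorphisms and containing zero.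
-/

set_option autoImplicit false

open CategoryTheory CategoryTheory.Limits HomologicalComplex CochainComplex CochainComplex.HomComplex

namespace Groth.Agent.PerfB.LeftRes

universe v u

variable {C : Type u} [Category.{v} C] [Abelian C]

/-- The isomorphism attached to a morphism which is proved to be an isomorphism. -/
noncomputable def asIso' {X Y : C} {f : X ⟶ Y} (h : IsIso f) : X ≅ Y := asIso f

/-- The term of a single complex in its degree. -/
noncomputable def selfIso (p : ℤ) (X : C) : ((CochainComplex.singleFunctor C p).obj X).X p ≅ X :=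
  singleObjXSelf (.up ℤ) p X

section Step

variable {F K : CochainComplex C ℤ} (f : F ⟶ K) {n : ℤ} {X : C}
  (a : X ⟶ F.X (n + 1)) (c : X ⟶ K.X n)
  (ha : a ≫ F.d (n + 1) (n + 1 + 1) = 0) (hac : a ≫ f.f (n + 1) = c ≫ K.d n (n + 1))

/-- The single complex on `X` in degree `n + 1`, mapping to `F`. -/
noncomputable def cell : ((CochainComplex.singleFunctor C (n + 1)).obj X) ⟶ F :=
  mkHomFromSingle a (fun k hk => by
    obtain rfl : n + 1 + 1 = k := hk
    exact ha)

lemma cell_f : (cell a ha).f (n + 1) = (selfIso (n + 1) X).hom ≫ a :=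
  mkHomFromSingle_f _ _

/-- The `-1`-cochain given by `c`. -/
noncomputable def cellCochain : Cochain ((CochainComplex.singleFunctor C (n + 1)).obj X) K (-1) :=
  Cochain.fromSingleMk c (show n + 1 + (-1) = n by lia)

lemma cellCochain_v : (cellCochain c).v (n + 1) n (by lia) = (selfIso (n + 1) X).hom ≫ c :=
  Cochain.fromSingleMk_v _ _

include hac in
lemma δ_eq : δ (-1) 0 (cellCochain c) = Cochain.ofHom (cell a ha ≫ f) := by
  rw [cellCochain, Cochain.δ_fromSingleMk c _ 0 (n + 1) (by lia)]
  apply (Cochain.fromSingleEquiv (show n + 1 + 0 = n + 1 by lia)).injective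
  rw [Cochain.fromSingleEquiv_fromSingleMk, ← hac]
  simp only [Cochain.fromSingleEquiv, AddEquiv.coe_mk, Equiv.coe_fn_mk, Cochain.ofHom_v, comp_f]
  rw [cell_f a ha, Category.assoc]
  exact (Iso.inv_hom_id_assoc _ _).symm

/-- The complex obtained from `F` by attaching `X` in degree `n`. -/
noncomputable abbrev attach : CochainComplex C ℤ := mappingCone (cell a ha)

/-- The map from the attached complex to `K`. -/
noncomputable def attachDesc : attach a ha ⟶ K :=
  mappingCone.desc (cell a ha) (cellCochain c) f (δ_eq f a c ha hac)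

@[reassoc (attr := simp)]
lemma inr_attachDesc : mappingCone.inr (cell a ha) ≫ attachDesc f a c ha hac = f := by
  simp [attachDesc]

@[reassoc (attr := simp)]
lemma inr_f_attachDesc (i : ℤ) :
    (mappingCone.inr (cell a ha)).f i ≫ (attachDesc f a c ha hac).f i = f.f i := by
  simp [attachDesc]

/-- The inclusion of the new cell. -/
noncomputable def inX : X ⟶ (attach a ha).X n :=
  (selfIso (n + 1) X).inv ≫ (mappingCone.inl (cell a ha)).v (n + 1) n (by lia)

@[reassoc (attr := simp)]
lemma inX_attachDesc : inX a ha ≫ (attachDesc f a c ha hac).f n = c := by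
  rw [attachDesc, inX, Category.assoc, mappingCone.inl_v_desc_f, cellCochain_v,
    Iso.inv_hom_id_assoc]

@[reassoc]
lemma inX_d : inX a ha ≫ (attach a ha).d n (n + 1) = a ≫ (mappingCone.inr (cell a ha)).f (n + 1) := by
  rw [inX, Category.assoc, mappingCone.inl_v_d (cell a ha) (n + 1) n (n + 1 + 1) (by lia) (by lia),
    cell_f, Preadditive.comp_sub]
  have : ((singleFunctor C (n + 1)).obj X).d (n + 1) (n + 1 + 1) = 0 := rfl
  rw [this, zero_comp, comp_zero, sub_zero, Category.assoc, Iso.inv_hom_id_assoc]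

lemma isIso_inX (hF : IsZero (F.X n)) : IsIso (inX a ha) := by
  refine ⟨(mappingCone.fst (cell a ha)).1.v n (n + 1) rfl ≫ (selfIso (n + 1) X).hom, ?_, ?_⟩
  · rw [inX, Category.assoc, mappingCone.inl_v_fst_v_assoc, Iso.inv_hom_id]
  · have h := mappingCone.id_X (cell a ha) n (n + 1) rfl
    rw [hF.eq_of_tgt ((mappingCone.snd (cell a ha)).v n n (add_zero n)) 0, zero_comp,
      add_zero] at h
    rw [inX, Category.assoc, Iso.hom_inv_id_assoc]
    exact h

lemma isZero_single_X (p : ℤ) (X : C) (i : ℤ) (hi : i ≠ p) :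
    IsZero (((CochainComplex.singleFunctor C p).obj X).X i) :=
  isZero_single_obj_X (.up ℤ) _ _ _ hi

lemma isIso_inr_f (i : ℤ) (hi : i ≠ n) : IsIso ((mappingCone.inr (cell a ha)).f i) := by
  refine ⟨(mappingCone.snd (cell a ha)).v i i (add_zero i), by simp, ?_⟩
  have h := mappingCone.id_X (cell a ha) i (i + 1) rfl
  rw [(isZero_single_X (n + 1) X (i + 1) (by lia)).eq_of_tgt
    ((mappingCone.fst (cell a ha)).1.v i (i + 1) rfl) 0, zero_comp, zero_add] at h
  exact h

lemma quasiIsoAt_inr (i : ℤ) (hi : n + 1 < i) : QuasiIsoAt (mappingCone.inr (cell a ha)) i := by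
  rw [quasiIsoAt_iff' _ (i - 1) i (i + 1) (by simp) (by simp)]
  let φ := (shortComplexFunctor' C _ (i - 1) i (i + 1)).map (mappingCone.inr (cell a ha))
  have : IsIso φ.τ₁ := isIso_inr_f a ha _ (by lia)
  have : IsIso φ.τ₂ := isIso_inr_f a ha _ (by lia)
  have : IsIso φ.τ₃ := isIso_inr_f a ha _ (by lia)
  exact ShortComplex.quasiIso_of_epi_of_isIso_of_mono φ

/-- the universal property of a "covering" cell -/
def Covers : Prop := ∀ ⦃A : C⦄ (y : A ⟶ F.X (n + 1)) (k : A ⟶ K.X n)
    (_ : y ≫ F.d (n + 1) (n + 1 + 1) = 0) (_ : y ≫ f.f (n + 1) = k ≫ K.d n (n + 1)),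
    ∃ (A' : C) (π : A' ⟶ A) (_ : Epi π) (x : A' ⟶ X) (k' : A' ⟶ K.X (n - 1)),
      π ≫ y = x ≫ a ∧ π ≫ k = x ≫ c + k' ≫ K.d (n - 1) n

lemma mono_homologyMap (hc : Covers f a c) :
    Mono (homologyMap (attachDesc f a c ha hac) (n + 1)) := by
  rw [mono_homologyMap_iff_up_to_refinements _ n (n + 1) (n + 1 + 1) (by simp) (by simp)]
  intro A x₁ hx₁ y₀ hy₀
  have := isIso_inr_f a ha (n + 1) (by lia)
  have := isIso_inr_f a ha (n + 1 + 1) (by lia)
  obtain ⟨y, rfl⟩ : ∃ y : A ⟶ F.X (n + 1), y ≫ (mappingCone.inr (cell a ha)).f (n + 1) = x₁ :=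
    ⟨x₁ ≫ inv ((mappingCone.inr (cell a ha)).f (n + 1)), by simp⟩
  rw [Category.assoc, inr_f_attachDesc] at hy₀
  rw [Category.assoc, Hom.comm, ← Category.assoc,
    ← zero_comp (Y := F.X (n + 1 + 1)) (f := (mappingCone.inr (cell a ha)).f (n + 1 + 1)),
    cancel_mono] at hx₁
  obtain ⟨A', π, hπ, x, k', h₁, h₂⟩ := hc y y₀ hx₁ hy₀
  refine ⟨A', π, hπ, x ≫ inX a ha, ?_⟩
  rw [Category.assoc, inX_d, reassoc_of% h₁]

lemma epi_homologyMap (hc : Covers f a c) :
    Epi (homologyMap (attachDesc f a c ha hac) n) := by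
  rw [epi_homologyMap_iff_up_to_refinements _ (n - 1) n (n + 1) (by simp) (by simp)]
  intro A y hy
  obtain ⟨A', π, hπ, x, k', h₁, h₂⟩ := hc 0 y (by simp) (by simp [hy])
  refine ⟨A', π, hπ, x ≫ inX a ha, ?_, k', ?_⟩
  · rw [Category.assoc, inX_d, ← reassoc_of% h₁]
    simp
  · rw [Category.assoc, inX_attachDesc, h₂]

end Step

section Cone

variable {F K : CochainComplex C ℤ} (f : F ⟶ K) {n : ℤ} {X : C}

/-- If `X` maps to the `n`-cycles of the cone of `f` and surjects onto the homology, then it provides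
a covering cell. -/
lemma covers_of_cone (hF : IsZero (F.X n)) (z : X ⟶ (mappingCone f).X n)
    (hz : z ≫ (mappingCone f).d n (n + 1) = 0)
    (hepi : Epi ((mappingCone f).liftCycles z (n + 1) (CochainComplex.next ℤ n) hz ≫
      (mappingCone f).homologyπ n)) :
    (z ≫ (mappingCone.fst f).1.v n (n + 1) rfl) ≫ F.d (n + 1) (n + 1 + 1) = 0 ∧
    (z ≫ (mappingCone.fst f).1.v n (n + 1) rfl) ≫ f.f (n + 1) =
      (-(z ≫ (mappingCone.snd f).v n n (add_zero n))) ≫ K.d n (n + 1) ∧
    Covers f (z ≫ (mappingCone.fst f).1.v n (n + 1) rfl)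
      (-(z ≫ (mappingCone.snd f).v n n (add_zero n))) := by
  have h₁ := hz =≫ (mappingCone.fst f).1.v (n + 1) (n + 1 + 1) rfl
  have h₂ := hz =≫ (mappingCone.snd f).v (n + 1) (n + 1) (add_zero _)
  rw [Category.assoc, mappingCone.d_fst_v f n (n + 1) (n + 1 + 1) rfl rfl, zero_comp,
    Preadditive.comp_neg, neg_eq_zero] at h₁
  rw [Category.assoc, mappingCone.d_snd_v f n (n + 1) rfl, zero_comp, Preadditive.comp_add] at h₂
  refine ⟨by rw [Category.assoc, h₁], ?_, ?_⟩
  · rw [Category.assoc, Preadditive.neg_comp, Category.assoc, eq_neg_iff_add_eq_zero, h₂]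
  · intro A y k hy hk
    have hw : (y ≫ (mappingCone.inl f).v (n + 1) n (show n + 1 + -1 = n by lia) - k ≫ (mappingCone.inr f).f n) ≫
        (mappingCone f).d n (n + 1) = 0 := by
      rw [Preadditive.sub_comp, Category.assoc, Category.assoc,
        mappingCone.inl_v_d f (n + 1) n (n + 1 + 1) (by lia) (by lia), mappingCone.inr_f_d,
        Preadditive.comp_sub, reassoc_of% hk, reassoc_of% hy]
      simp
    obtain ⟨A₁, π₁, _, x, hx⟩ := surjective_up_to_refinements_of_epi
      ((mappingCone f).liftCycles z (n + 1) (CochainComplex.next ℤ n) hz ≫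
        (mappingCone f).homologyπ n)
      ((mappingCone f).liftCycles _ (n + 1) (CochainComplex.next ℤ n) hw ≫
        (mappingCone f).homologyπ n)
    rw [← Category.assoc, ← Category.assoc, comp_liftCycles, comp_liftCycles,
      liftCycles_comp_homologyπ_eq_iff_up_to_refinements _ (n - 1) n (n + 1) (by simp)
        (by simp)] at hx
    obtain ⟨A₂, π₂, _, u, hu⟩ := hx
    refine ⟨A₂, π₂ ≫ π₁, inferInstance, π₂ ≫ x, -(u ≫ (mappingCone.snd f).v (n - 1) (n - 1)
      (add_zero _)), ?_, ?_⟩
    · have := hu =≫ (mappingCone.fst f).1.v n (n + 1) rfl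
      have h0 : (mappingCone.fst f).1.v (n - 1) n (by lia) = 0 := hF.eq_of_tgt _ _
      simp only [Preadditive.add_comp, Category.assoc, Preadditive.comp_sub, Preadditive.sub_comp,
        mappingCone.d_fst_v f (n - 1) n (n + 1) (by lia) rfl, h0, zero_comp, neg_zero, comp_zero,
        add_zero, mappingCone.inl_v_fst_v, mappingCone.inr_f_fst_v, sub_zero, Category.comp_id]
        at this
      simpa using this
    · have := hu =≫ (mappingCone.snd f).v n n (add_zero _)
      have h0 : (mappingCone.fst f).1.v (n - 1) n (by lia) = 0 := hF.eq_of_tgt _ _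
      simp only [Preadditive.add_comp, Category.assoc, Preadditive.comp_sub, Preadditive.sub_comp,
        mappingCone.d_snd_v f (n - 1) n (by lia), h0, zero_comp, comp_zero, zero_add,
        mappingCone.inl_v_snd_v, mappingCone.inr_f_snd_v, zero_sub, Category.comp_id] at this
      rw [← neg_inj]
      simpa [add_comm] using this

end Cone

section Stage

variable (P : ObjectProperty C) (K : CochainComplex C ℤ) (b : ℤ)

/-- A finite-level approximation of `K` by a complex with terms in `P`, placed in degrees `[n, b]`,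
which is a quasi-isomorphism in degrees `> n` and an epimorphism on homology in degree `n`. -/
structure Stage (n : ℤ) where
  /-- the complex -/
  F : CochainComplex C ℤ
  /-- the map to `K` -/
  f : F ⟶ K
  zeroLT : ∀ i < n, IsZero (F.X i)
  zeroGT : ∀ i > b, IsZero (F.X i)
  prop : ∀ i, P (F.X i)
  quasiIsoAt : ∀ i > n, QuasiIsoAt f i
  epi : Epi (homologyMap f n)

variable {P K b}

/-- The cone of a stage at level `n + 1` is exact in degrees `> n`. -/
lemma Stage.exactAt_mappingCone {n : ℤ} (S : Stage P K b (n + 1)) (i : ℤ) (hi : n < i) :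
    (mappingCone S.f).ExactAt i := by
  rw [exactAt_iff_exact_up_to_refinements _ (i - 1) i (i + 1) (by simp) (by simp)]
  intro A w hw
  have h₁ := hw =≫ (mappingCone.fst S.f).1.v (i + 1) (i + 1 + 1) rfl
  have h₂ := hw =≫ (mappingCone.snd S.f).v (i + 1) (i + 1) (add_zero _)
  rw [Category.assoc, mappingCone.d_fst_v S.f i (i + 1) (i + 1 + 1) rfl rfl, zero_comp,
    Preadditive.comp_neg, neg_eq_zero] at h₁
  rw [Category.assoc, mappingCone.d_snd_v S.f i (i + 1) rfl, zero_comp, Preadditive.comp_add] at h₂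
  -- step 1 : the first component is a boundary
  have hm : Mono (homologyMap S.f (i + 1)) := by
    have := S.quasiIsoAt (i + 1) (by lia)
    rw [quasiIsoAt_iff_isIso_homologyMap] at this
    infer_instance
  rw [mono_homologyMap_iff_up_to_refinements _ i (i + 1) (i + 1 + 1) (by simp) (by simp)] at hm
  obtain ⟨A₁, π₁, _, y, hy⟩ := hm (w ≫ (mappingCone.fst S.f).1.v i (i + 1) rfl)
    (by rw [Category.assoc, h₁]) (-(w ≫ (mappingCone.snd S.f).v i i (add_zero _)))
    (by rw [Category.assoc, Preadditive.neg_comp, Category.assoc, eq_neg_iff_add_eq_zero, h₂])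
  have he : Epi (homologyMap S.f i) := by
    obtain hi | hi := (show n + 1 ≤ i by lia).lt_or_eq
    · have := S.quasiIsoAt i (by lia)
      rw [quasiIsoAt_iff_isIso_homologyMap] at this
      infer_instance
    · subst hi
      exact S.epi
  rw [epi_homologyMap_iff_up_to_refinements _ (i - 1) i (i + 1) (by simp) (by simp)] at he
  obtain ⟨A₂, π₂, _, x, hx, k, hk⟩ := he (π₁ ≫ w ≫ (mappingCone.snd S.f).v i i (add_zero _) +
    y ≫ S.f.f i) (by
      rw [Preadditive.add_comp]
      simp only [Category.assoc]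
      rw [S.f.comm, ← reassoc_of% hy, ← Preadditive.comp_add]
      exact (π₁ ≫= ((add_comm _ _).trans h₂)).trans comp_zero)
  refine ⟨A₂, π₂ ≫ π₁, inferInstance,
    (x - π₂ ≫ y) ≫ (mappingCone.inl S.f).v i (i - 1) (by lia) + k ≫ (mappingCone.inr S.f).f (i - 1),
    ?_⟩
  rw [mappingCone.ext_to_iff _ i (i + 1) rfl]
  constructor
  · simp only [Preadditive.add_comp, Category.assoc, Preadditive.sub_comp,
      mappingCone.d_fst_v S.f (i - 1) i (i + 1) (by lia) rfl, Preadditive.comp_neg]
    simp [hx, hy]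
  · simp only [Preadditive.add_comp, Category.assoc, Preadditive.sub_comp,
      mappingCone.d_snd_v S.f (i - 1) i (by lia), Preadditive.comp_add]
    simp only [Preadditive.comp_add] at hk
    have hk' : π₂ ≫ π₁ ≫ w ≫ (mappingCone.snd S.f).v i i (add_zero _) =
      x ≫ S.f.f i + k ≫ K.d (i - 1) i - π₂ ≫ y ≫ S.f.f i := eq_sub_of_add_eq hk
    simp [hk']
    abel

lemma Stage.exists_next [P.IsClosedUnderIsomorphisms] {n₀ : ℤ} (S : Stage P K b n₀) (n : ℤ)
    (hn : n + 1 = n₀) (hnb : n ≤ b) (hS : ∃ X, P X ∧ ∃ z : X ⟶ (mappingCone S.f).cycles n,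
      Epi (z ≫ (mappingCone S.f).homologyπ n)) :
    ∃ (S' : Stage P K b n) (g : S.F ⟶ S'.F), g ≫ S'.f = S.f ∧ ∀ i, i ≠ n → IsIso (g.f i) := by
  subst hn
  obtain ⟨X, hX, z₀, hz₀⟩ := hS
  let z : X ⟶ (mappingCone S.f).X n := z₀ ≫ (mappingCone S.f).iCycles n
  have hz : z ≫ (mappingCone S.f).d n (n + 1) = 0 := by simp [z]
  have hz' : (mappingCone S.f).liftCycles z (n + 1) (CochainComplex.next ℤ n) hz = z₀ := by
    rw [← cancel_mono ((mappingCone S.f).iCycles n), liftCycles_i]
  rw [← hz'] at hz₀
  obtain ⟨ha, hac, hc⟩ := covers_of_cone S.f (S.zeroLT n (by lia)) z hz hz₀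
  have hiso (i : ℤ) (hi : i ≠ n) := isIso_inr_f (z ≫ (mappingCone.fst S.f).1.v n (n + 1) rfl) ha i hi
  have h0 : IsIso (inX (z ≫ (mappingCone.fst S.f).1.v n (n + 1) rfl) ha) :=
    isIso_inX _ _ (S.zeroLT n (by lia))
  refine ⟨
    { F := attach _ ha
      f := attachDesc S.f _ _ ha hac
      zeroLT := fun i hi => (S.zeroLT i (by lia)).of_iso (asIso' (hiso i (by lia))).symm
      zeroGT := fun i hi => (S.zeroGT i (by lia)).of_iso (asIso' (hiso i (by lia))).symm
      prop := fun i => ?_
      quasiIsoAt := fun i hi => ?_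
      epi := epi_homologyMap S.f _ _ ha hac hc }, mappingCone.inr _, by simp, hiso⟩
  · by_cases hi : i = n
    · subst hi
      exact P.prop_of_iso (asIso' h0) hX
    · exact P.prop_of_iso (asIso' (hiso i hi)) (S.prop i)
  · obtain hi | hi := (show n + 1 ≤ i by lia).lt_or_eq
    · have h₁ := quasiIsoAt_inr (z ≫ (mappingCone.fst S.f).1.v n (n + 1) rfl) ha i hi
      rw [← quasiIsoAt_iff_comp_left (mappingCone.inr (cell _ ha)), inr_attachDesc]
      exact S.quasiIsoAt i hi
    · subst hi
      rw [quasiIsoAt_iff_isIso_homologyMap]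
      have h₁ := mono_homologyMap S.f _ _ ha hac hc
      have h₂ : Epi (homologyMap (attachDesc S.f _ _ ha hac) (n + 1)) := by
        have h₃ : Epi (homologyMap (mappingCone.inr (cell _ ha)) (n + 1) ≫
            homologyMap (attachDesc S.f _ _ ha hac) (n + 1)) := by
          rw [← homologyMap_comp, inr_attachDesc]
          exact S.epi
        exact epi_of_epi (homologyMap (mappingCone.inr (cell _ ha)) (n + 1)) _
      apply isIso_of_mono_of_epi

variable (P K b) in
/-- The condition ensuring that the inductive construction of approximations can be done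
down to degree `m`. -/
def HasCoversGE (m : ℤ) : Prop := ∀ (n : ℤ), m ≤ n → n ≤ b → ∀ S : Stage P K b (n + 1),
  ∃ X, P X ∧ ∃ z : X ⟶ (mappingCone S.f).cycles n, Epi (z ≫ (mappingCone S.f).homologyπ n)

variable (P K b) in
/-- The condition ensuring that the inductive construction of approximations can be done. -/
def HasCovers : Prop := ∀ n ≤ b, ∀ S : Stage P K b (n + 1),
  ∃ X, P X ∧ ∃ z : X ⟶ (mappingCone S.f).cycles n, Epi (z ≫ (mappingCone S.f).homologyπ n)

/-- Change the index of a stage. -/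
def Stage.ofEq {n n' : ℤ} (S : Stage P K b n) (h : n = n') : Stage P K b n' where
  F := S.F
  f := S.f
  zeroLT := by subst h; exact S.zeroLT
  zeroGT := by subst h; exact S.zeroGT
  prop := S.prop
  quasiIsoAt := by subst h; exact S.quasiIsoAt
  epi := by subst h; exact S.epi

open ZeroObject in
/-- The zero stage. -/
noncomputable def Stage.zero [P.IsClosedUnderIsomorphisms] [P.ContainsZero]
    (hK : ∀ i > b, K.ExactAt i) (n : ℤ) (hn : b < n) : Stage P K b n where
  F := 0
  f := 0
  zeroLT i _ := (eval C _ i).map_isZero (isZero_zero _)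
  zeroGT i _ := (eval C _ i).map_isZero (isZero_zero _)
  prop i := P.prop_of_isZero ((eval C _ i).map_isZero (isZero_zero _))
  quasiIsoAt i hi := by
    have h : (0 : CochainComplex C ℤ).ExactAt i :=
      ShortComplex.exact_of_isZero_X₂ _ ((eval C _ i).map_isZero (isZero_zero _))
    rw [quasiIsoAt_iff_exactAt _ _ h]
    exact hK i (by lia)
  epi := by
    have := (hK n (by lia)).isZero_homology
    constructor
    intro Z g h _
    exact this.eq_of_src _ _

/-- Finite level: if the covering condition holds down to degree `m`, there is an approximation of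
`K` in degrees `[m, b]`, which is a quasi-isomorphism in degrees `> m` and an epimorphism on
homology in degree `m`. -/
lemma Stage.nonempty [P.IsClosedUnderIsomorphisms] [P.ContainsZero]
    (hK : ∀ i > b, K.ExactAt i) (m : ℤ) (H : HasCoversGE P K b m) : Nonempty (Stage P K b m) := by
  by_cases hm : b < m
  · exact ⟨Stage.zero hK m hm⟩
  · obtain ⟨k, hk⟩ := Int.le.dest (show m ≤ b + 1 by lia)
    induction k generalizing m with
    | zero => exact ⟨Stage.zero hK m (by lia)⟩
    | succ k ih =>
      by_cases hmb : m = b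
      · obtain ⟨S', _⟩ := (Stage.zero (P := P) hK (m + 1) (by lia)).exists_next m rfl (by lia)
          (H m (by lia) (by lia) _)
        exact ⟨S'⟩
      · obtain ⟨S⟩ := ih (m + 1) (fun n hn hnb S => H n (by lia) hnb S) (by lia) (by lia)
        obtain ⟨S', _⟩ := S.exists_next m rfl (by lia) (H m (by lia) (by lia) _)
        exact ⟨S'⟩

end Stage

section Limit

variable {P : ObjectProperty C} {K : CochainComplex C ℤ} {b : ℤ}
  [P.IsClosedUnderIsomorphisms] (H : HasCovers P K b) (S₀ : Stage P K b (b + 1))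

/-- The next stage (by choice). -/
noncomputable def next {n₀ : ℤ} (S : Stage P K b n₀) (n : ℤ) (hn : n + 1 = n₀) (hnb : n ≤ b) :
    Stage P K b n :=
  (S.exists_next n hn hnb (by subst hn; exact H n hnb S)).choose

/-- The map to the next stage. -/
noncomputable def toNext {n₀ : ℤ} (S : Stage P K b n₀) (n : ℤ) (hn : n + 1 = n₀) (hnb : n ≤ b) :
    S.F ⟶ (next H S n hn hnb).F :=
  (S.exists_next n hn hnb (by subst hn; exact H n hnb S)).choose_spec.choose

lemma toNext_f {n₀ : ℤ} (S : Stage P K b n₀) (n : ℤ) (hn : n + 1 = n₀) (hnb : n ≤ b) :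
    toNext H S n hn hnb ≫ (next H S n hn hnb).f = S.f :=
  (S.exists_next n hn hnb (by subst hn; exact H n hnb S)).choose_spec.choose_spec.1

lemma isIso_toNext_f {n₀ : ℤ} (S : Stage P K b n₀) (n : ℤ) (hn : n + 1 = n₀) (hnb : n ≤ b)
    (i : ℤ) (hi : i ≠ n) : IsIso ((toNext H S n hn hnb).f i) :=
  (S.exists_next n hn hnb (by subst hn; exact H n hnb S)).choose_spec.choose_spec.2 i hi

/-- The sequence of stages. -/
noncomputable def sequence : ∀ k : ℕ, Stage P K b (b + 1 - k)
  | 0 => S₀.ofEq (by simp)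
  | k + 1 => next H (sequence k) _ (by lia) (by lia)

/-- The transition maps. -/
noncomputable def toSequenceNext (k : ℕ) :
    (sequence H S₀ k).F ⟶ (sequence H S₀ (k + 1)).F :=
  toNext H (sequence H S₀ k) _ (by lia) (by lia)

lemma toSequenceNext_f (k : ℕ) :
    toSequenceNext H S₀ k ≫ (sequence H S₀ (k + 1)).f = (sequence H S₀ k).f :=
  toNext_f H (sequence H S₀ k) _ (by lia) (by lia)

lemma isIso_toSequenceNext_f (k : ℕ) (i : ℤ) (hi : i ≠ b + 1 - (k + 1 : ℕ)) :
    IsIso ((toSequenceNext H S₀ k).f i) :=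
  isIso_toNext_f H (sequence H S₀ k) _ (by lia) (by lia) i hi

/-- The inductive system. -/
noncomputable def functor : ℕ ⥤ CochainComplex C ℤ :=
  Functor.ofSequence (toSequenceNext H S₀)

lemma functor_map_succ (k : ℕ) :
    (functor H S₀).map (homOfLE (show k ≤ k + 1 by lia)) = toSequenceNext H S₀ k :=
  Functor.ofSequence_map_homOfLE_succ _ _

lemma isIso_functor_map_f {q₁ q₂ : ℕ} (hq : q₁ ≤ q₂) (i : ℤ) (hi : b + 1 - q₁ ≤ i) :
    IsIso (((functor H S₀).map (homOfLE hq)).f i) := by
  obtain ⟨k, rfl⟩ := Nat.exists_eq_add_of_le hq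
  induction k with
  | zero =>
    have : homOfLE hq = 𝟙 q₁ := rfl
    rw [this, CategoryTheory.Functor.map_id, id_f]
    infer_instance
  | succ k h =>
    have := h (by lia)
    have h₂ : (functor H S₀).map (homOfLE (show q₁ + k ≤ q₁ + (k + 1) by lia)) =
        toSequenceNext H S₀ (q₁ + k) := functor_map_succ H S₀ (q₁ + k)
    have h₃ := isIso_toSequenceNext_f H S₀ (q₁ + k) i (by lia)
    rw [← homOfLE_comp (show q₁ ≤ q₁ + k by lia) (show q₁ + k ≤ q₁ + (k + 1) by lia),
      Functor.map_comp, comp_f, h₂]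
    exact IsIso.comp_isIso' this h₃

lemma isEventuallyConstantFrom (i : ℤ) (q : ℕ) (h : b + 1 - q ≤ i) :
    (functor H S₀ ⋙ eval _ _ i).IsEventuallyConstantFrom q := by
  intro j f
  exact isIso_functor_map_f H S₀ (leOfHom f) i h

instance hasColimit_eval (i : ℤ) : HasColimit (functor H S₀ ⋙ eval C (ComplexShape.up ℤ) i) :=
  (isEventuallyConstantFrom H S₀ i (b + 1 - i).natAbs (by lia)).hasColimit

/-- The cocone over the inductive system with point `K`. -/
noncomputable def coconeK : Cocone (functor H S₀) where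
  pt := K
  ι := NatTrans.ofSequence (F := functor H S₀) (G := (Functor.const _).obj K)
    (fun k => (sequence H S₀ k).f) (fun k =>
      ((functor_map_succ H S₀ k =≫ (sequence H S₀ (k + 1)).f).trans
        (toSequenceNext_f H S₀ k)).trans (Category.comp_id _).symm)

/-- The resolution. -/
noncomputable abbrev res : CochainComplex C ℤ := colimit (functor H S₀)

/-- The map from the resolution to `K`. -/
noncomputable def resMap : res H S₀ ⟶ K := colimit.desc _ (coconeK H S₀)

lemma ι_resMap (q : ℕ) : colimit.ι (functor H S₀) q ≫ resMap H S₀ = (sequence H S₀ q).f :=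
  colimit.ι_desc (coconeK H S₀) q

lemma isIso_ι_f (q : ℕ) (i : ℤ) (h : b + 1 - q ≤ i) :
    IsIso ((colimit.ι (functor H S₀) q).f i) := by
  exact (isEventuallyConstantFrom H S₀ i q h).isIso_ι_of_isColimit
    (isColimitOfPreserves (eval C (ComplexShape.up ℤ) i) (colimit.isColimit (functor H S₀)))

lemma quasiIsoAt_ι (q : ℕ) (i : ℤ) (h : b + 1 - q ≤ i - 1) :
    QuasiIsoAt (colimit.ι (functor H S₀) q) i := by
  rw [quasiIsoAt_iff' _ (i - 1) i (i + 1) (by simp) (by simp)]
  let φ := (shortComplexFunctor' C _ (i - 1) i (i + 1)).map (colimit.ι (functor H S₀) q)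
  have : IsIso φ.τ₁ := isIso_ι_f H S₀ q _ (by lia)
  have : IsIso φ.τ₂ := isIso_ι_f H S₀ q _ (by lia)
  have : IsIso φ.τ₃ := isIso_ι_f H S₀ q _ (by lia)
  exact ShortComplex.quasiIso_of_epi_of_isIso_of_mono φ

lemma quasiIso_resMap : QuasiIso (resMap H S₀) where
  quasiIsoAt i := by
    let q := (b + 1 - i + 1).natAbs
    have := quasiIsoAt_ι H S₀ q i (by lia)
    rw [← quasiIsoAt_iff_comp_left (colimit.ι (functor H S₀) q), ι_resMap]
    exact (sequence H S₀ q).quasiIsoAt i (by lia)

lemma prop_res (i : ℤ) : P ((res H S₀).X i) := by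
  let q := (b + 1 - i).natAbs
  have := isIso_ι_f H S₀ q i (by lia)
  exact P.prop_of_iso (asIso ((colimit.ι (functor H S₀) q).f i)) ((sequence H S₀ q).prop i)

lemma isZero_res (i : ℤ) (hi : b < i) : IsZero ((res H S₀).X i) := by
  let q := (b + 1 - i).natAbs
  have := isIso_ι_f H S₀ q i (by lia)
  exact ((sequence H S₀ q).zeroGT i hi).of_iso (asIso ((colimit.ι (functor H S₀) q).f i)).symm

end Limit

/-- Main result: if `K` is cohomologically `≤ b` and the covering condition holds, there is a
quasi-isomorphism to `K` from a complex in degrees `≤ b` with terms in `P`. -/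
theorem exists_resolution {P : ObjectProperty C} [P.IsClosedUnderIsomorphisms] [P.ContainsZero]
    (K : CochainComplex C ℤ) (b : ℤ) (hK : ∀ i > b, K.ExactAt i) (H : HasCovers P K b) :
    ∃ (F : CochainComplex C ℤ) (f : F ⟶ K), (∀ i > b, IsZero (F.X i)) ∧ (∀ i, P (F.X i)) ∧
      QuasiIso f :=
  ⟨res H (Stage.zero hK _ (by lia)), resMap H _, isZero_res H _, prop_res H _, quasiIso_resMap H _⟩

end Groth.Agent.PerfB.LeftRes
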