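import Mathlib.Algebra.Homology.DerivedCategory.ExactFunctor
import Mathlib.Algebra.Homology.DerivedCategory.TStructure

set_option autoImplicit false
universe w₁ w₂ v₁ v₂ u₁ u₂

open CategoryTheory CategoryTheory.Limits

namespace Groth.Agent.PerfB.ExactHomology

variable {C₁ : Type u₁} [Category.{v₁} C₁] [Abelian C₁]
  {C₂ : Type u₂} [Category.{v₂} C₂] [Abelian C₂]
  (F : C₁ ⥤ C₂) [F.Additive] [PreservesFiniteLimits F] [PreservesFiniteColimits F]

/-- Homology commutes with exact functors (complexes). -/
noncomputable def homologyIsoCx (K : CochainComplex C₁ ℤ) (i : ℤ) :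
    ((F.mapHomologicalComplex (ComplexShape.up ℤ)).obj K).homology i ≅ F.obj (K.homology i) :=
  ShortComplex.mapHomologyIso (K.sc i) F

lemma homologyIsoCx_naturality {K L : CochainComplex C₁ ℤ} (f : K ⟶ L) (i : ℤ) :
    HomologicalComplex.homologyMap ((F.mapHomologicalComplex (ComplexShape.up ℤ)).map f) i ≫
      (homologyIsoCx F L i).hom =
    (homologyIsoCx F K i).hom ≫ F.map (HomologicalComplex.homologyMap f i) :=
  ShortComplex.mapHomologyIso_hom_naturality
    ((HomologicalComplex.shortComplexFunctor C₁ (ComplexShape.up ℤ) i).map f) F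

/-- natural isomorphism version. -/
noncomputable def homologyNatIsoCx (i : ℤ) :
    F.mapHomologicalComplex (ComplexShape.up ℤ) ⋙
      HomologicalComplex.homologyFunctor C₂ (ComplexShape.up ℤ) i ≅
    HomologicalComplex.homologyFunctor C₁ (ComplexShape.up ℤ) i ⋙ F :=
  NatIso.ofComponents (fun K => homologyIsoCx F K i) (fun f => homologyIsoCx_naturality F f i)

variable [HasDerivedCategory.{w₁} C₁] [HasDerivedCategory.{w₂} C₂]

/-- Homology commutes with exact functors (derived categories). -/
noncomputable def homologyNatIso (i : ℤ) :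
    F.mapDerivedCategory ⋙ DerivedCategory.homologyFunctor C₂ i ≅
      DerivedCategory.homologyFunctor C₁ i ⋙ F :=
  Localization.liftNatIso DerivedCategory.Q (HomologicalComplex.quasiIso C₁ (ComplexShape.up ℤ))
    (DerivedCategory.Q ⋙ F.mapDerivedCategory ⋙ DerivedCategory.homologyFunctor C₂ i)
    (DerivedCategory.Q ⋙ DerivedCategory.homologyFunctor C₁ i ⋙ F) _ _
    ((Functor.associator _ _ _).symm ≪≫
      Functor.isoWhiskerRight F.mapDerivedCategoryFactors _ ≪≫ Functor.associator _ _ _ ≪≫
      Functor.isoWhiskerLeft _ (DerivedCategory.homologyFunctorFactors C₂ i) ≪≫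
      homologyNatIsoCx F i ≪≫
      Functor.isoWhiskerRight (DerivedCategory.homologyFunctorFactors C₁ i).symm F ≪≫
      Functor.associator _ _ _)

/-- The object-level version. -/
noncomputable def homologyObjIso (M : DerivedCategory C₁) (i : ℤ) :
    (DerivedCategory.homologyFunctor C₂ i).obj (F.mapDerivedCategory.obj M) ≅
      F.obj ((DerivedCategory.homologyFunctor C₁ i).obj M) :=
  (homologyNatIso F i).app M

end Groth.Agent.PerfB.ExactHomology
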