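import Groth.Agent.Dcoh.DerHo
import Mathlib.CategoryTheory.Abelian.Injective.Extend
import Mathlib.CategoryTheory.Abelian.Injective.Resolution
import Mathlib.Algebra.Homology.DerivedCategory.TStructure
import Mathlib.Algebra.Homology.DerivedCategory.FullyFaithful

/-!
# `H^0` of a total right derived functor on a single object

`F : A ⥤ B` additive and left exact, `A` with enough injectives and K-injective resolutions, `(RF, α)` any right
derived functor of `K(A) ⥤ D(B)`.  Then `RF (M[0])` is in `D^{≥ 0}` and `H^0(RF (M[0])) ≅ F M`.
-/

set_option autoImplicit false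

universe w w' v v' u u'

open CategoryTheory CategoryTheory.Limits

namespace Groth.Agent.PerfB.RDerZero

open Groth.Agent.Dcoh

section Zero

variable {A : Type u} [Category.{v} A] [Abelian A] {B : Type u'} [Category.{v'} B] [Abelian B]
  (F : A ⥤ B) [F.Additive] [PreservesFiniteLimits F]

/-- A left exact functor commutes with the homology of a short complex with zero first map. -/
noncomputable def homologyZeroSC (S : ShortComplex A) (hS : S.f = 0) :
    (S.map F).homology ≅ F.obj S.homology := by
  have h2 : (S.map F).f = 0 := by
    change F.map S.f = 0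
    rw [hS, F.map_zero]
  have i1 : IsIso S.homologyπ := S.isIso_homologyπ hS
  have i2 : IsIso (S.map F).homologyπ := (S.map F).isIso_homologyπ h2
  let e : (S.map F).cycles ≅ F.obj S.cycles :=
    IsLimit.conePointUniqueUpToIso (S.map F).cyclesIsKernel
      (KernelFork.mapIsLimit _ S.cyclesIsKernel F)
  exact (asIso (S.map F).homologyπ).symm ≪≫ e ≪≫ F.mapIso (asIso S.homologyπ)

/-- A left exact functor commutes with `H^n` of a complex with zero term in degree `n-1`. -/
noncomputable def homologyZero (I : CochainComplex A ℤ) (n : ℤ) (hI : IsZero (I.X (n - 1))) :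
    ((F.mapHomologicalComplex (ComplexShape.up ℤ)).obj I).homology n ≅ F.obj (I.homology n) :=
  homologyZeroSC F (I.sc n) (by
    have : (ComplexShape.up ℤ).prev n = n - 1 := by simp
    apply IsZero.eq_of_src
    change IsZero (I.X ((ComplexShape.up ℤ).prev n))
    rw [this]
    exact hI)

end Zero

section Derived

variable {A : Type u} [Category.{v} A] [Abelian A] [HasDerivedCategory.{w} A]
  {B : Type u'} [Category.{v'} B] [Abelian B] [HasDerivedCategory.{w'} B]
  (F : A ⥤ B) [F.Additive]
  (RF : DerivedCategory A ⥤ DerivedCategory B)
  (α : F.mapHomotopyCategory (ComplexShape.up ℤ) ⋙ DerivedCategory.Qh ⟶ DerivedCategory.Qh ⋙ RF)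
  [RF.IsRightDerivedFunctor α (HomotopyCategory.quasiIso A (ComplexShape.up ℤ))]
  (hA : DerHo.HasKInj A)

include hA in
/-- The value on K-injective complexes. -/
noncomputable def isoQ (I : CochainComplex A ℤ) (hI : I.IsKInjective) :
    DerivedCategory.Q.obj ((F.mapHomologicalComplex (ComplexShape.up ℤ)).obj I) ≅
      RF.obj (DerivedCategory.Q.obj I) :=
  haveI := DerHo.isIso_unit_app' hA RF α I hI
  letI e := asIso (α.app ((HomotopyCategory.quotient A (ComplexShape.up ℤ)).obj I))
  e

omit [HasDerivedCategory.{w} A] in
lemma isKInjective_cochainComplex {M : A} (R : InjectiveResolution M) :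
    R.cochainComplex.IsKInjective :=
  CochainComplex.isKInjective_of_injective _ 0

include hA in
/-- The value on a single object through an injective resolution. -/
noncomputable def isoSingle {M : A} (R : InjectiveResolution M) :
    DerivedCategory.Q.obj ((F.mapHomologicalComplex (ComplexShape.up ℤ)).obj R.cochainComplex) ≅
      RF.obj ((DerivedCategory.singleFunctor A 0).obj M) :=
  isoQ F RF α hA _ (isKInjective_cochainComplex R) ≪≫
    RF.mapIso (asIso (DerivedCategory.Q.map R.ι')).symm ≪≫
      RF.mapIso ((DerivedCategory.singleFunctorIsoCompQ A 0).app M).symm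

include α hA in
lemma isGE_single [EnoughInjectives A] (M : A) :
    (RF.obj ((DerivedCategory.singleFunctor A 0).obj M)).IsGE 0 := by
  let R := InjectiveResolution.of M
  have h1 : CochainComplex.IsStrictlyGE
      ((F.mapHomologicalComplex (ComplexShape.up ℤ)).obj R.cochainComplex) 0 := by
    rw [CochainComplex.isStrictlyGE_iff]
    intro i hi
    exact F.map_isZero (CochainComplex.isZero_of_isStrictlyGE R.cochainComplex 0 i hi)
  have h2 : (DerivedCategory.Q.obj ((F.mapHomologicalComplex (ComplexShape.up ℤ)).obj
      R.cochainComplex)).IsGE 0 := inferInstance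
  exact DerivedCategory.TStructure.t.isGE_of_iso (isoSingle F RF α hA R) 0

include hA in
/-- `H^0(RF(M[0])) ≅ F M`. -/
noncomputable def homologySingle [PreservesFiniteLimits F] [EnoughInjectives A] (M : A) :
    (DerivedCategory.homologyFunctor B 0).obj
      (RF.obj ((DerivedCategory.singleFunctor A 0).obj M)) ≅ F.obj M := by
  let R := InjectiveResolution.of M
  refine (DerivedCategory.homologyFunctor B 0).mapIso (isoSingle F RF α hA R).symm ≪≫
    (DerivedCategory.homologyFunctorFactors B 0).app _ ≪≫
    homologyZero F R.cochainComplex 0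
      (CochainComplex.isZero_of_isStrictlyGE R.cochainComplex 0 _ (by lia)) ≪≫ F.mapIso ?_
  exact (asIso (HomologicalComplex.homologyMap R.ι' 0)).symm ≪≫
    (HomologicalComplex.homologyFunctorSingleIso A (ComplexShape.up ℤ) 0).app M

end Derived

end Groth.Agent.PerfB.RDerZero
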