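import Groth.Agent.PerfB.FlatPull
import Groth.Agent.PerfB.TildeExact
import Groth.Agent.PerfA.ExactD
import Groth.Agent.Ega1.TildePullback
import Mathlib.Algebra.Category.ModuleCat.Descent

/-!
# `M ↦ M~` on derived categories and flat base change
-/

set_option autoImplicit false
universe u
open CategoryTheory CategoryTheory.Limits AlgebraicGeometry
attribute [local instance] HasDerivedCategory.standard

namespace Groth.Agent.PerfB.TildeBC

variable {A B : CommRingCat.{u}} (φ : A ⟶ B)

/-- For `A ⟶ B` flat: `(K~)|_{Spec B} ≅ (K ⊗_A B)~` on derived categories. -/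
noncomputable def tildeDPullback [PreservesFiniteLimits (tilde.functor A)]
    [PreservesFiniteLimits (tilde.functor B)] [Flat (Spec.map φ)]
    [PreservesFiniteLimits (ModuleCat.extendScalars.{u, u, u} φ.hom)] :
    DCoh.tildeD A ⋙ FlatPull.pullbackD (Spec.map φ) ≅
      (ModuleCat.extendScalars.{u, u, u} φ.hom).mapDerivedCategory ⋙ DCoh.tildeD B :=
  haveI : (ModuleCat.extendScalars.{u, u, u} φ.hom ⋙ tilde.functor B).Additive := inferInstance
  haveI : PreservesFiniteLimits (ModuleCat.extendScalars.{u, u, u} φ.hom ⋙ tilde.functor B) :=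
    comp_preservesFiniteLimits _ _
  haveI : PreservesFiniteColimits (ModuleCat.extendScalars.{u, u, u} φ.hom ⋙ tilde.functor B) :=
    comp_preservesFiniteColimits _ _
  Groth.Agent.PerfA.ExactD.mapDComp (F := tilde.functor A)
      (G := Scheme.Modules.pullback (Spec.map φ))
      (H := ModuleCat.extendScalars.{u, u, u} φ.hom ⋙ tilde.functor B)
      (Groth.Agent.Ega1.TildePullback.tildePullbackIso φ) ≪≫
    (Groth.Agent.PerfA.ExactD.mapDComp (F := ModuleCat.extendScalars.{u, u, u} φ.hom)
      (G := tilde.functor B)
      (H := ModuleCat.extendScalars.{u, u, u} φ.hom ⋙ tilde.functor B) (Iso.refl _)).symm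

theorem preservesFiniteLimits_extendScalars (h : φ.hom.Flat) :
    PreservesFiniteLimits (ModuleCat.extendScalars.{u, u, u} φ.hom) :=
  ModuleCat.preservesFiniteLimits_extendScalars_of_flat h

end Groth.Agent.PerfB.TildeBC
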