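import Groth.Prelude.Def_Koszul
import Mathlib.Algebra.Homology.DerivedCategory.KProjective
import Mathlib.Algebra.Homology.DerivedCategory.Linear
import Mathlib.Algebra.Homology.DerivedCategory.FullyFaithful
import Mathlib.Algebra.Homology.DerivedCategory.TStructure
import Mathlib.Algebra.Homology.ShortComplex.Linear
import Mathlib.Algebra.Homology.Refinements
import Mathlib.Algebra.Homology.HomotopyCategory.HomComplexSingle
import Mathlib.Algebra.Category.ModuleCat.Projective

set_option autoImplicit false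
universe w v u

open CategoryTheory CategoryTheory.Limits

namespace Groth.Agent.PerfB.KoszulHom

section General

variable {C : Type u} [Category.{v} C] [Abelian C]

/-- A cocycle `P ⟶ L.X 0` which vanishes in homology is a coboundary if `P` is projective. -/
lemma exists_lift_of_homology_zero (P : C) [Projective P] (L : CochainComplex C ℤ)
    (g : P ⟶ L.X 0) (hg : g ≫ L.d 0 1 = 0)
    (h : L.liftCycles g 1 (by simp) hg ≫ L.homologyπ 0 = 0) :
    ∃ k : P ⟶ L.X (-1), k ≫ L.d (-1) 0 = g := by
  obtain ⟨A', π, hπ, x, hx⟩ := (L.liftCycles_comp_homologyπ_eq_zero_iff_up_to_refinements (-1) 0 1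
    (by simp) (by simp) g hg).1 h
  refine ⟨Projective.factorThru (𝟙 P) π ≫ x, ?_⟩
  rw [Category.assoc, ← hx, ← Category.assoc, Projective.factorThru_comp, Category.id_comp]

instance isKProjective_single (P : C) [Projective P] :
    ((CochainComplex.singleFunctor C 0).obj P).IsKProjective := by
  have : ∀ n : ℤ, Projective (((CochainComplex.singleFunctor C 0).obj P).X n) := by
    intro n
    by_cases hn : n = 0
    · subst hn
      exact Projective.of_iso (HomologicalComplex.singleObjXSelf (.up ℤ) 0 P).symm inferInstance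
    · have := HomologicalComplex.isZero_single_obj_X (.up ℤ) 0 P n hn
      exact Projective.of_iso (this.iso (isZero_zero C)).symm inferInstance
  exact CochainComplex.isKProjective_of_projective _ 0

/-- Morphisms from a K-projective complex in the derived category come from chain maps. -/
lemma Q_map_surjective [HasDerivedCategory.{w} C] (K L : CochainComplex C ℤ) [K.IsKProjective]
    (φ : DerivedCategory.Q.obj K ⟶ DerivedCategory.Q.obj L) :
    ∃ f : K ⟶ L, DerivedCategory.Q.map f = φ := by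
  obtain ⟨g, hg⟩ := (CochainComplex.IsKProjective.Qh_map_bijective K
    ((HomotopyCategory.quotient C (ComplexShape.up ℤ)).obj L)).surjective
      ((DerivedCategory.quotientCompQhIso C).hom.app K ≫ φ ≫
        (DerivedCategory.quotientCompQhIso C).inv.app L)
  obtain ⟨f, rfl⟩ := (HomotopyCategory.quotient C (ComplexShape.up ℤ)).map_surjective g
  refine ⟨f, ?_⟩
  have h := (DerivedCategory.quotientCompQhIso C).hom.naturality f
  rw [Functor.comp_map, hg] at h
  simpa using h.symm

/-- Chain maps from a K-projective complex which agree in the derived category are homotopic. -/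
lemma homotopy_of_Q_map_eq [HasDerivedCategory.{w} C] (K L : CochainComplex C ℤ) [K.IsKProjective]
    (f g : K ⟶ L) (h : DerivedCategory.Q.map f = DerivedCategory.Q.map g) :
    Nonempty (Homotopy f g) := by
  have h1 := (CochainComplex.IsKProjective.Qh_map_bijective K
    ((HomotopyCategory.quotient C (ComplexShape.up ℤ)).obj L)).injective
  refine ⟨HomotopyCategory.homotopyOfEq _ _ (h1 ?_)⟩
  have hf := (DerivedCategory.quotientCompQhIso C).hom.naturality f
  have hg := (DerivedCategory.quotientCompQhIso C).hom.naturality g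
  rw [h, ← hg] at hf
  rwa [cancel_mono] at hf

lemma exists_lift_of_homologyMap_zero {K L : CochainComplex C ℤ} (f : K ⟶ L) (P : C)
    [Projective P] (i : P ⟶ K.X 0) (hi : i ≫ K.d 0 1 = 0)
    (h : HomologicalComplex.homologyMap f 0 = 0) :
    ∃ k : P ⟶ L.X (-1), k ≫ L.d (-1) 0 = i ≫ f.f 0 := by
  have hg : (i ≫ f.f 0) ≫ L.d 0 1 = 0 := by
    rw [Category.assoc, f.comm 0 1, ← Category.assoc, hi, zero_comp]
  refine exists_lift_of_homology_zero P L (i ≫ f.f 0) hg ?_
  have : L.liftCycles (i ≫ f.f 0) 1 (by simp) hg =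
      K.liftCycles i 1 (by simp) hi ≫ HomologicalComplex.cyclesMap f 0 := by
    rw [← cancel_mono (L.iCycles 0)]
    simp
  rw [this, Category.assoc, ← HomologicalComplex.homologyπ_naturality f 0, h, comp_zero, comp_zero]

/-- A chain map from a single complex on a projective which is zero in homology is homotopic to zero. -/
lemma homotopy_zero_of_homologyMap_zero (P : C) [Projective P] (L : CochainComplex C ℤ)
    (f : (CochainComplex.singleFunctor C 0).obj P ⟶ L)
    (h : HomologicalComplex.homologyMap f 0 = 0) : Nonempty (Homotopy f 0) := by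
  obtain ⟨k, hk⟩ := exists_lift_of_homologyMap_zero f P
    (HomologicalComplex.singleObjXSelf (.up ℤ) 0 P).inv
    (by
      change _ ≫ ((HomologicalComplex.single C (.up ℤ) 0).obj P).d 0 1 = 0
      simp) h
  refine ⟨(CochainComplex.HomComplex.Cochain.equivHomotopy f 0).symm
      ⟨CochainComplex.HomComplex.Cochain.fromSingleMk k (by simp), ?_⟩⟩
  rw [CochainComplex.HomComplex.Cochain.δ_fromSingleMk k (by simp) 0 0 (by simp), hk]
  apply (CochainComplex.HomComplex.Cochain.fromSingleEquiv (show (0 : ℤ) + 0 = 0 by simp)).injective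
  rw [map_add, CochainComplex.HomComplex.Cochain.fromSingleEquiv_fromSingleMk,
    CochainComplex.HomComplex.Cochain.ofHom_zero, map_zero]
  refine Eq.trans ?_ (add_zero _).symm
  simp [CochainComplex.HomComplex.Cochain.fromSingleEquiv]
  rfl

lemma homologyMap_eq_zero_of_Q [HasDerivedCategory.{w} C] {K L : CochainComplex C ℤ} (f : K ⟶ L)
    (n : ℤ) (h : (DerivedCategory.homologyFunctor C n).map (DerivedCategory.Q.map f) = 0) :
    HomologicalComplex.homologyMap f n = 0 := by
  have := NatIso.naturality_1 (DerivedCategory.homologyFunctorFactors C n) f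
  rw [Functor.comp_map, h, zero_comp, comp_zero] at this
  exact this.symm

/-- In the derived category, morphisms from a projective object (in degree `0`) are detected
by `H^0`. -/
lemma eq_zero_of_homology_map_eq_zero [HasDerivedCategory.{w} C] (P : C) [Projective P]
    (E : DerivedCategory C)
    (φ : (DerivedCategory.singleFunctor C 0).obj P ⟶ E)
    (h : (DerivedCategory.homologyFunctor C 0).map φ = 0) : φ = 0 := by
  let e : DerivedCategory.Q.obj (DerivedCategory.Q.objPreimage E) ≅ E :=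
    DerivedCategory.Q.objObjPreimageIso E
  let L := DerivedCategory.Q.objPreimage E
  rw [← cancel_mono e.inv, zero_comp]
  have h' : (DerivedCategory.homologyFunctor C 0).map (φ ≫ e.inv) = 0 := by
    rw [Functor.map_comp, h, zero_comp]
  generalize φ ≫ e.inv = ψ at h'
  obtain ⟨f, hf⟩ := Q_map_surjective ((CochainComplex.singleFunctor C 0).obj P) L ψ
  obtain ⟨H⟩ := homotopy_zero_of_homologyMap_zero P L f
    (homologyMap_eq_zero_of_Q f 0 (by rw [hf]; exact h'))
  rw [← hf]
  refine (DerivedCategory.Q_map_eq_of_homotopy C H).trans ?_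
  exact Functor.map_zero _ _ _

end General

section LinearHomology

variable {C : Type u} [Category.{v} C] [Abelian C] (R : Type*) [Ring R] [Linear R C]

instance linear_homologyFunctor_complex (n : ℤ) :
    Functor.Linear R (HomologicalComplex.homologyFunctor C (ComplexShape.up ℤ) n) where
  map_smul {K L} f r := by
    exact ShortComplex.homologyMap_smul
      ((HomologicalComplex.shortComplexFunctor C (ComplexShape.up ℤ) n).map f) r

instance linear_homologyFunctor [HasDerivedCategory.{w} C] (n : ℤ) :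
    Functor.Linear R (DerivedCategory.homologyFunctor C n) := by
  let _ : Localization.Lifting DerivedCategory.Q
    (HomologicalComplex.quasiIso C (ComplexShape.up ℤ))
    (HomologicalComplex.homologyFunctor C (ComplexShape.up ℤ) n)
    (DerivedCategory.homologyFunctor C n) := ⟨DerivedCategory.homologyFunctorFactors C n⟩
  exact (Localization.functor_linear_iff DerivedCategory.Q
    (HomologicalComplex.quasiIso C (ComplexShape.up ℤ)) R
    (HomologicalComplex.homologyFunctor C (ComplexShape.up ℤ) n)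
    (DerivedCategory.homologyFunctor C n)).1 inferInstance

end LinearHomology

section Torsion

variable {A : Type u} [CommRing A]

/-- `H^i(E)` is `g`-power torsion. -/
def TorsD [HasDerivedCategory.{w} (ModuleCat.{u} A)] (g : A) (i : ℤ)
    (E : DerivedCategory (ModuleCat.{u} A)) : Prop :=
  ∀ x : (DerivedCategory.homologyFunctor (ModuleCat.{u} A) i).obj E, ∃ n : ℕ, g ^ n • x = 0

variable [HasDerivedCategory.{w} (ModuleCat.{u} A)]

lemma TorsD.of_iso {g : A} {i : ℤ} {E E' : DerivedCategory (ModuleCat.{u} A)} (h : TorsD g i E)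
    (e : E ≅ E') : TorsD g i E' := by
  intro x
  obtain ⟨n, hn⟩ := h ((DerivedCategory.homologyFunctor (ModuleCat.{u} A) i).map e.inv x)
  refine ⟨n, ?_⟩
  have h2 : (DerivedCategory.homologyFunctor (ModuleCat.{u} A) i).map e.hom
    ((DerivedCategory.homologyFunctor (ModuleCat.{u} A) i).map e.inv x) = x := by
    rw [← ModuleCat.comp_apply, ← Functor.map_comp, e.inv_hom_id, CategoryTheory.Functor.map_id]
    rfl
  rw [← h2, ← map_smul, hn, map_zero]

/-- `H^a(E⟦n⟧) ≅ H^{a'}(E)` for `n + a = a'`. -/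
noncomputable def homologyShiftIso (E : DerivedCategory (ModuleCat.{u} A)) (n a a' : ℤ)
    (h : n + a = a') :
    (DerivedCategory.homologyFunctor (ModuleCat.{u} A) a).obj (E⟦n⟧) ≅
      (DerivedCategory.homologyFunctor (ModuleCat.{u} A) a').obj E :=
  ((DerivedCategory.homologyFunctor (ModuleCat.{u} A) 0).shiftIso n a a' h).app E

lemma TorsD.shift {g : A} {a' : ℤ} {E : DerivedCategory (ModuleCat.{u} A)} (hE : TorsD g a' E)
    (n a : ℤ) (h : n + a = a') : TorsD g a (E⟦n⟧) := by
  intro x
  let e := homologyShiftIso E n a a' h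
  obtain ⟨k, hk⟩ := hE (e.hom x)
  refine ⟨k, ?_⟩
  have h2 : e.inv (e.hom x) = x := by
    rw [← ModuleCat.comp_apply, e.hom_inv_id]
    rfl
  rw [← h2, ← map_smul, hk, map_zero]

open Koszul

lemma hom_single_torsion (g : A) (E : DerivedCategory (ModuleCat.{u} A)) (hE : TorsD g 0 E)
    (φ : (DerivedCategory.singleFunctor (ModuleCat.{u} A) 0).obj (ModuleCat.of A A) ⟶ E) :
    ∃ n : ℕ, g ^ n • φ = 0 := by
  let e : (DerivedCategory.homologyFunctor (ModuleCat.{u} A) 0).obj
      ((DerivedCategory.singleFunctor (ModuleCat.{u} A) 0).obj (ModuleCat.of A A)) ≅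
      ModuleCat.of A A :=
    (DerivedCategory.singleFunctorCompHomologyFunctorIso (ModuleCat.{u} A) 0).app (ModuleCat.of A A)
  obtain ⟨n, hn⟩ := hE ((DerivedCategory.homologyFunctor (ModuleCat.{u} A) 0).map φ
    (e.inv (1 : A)))
  refine ⟨n, ?_⟩
  have : Projective (ModuleCat.of A A) :=
    (IsProjective.iff_projective (R := A) (P := A)).1 inferInstance
  apply eq_zero_of_homology_map_eq_zero
  rw [Functor.map_smul, ← cancel_epi e.inv]
  ext
  simpa using hn

lemma hom_unit_torsion (g : A) (E : DerivedCategory (ModuleCat.{u} A)) (hE : TorsD g 0 E)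
    (φ : DerivedCategory.Q.obj (koszul A []) ⟶ E) : ∃ n : ℕ, g ^ n • φ = 0 :=
  hom_single_torsion g E hE φ

/-- the distinguished triangle `K(l) --f--> K(l) ⟶ K(f :: l) ⟶ K(l)[1]`. -/
noncomputable abbrev tri (f : A) (l : List A) :
    Pretriangulated.Triangle (DerivedCategory (ModuleCat.{u} A)) :=
  DerivedCategory.Q.mapTriangle.obj (CochainComplex.mappingCone.triangle (f • 𝟙 (koszul A l)))

lemma tri_distinguished (f : A) (l : List A) :
    tri f l ∈ Pretriangulated.distinguishedTriangles :=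
  DerivedCategory.mappingCone_triangle_distinguished _

lemma shift_smul_eq_zero (r : A) {X E : DerivedCategory (ModuleCat.{u} A)}
    (χ : X⟦(1 : ℤ)⟧ ⟶ E)
    (h : r • ((shiftShiftNeg X (1 : ℤ)).inv ≫ χ⟦(-1 : ℤ)⟧') = 0) : r • χ = 0 := by
  rw [← Linear.comp_smul] at h
  have h2 : r • χ⟦(-1 : ℤ)⟧' = 0 := by
    rw [← cancel_epi (shiftShiftNeg X (1 : ℤ)).inv, h, comp_zero]
  apply (shiftFunctor (DerivedCategory (ModuleCat.{u} A)) (-1 : ℤ)).map_injective
  rw [Functor.map_smul, h2, Functor.map_zero]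

lemma triangle_torsion (g : A) (T : Pretriangulated.Triangle (DerivedCategory (ModuleCat.{u} A)))
    (hT : T ∈ Pretriangulated.distinguishedTriangles) (E : DerivedCategory (ModuleCat.{u} A))
    (h2 : ∀ φ : T.obj₂ ⟶ E, ∃ n : ℕ, g ^ n • φ = 0)
    (h1 : ∀ φ : T.obj₁⟦(1 : ℤ)⟧ ⟶ E, ∃ n : ℕ, g ^ n • φ = 0)
    (φ : T.obj₃ ⟶ E) : ∃ n : ℕ, g ^ n • φ = 0 := by
  obtain ⟨n, hn⟩ := h2 (T.mor₂ ≫ φ)
  rw [← Linear.comp_smul] at hn
  obtain ⟨χ, hχ⟩ := T.yoneda_exact₃ hT (g ^ n • φ) hn
  obtain ⟨m, hm⟩ := h1 χ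
  refine ⟨m + n, ?_⟩
  rw [pow_add, mul_smul, hχ, ← Linear.comp_smul, hm, comp_zero]

lemma shift_torsion (g : A) (X E : DerivedCategory (ModuleCat.{u} A))
    (h : ∀ φ : X ⟶ E⟦(-1 : ℤ)⟧, ∃ n : ℕ, g ^ n • φ = 0)
    (φ : X⟦(1 : ℤ)⟧ ⟶ E) : ∃ n : ℕ, g ^ n • φ = 0 := by
  obtain ⟨n, hn⟩ := h ((shiftShiftNeg X (1 : ℤ)).inv ≫ φ⟦(-1 : ℤ)⟧')
  exact ⟨n, shift_smul_eq_zero _ _ hn⟩

lemma hom_koszul_torsion (g : A) (l : List A) : ∀ (E : DerivedCategory (ModuleCat.{u} A)),
    (∀ i : ℤ, -(l.length : ℤ) ≤ i → i ≤ 0 → TorsD g i E) →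
    ∀ φ : DerivedCategory.Q.obj (koszul A l) ⟶ E, ∃ n : ℕ, g ^ n • φ = 0 := by
  induction l with
  | nil => intro E hE φ; exact hom_unit_torsion g E (hE 0 (by simp) le_rfl) φ
  | cons f l ih =>
    intro E hE φ
    have hlen : ((f :: l).length : ℤ) = l.length + 1 := by simp
    exact triangle_torsion g (tri f l) (tri_distinguished f l) E
      (ih E (fun i h1 h2 => hE i (by omega) h2))
      (shift_torsion g _ E (ih (E⟦(-1 : ℤ)⟧) (fun i h1 h2 =>
        (hE (i - 1) (by omega) (by omega)).shift (-1) i (by omega)))) φ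

omit [HasDerivedCategory.{w} (ModuleCat.{u} A)]

/-- the canonical map `A ⟶ K(l)`. -/
noncomputable def can : (l : List A) → (koszul A [] ⟶ koszul A l)
  | [] => 𝟙 _
  | f :: l => can l ≫ CochainComplex.mappingCone.inr (f • 𝟙 (koszul A l))

/-- The transition map `K(l ^ (e + k)) ⟶ K(l ^ e)`. -/
noncomputable def tr (e k : ℕ) : (l : List A) →
    (koszul A (l.map (fun a => a ^ (e + k))) ⟶ koszul A (l.map (fun a => a ^ e)))
  | [] => 𝟙 _
  | f :: l => CochainComplex.mappingCone.map _ _ (f ^ k • tr e k l) (tr e k l) (by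
      rw [Linear.smul_comp, Category.id_comp, Linear.comp_smul, Category.comp_id, smul_smul]
      dsimp only
      rw [pow_add])

lemma can_tr (e k : ℕ) : ∀ l : List A,
    can (l.map (fun a => a ^ (e + k))) ≫ tr e k l = can (l.map (fun a => a ^ e))
  | [] => by
      change 𝟙 _ ≫ 𝟙 _ = 𝟙 _
      simp
  | f :: l => by
      change (can (l.map (fun a => a ^ (e + k))) ≫ CochainComplex.mappingCone.inr _) ≫
        CochainComplex.mappingCone.map _ _ (f ^ k • tr e k l) (tr e k l) _ =
          can (l.map (fun a => a ^ e)) ≫ CochainComplex.mappingCone.inr _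
      rw [CochainComplex.mappingCone.map_eq_mapOfHomotopy, Category.assoc,
        CochainComplex.mappingCone.triangleMapOfHomotopy_comm₂, ← Category.assoc, can_tr e k l]

variable [HasDerivedCategory.{w} (ModuleCat.{u} A)]

lemma triangle_factor (T : Pretriangulated.Triangle (DerivedCategory (ModuleCat.{u} A)))
    (hT : T ∈ Pretriangulated.distinguishedTriangles) (E : DerivedCategory (ModuleCat.{u} A))
    (φ : T.obj₂ ⟶ E) (h : T.mor₁ ≫ φ = 0) : ∃ ψ : T.obj₃ ⟶ E, T.mor₂ ≫ ψ = φ := by
  obtain ⟨ψ, hψ⟩ := T.yoneda_exact₂ hT φ h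
  exact ⟨ψ, hψ.symm⟩

lemma factor_cons (f : A) (l : List A) (E : DerivedCategory (ModuleCat.{u} A))
    (φ : DerivedCategory.Q.obj (koszul A l) ⟶ E) (h : f • φ = 0) :
    ∃ ψ : DerivedCategory.Q.obj (koszul A (f :: l)) ⟶ E,
      DerivedCategory.Q.map (CochainComplex.mappingCone.inr (f • 𝟙 (koszul A l))) ≫ ψ = φ := by
  refine triangle_factor (tri f l) (tri_distinguished f l) E φ ?_
  change DerivedCategory.Q.map (f • 𝟙 (koszul A l)) ≫ φ = 0
  rw [Functor.map_smul, CategoryTheory.Functor.map_id, Linear.smul_comp, Category.id_comp, h]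

/-- Every `s : A ⟶ E` factors through `K(f_1^e, …, f_r^e)` for all large `e`, as soon as
`H^i(E)` is `f_j`-power torsion for `-r < i ≤ 0`. -/
theorem exists_factor (l : List A) (E : DerivedCategory (ModuleCat.{u} A))
    (s : DerivedCategory.Q.obj (koszul A []) ⟶ E) :
    (∀ i : ℤ, -(l.length : ℤ) < i → i ≤ 0 → ∀ a ∈ l, TorsD a i E) →
    ∃ e₀ : ℕ, ∀ e : ℕ, e₀ ≤ e → ∃ ψ : DerivedCategory.Q.obj (koszul A (l.map (fun a => a ^ e))) ⟶ E,
      DerivedCategory.Q.map (can (l.map (fun a => a ^ e))) ≫ ψ = s := by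
  induction l with
  | nil =>
    intro _
    refine ⟨0, fun e _ => ⟨s, ?_⟩⟩
    change DerivedCategory.Q.map (𝟙 _) ≫ s = s
    simp
  | cons f l ih =>
    intro hE
    have hlen : ((f :: l).length : ℤ) = l.length + 1 := by simp
    obtain ⟨e₀, h₀⟩ := ih (fun i h1 h2 a ha => hE i (by omega) h2 a (List.mem_cons_of_mem _ ha))
    obtain ⟨ψ₀, hψ₀⟩ := h₀ e₀ le_rfl
    obtain ⟨n, hn⟩ := hom_koszul_torsion f (l.map (fun a => a ^ e₀)) E (fun i h1 h2 =>
      hE i (by rw [List.length_map] at h1; omega) h2 f List.mem_cons_self) ψ₀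
    refine ⟨e₀ + n, fun e he => ?_⟩
    obtain ⟨k, rfl⟩ := Nat.exists_eq_add_of_le (le_trans (Nat.le_add_right e₀ n) he)
    have hk : n ≤ k := by omega
    have h3 : (f ^ (e₀ + k)) • ψ₀ = 0 := by
      obtain ⟨j, rfl⟩ := Nat.exists_eq_add_of_le hk
      rw [show e₀ + (n + j) = (e₀ + j) + n by ring, pow_add, mul_smul, hn, smul_zero]
    have h1 : (f ^ (e₀ + k)) • (DerivedCategory.Q.map (tr e₀ k l) ≫ ψ₀) = 0 := by
      rw [← Linear.comp_smul, h3, comp_zero]
    obtain ⟨ψ, hψ⟩ := factor_cons (f ^ (e₀ + k)) (l.map (fun a => a ^ (e₀ + k))) E _ h1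
    refine ⟨ψ, ?_⟩
    change DerivedCategory.Q.map (can (l.map (fun a => a ^ (e₀ + k))) ≫
      CochainComplex.mappingCone.inr (f ^ (e₀ + k) • 𝟙 (koszul A (l.map (fun a => a ^ (e₀ + k)))))) ≫
        ψ = s
    rw [Functor.map_comp, Category.assoc, hψ, ← Functor.map_comp_assoc, can_tr, hψ₀]

end Torsion

end Groth.Agent.PerfB.KoszulHom
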