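import Groth.Prelude.Def_DCoh2
import Groth.Prelude.Def_Wider
import Groth.Agent.PerfB.ExactHomology
import Groth.Agent.PerfB.KoszulHom

set_option autoImplicit false
universe u

open CategoryTheory CategoryTheory.Limits AlgebraicGeometry Opposite TopologicalSpace
attribute [local instance] HasDerivedCategory.standard

namespace Groth.Agent.PerfB.TildeTorsion

/-- Sections of a zero module vanish. -/
lemma subsingleton_of_isZero {X : Scheme.{u}} {M : X.Modules} (h : IsZero M) (U : X.Opens) :
    Subsingleton Γ(M, U) := by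
  have h0 : (𝟙 M : M ⟶ M) = 0 := h.eq_of_src _ _
  refine ⟨fun x y => ?_⟩
  have hz : ∀ x : Γ(M, U), x = 0 := by
    intro x
    have := congrArg (fun (φ : M ⟶ M) => (Scheme.Modules.Hom.app φ U) x) h0
    simpa using this
  rw [hz x, hz y]

/-- Sections over an open contained in `U` vanish if the restriction to `U` is zero. -/
lemma subsingleton_of_isZero_restrict {X : Scheme.{u}} {M : X.Modules} (U V : X.Opens)
    (hVU : V ≤ U) (h : IsZero (M.restrict U.ι)) : Subsingleton Γ(M, V) := by
  have := subsingleton_of_isZero h (U.ι ⁻¹ᵁ V)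
  let e := M.restrictAppIso U.ι (U.ι ⁻¹ᵁ V)
  have hV : U.ι ''ᵁ (U.ι ⁻¹ᵁ V) = V := by
    rw [Scheme.Hom.image_preimage_eq_opensRange_inf, Scheme.Opens.opensRange_ι]
    exact inf_eq_right.2 hVU
  have h2 : Subsingleton Γ(M, U.ι ''ᵁ (U.ι ⁻¹ᵁ V)) :=
    (e.addCommGroupIsoToAddEquiv.symm.toEquiv).subsingleton
  rwa [hV] at h2

/-- If the restriction of `M~` to an open containing `D(g)` vanishes then `M` is `g`-power torsion. -/
lemma torsion_of_isZero_restrict {R : CommRingCat.{u}} (N : ModuleCat.{u} R) (U : (Spec R).Opens)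
    (h : IsZero ((tilde N).restrict U.ι)) (g : R) (hg : PrimeSpectrum.basicOpen g ≤ U) (x : N) :
    ∃ n : ℕ, g ^ n • x = 0 := by
  have h1 : Subsingleton Γ(tilde N, PrimeSpectrum.basicOpen g) :=
    subsingleton_of_isZero_restrict U _ hg h
  have := (IsLocalizedModule.eq_zero_iff (.powers g) (tilde.toOpen N (PrimeSpectrum.basicOpen g)).hom
    (m := x)).1 (by
      have : Subsingleton ((modulesSpecToSheaf.obj (tilde N)).presheaf.obj (op (PrimeSpectrum.basicOpen g))) := h1
      exact Subsingleton.elim _ _)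
  obtain ⟨⟨_, n, rfl⟩, hn⟩ := this
  exact ⟨n, hn⟩

lemma basicOpen_le_puncturedOpen {A : Type u} [CommRing A] (fs : List A) (g : A) (hg : g ∈ fs) :
    (PrimeSpectrum.basicOpen g : (Spec (CommRingCat.of A)).Opens) ≤
      LocCoh.puncturedOpen A (Ideal.span {a | a ∈ fs}) := by
  intro x hx hx'
  exact hx (hx' (Ideal.subset_span hg))

/-- `H^i(M~) ≅ H^i(M)~`. -/
noncomputable def homologyTildeIso (R : CommRingCat.{u}) [PreservesFiniteLimits (tilde.functor R)]
    (M : DerivedCategory (ModuleCat.{u} R)) (i : ℤ) :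
    DCoh.HD ((DCoh.tildeD R).obj M) i ≅
      (tilde.functor R).obj ((DerivedCategory.homologyFunctor (ModuleCat.{u} R) i).obj M) :=
  ExactHomology.homologyObjIso (tilde.functor R) M i

/-- The derived version: `H^i(M)` is `g`-power torsion if `H^i(M~)` vanishes on `U ⊇ D(g)`. -/
lemma torsD_of_isZero_restrict {A : Type u} [CommRing A]
    [PreservesFiniteLimits (tilde.functor (CommRingCat.of A))]
    (M : DerivedCategory (ModuleCat.{u} A)) (U : (Spec (CommRingCat.of A)).Opens) (i : ℤ)
    (h : IsZero ((DCoh.HD ((DCoh.tildeD (CommRingCat.of A)).obj M) i).restrict U.ι))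
    (g : A) (hg : PrimeSpectrum.basicOpen g ≤ U) : KoszulHom.TorsD g i M := by
  intro x
  refine torsion_of_isZero_restrict (R := CommRingCat.of A)
    ((DerivedCategory.homologyFunctor (ModuleCat.{u} A) i).obj M) U ?_ g hg x
  refine h.of_iso ?_
  exact (Scheme.Modules.restrictFunctor U.ι).mapIso
    (homologyTildeIso (CommRingCat.of A) M i).symm

/-- `O_X[0] ≅ (A[0])~`. -/
noncomputable def unitIso (R : CommRingCat.{u}) [PreservesFiniteLimits (tilde.functor R)] :
    DCoh.inD (Spec (CommRingCat.of R)) (Coh.structureModule (Spec (CommRingCat.of R))) ≅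
      (DCoh.tildeD R).obj
        ((DerivedCategory.singleFunctor (ModuleCat.{u} R) 0).obj (ModuleCat.of R R)) :=
  ((tilde.functor R).mapDerivedCategorySingleFunctor 0).symm.app (ModuleCat.of R R)

end Groth.Agent.PerfB.TildeTorsion
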