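import Groth.Agent.PerfB.BCPush
import Groth.Agent.PerfC.LpullTens
import Groth.Agent.Dcoh.LTMod
import Groth.Agent.Dcoh.AdPull

/-!
# Formal base change: from the calculus to the frozen form of S1066

`nonempty_of_bc`: if, for every K-flat complex `K` representing `E`, base change holds in the derived pseudofunctor
for the arrow `g'^* (K ⊗ G) → K ⊗ G`, then `Lg^* Rf_* (E ⊗ᴸ G) ≅ Rf'_* (Lg'^* E ⊗ᴸ g'^* G)`.
-/

set_option autoImplicit false

universe u

open CategoryTheory CategoryTheory.Limits AlgebraicGeometry Pretriangulated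

attribute [local instance] HasDerivedCategory.standard

namespace Groth.Agent.PerfB.BCFrozen280

open Groth.Agent.PerfB.BCTot Groth.Agent.PerfB.BCTot.Tot Groth.Agent.PerfB.BCMod
  Groth.Agent.PerfB.BCCx Groth.Agent.PerfB.BCDer Groth.Agent.PerfB.BCSch Groth.Agent.PerfB.BCTri
  Groth.Agent.PerfB.BCShift Groth.Agent.PerfB.BCPush
  Groth.Agent.Dcoh.DerHo Groth.Agent.Dcoh.DerComp Groth.Agent.Dcoh.DerSch

section PullTens

variable {X Y : Scheme.{u}} (f : X ⟶ Y) (G : Y.Modules)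

/-- `f^* (M ⊗ G) ≅ f^* M ⊗ f^* G`, naturally in `M`. -/
noncomputable def pullTensFlip :
    (DCoh.tensorBi (X := Y)).flip.obj G ⋙ Scheme.Modules.pullback f ≅
      Scheme.Modules.pullback f ⋙ (DCoh.tensorBi (X := X)).flip.obj
        ((Scheme.Modules.pullback f).obj G) :=
  NatIso.ofComponents (fun M => (((Groth.Agent.PerfC.LpullTens.pullBi f).app M).app G))
    (fun φ => congr_app ((Groth.Agent.PerfC.LpullTens.pullBi f).hom.naturality φ) G)

/-- `f^* (M ⊗ G) ≅ f^* M ⊗ f^* G`, naturally in `M`. -/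
noncomputable def pullTens :
    DCoh.tensorRightMod G ⋙ Scheme.Modules.pullback f ≅
      Scheme.Modules.pullback f ⋙ DCoh.tensorRightMod ((Scheme.Modules.pullback f).obj G) :=
  Functor.isoWhiskerRight (Groth.Agent.Dcoh.TMod.flipIso G).symm (Scheme.Modules.pullback f) ≪≫
    pullTensFlip f G ≪≫
    Functor.isoWhiskerLeft (Scheme.Modules.pullback f)
      (Groth.Agent.Dcoh.TMod.flipIso ((Scheme.Modules.pullback f).obj G))

/-- `f^* (K ⊗ G) ≅ f^* K ⊗ f^* G`, for complexes. -/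
noncomputable def pullTensCx (K : CochainComplex Y.Modules ℤ) :
    ((Scheme.Modules.pullback f).mapHomologicalComplex (ComplexShape.up ℤ)).obj
        (((DCoh.tensorRightMod G).mapHomologicalComplex (ComplexShape.up ℤ)).obj K) ≅
      ((DCoh.tensorRightMod ((Scheme.Modules.pullback f).obj G)).mapHomologicalComplex
        (ComplexShape.up ℤ)).obj
          (((Scheme.Modules.pullback f).mapHomologicalComplex (ComplexShape.up ℤ)).obj K) :=
  (NatIso.mapHomologicalComplex (pullTens f G) (ComplexShape.up ℤ)).app K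

end PullTens

section

attribute [local instance] hasLpull hasRpush

/-- Base change in the calculus gives an isomorphism `Lg^* Rf_* (Q C) ≅ Rf'_* (Q g'^* C)`. -/
theorem nonempty_iso_of_bc {X X' S S' : Scheme.{u}} {f : X ⟶ S} {f' : X' ⟶ S'} {g : S' ⟶ S}
    {g' : X' ⟶ X} (w : g' ≫ f = f' ≫ g) {K : DCoh.D X} {K' : DCoh.D X'}
    (θ : (⟨X', K'⟩ : Tot dPull.{u}) ⟶ ⟨X, K⟩) (hθ : θ.base = g') (H : BC θ f f' g) :
    Nonempty ((DCoh.Lpull g).obj ((DCoh.Rpush f).obj K) ≅ (DCoh.Rpush f').obj K') := by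
  obtain ⟨s, hs, hs'⟩ := (isCocart_cocartLift (P := dPull.{u}) f' (lAdj f') K').desc
    (θ ≫ cocartLift (P := dPull.{u}) f (lAdj f) K) g (by
      rw [comp_base, hθ, cocartLift_base, cocartLift_base, w])
  have h := H _ _ (cocartLift (P := dPull.{u}) f (lAdj f) K)
    (cocartLift (P := dPull.{u}) f' (lAdj f') K') s rfl rfl hs (isCocart_cocartLift _ _ _)
    (isCocart_cocartLift _ _ _) hs'
  subst hs
  exact ⟨@asIso _ _ _ _ s.fib h⟩

end

/-- The frozen form of S1066 from base change in the calculus. -/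
theorem nonempty_of_bc {X X' S S' : Scheme.{u}} (f : X ⟶ S) (f' : X' ⟶ S') (g : S' ⟶ S)
    (g' : X' ⟶ X) (w : g' ≫ f = f' ≫ g) (E : DCoh.D X) (G : X.Modules)
    [DCoh.HasLTensorMod G] [DCoh.HasRpush f] [DCoh.HasLpull g] [DCoh.HasLpull g'] [DCoh.HasRpush f']
    [DCoh.HasLTensorMod ((Scheme.Modules.pullback g').obj G)]
    (H : ∀ K : CochainComplex X.Modules ℤ, DCoh.IsKFlat K →
      Nonempty (DerivedCategory.Q.obj K ≅ E) →
      BC (toD.tot.map (cartLift (P := cxMod.{u})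
        ⟨X, ((DCoh.tensorRightMod G).mapHomologicalComplex (ComplexShape.up ℤ)).obj K⟩ g')) f f' g) :
    Nonempty ((DCoh.Lpull g).obj ((DCoh.Rpush f).obj ((DCoh.LTensorMod G).obj E)) ≅
      (DCoh.Rpush f').obj ((DCoh.LTensorMod ((Scheme.Modules.pullback g').obj G)).obj
        ((DCoh.Lpull g').obj E))) := by
  obtain ⟨K, hK, ⟨e⟩⟩ := Groth.Agent.Dcoh.LDer.exists_iso (Groth.Agent.Dcoh.LTMod.adapted G) E
  obtain ⟨i⟩ := nonempty_iso_of_bc w _ rfl (H K hK ⟨e⟩)
  refine ⟨(DCoh.Lpull g).mapIso ((DCoh.Rpush f).mapIso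
    ((DCoh.LTensorMod G).mapIso e.symm ≪≫ Groth.Agent.Dcoh.LTMod.isoQ G hK)) ≪≫ i ≪≫
    (DCoh.Rpush f').mapIso (DerivedCategory.Q.mapIso (pullTensCx g' G K) ≪≫
      (Groth.Agent.Dcoh.LTMod.isoQ ((Scheme.Modules.pullback g').obj G)
        (StalkKFlat.isKFlat_pullback g' K hK)).symm ≪≫
      (DCoh.LTensorMod ((Scheme.Modules.pullback g').obj G)).mapIso
        ((Groth.Agent.Dcoh.AdPull.isoQ g' hK).symm ≪≫ (DCoh.Lpull g').mapIso e))⟩

end Groth.Agent.PerfB.BCFrozen280
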