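import Groth.Agent.PerfB.BCGeom
import Groth.Agent.S0015

/-!
# Formal base change, XI: reduction to affine schemes
-/

set_option autoImplicit false

universe u

open CategoryTheory CategoryTheory.Limits AlgebraicGeometry Pretriangulated

attribute [local instance] HasDerivedCategory.standard

namespace Groth.Agent.PerfB.BCLoc

open Groth.Agent.PerfB.BCTot Groth.Agent.PerfB.BCTot.Tot Groth.Agent.PerfB.BCMod
  Groth.Agent.PerfB.BCCx Groth.Agent.PerfB.BCDer Groth.Agent.PerfB.BCSch Groth.Agent.PerfB.BCTri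
  Groth.Agent.PerfB.BCShift Groth.Agent.PerfB.BCPush Groth.Agent.PerfB.BCMV
  Groth.Agent.PerfB.BCGeom
  Groth.Agent.Dcoh.DerHo Groth.Agent.Dcoh.DerComp Groth.Agent.Dcoh.DerSch

attribute [local instance] hasLpull hasRpush

lemma BCres.congr_base {𝒮 : Type*} [Category 𝒮] {D : 𝒮 → Type*} [∀ X, Category (D X)]
    {P : PullData D} {A A' : Tot P} {θ : A' ⟶ A} {V V' : 𝒮} {j j₁ : V ⟶ A.base}
    {j' j₁' : V' ⟶ A'.base} {h h₁ : V' ⟶ V} {S S' : 𝒮} {f f₁ : V ⟶ S} {f' f₁' : V' ⟶ S'}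
    {g g₁ : S' ⟶ S} (H : BCres θ j j' h f f' g) (ej : j = j₁) (ej' : j' = j₁') (eh : h = h₁)
    (ef : f = f₁) (ef' : f' = f₁') (eg : g = g₁) : BCres θ j₁ j₁' h₁ f₁ f₁' g₁ := by
  subst ej ej' eh ef ef' eg
  exact H

lemma isIso_of_isCart {𝒮 : Type*} [Category 𝒮] {D : 𝒮 → Type*} [∀ X, Category (D X)]
    {P : PullData D} {A B : Tot P} {m : A ⟶ B} (hm : IsCart m) [IsIso m.base] : IsIso m := by
  obtain ⟨k, hk, hk'⟩ := hm.lift (𝟙 B) (inv m.base) (by simp)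
  refine ⟨k, hm.uniq ?_ ?_, hk'⟩
  · simp [hk]
  · rw [Category.assoc, hk', Category.comp_id, Category.id_comp]

lemma inv_base {𝒮 : Type*} [Category 𝒮] {D : 𝒮 → Type*} [∀ X, Category (D X)]
    {P : PullData D} {A B : Tot P} (m : A ⟶ B) [IsIso m] : (inv m).base ≫ m.base = 𝟙 _ := by
  rw [← comp_base, IsIso.inv_hom_id, id_base]

/-- Base change and cartesian arrows over isomorphisms. -/
lemma BC_of_BCres_iso {𝒮 : Type*} [Category 𝒮] {D : 𝒮 → Type*} [∀ X, Category (D X)]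
    {P : PullData D} {A A' : Tot P} {θ : A' ⟶ A} {V V' : 𝒮} {j : V ⟶ A.base}
    {j' : V' ⟶ A'.base} {h : V' ⟶ V} {S S' : 𝒮} {f : A.base ⟶ S} {f' : A'.base ⟶ S'}
    {g : S' ⟶ S} (H : BCres θ j j' h (j ≫ f) (j' ≫ f') g) (e : h ≫ j = j' ≫ θ.base)
    [IsIso j] [IsIso j'] : BC θ f f' g := by
  obtain ⟨θ₀, hθ₀, eθ₀⟩ := exists_res θ (a := cartLift A j) (cartLift A' j') (isCart_cartLift _ _) h e
  have h0 := H _ _ (cartLift A j) (cartLift A' j') θ₀ rfl rfl hθ₀ (isCart_cartLift _ _)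
    (isCart_cartLift _ _) eθ₀
  have i1 : IsIso (cartLift A j).base := inferInstanceAs (IsIso j)
  have i2 : IsIso (cartLift A' j').base := inferInstanceAs (IsIso j')
  have i3 := isIso_of_isCart (isCart_cartLift A j)
  have i4 := isIso_of_isCart (isCart_cartLift A' j')
  refine (BC.congr (inv (cartLift A j)) (inv (cartLift A' j')) ?_ h0).congr_base ?_ ?_ rfl
  · rw [IsIso.inv_comp_eq, ← reassoc_of% eθ₀, IsIso.hom_inv_id, Category.comp_id]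
  · rw [← Category.assoc]
    erw [inv_base (cartLift A j)]
    exact Category.id_comp _
  · rw [← Category.assoc]
    erw [inv_base (cartLift A' j')]
    exact Category.id_comp _

lemma mvSq_opens (X : Scheme.{u}) (U V : X.Opens) :
    MVSq dPull.{u} (X.homOfLE (le_sup_left : U ≤ U ⊔ V)) (X.homOfLE (le_sup_right : V ≤ U ⊔ V))
      (X.homOfLE (inf_le_left : U ⊓ V ≤ U)) (X.homOfLE (inf_le_right : U ⊓ V ≤ V)) := by
  refine mvSq (isPullback_opens_inf_le le_sup_left le_sup_right) fun x => ?_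
  have hx : (U ⊔ V).ι x ∈ (U ⊔ V : X.Opens) := x.2
  rcases hx with hx | hx
  · refine Or.inl ⟨⟨_, hx⟩, ?_⟩
    apply (U ⊔ V).ι.isOpenEmbedding.injective
    change (X.homOfLE (le_sup_left : U ≤ U ⊔ V) ≫ (U ⊔ V).ι) _ = _
    rw [X.homOfLE_ι]
    rfl
  · refine Or.inr ⟨⟨_, hx⟩, ?_⟩
    apply (U ⊔ V).ι.isOpenEmbedding.injective
    change (X.homOfLE (le_sup_right : V ≤ U ⊔ V) ≫ (U ⊔ V).ι) _ = _
    rw [X.homOfLE_ι]
    rfl

lemma homOfLE_morphismRestrict {X X' : Scheme.{u}} (g' : X' ⟶ X) {U W : X.Opens} (h : U ≤ W) :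
    X'.homOfLE (Scheme.Hom.preimage_mono g' h) ≫ (g' ∣_ W) = (g' ∣_ U) ≫ X.homOfLE h := by
  rw [← cancel_mono W.ι, Category.assoc, Category.assoc, morphismRestrict_ι, X.homOfLE_ι,
    morphismRestrict_ι, X'.homOfLE_ι_assoc]

/-- Base change over an affine base, from base change for affine opens. -/
theorem bc_affineBase {X X' S S' : Scheme.{u}} [CompactSpace X] [QuasiSeparatedSpace X]
    {f : X ⟶ S} {f' : X' ⟶ S'} {g : S' ⟶ S} {g' : X' ⟶ X} (e : g' ≫ f = f' ≫ g)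
    {K : DCoh.D X} {K' : DCoh.D X'} (θ : (⟨X', K'⟩ : Tot dPull.{u}) ⟶ ⟨X, K⟩) (hθ : θ.base = g')
    (H : ∀ U : X.Opens, IsAffineOpen U →
      BCres θ U.ι (g' ⁻¹ᵁ U).ι (g' ∣_ U) (U.ι ≫ f) ((g' ⁻¹ᵁ U).ι ≫ f') g) :
    BC θ f f' g := by
  have key : ∀ U : X.Opens, IsCompact (U : Set X) →
      BCres θ U.ι (g' ⁻¹ᵁ U).ι (g' ∣_ U) (U.ι ≫ f) ((g' ⁻¹ᵁ U).ι ≫ f') g := by
    intro U hU
    refine Groth.Agent.S0015.result X (fun U =>
      BCres θ U.ι (g' ⁻¹ᵁ U).ι (g' ∣_ U) (U.ι ≫ f) ((g' ⁻¹ᵁ U).ι ≫ f') g) H ?_ U hU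
    intro U V hU hV hPU hPV hPUV
    let W : X.Opens := U ⊔ V
    obtain ⟨θ₀, hθ₀, eθ₀⟩ := exists_res θ (a := cartLift (P := dPull.{u}) ⟨X, K⟩ W.ι)
      (cartLift (P := dPull.{u}) ⟨X', K'⟩ (g' ⁻¹ᵁ W).ι) (isCart_cartLift _ _) (g' ∣_ W)
      (by subst hθ; exact morphismRestrict_ι _ _)
    refine BCres.of_exists θ rfl rfl hθ₀ (isCart_cartLift _ _) (isCart_cartLift _ _) eθ₀ ?_
    have sq := mvSq_opens X U V
    have sq' : MVSq dPull.{u}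
      (X'.homOfLE (Scheme.Hom.preimage_mono g' (le_sup_left : U ≤ U ⊔ V)))
      (X'.homOfLE (Scheme.Hom.preimage_mono g' (le_sup_right : V ≤ U ⊔ V)))
      (X'.homOfLE (Scheme.Hom.preimage_mono g' (inf_le_left : U ⊓ V ≤ U)))
      (X'.homOfLE (Scheme.Hom.preimage_mono g' (inf_le_right : U ⊓ V ≤ V))) :=
      mvSq_opens X' (g' ⁻¹ᵁ U) (g' ⁻¹ᵁ V)
    have resl : ∀ (T : X.Opens) (hT : T ≤ W),
        BCres θ T.ι (g' ⁻¹ᵁ T).ι (g' ∣_ T) (T.ι ≫ f) ((g' ⁻¹ᵁ T).ι ≫ f') g →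
        BCres θ₀ (X.homOfLE hT) (X'.homOfLE (Scheme.Hom.preimage_mono g' hT)) (g' ∣_ T)
          (X.homOfLE hT ≫ W.ι ≫ f)
          (X'.homOfLE (Scheme.Hom.preimage_mono g' hT) ≫ (g' ⁻¹ᵁ W).ι ≫ f') g := by
      intro T hT HT
      refine BCres.res (isCart_cartLift _ _) (isCart_cartLift _ _) eθ₀ ?_
      refine BCres.congr_base HT ?_ ?_ rfl ?_ ?_ rfl
      · exact (X.homOfLE_ι hT).symm
      · exact (X'.homOfLE_ι _).symm
      · rw [X.homOfLE_ι_assoc]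
      · rw [X'.homOfLE_ι_assoc]
    obtain ⟨b, φ⟩ := θ₀
    obtain rfl : b = g' ∣_ W := hθ₀
    refine bc_mv sq sq' (homOfLE_morphismRestrict g' le_sup_left)
      (homOfLE_morphismRestrict g' le_sup_right) (homOfLE_morphismRestrict g' inf_le_right)
      (homOfLE_morphismRestrict g' inf_le_left) ?_ φ (resl U le_sup_left hPU)
      (resl V le_sup_right hPV) ?_
    · rw [morphismRestrict_ι_assoc, e, Category.assoc]
    · refine BCres.congr_base (resl (U ⊓ V) (inf_le_left.trans le_sup_left) hPUV) ?_ ?_ rfl ?_ ?_ rfl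
      · exact (X.homOfLE_homOfLE _ _).symm
      · exact (X'.homOfLE_homOfLE _ _).symm
      · rw [X.homOfLE_homOfLE]
      · rw [X'.homOfLE_homOfLE]
  have i0 : IsIso (⊤ : X.Opens).ι := inferInstanceAs (IsIso X.topIso.hom)
  have i1 : IsIso (g' ⁻¹ᵁ (⊤ : X.Opens)).ι := inferInstanceAs (IsIso X'.topIso.hom)
  exact BC_of_BCres_iso (key ⊤ isCompact_univ) (by rw [hθ]; exact morphismRestrict_ι _ _)

/-- Base change holds on all affine squares inside the given one. -/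
def AffBC {X X' : Scheme.{u}} {K : DCoh.D X} {K' : DCoh.D X'}
    (θ : (⟨X', K'⟩ : Tot dPull.{u}) ⟶ ⟨X, K⟩) {S S' : Scheme.{u}} (f : X ⟶ S) (f' : X' ⟶ S')
    (g : S' ⟶ S) : Prop :=
  ∀ (V W V' W' : Scheme.{u}) [IsAffine V] [IsAffine W] [IsAffine V'] [IsAffine W']
    (a : V ⟶ X) (b : W ⟶ S) (a' : V' ⟶ X') (b' : W' ⟶ S') [IsOpenImmersion a] [IsOpenImmersion b]
    [IsOpenImmersion a'] [IsOpenImmersion b'] (gV : V' ⟶ V) (fV : V ⟶ W) (fV' : V' ⟶ W')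
    (gW : W' ⟶ W), IsPullback gV fV' fV gW → fV ≫ b = a ≫ f → gW ≫ b = b' ≫ g →
      gV ≫ a = a' ≫ θ.base → fV' ≫ b' = a' ≫ f' → BCres θ a a' gV fV fV' gW

/-- Base change is local: it is enough to prove it for affine squares. -/
theorem bc_of_affBC {X X' S S' : Scheme.{u}} {f : X ⟶ S} {f' : X' ⟶ S'} {g : S' ⟶ S} {g' : X' ⟶ X}
    [QuasiCompact f] [QuasiSeparated f] (sq : IsPullback g' f' f g)
    {K : DCoh.D X} {K' : DCoh.D X'} (θ : (⟨X', K'⟩ : Tot dPull.{u}) ⟶ ⟨X, K⟩) (hθ : θ.base = g')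
    (H : AffBC θ f f' g) : BC θ f f' g := by
  have hP : ∀ {X Y : Scheme.{u}} (f : X ⟶ Y), (dPull.{u}.pull f).IsLeftAdjoint :=
    fun f => inferInstance
  intro L L' m m' s hf hf' hg hm hm' hs
  refine isIso_of_cover _ fun x' => ?_
  obtain ⟨W, hW, hxW, -⟩ := exists_isAffineOpen_mem_and_subset (x := g x') (U := ⊤) trivial
  obtain ⟨W', hW', hxW', hle⟩ := exists_isAffineOpen_mem_and_subset (x := x') (U := g ⁻¹ᵁ W) hxW
  have aW : IsAffine W := hW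
  have aW' : IsAffine W' := hW'
  refine ⟨W', W'.ι, inferInstance, ⟨x', hxW'⟩, rfl, ?_⟩
  have hV : IsPullback (f ⁻¹ᵁ W).ι (f ∣_ W) f W.ι := (isPullback_morphismRestrict f W).flip
  have hV' : IsPullback (f' ⁻¹ᵁ W').ι (f' ∣_ W') f' W'.ι := (isPullback_morphismRestrict f' W').flip
  let g₀ : (W' : Scheme) ⟶ W := g.resLE W W' hle
  have hg₀ : g₀ ≫ W.ι = W'.ι ≫ g := Scheme.Hom.resLE_comp_ι _ _
  let gV : (f' ⁻¹ᵁ W' : Scheme) ⟶ (f ⁻¹ᵁ W : Scheme) :=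
    hV.lift ((f' ⁻¹ᵁ W').ι ≫ g') ((f' ∣_ W') ≫ g₀) (by
      rw [Category.assoc, Category.assoc, hg₀, sq.w, morphismRestrict_ι_assoc])
  have hgV : gV ≫ (f ⁻¹ᵁ W).ι = (f' ⁻¹ᵁ W').ι ≫ g' := hV.lift_fst _ _ _
  have hgV' : gV ≫ (f ∣_ W) = (f' ∣_ W') ≫ g₀ := hV.lift_snd _ _ _
  have sq₀ : IsPullback gV (f' ∣_ W') (f ∣_ W) g₀ := by
    refine IsPullback.of_right ?_ hgV' hV
    rw [hgV, hg₀]
    exact hV'.paste_horiz sq
  obtain ⟨θ₀, hθ₀, eθ₀⟩ := exists_res θ (a := cartLift (P := dPull.{u}) ⟨X, K⟩ (f ⁻¹ᵁ W).ι)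
      (cartLift (P := dPull.{u}) ⟨X', K'⟩ (f' ⁻¹ᵁ W').ι) (isCart_cartLift _ _) gV
      (by rw [hθ]; exact hgV)
  refine isIso_pull_of_BC hm hm' hs hP (i := W.ι) (i' := W'.ι) (g₀ := g₀) (by rw [hg]; exact hg₀)
    (a := cartLift (P := dPull.{u}) ⟨X, K⟩ (f ⁻¹ᵁ W).ι)
    (a' := cartLift (P := dPull.{u}) ⟨X', K'⟩ (f' ⁻¹ᵁ W').ι) eθ₀ (f₀ := f ∣_ W) (f₀' := f' ∣_ W')
    ?_ ?_ ?_ ((bc_openD hV K).congr_base hf.symm rfl rfl)
    ((bc_openD hV' K').congr_base hf'.symm rfl rfl) ?_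
  · rw [hf]; exact morphismRestrict_ι _ _
  · rw [hf']; exact morphismRestrict_ι _ _
  · rw [hθ₀]; exact hgV'.symm
  have q1 : QuasiCompact (f ∣_ W) := MorphismProperty.of_isPullback hV inferInstance
  have q2 : QuasiSeparated (f ∣_ W) := MorphismProperty.of_isPullback hV inferInstance
  have c1 : CompactSpace (f ⁻¹ᵁ W : Scheme) := QuasiCompact.compactSpace_of_compactSpace (f ∣_ W)
  have c2 : QuasiSeparatedSpace (f ⁻¹ᵁ W : Scheme) := quasiSeparatedSpace_of_quasiSeparated (f ∣_ W)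
  refine bc_affineBase hgV' θ₀ hθ₀ fun U hU => ?_
  refine BCres.res (isCart_cartLift _ _) (isCart_cartLift _ _) eθ₀ ?_
  have sqU : IsPullback (gV ∣_ U) ((gV ⁻¹ᵁ U).ι ≫ (f' ∣_ W')) (U.ι ≫ (f ∣_ W)) g₀ :=
    (isPullback_morphismRestrict gV U).paste_vert sq₀
  have aU : IsAffine U := hU
  have h1 : IsAffineHom ((gV ⁻¹ᵁ U).ι ≫ (f' ∣_ W')) :=
    MorphismProperty.of_isPullback sqU inferInstance
  have aU' : IsAffine (gV ⁻¹ᵁ U : Scheme) := isAffine_of_isAffineHom ((gV ⁻¹ᵁ U).ι ≫ (f' ∣_ W'))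
  refine H U W (gV ⁻¹ᵁ U) W' (U.ι ≫ (f ⁻¹ᵁ W).ι) W.ι ((gV ⁻¹ᵁ U).ι ≫ (f' ⁻¹ᵁ W').ι) W'.ι
    (gV ∣_ U) (U.ι ≫ (f ∣_ W)) ((gV ⁻¹ᵁ U).ι ≫ (f' ∣_ W')) g₀ sqU ?_ hg₀ ?_ ?_
  · rw [Category.assoc, Category.assoc, morphismRestrict_ι]
  · rw [morphismRestrict_ι_assoc, hgV, hθ, Category.assoc]
  · rw [Category.assoc, Category.assoc, morphismRestrict_ι]

end Groth.Agent.PerfB.BCLoc
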