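import Groth.Agent.PerfB.BCSch

/-!
# Formal base change, VIII: the derived pseudofunctor on schemes is triangulated
-/

set_option autoImplicit false

universe u v₁ v₂ v₃ u₁ u₂ u₃

open CategoryTheory CategoryTheory.Limits AlgebraicGeometry Pretriangulated

attribute [local instance] HasDerivedCategory.standard

namespace Groth.Agent.PerfB.BCShift

open Groth.Agent.PerfB.BCTot Groth.Agent.PerfB.BCTot.Tot Groth.Agent.PerfB.BCMod
  Groth.Agent.PerfB.BCCx Groth.Agent.PerfB.BCDer Groth.Agent.PerfB.BCSch Groth.Agent.PerfB.BCTri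
  Groth.Agent.Dcoh.DerAdj Groth.Agent.Dcoh.DerAbs
  Groth.Agent.Dcoh.DerHo Groth.Agent.Dcoh.DerComp Groth.Agent.Dcoh.DerSch

/-- Descent of compatibility with shifts. -/
lemma commShift_of_fac {C : Type u₁} [Category.{v₁} C] {D : Type u₂} [Category.{v₂} D]
    {H : Type u₃} [Category.{v₃} H] [HasShift C ℤ] [HasShift D ℤ] [HasShift H ℤ]
    {Q : C ⥤ D} [Q.CommShift ℤ] {F G : D ⥤ H} [F.CommShift ℤ] [G.CommShift ℤ] {G₀ : C ⥤ H}
    [G₀.CommShift ℤ] (τ : F ⟶ G) (lam : Q ⋙ G ⟶ G₀) [NatTrans.CommShift lam ℤ]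
    (μ : Q ⋙ F ⟶ G₀) [NatTrans.CommShift μ ℤ]
    (hμ : ∀ K, τ.app (Q.obj K) ≫ lam.app K = μ.app K)
    (P : ObjectProperty C) (hP : ∀ K, P K → IsIso (lam.app K))
    (hQ : ∀ Y : D, ∃ K, P K ∧ Nonempty (Q.obj K ≅ Y)) : NatTrans.CommShift τ ℤ := by
  refine ⟨fun n => ?_⟩
  ext Y
  obtain ⟨K, hK, ⟨i⟩⟩ := hQ Y
  have := hP K hK
  rw [← cancel_epi ((shiftFunctor D n ⋙ F).map i.hom)]
  rw [NatTrans.naturality, NatTrans.naturality]
  congr 1
  simp only [NatTrans.comp_app, Functor.whiskerRight_app, Functor.whiskerLeft_app]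
  rw [← cancel_epi (F.map ((Q.commShiftIso n).hom.app K)), ← cancel_mono ((lam.app K)⟦n⟧')]
  have h1 := NatTrans.shift_app_comm μ n K
  have h2 := NatTrans.shift_app_comm lam n K
  rw [← hμ K, ← hμ (K⟦n⟧)] at h1
  rw [Functor.commShiftIso_comp_hom_app] at h1 h2
  simp only [Functor.map_comp, Category.assoc] at h1 h2 ⊢
  rw [h1]
  have h3 := τ.naturality ((Q.commShiftIso n).hom.app K)
  simp only [Functor.comp_obj] at h3
  rw [reassoc_of% h3, h2]

/-- A natural transformation between functors on complexes which is induced termwise commutes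
with the shift. -/
lemma commShift_cx {A : Type u₁} [Category.{v₁} A] [Preadditive A] {B : Type u₂} [Category.{v₂} B]
    [Preadditive B] {F G : A ⥤ B} [F.Additive] [G.Additive] (α : F ⟶ G)
    (β : F.mapHomologicalComplex (ComplexShape.up ℤ) ⟶ G.mapHomologicalComplex (ComplexShape.up ℤ))
    (h : ∀ K i, (β.app K).f i = α.app (K.X i)) : NatTrans.CommShift β ℤ := by
  refine ⟨fun n => ?_⟩
  ext K i
  simp [h]
  erw [Category.id_comp, Category.comp_id]

lemma commShift_cx₂ {A : Type u₁} [Category.{v₁} A] [Preadditive A] {B : Type u₂} [Category.{v₂} B]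
    [Preadditive B] {C : Type u₃} [Category.{v₃} C] [Preadditive C] {F₁ : A ⥤ B} {F₂ : B ⥤ C}
    {G : A ⥤ C} [F₁.Additive] [F₂.Additive] [G.Additive] (α : F₁ ⋙ F₂ ⟶ G)
    (β : F₁.mapHomologicalComplex (ComplexShape.up ℤ) ⋙ F₂.mapHomologicalComplex (ComplexShape.up ℤ) ⟶
      G.mapHomologicalComplex (ComplexShape.up ℤ))
    (h : ∀ K i, (β.app K).f i = α.app (K.X i)) : NatTrans.CommShift β ℤ := by
  refine ⟨fun n => ?_⟩
  ext K i
  simp [h, Functor.commShiftIso_comp_hom_app]
  erw [Category.id_comp, Category.comp_id, F₂.map_id, Category.id_comp]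

section Homotopy

variable {X : Scheme.{u}}

/-- K-flat objects of the homotopy category. -/
abbrev kFlatHo (X : Scheme.{u}) : ObjectProperty (HomotopyCategory X.Modules (ComplexShape.up ℤ)) :=
  ofCx (fun K => DCoh.IsKFlat K)

lemma kFlatHo_of_iso {K L : HomotopyCategory X.Modules (ComplexShape.up ℤ)} (e : K ≅ L)
    (hK : kFlatHo X K) : kFlatHo X L :=
  Groth.Agent.Dcoh.KFlatMod.isKFlat_of_homotopyEquiv
    (HomotopyCategory.homotopyEquivOfIso (C := K.as) (D := L.as) e) hK

lemma kFlatHo_shift (K : HomotopyCategory X.Modules (ComplexShape.up ℤ)) (n : ℤ)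
    (hK : kFlatHo X K) : kFlatHo X (K⟦n⟧) :=
  kFlatHo_of_iso (((HomotopyCategory.quotient X.Modules (ComplexShape.up ℤ)).commShiftIso n).app
    K.as) (Groth.Agent.Dcoh.KFlatMod.isKFlat_shift hK n)

lemma kFlatHo_cone (T : Triangle (HomotopyCategory X.Modules (ComplexShape.up ℤ)))
    (hT : T ∈ distTriang (HomotopyCategory X.Modules (ComplexShape.up ℤ)))
    (h₁ : kFlatHo X T.obj₁) (h₂ : kFlatHo X T.obj₂) : kFlatHo X T.obj₃ := by
  obtain ⟨f, hf⟩ := (HomotopyCategory.quotient X.Modules (ComplexShape.up ℤ)).map_surjective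
    (X := T.obj₁.as) (Y := T.obj₂.as) T.mor₁
  have hT' := HomotopyCategory.mappingCone_triangleh_distinguished f
  obtain ⟨e, he⟩ := exists_iso_of_arrow_iso _ _ hT' hT
    (Arrow.isoMk (Iso.refl _) (Iso.refl _)
      ((Category.id_comp _).trans (hf.symm.trans (Category.comp_id _).symm)))
  have h3 : kFlatHo X ((HomotopyCategory.quotient X.Modules (ComplexShape.up ℤ)).obj
      (CochainComplex.mappingCone f)) := (Groth.Agent.S0951.result f).1 h₁ h₂
  exact kFlatHo_of_iso (Triangle.π₃.mapIso e) h3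

end Homotopy

attribute [local instance] hasLpull hasRpush

section Shift

variable {X Y Z : Scheme.{u}} (f : X ⟶ Y) (g : Y ⟶ Z)

@[instance_reducible]
noncomputable def lpullCommShift : (DCoh.Lpull f).CommShift ℤ :=
  (leftDataPull f).commShift (W₀ := HomotopyCategory.quasiIso Y.Modules (ComplexShape.up ℤ))
    (DerivedCategory.Qh.leftUnitor) (DCoh.Lpull f) (lpullCounit f) (fun _ hw => hw) kFlatHo_shift

attribute [local instance] lpullCommShift

instance lpullCounit_commShift : NatTrans.CommShift (lpullCounit f) ℤ :=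
  (leftDataPull f).natTrans_commShift
    (W₀ := HomotopyCategory.quasiIso Y.Modules (ComplexShape.up ℤ))
    (DerivedCategory.Qh.leftUnitor) (DCoh.Lpull f) (lpullCounit f) (fun _ hw => hw) kFlatHo_shift

instance lpull_isTriangulated : (DCoh.Lpull f).IsTriangulated :=
  (leftDataPull f).isTriangulated (DCoh.Lpull f) (lpullCounit f) kFlatHo_shift kFlatHo_cone

instance lpullCounitQ_commShift : NatTrans.CommShift (lpullCounitQ f) ℤ := by
  unfold lpullCounitQ counitQ
  infer_instance

noncomputable instance : (schDer.L f).CommShift ℤ := inferInstanceAs ((DCoh.Lpull f).CommShift ℤ)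
noncomputable instance : (schDer.Q X).CommShift ℤ :=
  inferInstanceAs ((DerivedCategory.Q (C := X.Modules)).CommShift ℤ)
noncomputable instance : ((cxMod.{u}).pull f).CommShift ℤ :=
  inferInstanceAs (((Scheme.Modules.pullback f).mapHomologicalComplex (ComplexShape.up ℤ)).CommShift ℤ)
instance : NatTrans.CommShift (schDer.lam f) ℤ :=
  inferInstanceAs (NatTrans.CommShift (lpullCounitQ f) ℤ)

instance compI_commShift : NatTrans.CommShift ((cxMod.{u}).compI f g).hom ℤ :=
  commShift_cx₂ (Scheme.Modules.pullbackComp f g).hom _ (fun _ _ => rfl)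

instance compT_commShift : NatTrans.CommShift (schDer.compT f g) ℤ := by
  refine commShift_of_fac (schDer.compT f g) (schDer.lam (f ≫ g))
    ((Functor.associator _ _ _).inv ≫ Functor.whiskerRight (schDer.lam g) (schDer.L f) ≫
      (Functor.associator _ _ _).hom ≫ Functor.whiskerLeft ((cxMod.{u}).pull g) (schDer.lam f) ≫
      (Functor.associator _ _ _).inv ≫
        Functor.whiskerRight ((cxMod.{u}).compI f g).hom (schDer.Q X))
    (fun K => ?_) (schDer.Flat Z) (fun K hK => schDer.lam_iso (f ≫ g) K hK)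
    (fun Y => schDer.exists_res Z Y)
  rw [schDer.compT_fac f g K]
  simp

/-- The derived adjunction `Lf^* ⊣ Rf_*`. -/
noncomputable def lAdj : DCoh.Lpull f ⊣ DCoh.Rpush f :=
  derivedAdj (Scheme.Modules.pullbackPushforwardAdjunction f) (hasKInj X) (leftDataPull f)
    (DCoh.Lpull f) (lpullCounit f) (DCoh.Rpush f) (rpushUnit f)

end Shift

noncomputable instance triData : TriData dPull.{u} where
  commShift f := lpullCommShift f
  isTriangulated f := lpull_isTriangulated f
  comp_commShift f g := compT_commShift f g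
  isLeftAdjoint f := (lAdj f).isLeftAdjoint

end Groth.Agent.PerfB.BCShift
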