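import Groth.Agent.PerfA.AffVan
import Groth.Agent.PerfC.FlasquePush
import Groth.Agent.Ega1.QcqsPush
import Groth.Agent.Etrest.RDer1
import Mathlib.Algebra.Homology.DerivedCategory.Ext.ExactSequences
import Mathlib.CategoryTheory.Abelian.Injective.Ext

/-!
# Cohomology of `f_*`-acyclic quasi-coherent modules over preimages of affine opens
-/

set_option autoImplicit false
universe w u
open CategoryTheory CategoryTheory.Limits AlgebraicGeometry Opposite TopologicalSpace
attribute [local instance] HasDerivedCategory.standard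

namespace Groth.Agent.PerfB.AcycPre

open Groth.Agent.PerfA.ExtZero Scheme.Modules

variable {X S : Scheme.{u}} (f : X ⟶ S)

/-- `f_*`-acyclic modules. -/
def RAcyc [HasInjectiveResolutions X.Modules] (M : X.Modules) : Prop :=
  ∀ i : ℕ, 0 < i → IsZero ((Coh.Rpush f i).obj M)

/-- `f_*` of a short exact sequence with `f_*`-acyclic kernel is short exact. -/
lemma map_shortExact [HasInjectiveResolutions X.Modules] {T : ShortComplex X.Modules}
    (hT : T.ShortExact) (h : RAcyc f T.X₁) : (T.map (pushforward f)).ShortExact := by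
  have := Groth.Agent.PerfA.AffVan.enoughInjectives X
  have := hT.mono_f
  have hm : Mono ((pushforward f).map T.f) := inferInstance
  have h1 : Epi (((pushforward f).rightDerived 0).map T.g) :=
    (Groth.Agent.Etrest.RDer1.exact₃ (pushforward f) hT 0).epi_f
      ((h 1 one_pos).eq_of_tgt _ _)
  have h2 : Epi ((pushforward f).map T.g) := by
    have h3 := (pushforward f).rightDerivedZeroIsoSelf.hom.naturality T.g
    have h4 : (pushforward f).map T.g = (pushforward f).rightDerivedZeroIsoSelf.inv.app T.X₂ ≫
        ((pushforward f).rightDerived 0).map T.g ≫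
          (pushforward f).rightDerivedZeroIsoSelf.hom.app T.X₃ := by
      rw [h3]
      simp
    rw [h4]
    infer_instance
  exact { exact := hT.exact.map_of_mono_of_preservesKernel _ hT.mono_f inferInstance
          mono_f := hm
          epi_g := h2 }

lemma rAcyc_of_shortExact [HasInjectiveResolutions X.Modules] {T : ShortComplex X.Modules}
    (hT : T.ShortExact) (h : RAcyc f T.X₁) [Injective T.X₂] : RAcyc f T.X₃ := by
  have := Groth.Agent.PerfA.AffVan.enoughInjectives X
  intro i hi
  obtain ⟨k, rfl⟩ := Nat.exists_eq_succ_of_ne_zero hi.ne'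
  exact Groth.Agent.Etrest.RDer1.isZero_X₃ (pushforward f) hT (k + 1)
    ((pushforward f).isZero_rightDerived_obj_injective_succ k T.X₂) (h (k + 2) (by lia))

lemma isFlasque_push (J : X.Modules) [Injective J] :
    TopCat.Sheaf.IsFlasque (X := S.toTopCat) (Coh.toAb ((pushforward f).obj J)) := by
  have := Groth.Agent.Ega3B.InjMod.isFlasque_of_injective J
  have h1 := (Groth.Agent.PerfC.FlasquePush.isFlasqueMod_iff J).1 this
  refine (Groth.Agent.PerfC.FlasquePush.isFlasqueMod_iff ((pushforward f).obj J)).2 ?_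
  intro U V h
  exact h1 (f ⁻¹ᵁ U) (f ⁻¹ᵁ V) (f.preimage_mono h)

open Abelian

variable [HasExt.{w} S.Modules]

lemma ext_push_injective (J : X.Modules) [Injective J] (V : S.Opens) (n : ℕ)
    (x : Ext.{w} (OU V) ((pushforward f).obj J) (n + 1)) : x = 0 := by
  have := isFlasque_push f J
  have := Groth.Agent.S0452.result (X := S.toTopCat) (Coh.toAb ((pushforward f).obj J)) V n
  exact (Groth.Agent.PerfA.AffVan.extEquiv V ((pushforward f).obj J) (n + 1)).injective
    (Subsingleton.elim _ _)

theorem ext_eq_zero [HasExt.{w} X.Modules] [HasInjectiveResolutions X.Modules] (V : S.Opens) (n : ℕ) (M : X.Modules)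
    (h : RAcyc f M) (h' : ∀ (j : ℕ) (x : Ext.{w} (OU V) ((pushforward f).obj M) (j + 1)), x = 0)
    (x : Ext.{w} (OU (f ⁻¹ᵁ V)) M (n + 1)) : x = 0 := by
  have := Groth.Agent.PerfA.AffVan.enoughInjectives X
  induction n generalizing M with
  | zero =>
    let T : ShortComplex X.Modules := ShortComplex.mk (Injective.ι M)
      (cokernel.π (Injective.ι M)) (cokernel.condition _)
    have hT : T.ShortExact := { exact := ShortComplex.exact_cokernel _ }
    have hT' := map_shortExact f hT h
    obtain ⟨x₃, rfl⟩ := Ext.covariant_sequence_exact₁ _ hT x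
      (Ext.eq_zero_of_injective _) (zero_add 1)
    obtain ⟨g, rfl⟩ := (Ext.mk₀_bijective _ _).2 x₃
    obtain ⟨t, rfl⟩ := desc_surjective g
    have h1 := h' 0 ((Ext.mk₀ (desc (U := V) (M := (pushforward f).obj T.X₃) t)).comp hT'.extClass
      (zero_add 1))
    obtain ⟨y, hy⟩ := Ext.covariant_sequence_exact₃ _ hT' _ (zero_add 1) h1
    obtain ⟨g', rfl⟩ := (Ext.mk₀_bijective _ _).2 y
    obtain ⟨t', rfl⟩ := desc_surjective g'
    rw [Ext.mk₀_comp_mk₀] at hy
    have h2 := (Ext.mk₀_bijective _ _).1 hy
    have h3 : desc (U := V) (M := (pushforward f).obj T.X₃)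
      (((pushforward f).map T.g).app V t') =
        desc (U := V) (M := (pushforward f).obj T.X₃) t := by
      rw [← desc_comp]
      exact h2
    have h4 := desc_injective h3
    have h5 : desc (U := f ⁻¹ᵁ V) (M := T.X₃) t =
        desc (U := f ⁻¹ᵁ V) (M := T.X₂) t' ≫ T.g := by
      rw [desc_comp]
      exact congr_arg _ h4.symm
    rw [h5, ← Ext.mk₀_comp_mk₀]
    refine (Ext.comp_assoc_of_second_deg_zero _ _ _ _).trans ?_
    rw [ShortComplex.ShortExact.comp_extClass, Ext.comp_zero]
  | succ n ih =>
    let T : ShortComplex X.Modules := ShortComplex.mk (Injective.ι M)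
      (cokernel.π (Injective.ι M)) (cokernel.condition _)
    have hT : T.ShortExact := { exact := ShortComplex.exact_cokernel _ }
    have hT' := map_shortExact f hT h
    obtain ⟨x₃, rfl⟩ := Ext.covariant_sequence_exact₁ _ hT x
      (Ext.eq_zero_of_injective _) rfl
    have hX₃ : RAcyc f T.X₃ := rAcyc_of_shortExact f hT h
    have := ih T.X₃ hX₃ (fun j y => by
      obtain ⟨y', rfl⟩ := Ext.covariant_sequence_exact₃ _ hT' y rfl (h' (j + 1) _)
      have hy' : y' = 0 := ext_push_injective f T.X₂ V j y'
      rw [hy']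
      exact Ext.zero_comp ..) x₃
    rw [this, Ext.zero_comp]

omit [HasExt.{w} S.Modules] in
theorem hom_single_preimage_eq_zero [QuasiCompact f] [QuasiSeparated f]
    [HasInjectiveResolutions X.Modules] (M : X.Modules) (hM : Coh.IsQCoh M)
    (hac : ∀ i : ℕ, 0 < i → IsZero ((Coh.Rpush f i).obj M)) (V : S.Opens) (hV : IsAffineOpen V)
    (a b : ℤ) (hab : b < a)
    (φ : (DerivedCategory.singleFunctor X.Modules a).obj (OU (f ⁻¹ᵁ V)) ⟶
      (DerivedCategory.singleFunctor X.Modules b).obj M) : φ = 0 := by
  have h3 := HasExt.standard X.Modules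
  have h4 := HasExt.standard S.Modules
  refine Groth.Agent.PerfA.AffVan.hom_single_eq_zero _ _ (fun n x => ?_) a b hab φ
  exact ext_eq_zero f V n M hac (fun j y => Groth.Agent.PerfA.AffVan.ext_eq_zero _
    (Groth.Agent.Ega1.QcqsPush.isQCoh_pushforward f M hM) V hV j y) x

end Groth.Agent.PerfB.AcycPre
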