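import Groth.Agent.PerfA.AffVan
import Groth.Agent.PerfC.FlasquePush
import Groth.Agent.Cohder.RDAcyc
import Groth.Agent.Ega1.QcqsPush

/-!
# Ext groups out of `j_! O_{f⁻¹V}` for `f_*`-acyclic modules

If `M` is right acyclic for `f_*` and `Ext^{>0}(j_!O_V, f_* M) = 0` then `Ext^{>0}(j_!O_{f⁻¹V}, M) = 0`.
-/

set_option autoImplicit false

universe w w' u

open CategoryTheory CategoryTheory.Limits AlgebraicGeometry Opposite TopologicalSpace
attribute [local instance] HasDerivedCategory.standard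

namespace Groth.Agent.PerfB.AcycPre288

open Groth.Agent.PerfA.ExtZero Groth.Agent.PerfA.AffVan

variable {X S : Scheme.{u}} (f : X ⟶ S)

/-- `Ext^{j+1}(j_! O_V, f_* J) = 0` for `J` injective. -/
theorem ext_push_injective [HasExt.{w'} S.Modules] (J : X.Modules) [Injective J] (V : S.Opens) (j : ℕ)
    (x : Abelian.Ext.{w'} (OU V) ((Coh.push f).obj J) (j + 1)) : x = 0 := by
  have h1 : TopCat.Sheaf.IsFlasque (X := X.toTopCat) (Coh.toAb J) :=
    Groth.Agent.Ega3B.InjMod.isFlasque_of_injective J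
  have h2 : TopCat.Sheaf.IsFlasque (X := S.toTopCat) (Coh.toAb ((Coh.push f).obj J)) := by
    refine (PerfC.FlasquePush.isFlasqueMod_iff _).2 fun U V h => ?_
    exact (PerfC.FlasquePush.isFlasqueMod_iff J).1 h1 (f ⁻¹ᵁ U) (f ⁻¹ᵁ V)
      ((Opens.map f.base).map (homOfLE h)).le
  have h3 := Groth.Agent.S0452.result (X := S.toTopCat) (Coh.toAb ((Coh.push f).obj J)) V j
  exact (extEquiv V ((Coh.push f).obj J) (j + 1)).injective (Subsingleton.elim _ _)

theorem homEquiv_push (V : S.Opens) (M N : X.Modules) (g : M ⟶ N)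
    (h : ∀ b : OU V ⟶ (Coh.push f).obj N, ∃ a : OU V ⟶ (Coh.push f).obj M, a ≫ (Coh.push f).map g = b)
    (b : OU (f ⁻¹ᵁ V) ⟶ N) : ∃ a : OU (f ⁻¹ᵁ V) ⟶ M, a ≫ g = b := by
  let t : Γ(N, f ⁻¹ᵁ V) := homEquiv (f ⁻¹ᵁ V) N b
  let t' : Γ((Coh.push f).obj N, V) := t
  obtain ⟨a, ha⟩ := h ((homEquiv V ((Coh.push f).obj N)).symm t')
  let s' : Γ((Coh.push f).obj M, V) := homEquiv V ((Coh.push f).obj M) a
  let s : Γ(M, f ⁻¹ᵁ V) := s'
  have h2 : ((Coh.push f).map g).app V s' = t' := by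
    have h3 := congrArg (homEquiv V ((Coh.push f).obj N)) ha
    rwa [homEquiv_comp, AddEquiv.apply_symm_apply] at h3
  have h4 : g.app (f ⁻¹ᵁ V) s = t := h2
  refine ⟨(homEquiv (f ⁻¹ᵁ V) M).symm s, ?_⟩
  apply (homEquiv (f ⁻¹ᵁ V) N).injective
  rw [homEquiv_comp, AddEquiv.apply_symm_apply]
  exact h4

variable [HasInjectiveResolutions X.Modules]

theorem ext_preimage_eq_zero [HasExt.{w} X.Modules] [HasExt.{w'} S.Modules] (V : S.Opens) (n : ℕ) :
    ∀ (M : X.Modules), Cohder.RDAcyc.IsAcyc (Coh.push f) M →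
      (∀ (j : ℕ) (x : Abelian.Ext.{w'} (OU V) ((Coh.push f).obj M) (j + 1)), x = 0) →
      ∀ x : Abelian.Ext.{w} (OU (f ⁻¹ᵁ V)) M (n + 1), x = 0 := by
  induction n with
  | zero =>
    intro M hac hV x
    obtain ⟨T, hT, rfl, hI⟩ := Cohder.RDAcyc.exists_embedding M
    obtain ⟨y, rfl⟩ := Abelian.Ext.covariant_sequence_exact₁ (OU (f ⁻¹ᵁ V)) hT x
      (Abelian.Ext.eq_zero_of_injective _) (zero_add 1)
    obtain ⟨b, rfl⟩ := (Abelian.Ext.mk₀_bijective _ _).2 y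
    have hT' : (T.map (Coh.push f)).ShortExact :=
      Cohder.RDAcyc.map_shortExact (Coh.push f) hT (hac 1 one_pos)
    obtain ⟨a, rfl⟩ := homEquiv_push f V T.X₂ T.X₃ T.g (fun b => by
      obtain ⟨z, hz⟩ := Abelian.Ext.covariant_sequence_exact₃ (OU V) hT' (Abelian.Ext.mk₀ b) (zero_add 1)
        (hV 0 _)
      obtain ⟨a, rfl⟩ := (Abelian.Ext.mk₀_bijective _ _).2 z
      refine ⟨a, ?_⟩
      apply (Abelian.Ext.mk₀_bijective _ _).1
      exact (Abelian.Ext.mk₀_comp_mk₀ _ _).symm.trans hz) b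
    rw [← Abelian.Ext.mk₀_comp_mk₀, Abelian.Ext.comp_assoc_of_second_deg_zero, hT.comp_extClass,
      Abelian.Ext.comp_zero]
  | succ n ih =>
    intro M hac hV x
    obtain ⟨T, hT, rfl, hI⟩ := Cohder.RDAcyc.exists_embedding M
    obtain ⟨y, rfl⟩ := Abelian.Ext.covariant_sequence_exact₁ (OU (f ⁻¹ᵁ V)) hT x
      (Abelian.Ext.eq_zero_of_injective _) rfl
    have hT' : (T.map (Coh.push f)).ShortExact :=
      Cohder.RDAcyc.map_shortExact (Coh.push f) hT (hac 1 one_pos)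
    have hac₃ : Cohder.RDAcyc.IsAcyc (Coh.push f) T.X₃ :=
      Cohder.RDAcyc.isAcyc_X₃ (Coh.push f) hT hac (Cohder.RDAcyc.isAcyc_injective (Coh.push f) T.X₂)
    rw [ih T.X₃ hac₃ (fun j z => ?_) y, Abelian.Ext.zero_comp]
    obtain ⟨t, rfl⟩ := Abelian.Ext.covariant_sequence_exact₃ (OU V) hT' z rfl (hV (j + 1) _)
    have : t = 0 := ext_push_injective f T.X₂ V j t
    rw [this, Abelian.Ext.zero_comp]
    rfl

/-- `Hom_{D(O_X)}(j_! O_{f⁻¹V}[-a], M[-b]) = 0` for `b < a`, `V` affine, `M` quasi-coherent and `f_*`-acyclic. -/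
theorem hom_single_preimage_eq_zero [QuasiCompact f] [QuasiSeparated f]
    (M : X.Modules) (hM : Coh.IsQCoh M)
    (hac : ∀ i : ℕ, 0 < i → IsZero ((Coh.Rpush f i).obj M)) (V : S.Opens) (hV : IsAffineOpen V)
    (a b : ℤ) (hab : b < a)
    (φ : (DerivedCategory.singleFunctor X.Modules a).obj (OU (f ⁻¹ᵁ V)) ⟶
      (DerivedCategory.singleFunctor X.Modules b).obj M) : φ = 0 :=
  haveI := HasExt.standard X.Modules
  haveI := HasExt.standard S.Modules
  hom_single_eq_zero _ _ (fun n x => ext_preimage_eq_zero f V n M hac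
    (fun j y => ext_eq_zero _ (Groth.Agent.Ega1.QcqsPush.isQCoh_pushforward f M hM) V hV j y) x) a b hab φ

end Groth.Agent.PerfB.AcycPre288
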