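import Groth.Agent.PerfB.LimModInv
import Groth.Agent.PerfB.ApproxMdl

/-!
# Descent of homs, isomorphisms, local freeness, invertibility to a stage

* general form (`bc...`): `D : I ⥤ Scheme` cofiltered, affine transition maps, limit `c`, `f : A ⟶ D.obj i`
  arbitrary with `A` qcqs, `A' = A ×_{D i} lim D`; modules `G`, `E` on `A`; stages `A ×_{D i} D j`;
* for finite level models `m : Mdl f F`: `exists_hom`, `exists_eq`, `exists_iso`, `exists_up_locFree`,
  `exists_up_invertible`.
-/

set_option autoImplicit false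
universe u v w
open CategoryTheory CategoryTheory.Limits AlgebraicGeometry Opposite TopologicalSpace

namespace Groth.Agent.PerfB.ApproxHom

open HomLim PushPull Groth.Agent.Flat2F.BCSec Groth.Agent.CalgA.LimFP

section BC

variable {I : Type u} [SmallCategory I] (D : I ⥤ Scheme.{u}) {c : Cone D} {i : I}
  {A : Scheme.{u}} (f : A ⟶ D.obj i)

/-- The base change diagram `j ↦ A ×[D i] D j`, as schemes over `A`. -/
noncomputable def bcOver : Over i ⥤ Over A where
  obj j := Over.mk (pullback.fst f (D.map j.hom))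
  map a := Over.homMk ((bcDiagram D f).map a) (pullback.lift_fst _ _ _)
  map_id j := by
    ext1
    exact (bcDiagram D f).map_id j
  map_comp a b := by
    ext1
    exact (bcDiagram D f).map_comp a b

variable {D f} {A' : Scheme.{u}} {p : A' ⟶ A} {f' : A' ⟶ c.pt}

/-- The cone over `bcOver D f` with vertex a pullback of `A` to the vertex of `c`. -/
noncomputable def bcOverCone (h : IsPullback p f' f (c.π.app i)) : Cone (bcOver D f) where
  pt := Over.mk p
  π :=
    { app := fun j => Over.homMk ((bcCone h).π.app j) (pullback.lift_fst _ _ _)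
      naturality := fun j k a => by
        ext1
        exact (bcCone h).π.naturality a }

/-- It is a limit cone. -/
noncomputable def isLimitBcOverCone [IsCofiltered I] (hc : IsLimit c)
    (h : IsPullback p f' f (c.π.app i)) : IsLimit ((Over.forget A).mapCone (bcOverCone h)) :=
  isLimitBcCone hc h

theorem isLim_bc [IsCofiltered I] (hc : IsLimit c) (h : IsPullback p f' f (c.π.app i))
    [∀ {i j : I} (f : i ⟶ j), IsAffineHom (D.map f)] : IsLim (cop (bcOverCone h)) :=
  isLim_of_isLimit (isLimitBcOverCone hc h) (fun k =>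
    (MorphismProperty.of_isPullback (P := @IsAffineHom)
      (IsPullback.of_hasPullback f (D.map k.hom)).flip inferInstance))

/-- A finitely presented module on `A` whose pullback to `A ×_{D i} lim D` is invertible has invertible pullback to
all sufficiently late stages `A ×_{D i} D j`. -/
theorem exists_isInvertible_bc [IsCofiltered I] (hc : IsLimit c) (h : IsPullback p f' f (c.π.app i))
    [∀ {i j : I} (f : i ⟶ j), IsAffineHom (D.map f)] [∀ i, CompactSpace (D.obj i)]
    [∀ i, QuasiSeparatedSpace (D.obj i)] [QuasiCompact f] [QuasiSeparated f] {G : A.Modules}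
    (hG : CohB1.IsFP G) (hL : PicF.IsInvertible ((Scheme.Modules.pullback p).obj G)) :
    ∃ (j : Over i), ∀ (k : Over i) (_ : k ⟶ j),
      PicF.IsInvertible ((Scheme.Modules.pullback (pullback.fst f (D.map k.hom))).obj G) := by
  have h1 : ∀ {j k : Over i} (a : j ⟶ k), IsAffineHom ((bcDiagram D f).map a) :=
    fun a => isAffineHom_bcDiagram_map a
  have h2 : ∀ j : Over i, CompactSpace ((bcDiagram D f).obj j) :=
    fun j => compactSpace_bcDiagram_obj j
  have h3 : ∀ j : Over i, QuasiSeparatedSpace ((bcDiagram D f).obj j) :=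
    fun j => quasiSeparatedSpace_bcDiagram_obj j
  have hc' : IsLimit (bcCone h) := isLimitBcCone hc h
  let i₀ : Over i := Over.mk (𝟙 i)
  let G' : ((bcDiagram D f).obj i₀).Modules :=
    (Scheme.Modules.pullback (pullback.fst f (D.map i₀.hom))).obj G
  have hG' : CohB1.IsFP G' := FormalA.PullbackQC.isFP_pullback _ _ hG
  have w : (bcCone h).π.app i₀ ≫ pullback.fst f (D.map i₀.hom) = p := pullback.lift_fst _ _ _
  have e : (Scheme.Modules.pullback p).obj G ≅ (Scheme.Modules.pullback ((bcCone h).π.app i₀)).obj G' :=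
    (cmp ((bcCone h).π.app i₀) (pullback.fst f (D.map i₀.hom)) p w G).symm
  obtain ⟨j, a, hj⟩ := LimMod.exists_isInvertible hc' hG' (LimMod.isInvertible_of_iso e hL)
  refine ⟨j, fun k b => LimMod.isInvertible_of_iso ?_ (hj k b)⟩
  have w' : (bcDiagram D f).map (b ≫ a) ≫ pullback.fst f (D.map i₀.hom) = pullback.fst f (D.map k.hom) :=
    pullback.lift_fst _ _ _
  exact cmp ((bcDiagram D f).map (b ≫ a)) (pullback.fst f (D.map i₀.hom))
    (pullback.fst f (D.map k.hom)) w' G

end BC

section Models

open ApproxMdl ApproxRing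

variable {A : Type u} [CommRing A] {X : Scheme.{u}} {f : X ⟶ Spec (CommRingCat.of A)} {F : X.Modules}
  (m : Mdl f F)

/-- The transition morphism between stages of a model. -/
noncomputable def tup {C D : Idx A} (h : m.B ≤ C) (h' : C ≤ D) : m.Yup (h.trans h') ⟶ m.Yup h :=
  pullback.lift (pullback.fst _ _) (pullback.snd _ _ ≫ si h') (by
    rw [Category.assoc, si_si]; exact pullback.condition)

theorem tup_pup {C D : Idx A} (h : m.B ≤ C) (h' : C ≤ D) :
    tup m h h' ≫ m.pup h = m.pup (h.trans h') := pullback.lift_fst _ _ _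

theorem tup_hup {C D : Idx A} (h : m.B ≤ C) (h' : C ≤ D) :
    tup m h h' ≫ m.hup h = m.hup (h.trans h') ≫ si h' := pullback.lift_snd _ _ _

theorem gup_tup {C D : Idx A} (h : m.B ≤ C) (h' : C ≤ D) :
    m.gup (h.trans h') ≫ tup m h h' = m.gup h := by
  apply pullback.hom_ext
  · rw [Category.assoc, tup, pullback.lift_fst]
    exact (m.gup_pup _).trans (m.gup_pup _).symm
  · rw [Category.assoc, tup, pullback.lift_snd]
    have h1 : m.gup (h.trans h') ≫ m.hup (h.trans h') ≫ si h' = m.gup h ≫ m.hup h := by
      rw [← Category.assoc, m.gup_hup, m.gup_hup, Category.assoc, sa_si]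
    exact h1

theorem compactSpace_Y : CompactSpace m.Y :=
  have := m.qc
  QuasiCompact.compactSpace_of_compactSpace m.h

theorem quasiSeparatedSpace_Y : QuasiSeparatedSpace m.Y :=
  have := m.qs
  quasiSeparatedSpace_of_quasiSeparated m.h

/-- the category of stages above `m.B` -/
abbrev Stg : Type u := Over (op m.B : (Idx A)ᵒᵖ)

theorem isLim_mdl : IsLim (cop (bcOverCone (D := specDiag A) (c := specCone A) (i := op m.B) m.pb)) :=
  isLim_bc (specIsLimit A) _

/-- the stage `C` -/
noncomputable abbrev stg {C : Idx A} (h : m.B ≤ C) : Stg m := Over.mk (homOfLE h).op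

variable {G E : m.Y.Modules}

/-- Homs between pullbacks of modules on `m.Y` to `X` come from a stage. -/
theorem exists_hom (hG : CohB1.IsFP G) (hE : Coh.IsQCoh E)
    (hE' : SheafOfModules.IsFiniteType (R := m.Y.ringCatSheaf) E)
    (φ : (Scheme.Modules.pullback m.g).obj G ⟶ (Scheme.Modules.pullback m.g).obj E) :
    ∃ (C : Idx A) (h : m.B ≤ C)
      (ψ : (Scheme.Modules.pullback (m.pup h)).obj G ⟶ (Scheme.Modules.pullback (m.pup h)).obj E),
      pull (m.gup h) (m.pup h) m.g (m.gup_pup h) ψ = φ := by
  have := compactSpace_Y m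
  have := quasiSeparatedSpace_Y m
  obtain ⟨k, ψ, hk⟩ := exists_pull_lift (isLim_mdl m) hG hE hE' φ
  exact ⟨k.unop.left.unop, k.unop.hom.unop.le, ψ, hk⟩

/-- Homs at a stage which agree on `X` agree at a later stage. -/
theorem exists_eq (hG : CohB1.IsFP G) (hE : Coh.IsQCoh E)
    (hE' : SheafOfModules.IsFiniteType (R := m.Y.ringCatSheaf) E) {C : Idx A} (h : m.B ≤ C)
    (φ ψ : (Scheme.Modules.pullback (m.pup h)).obj G ⟶ (Scheme.Modules.pullback (m.pup h)).obj E)
    (H : pull (m.gup h) (m.pup h) m.g (m.gup_pup h) φ = pull (m.gup h) (m.pup h) m.g (m.gup_pup h) ψ) :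
    ∃ (D : Idx A) (h' : C ≤ D),
      pull (tup m h h') (m.pup h) (m.pup (h.trans h')) (tup_pup m h h') φ =
      pull (tup m h h') (m.pup h) (m.pup (h.trans h')) (tup_pup m h h') ψ := by
  have := compactSpace_Y m
  obtain ⟨k, f, hk⟩ := exists_pull_eq (isLim_mdl m) hG hE hE' (op (stg m h)) φ ψ H
  exact ⟨k.unop.left.unop, f.unop.left.unop.le, hk⟩

/-- Isomorphisms between pullbacks of modules on `m.Y` to `X` come from a stage. -/
theorem exists_iso (hG : CohB1.IsFP G) (hE : CohB1.IsFP E)
    (e : (Scheme.Modules.pullback m.g).obj G ≅ (Scheme.Modules.pullback m.g).obj E) :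
    ∃ (C : Idx A) (h : m.B ≤ C)
      (e' : (Scheme.Modules.pullback (m.pup h)).obj G ≅ (Scheme.Modules.pullback (m.pup h)).obj E),
      pull (m.gup h) (m.pup h) m.g (m.gup_pup h) e'.hom = e.hom := by
  have := compactSpace_Y m
  have := quasiSeparatedSpace_Y m
  obtain ⟨k, e', hk⟩ := exists_iso_lift (isLim_mdl m) hG hE e
  exact ⟨k.unop.left.unop, k.unop.hom.unop.le, e', hk⟩

/-- If `F` is finite locally free, the module of the model is finite locally free at all late stages. -/
theorem exists_up_locFree (hF : FlatMod.IsFinLocFree F) :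
    ∃ (C : Idx A) (h : m.B ≤ C), ∀ (D : Idx A) (h' : C ≤ D),
      FlatMod.IsFinLocFree (m.up D (h.trans h')).G := by
  have := compactSpace_Y m
  obtain ⟨j, f, hj⟩ := exists_isFinLocFree_stage (isLim_mdl m) m.fp
    (Dcoh.FinLocFree.isFinLocFree_of_iso m.e.symm hF) (op (stg m (le_refl m.B)))
  exact ⟨j.unop.left.unop, j.unop.hom.unop.le, fun D h' => hj (op (stg m (j.unop.hom.unop.le.trans h')))
    (Over.homMk (homOfLE h').op : stg m (j.unop.hom.unop.le.trans h') ⟶ j.unop).op⟩

/-- If `F` is invertible, the module of the model is invertible at all late stages. -/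
theorem exists_up_invertible (hF : PicF.IsInvertible F) :
    ∃ (C : Idx A) (h : m.B ≤ C), ∀ (D : Idx A) (h' : C ≤ D),
      PicF.IsInvertible (m.up D (h.trans h')).G := by
  have i0 : LocallyOfFinitePresentation m.h := m.lfp
  have i1 : QuasiCompact (Y := (specDiag A).obj (op m.B)) m.h := m.qc
  have i2 : QuasiSeparated (Y := (specDiag A).obj (op m.B)) m.h := m.qs
  obtain ⟨j, hj⟩ := exists_isInvertible_bc (D := specDiag A) (c := specCone A) (i := op m.B)
    (f := m.h) (specIsLimit A) m.pb m.fp (LimMod.isInvertible_of_iso m.e.symm hF)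
  exact ⟨j.left.unop, j.hom.unop.le, fun D h' => hj (stg m (j.hom.unop.le.trans h'))
    (Over.homMk (homOfLE h').op : stg m (j.hom.unop.le.trans h') ⟶ j)⟩

end Models

end Groth.Agent.PerfB.ApproxHom
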