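import Groth.Agent.PerfB.DQCompare
import Mathlib.CategoryTheory.Abelian.Subcategory
import Mathlib.CategoryTheory.ObjectProperty.FullSubcategory

/-!
# The adjunction `Γ(U, -) ⊣ j_*(-~)` on a full subcategory, abstractly

`P` is an object property of `B` (quasi-coherent modules on `X`), `R ⊣ S : B ⇄ B'` (restriction and
direct image), `ι' ⊣ Γ' : A' ⇄ B'` with invertible unit (tilde and global sections), such that
the counit of `ι' ⊣ Γ'` is invertible on `R M` for `M` in `P` and `S (ι' N)` lies in `P`.
Then `r := P.ι ⋙ R ⋙ Γ'` is left adjoint to `s := P.lift (ι' ⋙ S)`.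
-/

universe w₁ w₂ w₃ w₄ v₁ v₂ v₃ v₄ u₁ u₂ u₃ u₄

set_option linter.unusedSectionVars false

namespace Groth.Agent.PerfB.DQSub

open CategoryTheory CategoryTheory.Limits Groth.Agent.PerfB.DQCompare

variable {B : Type u₂} {A' : Type u₃} {B' : Type u₄}
  [Category.{v₂} B] [Category.{v₃} A'] [Category.{v₄} B']
  (P : ObjectProperty B)
  {ι' : A' ⥤ B'} {Γ' : B' ⥤ A'} (adj' : ι' ⊣ Γ') [IsIso adj'.unit]
  {R : B ⥤ B'} {S : B' ⥤ B} (Adj : R ⊣ S)
  (h₁ : ∀ M, P M → IsIso (adj'.counit.app (R.obj M)))
  (h₂ : ∀ N : A', P (S.obj (ι'.obj N)))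

variable (R Γ') in
/-- `M ↦ Γ(M|_U)`. -/
abbrev rFun : P.FullSubcategory ⥤ A' := P.ι ⋙ R ⋙ Γ'

variable (ι' S) in
/-- `N ↦ j_* N~`. -/
abbrev sFun : A' ⥤ P.FullSubcategory := P.lift (ι' ⋙ S) h₂

/-- `M|_U ≅ Γ(M|_U)~`. -/
noncomputable def alpha : P.ι ⋙ R ≅ rFun P Γ' R ⋙ ι' :=
  NatIso.ofComponents
    (fun M => haveI := h₁ M.obj M.property; (asIso (adj'.counit.app (R.obj M.obj))).symm)
    (fun {M N} f => by
      have := h₁ M.obj M.property
      have := h₁ N.obj N.property
      dsimp
      rw [IsIso.comp_inv_eq, Category.assoc, ← IsIso.inv_comp_eq, IsIso.inv_inv]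
      exact (adj'.counit.naturality (R.map f.hom)).symm)

lemma alpha_inv_app (M : P.FullSubcategory) :
    (alpha P adj' h₁).inv.app M = adj'.counit.app (R.obj M.obj) := rfl

lemma counit_alpha_hom_app (M : P.FullSubcategory) :
    adj'.counit.app (R.obj M.obj) ≫ (alpha P adj' h₁).hom.app M = 𝟙 _ :=
  (alpha P adj' h₁).inv_hom_id_app M

/-- The identification of `s ⋙ P.ι` with `ι' ⋙ S`. -/
def beta : sFun P ι' S h₂ ⋙ P.ι ≅ ι' ⋙ S := P.liftCompιIso _ _

/-- The adjunction `r ⊣ s`. -/
noncomputable def adjQ : rFun P Γ' R ⊣ sFun P ι' S h₂ :=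
  Adjunction.mkOfHomEquiv
    { homEquiv := fun M N =>
        { toFun := fun f => ObjectProperty.homMk
            (Adj.homEquiv M.obj (ι'.obj N) ((alpha P adj' h₁).hom.app M ≫ ι'.map f))
          invFun := fun g =>
            Γ'.map ((Adj.homEquiv M.obj (ι'.obj N)).symm g.hom) ≫ inv (adj'.unit.app N)
          left_inv := fun f => by
            have hη : ∀ N : A', IsIso (adj'.unit.app N) := fun N => inferInstance
            dsimp only
            change Γ'.map ((Adj.homEquiv M.obj (ι'.obj N)).symm
              (Adj.homEquiv M.obj (ι'.obj N) ((alpha P adj' h₁).hom.app M ≫ ι'.map f))) ≫ _ = f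
            rw [Equiv.symm_apply_apply, Functor.map_comp, Category.assoc]
            have h3 : Γ'.map (ι'.map f) ≫ inv (adj'.unit.app N) = inv (adj'.unit.app _) ≫ f := by
              rw [IsIso.comp_inv_eq, Category.assoc, ← IsIso.inv_comp_eq, IsIso.inv_inv]
              exact (adj'.unit.naturality f).symm
            rw [h3, ← Category.assoc]
            have h4 : Γ'.map ((alpha P adj' h₁).hom.app M) =
                adj'.unit.app (Γ'.obj (R.obj M.obj)) := by
              have := h₁ M.obj M.property
              have h5 := adj'.right_triangle_components (R.obj M.obj)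
              have h6 : Γ'.map (adj'.counit.app (R.obj M.obj)) ≫
                  Γ'.map ((alpha P adj' h₁).hom.app M) = 𝟙 _ := by
                rw [← Functor.map_comp, counit_alpha_hom_app, CategoryTheory.Functor.map_id]
              rw [← cancel_epi (Γ'.map (adj'.counit.app (R.obj M.obj))), h6]
              have h7 : IsIso (adj'.unit.app (Γ'.obj (R.obj M.obj))) := inferInstance
              rw [← cancel_epi (adj'.unit.app (Γ'.obj (R.obj M.obj)))]
              erw [reassoc_of% h5, Category.comp_id]
            rw [h4]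
            erw [IsIso.hom_inv_id, Category.id_comp]
          right_inv := fun g => by
            ext
            dsimp only
            change Adj.homEquiv M.obj (ι'.obj N) ((alpha P adj' h₁).hom.app M ≫
              ι'.map (Γ'.map ((Adj.homEquiv M.obj (ι'.obj N)).symm g.hom) ≫
                inv (adj'.unit.app N))) = g.hom
            rw [Functor.map_comp]
            have := h₁ M.obj M.property
            have h3 : (alpha P adj' h₁).hom.app M ≫
                ι'.map (Γ'.map ((Adj.homEquiv M.obj (ι'.obj N)).symm g.hom)) =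
                (Adj.homEquiv M.obj (ι'.obj N)).symm g.hom ≫ ι'.map (adj'.unit.app N) := by
              rw [← cancel_epi (adj'.counit.app (R.obj M.obj))]
              erw [← Category.assoc, counit_alpha_hom_app, Category.id_comp]
              have h5 := adj'.counit.naturality ((Adj.homEquiv M.obj (ι'.obj N)).symm g.hom)
              have h6 := adj'.left_triangle_components N
              dsimp at h5
              rw [← Category.assoc, ← h5]
              have h8 : IsIso (ι'.map (adj'.unit.app N)) := inferInstance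
              have h7 : adj'.counit.app (ι'.obj N) = inv (ι'.map (adj'.unit.app N)) := by
                rw [← cancel_epi (ι'.map (adj'.unit.app N)), IsIso.hom_inv_id]
                exact h6
              rw [h7, Category.assoc, IsIso.inv_hom_id, Category.comp_id]
            rw [reassoc_of% h3, ← Functor.map_comp, IsIso.hom_inv_id,
              CategoryTheory.Functor.map_id, Category.comp_id, Equiv.apply_symm_apply] }
      homEquiv_naturality_left_symm := fun {M M' N} f g => by
        change Γ'.map ((Adj.homEquiv M.obj (ι'.obj N)).symm (f.hom ≫ g.hom)) ≫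
          inv (adj'.unit.app N) = Γ'.map (R.map f.hom) ≫
            Γ'.map ((Adj.homEquiv M'.obj (ι'.obj N)).symm g.hom) ≫ inv (adj'.unit.app N)
        rw [Adj.homEquiv_naturality_left_symm, Functor.map_comp, Category.assoc]
      homEquiv_naturality_right := fun {M N N'} f g => by
        ext
        change Adj.homEquiv M.obj (ι'.obj N') ((alpha P adj' h₁).hom.app M ≫ ι'.map (f ≫ g)) =
          Adj.homEquiv M.obj (ι'.obj N) ((alpha P adj' h₁).hom.app M ≫ ι'.map f) ≫
            S.map (ι'.map g)
        rw [← Adj.homEquiv_naturality_right, Functor.map_comp, Category.assoc] }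

lemma adjQ_counit_app (N : A') :
    (adjQ P adj' Adj h₁ h₂).counit.app N =
      Γ'.map (Adj.counit.app (ι'.obj N)) ≫ inv (adj'.unit.app N) := by
  have h : (adjQ P adj' Adj h₁ h₂).counit.app N =
      ((adjQ P adj' Adj h₁ h₂).homEquiv _ N).symm (𝟙 _) := by
    rw [Adjunction.homEquiv_counit, CategoryTheory.Functor.map_id, Category.id_comp]
  rw [h]
  dsimp only [adjQ]
  rw [Adjunction.mkOfHomEquiv_homEquiv]
  change Γ'.map ((Adj.homEquiv (S.obj (ι'.obj N)) (ι'.obj N)).symm (𝟙 _)) ≫
    inv (adj'.unit.app N) = _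
  rw [Adjunction.homEquiv_counit, CategoryTheory.Functor.map_id, Category.id_comp]

lemma compat : Compat (adjQ P adj' Adj h₁ h₂) Adj (alpha P adj' h₁) (beta P h₂) := by
  intro N
  rw [adjQ_counit_app]
  change R.map (𝟙 (S.obj (ι'.obj N))) ≫ Adj.counit.app (ι'.obj N) =
    (alpha P adj' h₁).hom.app ((sFun P ι' S h₂).obj N) ≫
      ι'.map (Γ'.map (Adj.counit.app (ι'.obj N)) ≫ inv (adj'.unit.app N))
  rw [CategoryTheory.Functor.map_id, Category.id_comp, Functor.map_comp]
  have := h₁ _ (h₂ N)
  rw [← cancel_epi (adj'.counit.app (R.obj (S.obj (ι'.obj N))))]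
  have h3 := counit_alpha_hom_app P adj' h₁ ((sFun P ι' S h₂).obj N)
  have h5 := adj'.counit.naturality (Adj.counit.app (ι'.obj N))
  have h6 := adj'.left_triangle_components N
  dsimp at h3 h5
  rw [reassoc_of% h3, ← h5]
  have h7 : adj'.counit.app (ι'.obj N) = ι'.map (inv (adj'.unit.app N)) := by
    rw [← cancel_epi (ι'.map (adj'.unit.app N)), ← Functor.map_comp, IsIso.hom_inv_id,
      CategoryTheory.Functor.map_id]
    exact h6
  rw [h7]

section Exact

variable [ι'.Full] [ι'.Faithful]

include adj' h₁ in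
lemma preservesFiniteLimits_rFun [PreservesFiniteLimits P.ι] [PreservesFiniteLimits R] :
    PreservesFiniteLimits (rFun P Γ' R) where
  preservesFiniteLimits J _ _ := by
    have : PreservesLimitsOfShape J (rFun P Γ' R ⋙ ι') :=
      preservesLimitsOfShape_of_natIso (alpha P adj' h₁)
    exact preservesLimitsOfShape_of_reflects_of_preserves _ ι'

include adj' h₁ in
lemma preservesFiniteColimits_rFun [PreservesFiniteColimits P.ι] [PreservesFiniteColimits R] :
    PreservesFiniteColimits (rFun P Γ' R) where
  preservesFiniteColimits J _ _ := by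
    have : PreservesColimitsOfShape J (rFun P Γ' R ⋙ ι') :=
      preservesColimitsOfShape_of_natIso (alpha P adj' h₁)
    exact preservesColimitsOfShape_of_reflects_of_preserves _ ι'

end Exact

section Step

open DerivedCategory Groth.Agent.PerfB.DQAdj Groth.Agent.PerfB.DQTri Pretriangulated

variable [Abelian B] [Abelian A'] [Abelian B']
  [P.ContainsZero] [P.IsClosedUnderKernels] [P.IsClosedUnderCokernels]
  [P.IsClosedUnderFiniteProducts] [PreservesFiniteLimits P.ι] [PreservesFiniteColimits P.ι]
  [HasDerivedCategory.{w₁} P.FullSubcategory]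
  [HasDerivedCategory.{w₂} B] [HasDerivedCategory.{w₃} A'] [HasDerivedCategory.{w₄} B']
  [R.Additive] [PreservesFiniteLimits R] [PreservesFiniteColimits R] [S.Additive]
  [ι'.Additive] [PreservesFiniteLimits ι'] [PreservesFiniteColimits ι'] [ι'.Full] [ι'.Faithful]
  [Γ'.Additive]

instance additive_rFun : (rFun P Γ' R).Additive := by
  dsimp only [rFun]
  infer_instance

instance additive_sFun : (sFun P ι' S h₂).Additive where
  map_add {N N'} f g := by
    ext
    change (ι' ⋙ S).map (f + g) = (ι' ⋙ S).map f + (ι' ⋙ S).map g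
    exact Functor.map_add _

include adj' h₁ in
/-- The devissage step for an object `K` of `D(B)` with `R K` in the image of `D(ι')`. -/
theorem step [ι'.mapDerivedCategory.Full] [ι'.mapDerivedCategory.Faithful] [IsIso Adj.counit]
    (had : ∀ N : DerivedCategory A', ∃ L : CochainComplex A' ℤ, Nonempty (Q.obj L ≅ N) ∧
      Adapted (sFun P ι' S h₂) L ∧ Adapted S ((mapCx ι').obj L))
    (K : DerivedCategory B) (hK : ι'.mapDerivedCategory.essImage (R.mapDerivedCategory.obj K)) :
    ∃ (N : DerivedCategory P.FullSubcategory) (K₁ : DerivedCategory B) (a : K₁ ⟶ K)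
      (b : K ⟶ P.ι.mapDerivedCategory.obj N) (c : P.ι.mapDerivedCategory.obj N ⟶ K₁⟦(1 : ℤ)⟧),
      Triangle.mk a b c ∈ distTriang (DerivedCategory B) ∧
      homBij P.ι.mapDerivedCategory N ∧ IsZero (R.mapDerivedCategory.obj K₁) ∧
      ∃ I : CochainComplex B' ℤ, I.IsKInjective ∧
        Nonempty (Q.obj I ≅ R.mapDerivedCategory.obj K) ∧
        Nonempty (P.ι.mapDerivedCategory.obj N ≅ Q.obj ((mapCx S).obj I)) := by
  have : PreservesFiniteLimits (rFun P Γ' R) := preservesFiniteLimits_rFun P adj' h₁
  have : PreservesFiniteColimits (rFun P Γ' R) := preservesFiniteColimits_rFun P adj' h₁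
  obtain ⟨N₀, ⟨e₀⟩⟩ := hK
  obtain ⟨L, ⟨e⟩, hL, hL'⟩ := had N₀
  exact step_of_iso (compat P adj' Adj h₁ h₂) hL hL' K
    (e₀.symm ≪≫ ι'.mapDerivedCategory.mapIso e.symm ≪≫ ι'.mapDerivedCategoryFactors.app L)

end Step

end Groth.Agent.PerfB.DQSub
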