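import Groth.Agent.PerfB.DQAdj
import Groth.Agent.PerfB.ModExact
import Groth.Agent.PerfC.ExtZero2
import Groth.Agent.PerfA.Restrict

/-!
# Vanishing of restrictions of `Rj_*` on open subsets

Let `j : Y ⟶ X` and `j' : Y' ⟶ X` be open immersions, `K` an object of `D(O_X)` with `K|_{Y'} = 0`, and
`I` a K-injective complex of `O_Y`-modules representing `K|_Y`.  Then `(j_* I)|_{Y'} = 0`.
-/

set_option autoImplicit false
universe u
open CategoryTheory CategoryTheory.Limits AlgebraicGeometry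
attribute [local instance] HasDerivedCategory.standard

namespace Groth.Agent.PerfB.DQVanish

open AlgebraicGeometry.Scheme.Modules DerivedCategory
open Groth.Agent.PerfB.DQAdj Groth.Agent.PerfA.Restrict Groth.Agent.PerfA.ExactD

lemma isZero_Q_iff {A : Type*} [Category* A] [Abelian A] [HasDerivedCategory A]
    (K : CochainComplex A ℤ) : IsZero (Q.obj K) ↔ K.Acyclic := by
  rw [Groth.Agent.PerfA.ExactD.isZero_iff]
  refine forall_congr' fun n => ?_
  rw [HomologicalComplex.exactAt_iff_isZero_homology]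
  exact ((homologyFunctorFactors A n).app K).isZero_iff

/-- Composition of derived restriction functors. -/
noncomputable def restrictDComp {X Y Z : Scheme.{u}} (f : X ⟶ Y) (g : Y ⟶ Z) [IsOpenImmersion f]
    [IsOpenImmersion g] : restrictD g ⋙ restrictD f ≅ restrictD (f ≫ g) :=
  mapDComp (restrictFunctorComp f g).symm

lemma isZero_restrictD_comp_iff {X Y Z : Scheme.{u}} (f : X ⟶ Y) (g : Y ⟶ Z) [IsOpenImmersion f]
    [IsOpenImmersion g] (K : DCoh.D Z) :
    IsZero ((restrictD (f ≫ g)).obj K) ↔ IsZero ((restrictD f).obj ((restrictD g).obj K)) :=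
  ((restrictDComp f g).app K).isZero_iff.symm

/-- Vanishing on `X'` implies vanishing on everything factoring through `X'`. -/
lemma isZero_restrictD_of_le {X Y Z : Scheme.{u}} (f : X ⟶ Z) (g : Y ⟶ Z) [IsOpenImmersion f]
    [IsOpenImmersion g] (h : f.opensRange ≤ g.opensRange) (K : DCoh.D Z)
    (hK : IsZero ((restrictD g).obj K)) : IsZero ((restrictD f).obj K) := by
  have hr : Set.range f ⊆ Set.range g := h
  obtain ⟨k, hk⟩ : ∃ k : X ⟶ Y, k ≫ g = f := ⟨IsOpenImmersion.lift g f hr, by simp⟩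
  subst hk
  have : IsOpenImmersion k := IsOpenImmersion.of_comp k g
  rw [isZero_restrictD_comp_iff]
  exact Functor.map_isZero _ hK

variable {X Y Y' : Scheme.{u}}

/-- Restriction to an open preserves K-injective complexes. -/
instance isKInjective_restrict (j : Y ⟶ X) [IsOpenImmersion j] (I : CochainComplex X.Modules ℤ)
    [I.IsKInjective] : ((mapCx (restrictFunctor j)).obj I).IsKInjective :=
  isKInjective_mapCx (Groth.Agent.PerfC.ExtZero.adj j) I

/-- If `I|_V` is contractible, then `Γ(V, I)` is exact. -/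
lemma exists_lift_of_homotopy (I : CochainComplex Y.Modules ℤ) (V : Y.Opens)
    (h : Homotopy (𝟙 ((mapCx (restrictFunctor V.ι)).obj I)) 0) (a b c : ℤ) (hab : a + 1 = b)
    (hbc : b + 1 = c) (y : Γ(I.X b, V)) (hy : (I.d b c).app V y = 0) :
    ∃ z : Γ(I.X a, V), (I.d a b).app V z = y := by
  have e : V.ι ''ᵁ ⊤ = V := by simp
  have h1 := h.comm b
  rw [HomologicalComplex.zero_f, add_zero, HomologicalComplex.id_f,
    dNext_eq h.hom (i := b) (i' := c) hbc, prevD_eq h.hom (j := b) (j' := a) hab] at h1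
  let y' : Γ(I.X b, V.ι ''ᵁ ⊤) := (I.X b).presheaf.map (homOfLE e.le).op y
  let z' : Γ(I.X a, V.ι ''ᵁ ⊤) := (h.hom b a).app ⊤ y'
  have hy' : (I.d b c).app (V.ι ''ᵁ ⊤) y' = 0 := by
    dsimp only [y']
    rw [← Groth.Agent.PerfC.ExtZero.app_map, hy, map_zero]
  have hz' : (I.d a b).app (V.ι ''ᵁ ⊤) z' = y' := by
    have h2 := congr_arg (fun φ => Scheme.Modules.Hom.app φ ⊤) h1
    have h3 := ConcreteCategory.congr_hom h2 y'
    rw [Scheme.Modules.Hom.add_app] at h3
    have h4 : y' = (show Γ(I.X b, V.ι ''ᵁ ⊤) from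
        (h.hom c b).app ⊤ ((I.d b c).app (V.ι ''ᵁ ⊤) y')) +
      (I.d a b).app (V.ι ''ᵁ ⊤) z' := h3
    rw [hy'] at h4
    have h5 : (h.hom c b).app ⊤ (0 : Γ(I.X c, V.ι ''ᵁ ⊤)) = (0 : Γ(I.X b, V.ι ''ᵁ ⊤)) :=
      map_zero _
    rw [h5, zero_add] at h4
    exact h4.symm
  refine ⟨(I.X a).presheaf.map (homOfLE e.ge).op z', ?_⟩
  rw [← Groth.Agent.PerfC.ExtZero.app_map, hz']
  dsimp only [y']
  rw [← ConcreteCategory.comp_apply, ← Functor.map_comp]
  exact ConcreteCategory.congr_hom ((I.X b).presheaf.map_id _) y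

variable (j : Y ⟶ X) [IsOpenImmersion j] (j' : Y' ⟶ X) [IsOpenImmersion j']

/-- The vanishing statement. -/
theorem isZero_restrictD_push (I : CochainComplex Y.Modules ℤ) [I.IsKInjective] (K : DCoh.D X)
    (e : Q.obj I ≅ (restrictD j).obj K) (hK : IsZero ((restrictD j').obj K)) :
    IsZero ((restrictD j').obj (Q.obj ((mapCx (pushforward j)).obj I))) := by
  refine IsZero.of_iso ?_ (restrictDQ j' _)
  rw [isZero_Q_iff]
  intro b
  rw [HomologicalComplex.exactAt_iff' _ (b - 1) b (b + 1) (by simp) (by simp)]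
  refine Groth.Agent.PerfB.ModExact.exact_of_locally_lifts _ fun W y hy x hx => ?_
  refine ⟨W, le_rfl, hx, ?_⟩
  let V : Y.Opens := j ⁻¹ᵁ (j' ''ᵁ W)
  have hV : IsZero ((restrictD V.ι).obj (Q.obj I)) := by
    refine IsZero.of_iso ?_ ((restrictD V.ι).mapIso e)
    rw [← isZero_restrictD_comp_iff]
    refine isZero_restrictD_of_le _ j' ?_ K hK
    rintro _ ⟨⟨v, hv⟩, rfl⟩
    obtain ⟨w, hw, hw'⟩ := hv
    exact ⟨w, hw'⟩
  have hV' : ((mapCx (restrictFunctor V.ι)).obj I).Acyclic := by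
    rw [← isZero_Q_iff]
    exact hV.of_iso (restrictDQ V.ι I).symm
  have hh : Homotopy (𝟙 ((mapCx (restrictFunctor V.ι)).obj I)) 0 :=
    CochainComplex.IsKInjective.homotopyZero _ hV'
  obtain ⟨z, hz⟩ := exists_lift_of_homotopy I V hh (b - 1) b (b + 1) (by simp) rfl y hy
  refine ⟨z, ?_⟩
  have h1 : y = ((ShortComplex.X₂ _ : Y'.Modules).presheaf.map (homOfLE (le_refl W)).op y) :=
    (ConcreteCategory.congr_hom (CategoryTheory.Functor.map_id _ _) y).symm
  exact hz.trans h1

end Groth.Agent.PerfB.DQVanish
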