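import Groth.Agent.PerfB.DQMain
import Groth.Agent.PerfB.DQSub
import Groth.Agent.PerfB.DQVanish
import Groth.Agent.PerfB.TildeExact
import Groth.Agent.PerfA.QCohSerre
import Groth.Agent.PerfA.CohomIn
import Groth.Agent.CohqB.QC5
import Groth.Prelude.Def_DCoh2

/-!
# `D(QCoh(O_X)) = D_QCoh(O_X)`, given adapted representatives
-/

set_option autoImplicit false
universe u
open CategoryTheory CategoryTheory.Limits AlgebraicGeometry
attribute [local instance] HasDerivedCategory.standard

namespace Groth.Agent.PerfB.DQGeom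

open AlgebraicGeometry.Scheme.Modules DerivedCategory
open Groth.Agent.PerfB.DQAdj Groth.Agent.PerfB.DQTri Groth.Agent.PerfB.DQSub
open Groth.Agent.PerfA.Restrict Groth.Agent.PerfA.ExactD Groth.Agent.PerfA.QCohSerre
open Groth.Agent.PerfA.CohomIn

variable {X : Scheme.{u}}

instance isClosedUnderExtensions_qcoh : (qcoh X).IsClosedUnderExtensions where
  prop_X₂_of_shortExact {_} hS h₁ h₃ :=
    haveI := hS.epi_g
    haveI := hS.mono_f
    Groth.Agent.CohqB.QC5.isQuasicoherent_of_extension hS.exact h₁ h₃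

/-- The object property `D_QCoh(O_X)` is triangulated. -/
instance isTriangulated_isQCohD : (DCoh.IsQCohD (X := X)).IsTriangulated :=
  inferInstanceAs (coh (qcoh X)).IsTriangulated

instance isClosedUnderIsomorphisms_isQCohD :
    (DCoh.IsQCohD (X := X)).IsClosedUnderIsomorphisms :=
  inferInstanceAs (coh (qcoh X)).IsClosedUnderIsomorphisms

lemma isQCohD_Q_of_terms (K : CochainComplex X.Modules ℤ) (hK : ∀ i, Coh.IsQCoh (K.X i)) :
    DCoh.IsQCohD (Q.obj K) :=
  coh_Q_of_terms (qcoh X) K hK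

lemma isQCohD_restrictD {Y : Scheme.{u}} (j : Y ⟶ X) [IsOpenImmersion j] {K : DCoh.D X}
    (hK : DCoh.IsQCohD K) : DCoh.IsQCohD ((restrictD j).obj K) := fun i =>
  isQCoh_of_iso (HDrestrict j K i).symm (isQCoh_restrict j (hK i))

/-- The complexes vanishing on the source of an open immersion. -/
def Zr {Y : Scheme.{u}} (j : Y ⟶ X) [IsOpenImmersion j] : ObjectProperty (DCoh.D X) :=
  fun K => IsZero ((restrictD j).obj K)

section

variable {Y : Scheme.{u}} (j : Y ⟶ X) [IsOpenImmersion j]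

instance : (Zr j).IsClosedUnderIsomorphisms where
  of_iso e h := h.of_iso ((restrictD j).mapIso e).symm

instance : (Zr j).IsStableUnderShift ℤ where
  isStableUnderShiftBy n :=
    { le_shift := fun _ hK =>
        IsZero.of_iso (Functor.map_isZero (shiftFunctor (DCoh.D Y) n) hK)
          (((restrictD j).commShiftIso n).app _) }

open ZeroObject in
instance : (Zr j).ContainsZero where
  exists_zero := ⟨0, isZero_zero _, Functor.map_isZero _ (isZero_zero _)⟩

instance : (Zr j).IsTriangulatedClosed₂ := .mk' (by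
  intro T hT h₁ h₃
  exact Pretriangulated.Triangle.isZero₂_of_isZero₁₃ _
    ((restrictD j).map_distinguished T hT) h₁ h₃)

instance : (Zr j).IsTriangulated where

end

section

variable {R : CommRingCat.{u}} (j : Spec R ⟶ X) [IsOpenImmersion j]

instance additive_moduleSpecΓFunctor : (moduleSpecΓFunctor (R := R)).Additive :=
  (tilde.adjunction (R := R)).right_adjoint_additive

lemma isIso_counit (M : X.Modules) (hM : Coh.IsQCoh M) :
    IsIso (tilde.adjunction.counit.app ((restrictFunctor j).obj M)) :=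
  have : Coh.IsQCoh (M.restrict j) := isQCoh_restrict j hM
  Scheme.Modules.isIso_fromTildeΓ_of_isQuasicoherent (M.restrict j)

end

section Main

lemma isZero_of_cover {J : Type*} {Y : J → Scheme.{u}} (j : ∀ i, Y i ⟶ X)
    [∀ i, IsOpenImmersion (j i)] (hcov : ∀ x : X, ∃ i, x ∈ (j i).opensRange) (K : DCoh.D X)
    (h : ∀ i, Zr (j i) K) : IsZero K := by
  refine isZero_of_restrictD_opens K fun x => ?_
  obtain ⟨i, hi⟩ := hcov x
  refine ⟨(j i).opensRange, hi, ?_⟩
  exact Groth.Agent.PerfB.DQVanish.isZero_restrictD_of_le (j i).opensRange.ι (j i)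
    (by simp) K (h i)

variable [(qcoh X).ContainsZero] [(qcoh X).IsClosedUnderKernels]
  [(qcoh X).IsClosedUnderCokernels] [(qcoh X).IsClosedUnderFiniteProducts]
  [PreservesFiniteLimits (qcoh X).ι] [PreservesFiniteColimits (qcoh X).ι]

lemma isQCohD_obj (M : DerivedCategory (qcoh X).FullSubcategory) :
    DCoh.IsQCohD ((qcoh X).ι.mapDerivedCategory.obj M) := by
  have e : (qcoh X).ι.mapDerivedCategory.obj M ≅
      Q.obj ((mapCx (qcoh X).ι).obj (Q.objPreimage M)) :=
    (qcoh X).ι.mapDerivedCategory.mapIso (Q.objObjPreimageIso M).symm ≪≫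
      (qcoh X).ι.mapDerivedCategoryFactors.app _
  exact (DCoh.IsQCohD (X := X)).prop_of_iso e.symm
    (isQCohD_Q_of_terms _ fun i => ((Q.objPreimage M).X i).property)

lemma isZero_of_isZero_obj (M : DerivedCategory (qcoh X).FullSubcategory)
    (h : IsZero ((qcoh X).ι.mapDerivedCategory.obj M)) : IsZero M := by
  refine isZero_of_isZero_map (qcoh X).ι (fun N hN => ?_) M h
  rw [IsZero.iff_id_eq_zero]
  apply (qcoh X).ι.map_injective
  rw [Functor.map_zero]
  exact hN.eq_of_src _ _

/-- `D(QCoh(O_X)) = D_QCoh(O_X)`, given adapted representatives for the direct images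
from a finite affine open cover. -/
theorem main {J : Type*} [Finite J] (R : J → CommRingCat.{u}) (j : ∀ i, Spec (R i) ⟶ X)
    [∀ i, IsOpenImmersion (j i)] (hcov : ∀ x : X, ∃ i, x ∈ (j i).opensRange)
    (h997 : ∀ i, (DCoh.tildeD (R i)).Full ∧ (DCoh.tildeD (R i)).Faithful ∧
      ∀ K : DCoh.D (Spec (R i)), DCoh.IsQCohD K →
        ∃ M, Nonempty ((DCoh.tildeD (R i)).obj M ≅ K))
    (hpush : ∀ i (N : ModuleCat.{u} (R i)),
      Coh.IsQCoh ((pushforward (j i)).obj ((tilde.functor (R i)).obj N)))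
    (had : ∀ i (N : DerivedCategory (ModuleCat.{u} (R i))),
      ∃ L : CochainComplex (ModuleCat.{u} (R i)) ℤ, Nonempty (Q.obj L ≅ N) ∧
        Adapted (sFun (qcoh X) (tilde.functor (R i)) (pushforward (j i)) (hpush i)) L ∧
        Adapted (pushforward (j i)) ((mapCx (tilde.functor (R i))).obj L)) :
    (qcoh X).ι.mapDerivedCategory.Full ∧ (qcoh X).ι.mapDerivedCategory.Faithful ∧
      ∀ K : DCoh.D X, DCoh.IsQCohD K ↔
        ∃ M, Nonempty ((qcoh X).ι.mapDerivedCategory.obj M ≅ K) := by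
  refine Groth.Agent.PerfB.DQMain.main (qcoh X).ι.mapDerivedCategory (DCoh.IsQCohD (X := X))
    (fun i => Zr (j i)) isQCohD_obj isZero_of_isZero_obj
    (fun K _ h => isZero_of_cover j hcov K h) ?_
  intro i K hK
  have h1 := (h997 i).1
  have h2 := (h997 i).2.1
  obtain ⟨M, ⟨eM⟩⟩ := (h997 i).2.2 _ (isQCohD_restrictD (j i) hK)
  obtain ⟨N, K₁, a, b, c, hT, hN, hK₁, I, hI, ⟨e₁⟩, ⟨e₂⟩⟩ :=
    Groth.Agent.PerfB.DQSub.step (qcoh X) (tilde.adjunction (R := R i))
      (restrictAdjunction (j i)) (fun M hM => isIso_counit (j i) M hM) (hpush i) (had i) K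
      ⟨M, ⟨eM⟩⟩
  refine ⟨N, K₁, a, b, c, hT, hN, hK₁, fun i' hi' => ?_⟩
  exact IsZero.of_iso (Groth.Agent.PerfB.DQVanish.isZero_restrictD_push (j i) (j i') I K e₁ hi')
    ((restrictD (j i')).mapIso e₂)

end Main

end Groth.Agent.PerfB.DQGeom
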