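import Groth.Agent.PerfB.StupidK
import Groth.Agent.PerfB.ModExact
import Groth.Agent.Dcoh.DerHo
import Groth.Agent.PerfA.ExtZero
import Groth.Agent.PerfC.ExtZero2
import Groth.Prelude.Def_DCoh2

/-!
# Direct images of quasi-isomorphisms to K-injective complexes
-/

universe w v u

set_option linter.unusedSectionVars false

namespace Groth.Agent.PerfB.PushAcyc

open CategoryTheory CategoryTheory.Limits CategoryTheory.Pretriangulated
open Groth.Agent.PerfB.HomBijOn Groth.Agent.PerfB.StupidK

section Abstract

variable {A : Type u} [Category.{v} A] [Abelian A] [HasDerivedCategory.{w} A]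

omit [Abelian A] [HasDerivedCategory A] in
lemma bijective_comp_isIso {X Y Z : A} (g : Y ⟶ Z) [IsIso g] :
    Function.Bijective (fun f : X ⟶ Y => f ≫ g) :=
  (Iso.homToEquiv (asIso g)).bijective

lemma bijective_comp_of_good {G : A} {F I : CochainComplex A ℤ} (s : F ⟶ I) [QuasiIso s]
    [I.IsKInjective] (hF : good G ((HomotopyCategory.quotient A _).obj F)) (m : ℤ) :
    Function.Bijective (fun φ : (HomotopyCategory.singleFunctor A m).obj G ⟶
      (HomotopyCategory.quotient A (.up ℤ)).obj F =>
        φ ≫ (HomotopyCategory.quotient A _).map s) := by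
  have h1 := (good_iff _ _).1 hF m
  have h2 := CochainComplex.IsKInjective.Qh_map_bijective
    ((HomotopyCategory.singleFunctor A m).obj G) I
  have h3 : IsIso (DerivedCategory.Qh.map ((HomotopyCategory.quotient A (.up ℤ)).map s)) :=
    inferInstanceAs (IsIso (DerivedCategory.Q.map s))
  have h4 : (fun f => DerivedCategory.Qh.map f) ∘
      (fun φ : (HomotopyCategory.singleFunctor A m).obj G ⟶
        (HomotopyCategory.quotient A (.up ℤ)).obj F =>
          φ ≫ (HomotopyCategory.quotient A _).map s) =
      (fun g => g ≫ DerivedCategory.Qh.map ((HomotopyCategory.quotient A (.up ℤ)).map s)) ∘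
        (fun f => DerivedCategory.Qh.map f) := by
    funext f
    exact DerivedCategory.Qh.map_comp _ _
  have h5 := (bijective_comp_isIso (X := DerivedCategory.Qh.obj
    ((HomotopyCategory.singleFunctor A m).obj G)) (DerivedCategory.Qh.map
      ((HomotopyCategory.quotient A (.up ℤ)).map s))).comp h1
  rw [← Function.Bijective.of_comp_iff' h2, h4]
  exact h5

/-- Cocycles of the mapping cone with values on `G` are coboundaries. -/
theorem exists_lift {G : A} {F I : CochainComplex A ℤ} (s : F ⟶ I) [QuasiIso s]
    [I.IsKInjective] (hF : good G ((HomotopyCategory.quotient A _).obj F)) (a b c : ℤ)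
    (hab : a + 1 = b) (hbc : b + 1 = c) (x : G ⟶ (CochainComplex.mappingCone s).X b)
    (hx : x ≫ (CochainComplex.mappingCone s).d b c = 0) :
    ∃ y : G ⟶ (CochainComplex.mappingCone s).X a, y ≫ (CochainComplex.mappingCone s).d a b = x := by
  let φ : (HomologicalComplex.single A (.up ℤ) b).obj G ⟶ CochainComplex.mappingCone s :=
    HomologicalComplex.mkHomFromSingle x (fun k hk => by
      obtain rfl : b + 1 = k := hk
      obtain rfl : b + 1 = c := hbc
      exact hx)
  have h0 : (HomotopyCategory.quotient A (.up ℤ)).map φ = 0 :=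
    eq_zero_of_bijective (HomotopyCategory.mappingCone_triangleh_distinguished s)
      ((HomotopyCategory.singleFunctor A b).obj G) ((HomotopyCategory.singleFunctor A (b + 1)).obj G)
      (((HomotopyCategory.singleFunctors A).shiftIso 1 b (b + 1) (by lia)).app G)
      (bijective_comp_of_good s hF b) (bijective_comp_of_good s hF (b + 1)) _
  obtain ⟨h⟩ := (HomotopyCategory.quotient_map_eq_zero_iff φ).1 h0
  have h1 := h.comm b
  rw [HomologicalComplex.zero_f, add_zero, dNext_eq h.hom (i := b) (i' := c) hbc,
    prevD_eq h.hom (j := b) (j' := a) hab] at h1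
  have h2 : ((HomologicalComplex.single A (.up ℤ) b).obj G).d b c = 0 := rfl
  rw [h2, zero_comp, zero_add, HomologicalComplex.mkHomFromSingle_f] at h1
  refine ⟨(HomologicalComplex.singleObjXSelf (.up ℤ) b G).inv ≫ h.hom b a, ?_⟩
  rw [Category.assoc, ← h1, Iso.inv_hom_id_assoc]

end Abstract

section Geometry

open AlgebraicGeometry Opposite TopologicalSpace Groth.Agent.PerfA.ExtZero

attribute [local instance] HasDerivedCategory.standard

variable {X S : Scheme.{u}} (f : X ⟶ S)

/-- The image under `f_*` of a quasi-isomorphism `s : F ⟶ I` with `I` K-injective is a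
quasi-isomorphism if hypercohomology of `F` over the preimages of affine opens is computed by sections. -/
theorem quasiIso_push {F I : CochainComplex X.Modules ℤ} (s : F ⟶ I) [QuasiIso s]
    [I.IsKInjective] (h : ∀ V : S.Opens, IsAffineOpen V →
      good (OU (f ⁻¹ᵁ V)) ((HomotopyCategory.quotient X.Modules _).obj F)) :
    QuasiIso (((Scheme.Modules.pushforward f).mapHomologicalComplex (ComplexShape.up ℤ)).map s) := by
  rw [Groth.Agent.Dcoh.DerHo.quasiIso_iff_acyclic_mappingCone]
  suffices h : (((Scheme.Modules.pushforward f).mapHomologicalComplex (ComplexShape.up ℤ)).obj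
      (CochainComplex.mappingCone s)).Acyclic from fun n =>
    (h n).of_iso (CochainComplex.mappingCone.mapHomologicalComplexIso s _)
  intro b
  rw [HomologicalComplex.exactAt_iff' _ (b - 1) b (b + 1) (by simp) (by simp)]
  refine Groth.Agent.PerfB.ModExact.exact_of_locally_lifts _ fun W y hy x hx => ?_
  obtain ⟨V, hV, hxV, hVW⟩ := Opens.isBasis_iff_nbhd.1 S.isBasis_affineOpens hx
  let y' : Γ((CochainComplex.mappingCone s).X b, f ⁻¹ᵁ V) :=
    ((Scheme.Modules.pushforward f).obj ((CochainComplex.mappingCone s).X b)).presheaf.map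
      (homOfLE hVW).op y
  have hy' : ((CochainComplex.mappingCone s).d b (b + 1)).app (f ⁻¹ᵁ V) y' = 0 := by
    have h1 := Groth.Agent.PerfC.ExtZero.app_map ((Scheme.Modules.pushforward f).map
      ((CochainComplex.mappingCone s).d b (b + 1))) hVW y
    have h2 : ((Scheme.Modules.pushforward f).map
      ((CochainComplex.mappingCone s).d b (b + 1))).app W y = 0 := hy
    rw [h2, map_zero] at h1
    exact h1.symm
  obtain ⟨z, hz⟩ := exists_lift s (h V hV) (b - 1) b (b + 1) (by simp) rfl (desc y') (by
    rw [desc_comp, hy', desc_zero])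
  obtain ⟨z', rfl⟩ := desc_surjective z
  rw [desc_comp] at hz
  have hz' := desc_injective hz
  exact ⟨V, hVW, hxV, z', hz'⟩

end Geometry

end Groth.Agent.PerfB.PushAcyc
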