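import Groth.Agent.PerfB.BCLoc
import Groth.Agent.PerfC.AffPushD
import Groth.Agent.CohqA.PullbackQCoh
import Groth.Agent.PerfA.TildeMain

/-!
# Formal base change, XII: affine squares

* `bc_affineD`: base change for a termwise quasi-coherent complex `C` on an affine square, if `Lg^*` of the complex
  `f_* C` is computed by `g^* f_* C`.
* `BC_congr_cx`: invariance under (nice) quasi-isomorphisms.
* `affBC_of_spec`: reduction of `AffBC` to squares of spectra.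
-/

set_option autoImplicit false

universe u

open CategoryTheory CategoryTheory.Limits AlgebraicGeometry Pretriangulated

attribute [local instance] HasDerivedCategory.standard

namespace Groth.Agent.PerfB.BCAff

open Groth.Agent.PerfB.BCTot Groth.Agent.PerfB.BCTot.Tot Groth.Agent.PerfB.BCMod
  Groth.Agent.PerfB.BCCx Groth.Agent.PerfB.BCDer Groth.Agent.PerfB.BCSch Groth.Agent.PerfB.BCTri
  Groth.Agent.PerfB.BCShift Groth.Agent.PerfB.BCPush Groth.Agent.PerfB.BCMV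
  Groth.Agent.PerfB.BCGeom Groth.Agent.PerfB.BCLoc
  Groth.Agent.Dcoh.DerHo Groth.Agent.Dcoh.DerComp Groth.Agent.Dcoh.DerSch

attribute [local instance] hasLpull hasRpush

/-- Chain level base change for affine squares. -/
lemma bc_affineCx {X S X' S' : Scheme.{u}} {f : X ⟶ S} {g : S' ⟶ S} {g' : X' ⟶ X} {f' : X' ⟶ S'}
    (sq : IsPullback g' f' f g) [IsAffine X] [IsAffine S] [IsAffine S']
    (C : CochainComplex X.Modules ℤ) (hC : ∀ n, Coh.IsQCoh (C.X n)) :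
    BC (cartLift (P := cxMod.{u}) ⟨X, C⟩ g') f f' g := by
  refine bc_of_eval _ (cartLift (P := cxMod.{u}) ⟨X, C⟩ g') sq.w (mAdj f) (mAdj f') fun n => ?_
  rw [eval_cartLift]
  exact Groth.Agent.PerfB.BCMod.bc_affine sq (C.X n) (hC n)

/-- Base change for affine squares and termwise quasi-coherent complexes. -/
theorem bc_affineD {X S X' S' : Scheme.{u}} {f : X ⟶ S} {g : S' ⟶ S} {g' : X' ⟶ X} {f' : X' ⟶ S'}
    (sq : IsPullback g' f' f g) [IsAffine X] [IsAffine S] [IsAffine S']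
    (C : CochainComplex X.Modules ℤ) (hC : ∀ n, Coh.IsQCoh (C.X n))
    (h : IsIso ((lpullCounitQ g).app
      (((Scheme.Modules.pushforward f).mapHomologicalComplex (ComplexShape.up ℤ)).obj C))) :
    BC (toD.tot.map (cartLift (P := cxMod.{u}) ⟨X, C⟩ g')) f f' g := by
  have hf' : IsAffineHom f' := MorphismProperty.of_isPullback sq inferInstance
  refine bc_toD_cartLift C g' f f' g sq.w (bc_affineCx sq C hC)
    (Groth.Agent.PerfC.AffPushD.isIso_rpushUnitQ f C hC)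
    (Groth.Agent.PerfC.AffPushD.isIso_rpushUnitQ f' _ fun n => ?_) h
  have := hC n
  exact Groth.Agent.CohqA.PullbackQCoh.isQuasicoherent_pullback g' (C.X n)

section Formal

variable {𝒮 : Type*} [Category 𝒮] {D : 𝒮 → Type*} [∀ X, Category (D X)] {P : PullData D}

lemma ver_symm_comm {X X' : 𝒮} {K K₁ : D X} {K' K₁' : D X'} {θ : (⟨X', K'⟩ : Tot P) ⟶ ⟨X, K⟩}
    {θ₁ : (⟨X', K₁'⟩ : Tot P) ⟶ ⟨X, K₁⟩} (i : K ≅ K₁) (i' : K' ≅ K₁')
    (e : ver i'.hom ≫ θ = θ₁ ≫ ver i.hom) : ver i'.symm.hom ≫ θ₁ = θ ≫ ver i.symm.hom := by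
  have h1 : ver (P := P) i.hom ≫ ver i.inv = 𝟙 _ := by
    rw [ver_comp_ver, Iso.inv_hom_id, ver_id]
  have h2 : ver (P := P) i'.inv ≫ ver i'.hom = 𝟙 _ := by
    rw [ver_comp_ver, Iso.hom_inv_id, ver_id]
  rw [Iso.symm_hom, Iso.symm_hom]
  calc ver (P := P) i'.inv ≫ θ₁ = ver (P := P) i'.inv ≫ θ₁ ≫ ver i.hom ≫ ver i.inv := by
        rw [h1, Category.comp_id]
    _ = _ := by rw [← reassoc_of% e, reassoc_of% h2]

lemma BC_congr_fib_iff {X X' : 𝒮} {K K₁ : D X} {K' K₁' : D X'}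
    {θ : (⟨X', K'⟩ : Tot P) ⟶ ⟨X, K⟩}
    {θ₁ : (⟨X', K₁'⟩ : Tot P) ⟶ ⟨X, K₁⟩} (i : K ≅ K₁) (i' : K' ≅ K₁')
    (e : ver i'.hom ≫ θ = θ₁ ≫ ver i.hom) {S S' : 𝒮} {f : X ⟶ S} {f' : X' ⟶ S'}
    {g : S' ⟶ S} : BC θ f f' g ↔ BC θ₁ f f' g :=
  ⟨fun h => BC.congr_fib i i' e h, fun h => BC.congr_fib i.symm i'.symm (ver_symm_comm i i' e) h⟩

/-- Composition with isomorphisms in the target. -/
lemma BC_push_iso {A A' : Tot P} {θ : A' ⟶ A} {S S' T T' : 𝒮} {f : A.base ⟶ S}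
    {f' : A'.base ⟶ S'} {g : S' ⟶ S} (H : BC θ f f' g) (q : S ⟶ T) (q' : S' ⟶ T') [IsIso q]
    [IsIso q'] (g₁ : T' ⟶ T) (e : g ≫ q = q' ≫ g₁) : BC θ (f ≫ q) (f' ≫ q') g₁ := by
  intro M M' n n' s₁ hn hn' hs₁ hnc hnc' hs
  have i1 : IsIso (cartLift (⟨T, M⟩ : Tot P) q).base := inferInstanceAs (IsIso q)
  have i2 : IsIso (cartLift (⟨T', M'⟩ : Tot P) q').base := inferInstanceAs (IsIso q')
  have i3 := isIso_of_isCart (isCart_cartLift (⟨T, M⟩ : Tot P) q)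
  have i4 := isIso_of_isCart (isCart_cartLift (⟨T', M'⟩ : Tot P) q')
  have b1 : q ≫ (inv (cartLift (⟨T, M⟩ : Tot P) q)).base = 𝟙 S := by
    have := congrArg Hom.base (IsIso.hom_inv_id (cartLift (⟨T, M⟩ : Tot P) q))
    exact this
  have b2 : q' ≫ (inv (cartLift (⟨T', M'⟩ : Tot P) q')).base = 𝟙 S' := by
    have := congrArg Hom.base (IsIso.hom_inv_id (cartLift (⟨T', M'⟩ : Tot P) q'))
    exact this
  have h1 : IsCart (cartLift (⟨T', M'⟩ : Tot P) q' ≫ s₁ ≫ inv (cartLift (⟨T, M⟩ : Tot P) q)) := by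
    refine H _ _ (n ≫ inv (cartLift (⟨T, M⟩ : Tot P) q)) (n' ≫ inv (cartLift (⟨T', M'⟩ : Tot P) q'))
      _ ?_ ?_ ?_ (hnc.comp (isCocart_of_isIso _)) (hnc'.comp (isCocart_of_isIso _)) ?_
    · rw [comp_base, hn, Category.assoc, b1, Category.comp_id]
    · rw [comp_base, hn', Category.assoc, b2, Category.comp_id]
    · rw [comp_base, comp_base, cartLift_base, hs₁, ← Category.assoc, ← e, Category.assoc, b1,
        Category.comp_id]
    · rw [Category.assoc, IsIso.inv_hom_id_assoc, reassoc_of% hs]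
  have h2 : s₁ = inv (cartLift (⟨T', M'⟩ : Tot P) q') ≫ (cartLift (⟨T', M'⟩ : Tot P) q' ≫ s₁ ≫
      inv (cartLift (⟨T, M⟩ : Tot P) q)) ≫ cartLift (⟨T, M⟩ : Tot P) q := by
    simp
  rw [h2]
  exact (isCart_of_isIso _).comp (h1.comp (isCart_of_isIso _))

/-- Invariance of `BCres` under isomorphisms of squares. -/
lemma BCres_of_iso {A A' : Tot P} {θ : A' ⟶ A} {V V₁ V' V₁' : 𝒮} {j : V ⟶ A.base}
    {j' : V' ⟶ A'.base} {h : V' ⟶ V} {h₁ : V₁' ⟶ V₁} {S S₁ S' S₁' : 𝒮} {f : V ⟶ S} {f₁ : V₁ ⟶ S₁}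
    {f' : V' ⟶ S'} {f₁' : V₁' ⟶ S₁'} {g : S' ⟶ S} {g₁ : S₁' ⟶ S₁}
    (p : V₁ ⟶ V) (p' : V₁' ⟶ V') [IsIso p] [IsIso p'] (q : S₁ ⟶ S) (q' : S₁' ⟶ S') [IsIso q]
    [IsIso q'] (H : BCres θ (p ≫ j) (p' ≫ j') h₁ f₁ f₁' g₁) (e1 : h₁ ≫ p = p' ≫ h)
    (e2 : f₁ ≫ q = p ≫ f) (e3 : f₁' ≫ q' = p' ≫ f') (e4 : g₁ ≫ q = q' ≫ g) :
    BCres θ j j' h f f' g := by
  intro K₀ K₀' a a' θ₀ ha ha' hθ₀ hac hac' eθ₀
  have i1 : IsIso (cartLift (⟨V, K₀⟩ : Tot P) p).base := inferInstanceAs (IsIso p)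
  have i2 : IsIso (cartLift (⟨V', K₀'⟩ : Tot P) p').base := inferInstanceAs (IsIso p')
  have i3 := isIso_of_isCart (isCart_cartLift (⟨V, K₀⟩ : Tot P) p)
  have i4 := isIso_of_isCart (isCart_cartLift (⟨V', K₀'⟩ : Tot P) p')
  have b1 : p ≫ (inv (cartLift (⟨V, K₀⟩ : Tot P) p)).base = 𝟙 V₁ :=
    congrArg Hom.base (IsIso.hom_inv_id (cartLift (⟨V, K₀⟩ : Tot P) p))
  have b2 : (inv (cartLift (⟨V, K₀⟩ : Tot P) p)).base ≫ p = 𝟙 V :=
    congrArg Hom.base (IsIso.inv_hom_id (cartLift (⟨V, K₀⟩ : Tot P) p))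
  have b3 : (inv (cartLift (⟨V', K₀'⟩ : Tot P) p')).base ≫ p' = 𝟙 V' :=
    congrArg Hom.base (IsIso.inv_hom_id (cartLift (⟨V', K₀'⟩ : Tot P) p'))
  have h0 := H _ _ (cartLift (⟨V, K₀⟩ : Tot P) p ≫ a) (cartLift (⟨V', K₀'⟩ : Tot P) p' ≫ a')
    (cartLift (⟨V', K₀'⟩ : Tot P) p' ≫ θ₀ ≫ inv (cartLift (⟨V, K₀⟩ : Tot P) p))
    (by rw [comp_base, ha]; rfl) (by rw [comp_base, ha']; rfl) (by
      rw [comp_base, comp_base, hθ₀, cartLift_base, ← Category.assoc, ← e1, Category.assoc, b1,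
        Category.comp_id])
    ((isCart_cartLift _ _).comp hac) ((isCart_cartLift _ _).comp hac') (by
      rw [Category.assoc, Category.assoc, IsIso.inv_hom_id_assoc, eθ₀, Category.assoc])
  have h1 := BC.congr (inv (cartLift (⟨V, K₀⟩ : Tot P) p)) (inv (cartLift (⟨V', K₀'⟩ : Tot P) p'))
    (θ₁ := θ₀) (by rw [IsIso.inv_hom_id_assoc]) h0
  refine (BC_push_iso h1 q q' g e4).congr_base ?_ ?_ rfl
  · rw [Category.assoc, e2, ← Category.assoc, b2, Category.id_comp]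
  · rw [Category.assoc, e3, ← Category.assoc, b3, Category.id_comp]

end Formal

lemma BC_congr_cx_aux {V V' : Scheme.{u}} (g' : V' ⟶ V) {C C₁ : CochainComplex V.Modules ℤ}
    (φ : C ⟶ C₁) :
    ver (P := dPull.{u}) (DerivedCategory.Q.map (((Scheme.Modules.pullback g').mapHomologicalComplex
      (ComplexShape.up ℤ)).map φ)) ≫ toD.tot.map (cartLift (P := cxMod.{u}) ⟨V, C⟩ g') =
    toD.tot.map (cartLift (P := cxMod.{u}) ⟨V, C₁⟩ g') ≫
      ver (P := dPull.{u}) (DerivedCategory.Q.map φ) := by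
  have h1 := ver_comp_cartLift (P := cxMod.{u}) g' φ
  have h2 := congrArg (fun t => toD.tot.map t) h1
  simp only [Functor.map_comp, PullMap.tot_map_ver] at h2
  exact h2.symm

/-- Invariance of base change. -/
theorem BC_congr_cx {V V' : Scheme.{u}} (g' : V' ⟶ V) {C C₁ : CochainComplex V.Modules ℤ}
    (φ : C ⟶ C₁) (h1 : IsIso (DerivedCategory.Q.map φ))
    (h2 : IsIso (DerivedCategory.Q.map (((Scheme.Modules.pullback g').mapHomologicalComplex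
      (ComplexShape.up ℤ)).map φ))) {S S' : Scheme.{u}} (f : V ⟶ S) (f' : V' ⟶ S') (g : S' ⟶ S) :
    BC (toD.tot.map (cartLift (P := cxMod.{u}) ⟨V, C⟩ g')) f f' g ↔
      BC (toD.tot.map (cartLift (P := cxMod.{u}) ⟨V, C₁⟩ g')) f f' g :=
  BC_congr_fib_iff (P := dPull.{u}) (asIso (DerivedCategory.Q.map φ))
      (asIso (DerivedCategory.Q.map (((Scheme.Modules.pullback g').mapHomologicalComplex
      (ComplexShape.up ℤ)).map φ))) (BC_congr_cx_aux g' φ)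

/-- `AffBC`, for squares of spectra. -/
def AffBCSpec {X X' : Scheme.{u}} {K : DCoh.D X} {K' : DCoh.D X'}
    (θ : (⟨X', K'⟩ : Tot dPull.{u}) ⟶ ⟨X, K⟩) {S S' : Scheme.{u}} (f : X ⟶ S) (f' : X' ⟶ S')
    (g : S' ⟶ S) : Prop :=
  ∀ (A B A' B' : CommRingCat.{u}) (φ : A ⟶ B) (α : A ⟶ A') (β : B ⟶ B') (φ' : A' ⟶ B')
    (a : Spec B ⟶ X) (b : Spec A ⟶ S) (a' : Spec B' ⟶ X') (b' : Spec A' ⟶ S')
    [IsOpenImmersion a] [IsOpenImmersion b] [IsOpenImmersion a'] [IsOpenImmersion b'],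
    IsPullback (Spec.map β) (Spec.map φ') (Spec.map φ) (Spec.map α) →
      Spec.map φ ≫ b = a ≫ f → Spec.map α ≫ b = b' ≫ g → Spec.map β ≫ a = a' ≫ θ.base →
      Spec.map φ' ≫ b' = a' ≫ f' →
      BCres θ a a' (Spec.map β) (Spec.map φ) (Spec.map φ') (Spec.map α)

theorem affBC_of_spec {X X' : Scheme.{u}} {K : DCoh.D X} {K' : DCoh.D X'}
    {θ : (⟨X', K'⟩ : Tot dPull.{u}) ⟶ ⟨X, K⟩} {S S' : Scheme.{u}} {f : X ⟶ S} {f' : X' ⟶ S'}
    {g : S' ⟶ S} (H : AffBCSpec θ f f' g) : AffBC θ f f' g := by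
  intro V W V' W' _ _ _ _ a b a' b' _ _ _ _ gV fV fV' gW sq e1 e2 e3 e4
  refine BCres_of_iso (P := dPull.{u}) (θ := θ) (h₁ := Spec.map gV.appTop) (f₁ := Spec.map fV.appTop)
    (f₁' := Spec.map fV'.appTop) (g₁ := Spec.map gW.appTop) V.isoSpec.inv V'.isoSpec.inv
    W.isoSpec.inv W'.isoSpec.inv ?_ (Scheme.isoSpec_inv_naturality gV)
    (Scheme.isoSpec_inv_naturality fV) (Scheme.isoSpec_inv_naturality fV')
    (Scheme.isoSpec_inv_naturality gW)
  refine H _ _ _ _ fV.appTop gW.appTop gV.appTop fV'.appTop (V.isoSpec.inv ≫ a)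
    (W.isoSpec.inv ≫ b) (V'.isoSpec.inv ≫ a') (W'.isoSpec.inv ≫ b') ?_ ?_ ?_ ?_ ?_
  · exact sq.of_iso V'.isoSpec V.isoSpec W'.isoSpec W.isoSpec
      (Scheme.isoSpec_hom_naturality gV).symm (Scheme.isoSpec_hom_naturality fV').symm
      (Scheme.isoSpec_hom_naturality fV).symm (Scheme.isoSpec_hom_naturality gW).symm
  · rw [Scheme.isoSpec_inv_naturality_assoc, e1, Category.assoc]
  · rw [Scheme.isoSpec_inv_naturality_assoc, e2, Category.assoc]
  · rw [Scheme.isoSpec_inv_naturality_assoc, e3, Category.assoc]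
  · rw [Scheme.isoSpec_inv_naturality_assoc, e4, Category.assoc]

/-- Objects of `D_QCoh` of an affine scheme are represented by complexes of quasi-coherent modules. -/
theorem exists_qc (R : CommRingCat.{u}) (K : DCoh.D (Spec R)) (hK : DCoh.IsQCohD K) :
    ∃ C : CochainComplex (Spec R).Modules ℤ, (∀ n, Coh.IsQCoh (C.X n)) ∧
      Nonempty (K ≅ DerivedCategory.Q.obj C) := by
  obtain ⟨N, ⟨e⟩⟩ := Groth.Agent.PerfA.TildeMain.exists_iso R K hK
  refine ⟨((tilde.functor R).mapHomologicalComplex (ComplexShape.up ℤ)).obj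
    (DerivedCategory.Q.objPreimage N), fun n => ?_, ⟨?_⟩⟩
  · change Coh.IsQCoh ((tilde.functor R).obj _)
    exact inferInstance
  · exact e.symm ≪≫ (tilde.functor R).mapDerivedCategory.mapIso
      (DerivedCategory.Q.objObjPreimageIso N).symm ≪≫
      (tilde.functor R).mapDerivedCategoryFactors.app (DerivedCategory.Q.objPreimage N)

/-- Quasi-coherence and restriction. -/
lemma isQCohD_lpull_open {X V : Scheme.{u}} (j : V ⟶ X) [IsOpenImmersion j] {K : DCoh.D X}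
    (hK : DCoh.IsQCohD K) : DCoh.IsQCohD ((DCoh.Lpull j).obj K) :=
  Groth.Agent.PerfA.QCohD.isQCohD_of_iso
    ((Groth.Agent.PerfB.LpullOpens.lpullRestrictD j).symm.app K)
    (Groth.Agent.PerfA.QCohD.isQCohD_restrictD j hK)

/-- The restriction of a cartesian arrow is cartesian. -/
lemma isCart_restrict {𝒮 : Type*} [Category 𝒮] {D : 𝒮 → Type*} [∀ X, Category (D X)]
    {P : PullData D} {A A' A₀ A₀' : Tot P} {θ : A' ⟶ A} {θ₀ : A₀' ⟶ A₀} {a : A₀ ⟶ A}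
    {a' : A₀' ⟶ A'} (hθ : IsCart θ) (ha : IsCart a) (ha' : IsCart a') (e : θ₀ ≫ a = a' ≫ θ) :
    IsCart θ₀ := by
  rw [← isCart_comp_iff ha, e]
  exact ha'.comp hθ

/-- Flat base change, in terms of arrows: the affine case. -/
theorem affBC_flat {X X' S S' : Scheme.{u}} {f : X ⟶ S} {f' : X' ⟶ S'} {g : S' ⟶ S} {g' : X' ⟶ X}
    [Flat g] (K : DCoh.D X) (hK : DCoh.IsQCohD K) :
    AffBC (cartLift (P := dPull.{u}) ⟨X, K⟩ g') f f' g := by
  refine affBC_of_spec ?_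
  intro A B A' B' φ α β φ' a b a' b' _ _ _ _ sq e1 e2 e3 e4
  intro K₀ K₀' m m' θ₀ hm hm' hθ₀ cm cm' e
  have cθ : IsCart θ₀ := isCart_restrict (isCart_cartLift _ _) cm cm' e
  have q0 : DCoh.IsQCohD K₀ := by
    obtain ⟨i, -⟩ := cm.exists_iso (isCart_cartLift (P := dPull.{u}) ⟨X, K⟩ a) hm
    exact Groth.Agent.PerfA.QCohD.isQCohD_of_iso i.symm (isQCohD_lpull_open a hK)
  obtain ⟨C, hC, ⟨i⟩⟩ := exists_qc B K₀ q0
  have fα : Flat (Spec.map α) := by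
    have h1 : Flat (Spec.map α ≫ b) := by
      rw [e2]; infer_instance
    exact MorphismProperty.of_postcomp (W := @Flat) (W' := @Mono Scheme _) (Spec.map α) b inferInstance h1
  have fβ : Flat (Spec.map β) := MorphismProperty.of_isPullback sq.flip inferInstance
  refine BC_of_cart (P := dPull.{u}) i.symm.symm _ θ₀ (isCart_toD_flat (Spec.map β) C) cθ hθ₀.symm ?_
  exact bc_affineD sq C hC (isIso_lpullCounitQ_of_flat _ _)

/-- **Flat base change**, in terms of arrows. -/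
theorem bc_flat {X X' S S' : Scheme.{u}} {f : X ⟶ S} {f' : X' ⟶ S'} {g : S' ⟶ S} {g' : X' ⟶ X}
    [QuasiCompact f] [QuasiSeparated f] [Flat g] (sq : IsPullback g' f' f g) (K : DCoh.D X)
    (hK : DCoh.IsQCohD K) : BC (cartLift (P := dPull.{u}) ⟨X, K⟩ g') f f' g :=
  bc_of_affBC sq _ rfl (affBC_flat K hK)

end Groth.Agent.PerfB.BCAff
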