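import Groth.Agent.PerfB.BCMod
import Groth.Agent.VarietyB.PullSec
import Groth.Agent.CohqA.PullbackQCoh
import Groth.Agent.CurvesA.FlatH0
import Groth.Agent.Ega1.QcqsPush

/-!
# Formal base change for modules on schemes: open immersions and affine squares

* `psec m U : Γ(K, U) → Γ(K', m⁻¹ U)`: the map on sections attached to an arrow `m : (X', K') ⟶ (X, K)`.
* `bc_open`: base change along an open immersion holds for all modules and all morphisms.
* `bc_affine`: base change along an arbitrary morphism of affine schemes holds for quasi-coherent modules on an affine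
  scheme.
-/

set_option autoImplicit false

universe u

open CategoryTheory CategoryTheory.Limits AlgebraicGeometry Opposite TopologicalSpace

namespace Groth.Agent.PerfB.BCMod

open Groth.Agent.PerfB.BCTot Groth.Agent.PerfB.BCTot.Tot

section Push

variable {X Y Z : Scheme.{u}}

/-- transposes of composites of pullbacks. -/
theorem homEquiv_comp (f : X ⟶ Y) (g : Y ⟶ Z) {K : X.Modules} {L : Y.Modules} {M : Z.Modules}
    (x : (Scheme.Modules.pullback f).obj L ⟶ K) (y : (Scheme.Modules.pullback g).obj M ⟶ L) :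
    (Scheme.Modules.pullbackPushforwardAdjunction (f ≫ g)).homEquiv M K
      ((Scheme.Modules.pullbackComp f g).inv.app M ≫ (Scheme.Modules.pullback f).map y ≫ x) =
    (Scheme.Modules.pullbackPushforwardAdjunction g).homEquiv M L y ≫
      (Scheme.Modules.pushforward g).map ((Scheme.Modules.pullbackPushforwardAdjunction f).homEquiv L K x) ≫
      (Scheme.Modules.pushforwardComp f g).hom.app K := by
  let adj₁ := (Scheme.Modules.pullbackPushforwardAdjunction g).comp (Scheme.Modules.pullbackPushforwardAdjunction f)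
  let adj₂ := Scheme.Modules.pullbackPushforwardAdjunction (f ≫ g)
  have h1 := unit_conjugateEquiv adj₁ adj₂ (Scheme.Modules.pullbackComp f g).inv M
  rw [Scheme.Modules.conjugateEquiv_pullbackComp_inv] at h1
  rw [Adjunction.homEquiv_unit, Functor.map_comp]
  refine (reassoc_of% h1.symm) _ |>.trans ?_
  have h2 := (Scheme.Modules.pushforwardComp f g).hom.naturality ((Scheme.Modules.pullback f).map y ≫ x)
  refine (congrArg (fun t => adj₁.unit.app M ≫ t) h2.symm).trans ?_
  rw [← Category.assoc, ← Category.assoc]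
  refine congrArg (fun t => t ≫ _) ?_
  rw [Adjunction.homEquiv_unit, Adjunction.homEquiv_unit]
  have h3 := (Scheme.Modules.pullbackPushforwardAdjunction f).unit.naturality y
  have h4 : adj₁.unit.app M = (Scheme.Modules.pullbackPushforwardAdjunction g).unit.app M ≫
      (Scheme.Modules.pushforward g).map
        ((Scheme.Modules.pullbackPushforwardAdjunction f).unit.app ((Scheme.Modules.pullback g).obj M)) := by
    simp only [adj₁, Adjunction.comp_unit_app]
  rw [h4, Category.assoc, Category.assoc, Functor.comp_map, ← Functor.map_comp, ← Functor.map_comp,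
    Functor.map_comp (Scheme.Modules.pushforward f)]
  refine congrArg (fun t => (Scheme.Modules.pullbackPushforwardAdjunction g).unit.app M ≫
    (Scheme.Modules.pushforward g).map t) ?_
  simp only [Functor.id_map, Functor.comp_map] at h3
  exact (reassoc_of% h3.symm) _

end Push

section Psec

/-- The transposed form of an arrow in the total category of modules. -/
noncomputable def push {A B : Tot modPull.{u}} (m : A ⟶ B) :
    B.fib ⟶ (Scheme.Modules.pushforward m.base).obj A.fib :=
  (Scheme.Modules.pullbackPushforwardAdjunction m.base).homEquiv _ _ m.fib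

theorem push_comp {A B C : Tot modPull.{u}} (m : A ⟶ B) (n : B ⟶ C) :
    push (m ≫ n) = push n ≫ (Scheme.Modules.pushforward n.base).map (push m) ≫
      (Scheme.Modules.pushforwardComp m.base n.base).hom.app A.fib :=
  homEquiv_comp m.base n.base m.fib n.fib

/-- The map on sections attached to an arrow of the total category of modules. -/
noncomputable def psec {A B : Tot modPull.{u}} (m : A ⟶ B) (U : B.base.Opens) :
    Γ((B.fib : B.base.Modules), U) →+ Γ((A.fib : A.base.Modules), m.base ⁻¹ᵁ U) :=
  ((push m).app U).hom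

theorem psec_comp {A B C : Tot modPull.{u}} (m : A ⟶ B) (n : B ⟶ C) (U : C.base.Opens)
    (x : Γ((C.fib : C.base.Modules), U)) : psec (m ≫ n) U x = psec m (n.base ⁻¹ᵁ U) (psec n U x) := by
  unfold psec
  rw [push_comp]
  rfl

theorem psec_congr {A B : Tot modPull.{u}} {m n : A ⟶ B} (h : m = n) (U : B.base.Opens)
    (x : Γ((B.fib : B.base.Modules), U)) : psec m U x =
      (A.fib : A.base.Modules).presheaf.map (eqToHom (by rw [h])).op (psec n U x) := by
  subst h
  simp

theorem psec_cocartLift {X Y : Scheme.{u}} (f : X ⟶ Y) (M : X.Modules) (U : Y.Opens)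
    (x : Γ((Scheme.Modules.pushforward f).obj M, U)) :
    psec (cocartLift (P := modPull) f (Scheme.Modules.pullbackPushforwardAdjunction f) M) U x = x := by
  have h : push (cocartLift (P := modPull) f (Scheme.Modules.pullbackPushforwardAdjunction f) M) = 𝟙 _ := by
    unfold push
    rw [Adjunction.homEquiv_unit]
    exact (Scheme.Modules.pullbackPushforwardAdjunction f).right_triangle_components M
  unfold psec
  rw [h]
  rfl

theorem psec_apply {A B : Tot modPull.{u}} (m : A ⟶ B) (U : B.base.Opens)
    (x : Γ((B.fib : B.base.Modules), U)) : psec m U x =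
    Scheme.Modules.Hom.app (M := (Scheme.Modules.pullback m.base).obj B.fib) m.fib (m.base ⁻¹ᵁ U)
      (((Scheme.Modules.pullbackPushforwardAdjunction m.base).unit.app B.fib).app U x) := by
  unfold psec push
  rw [Adjunction.homEquiv_unit]
  rfl

theorem psec_cartLift (B : Tot modPull.{u}) {X : Scheme.{u}} (f : X ⟶ B.base) (U : B.base.Opens)
    (x : Γ((B.fib : B.base.Modules), U)) : psec (cartLift B f) U x =
      ((Scheme.Modules.pullbackPushforwardAdjunction f).unit.app B.fib).app U x := by
  rw [psec_apply]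
  rfl

/-- The key identity for a base change arrow `s : (S', f'_* K') ⟶ (S, f_* K)` over `g`. -/
theorem app_unit_eq {X X' S S' : Scheme.{u}} {f : X ⟶ S} {f' : X' ⟶ S'} {g' : X' ⟶ X} {g : S' ⟶ S}
    (w : g' ≫ f = f' ≫ g) (M : X.Modules)
    (φ : (Scheme.Modules.pullback g).obj ((Scheme.Modules.pushforward f).obj M) ⟶
      (Scheme.Modules.pushforward f').obj ((Scheme.Modules.pullback g').obj M))
    (h : cocartLift (P := modPull) f' (Scheme.Modules.pullbackPushforwardAdjunction f')
        ((Scheme.Modules.pullback g').obj M) ≫ (⟨g, φ⟩ : (⟨S', _⟩ : Tot modPull) ⟶ ⟨S, _⟩) =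
      cartLift (P := modPull) ⟨X, M⟩ g' ≫
        cocartLift (P := modPull) f (Scheme.Modules.pullbackPushforwardAdjunction f) M)
    (U : S.Opens) (x : Γ(M, f ⁻¹ᵁ U)) :
    φ.app (g ⁻¹ᵁ U) (((Scheme.Modules.pullbackPushforwardAdjunction g).unit.app
      ((Scheme.Modules.pushforward f).obj M)).app U x) =
    ((Scheme.Modules.pullback g').obj M).presheaf.map (eqToHom (by
      change f' ⁻¹ᵁ g ⁻¹ᵁ U = g' ⁻¹ᵁ f ⁻¹ᵁ U
      rw [← Scheme.Hom.comp_preimage, ← w, Scheme.Hom.comp_preimage])).op
      (((Scheme.Modules.pullbackPushforwardAdjunction g').unit.app M).app (f ⁻¹ᵁ U) x) := by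
  have h1 := psec_congr h U x
  have h2 := psec_comp (cocartLift (P := modPull) f' (Scheme.Modules.pullbackPushforwardAdjunction f')
        ((Scheme.Modules.pullback g').obj M)) (⟨g, φ⟩ : (⟨S', _⟩ : Tot modPull) ⟶ ⟨S, _⟩) U x
  have h3 := psec_comp (cartLift (P := modPull) ⟨X, M⟩ g')
    (cocartLift (P := modPull) f (Scheme.Modules.pullbackPushforwardAdjunction f) M) U x
  have h4 := psec_cocartLift f M U x
  have h5 := psec_cartLift (⟨X, M⟩ : Tot modPull) g' (f ⁻¹ᵁ U) x
  have h6 := psec_cocartLift f' ((Scheme.Modules.pullback g').obj M) (g ⁻¹ᵁ U)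
    (psec (⟨g, φ⟩ : (⟨S', (Scheme.Modules.pushforward f').obj ((Scheme.Modules.pullback g').obj M)⟩ : Tot modPull) ⟶
      ⟨S, (Scheme.Modules.pushforward f).obj M⟩) U x)
  have h7 := psec_apply (⟨g, φ⟩ : (⟨S', (Scheme.Modules.pushforward f').obj ((Scheme.Modules.pullback g').obj M)⟩ : Tot modPull) ⟶
      ⟨S, (Scheme.Modules.pushforward f).obj M⟩) U x
  refine h7.symm.trans (h6.symm.trans (h2.symm.trans (h1.trans ?_)))
  refine congrArg _ (h3.trans ?_)
  exact (congrArg _ h4).trans h5

end Psec

section Open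

theorem preimage_opensRange {X S U V : Scheme.{u}} {f : X ⟶ S} {i : U ⟶ S} {j : V ⟶ X} {f₀ : V ⟶ U}
    (h : IsPullback j f₀ f i) [IsOpenImmersion i] [IsOpenImmersion j] :
    f ⁻¹ᵁ i.opensRange = j.opensRange := by
  have h1 := IsOpenImmersion.image_preimage_eq_preimage_image_of_isPullback h.flip ⊤
  rw [Scheme.Hom.image_top_eq_opensRange, Scheme.Hom.preimage_top, Scheme.Hom.image_top_eq_opensRange] at h1
  exact h1.symm

/-- The unit of `j^* ⊣ j_*` is bijective on sections over opens in the range of `j`. -/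
theorem bijective_unit_app {U X : Scheme.{u}} (j : U ⟶ X) [IsOpenImmersion j] (M : X.Modules) (V : X.Opens)
    (h : V ≤ j.opensRange) :
    Function.Bijective (((Scheme.Modules.pullbackPushforwardAdjunction j).unit.app M).app V) := by
  have h1 := Adjunction.unit_leftAdjointUniq_hom_app (Scheme.Modules.restrictAdjunction j)
    (Scheme.Modules.pullbackPushforwardAdjunction j) M
  have h2 : j ''ᵁ (j ⁻¹ᵁ V) = V := by
    rw [Scheme.Hom.image_preimage_eq_opensRange_inf]
    exact inf_eq_right.2 h
  have h3 : IsIso (((Scheme.Modules.restrictAdjunction j).unit.app M).app V) := by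
    rw [Scheme.Modules.restrictAdjunction_unit_app_app]
    have : IsIso (homOfLE (j.image_preimage_le V)) := ⟨homOfLE h2.ge, rfl, rfl⟩
    exact Functor.map_isIso M.presheaf _
  have h4 : IsIso (((Scheme.Modules.pushforward j).map
      (((Scheme.Modules.restrictAdjunction j).leftAdjointUniq
        (Scheme.Modules.pullbackPushforwardAdjunction j)).hom.app M)).app V) := inferInstance
  rw [← h1]
  have h5 := ConcreteCategory.bijective_of_isIso (((Scheme.Modules.restrictAdjunction j).unit.app M).app V)
  have h6 := ConcreteCategory.bijective_of_isIso (((Scheme.Modules.pushforward j).map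
      (((Scheme.Modules.restrictAdjunction j).leftAdjointUniq
        (Scheme.Modules.pullbackPushforwardAdjunction j)).hom.app M)).app V)
  exact h6.comp h5

/-- **Base change along an open immersion** for arbitrary modules and arbitrary morphisms. -/
theorem bc_open {X S U V : Scheme.{u}} {f : X ⟶ S} {i : U ⟶ S} {j : V ⟶ X} {f₀ : V ⟶ U}
    (h : IsPullback j f₀ f i) [IsOpenImmersion i] (M : X.Modules) :
    Tot.BC (Tot.cartLift (P := modPull) ⟨X, M⟩ j) f f₀ i := by
  have hj : IsOpenImmersion j := MorphismProperty.of_isPullback h.flip inferInstance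
  obtain ⟨⟨s, φ⟩, hs, hs'⟩ := (isCocart_cocartLift (P := modPull) f₀
      (Scheme.Modules.pullbackPushforwardAdjunction f₀) ((Scheme.Modules.pullback j).obj M)).desc
    (cartLift (P := modPull) ⟨X, M⟩ j ≫
        cocartLift (P := modPull) f (Scheme.Modules.pullbackPushforwardAdjunction f) M) i h.w.symm
  obtain rfl : s = i := hs
  refine BC.of_exists _ _ _ _ rfl rfl rfl (isCocart_cocartLift (P := modPull) f
      (Scheme.Modules.pullbackPushforwardAdjunction f) M) (isCocart_cocartLift (P := modPull) f₀
      (Scheme.Modules.pullbackPushforwardAdjunction f₀) ((Scheme.Modules.pullback j).obj M)) hs' ?_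
  refine Groth.Agent.CohqA.PullbackQCoh.isIso_of_bijective_basis (X := U) φ
    (ι := {O : S.Opens // O ≤ s.opensRange}) (fun O => s ⁻¹ᵁ O.1) ?_ ?_
  · rw [Opens.isBasis_iff_nbhd]
    intro W x hx
    refine ⟨W, ⟨⟨s ''ᵁ W, Scheme.Hom.image_le_opensRange _ _⟩, s.preimage_image_eq W⟩, hx, le_rfl⟩
  · rintro ⟨O, hO⟩
    have key := app_unit_eq h.w M φ hs' O
    have b1 := bijective_unit_app s ((Scheme.Modules.pushforward f).obj M) O hO
    have b2 := bijective_unit_app j M (f ⁻¹ᵁ O) ((Scheme.Hom.preimage_mono f hO).trans (preimage_opensRange h).le)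
    have e : f₀ ⁻¹ᵁ s ⁻¹ᵁ O = j ⁻¹ᵁ f ⁻¹ᵁ O := by
      rw [← Scheme.Hom.comp_preimage, ← h.w, Scheme.Hom.comp_preimage]
    have b3 : Function.Bijective (((Scheme.Modules.pullback j).obj M).presheaf.map (eqToHom e).op) := by
      apply ConcreteCategory.bijective_of_isIso
    have b4 : Function.Bijective (fun x : Γ(M, f ⁻¹ᵁ O) => φ.app (s ⁻¹ᵁ O)
        (((Scheme.Modules.pullbackPushforwardAdjunction s).unit.app
          ((Scheme.Modules.pushforward f).obj M)).app O x)) := by
      have : (fun x : Γ(M, f ⁻¹ᵁ O) => φ.app (s ⁻¹ᵁ O)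
        (((Scheme.Modules.pullbackPushforwardAdjunction s).unit.app
          ((Scheme.Modules.pushforward f).obj M)).app O x)) = fun x => 
          ((Scheme.Modules.pullback j).obj M).presheaf.map (eqToHom e).op 
            (((Scheme.Modules.pullbackPushforwardAdjunction j).unit.app M).app (f ⁻¹ᵁ O) x) := by
        funext x
        exact key x
      rw [this]
      exact b3.comp b2
    exact (Function.Bijective.of_comp_iff _ b1).1 b4

end Open

section IsBC

/-- Base changes of modules along a ring homomorphism, without instances for the small ring upstairs. -/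
def IsBC {A A' : Type*} [CommRing A] [CommRing A'] (β : A →+* A') {M N : Type*} [AddCommGroup M] [Module A M]
    [AddCommGroup N] [Module A' N] (v : M →+ N) : Prop :=
  ∃ hv : ∀ (a : A) (m : M), v (a • m) = β a • v m,
    letI := β.toAlgebra
    letI : Module A N := Module.compHom N β
    haveI : IsScalarTower A A' N := ⟨fun a b c => by rw [Algebra.smul_def, mul_smul]; rfl⟩
    IsBaseChange A' ({ toFun := v, map_add' := v.map_add, map_smul' := hv } : M →ₗ[A] N)

theorem IsBC.bijective {A A' : Type*} [CommRing A] [CommRing A'] {β : A →+* A'} {M N P : Type*} [AddCommGroup M]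
    [Module A M] [AddCommGroup N] [Module A' N] [AddCommGroup P] [Module A' P] {v : M →+ N} {u : M →+ P}
    (hv : IsBC β v) (hu : IsBC β u) (φ : N →+ P) (hφ : ∀ (a : A') (n : N), φ (a • n) = a • φ n)
    (h : ∀ m, φ (v m) = u m) : Function.Bijective φ := by
  letI := β.toAlgebra
  letI : Module A N := Module.compHom N β
  haveI : IsScalarTower A A' N := ⟨fun a b c => by rw [Algebra.smul_def, mul_smul]; rfl⟩
  letI : Module A P := Module.compHom P β
  haveI : IsScalarTower A A' P := ⟨fun a b c => by rw [Algebra.smul_def, mul_smul]; rfl⟩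
  obtain ⟨hv, hv'⟩ := hv
  obtain ⟨hu, hu'⟩ := hu
  let φₗ : N →ₗ[A'] P := { toFun := φ, map_add' := φ.map_add, map_smul' := hφ }
  have : φₗ = (hv'.equiv.symm ≪≫ₗ hu'.equiv).toLinearMap := by
    refine hv'.algHom_ext _ _ fun m => ?_
    refine (h m).trans ?_
    rw [LinearEquiv.coe_coe, LinearEquiv.trans_apply, IsBaseChange.equiv_symm_apply, IsBaseChange.equiv_tmul,
      one_smul]
    rfl
  have h2 : Function.Bijective φₗ := by
    rw [this]
    exact LinearEquiv.bijective _
  exact h2

theorem IsBC.of_isPushout {A A' B B' : Type*} [CommRing A] [CommRing A'] [CommRing B] [CommRing B']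
    (α : A →+* B) (β : A →+* A') (γ : B →+* B') (δ : A' →+* B') (hc : γ.comp α = δ.comp β)
    (hpo : letI := α.toAlgebra; letI := β.toAlgebra; letI := γ.toAlgebra; letI := δ.toAlgebra
      letI := (δ.comp β).toAlgebra
      haveI : IsScalarTower A A' B' := IsScalarTower.of_algebraMap_eq (fun _ => rfl)
      haveI : IsScalarTower A B B' := IsScalarTower.of_algebraMap_eq (fun a => congr($hc.symm a))
      Algebra.IsPushout A A' B B')
    {M P : Type*} [AddCommGroup M] [iM : Module B M] [AddCommGroup P] [iP : Module B' P] {u : M →+ P}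
    (hu : IsBC γ u) : @IsBC _ _ _ _ β _ _ _ (Module.compHom M α) _ (Module.compHom P δ) u := by
  letI i1 := α.toAlgebra
  letI i2 := β.toAlgebra
  letI i3 := γ.toAlgebra
  letI i4 := δ.toAlgebra
  letI i5 := (δ.comp β).toAlgebra
  haveI : IsScalarTower A A' B' := IsScalarTower.of_algebraMap_eq (fun _ => rfl)
  haveI : IsScalarTower A B B' := IsScalarTower.of_algebraMap_eq (fun a => congr($hc.symm a))
  letI j1 : Module B P := Module.compHom P γ
  letI j2 : Module A M := Module.compHom M α
  letI j3 : Module A' P := Module.compHom P δ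
  letI j4 : Module A P := Module.compHom P β
  haveI : IsScalarTower A A' P := ⟨fun a b c => by rw [Algebra.smul_def, mul_smul]; rfl⟩
  haveI : IsScalarTower A B M := ⟨fun a b c => by rw [Algebra.smul_def, mul_smul]; rfl⟩
  haveI : IsScalarTower A' B' P := ⟨fun a b c => by rw [Algebra.smul_def, mul_smul]; rfl⟩
  haveI : IsScalarTower B B' P := ⟨fun a b c => by rw [Algebra.smul_def, mul_smul]; rfl⟩
  haveI : IsScalarTower A B' P := ⟨fun a b c => by rw [Algebra.smul_def, mul_smul]; rfl⟩
  haveI : IsScalarTower A B P := ⟨fun a b c => by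
      rw [Algebra.smul_def, mul_smul]
      exact congrArg (fun t : B' => t • (b • c)) (congr($hc a))⟩
  haveI := hpo
  obtain ⟨hu, hu'⟩ := hu
  have b3 := (CurvesA.PushBC.isBaseChange_iff_of_isPushout A A' B B' _).mpr hu'
  refine ⟨fun a m => ?_, b3⟩
  refine (hu (α a) m).trans ?_
  exact congrArg (fun t : B' => t • u m) (congr($hc a))

end IsBC

section Affine

open Groth.Agent.VarietyB.PullSec

variable {X Y : Scheme.{u}}

/-- `sec` is a base change over affine opens. -/
theorem isBC_sec (g : Y ⟶ X) (M : X.Modules) {U : X.Opens} {V : Y.Opens} (e : V ≤ g ⁻¹ᵁ U) (hM : Coh.IsQCoh M)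
    (hU : IsAffineOpen U) (hV : IsAffineOpen V) : IsBC (g.appLE U V e).hom (sec g M e) :=
  ⟨sec_smul g M e, isBaseChange_secₗ g M e hM hU hV⟩

theorem map_self (N : Y.Modules) {V : Y.Opens} (h : V ⟶ V) (x : Γ(N, V)) : N.presheaf.map h.op x = x := by
  have : h.op = 𝟙 _ := rfl
  rw [this]
  erw [CategoryTheory.Functor.map_id]
  rfl

theorem isBC_sec_top (g : Y ⟶ X) [IsAffine X] [IsAffine Y] (M : X.Modules) (hM : Coh.IsQCoh M) :
    IsBC (M := Γ(M, ⊤)) (N := Γ((Scheme.Modules.pullback g).obj M, ⊤)) g.appTop.hom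
      (((Scheme.Modules.pullbackPushforwardAdjunction g).unit.app M).app ⊤).hom := by
  have h1 := isBC_sec g M (U := ⊤) (V := ⊤) (CurvesA.FlatH0.le_pt g ⊤) hM (isAffineOpen_top X) (isAffineOpen_top Y)
  have h2 : (g.appLE ⊤ ⊤ (CurvesA.FlatH0.le_pt g ⊤)).hom = g.appTop.hom := congrArg _ (CurvesA.FlatH0.appLE_top_top g)
  have h3 : sec g M (U := ⊤) (V := ⊤) (CurvesA.FlatH0.le_pt g ⊤) =
      (((Scheme.Modules.pullbackPushforwardAdjunction g).unit.app M).app ⊤).hom := by
    ext x
    rw [sec_apply]
    exact map_self _ (V := ⊤) (homOfLE (le_refl _)) _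
  rw [h2] at h1
  rw [h3] at h1
  exact h1

/-- **Base change for affine squares**, quasi-coherent modules. -/
theorem bc_affine {X S X' S' : Scheme.{u}} {f : X ⟶ S} {g : S' ⟶ S} {g' : X' ⟶ X} {f' : X' ⟶ S'}
    (h : IsPullback g' f' f g) [IsAffine X] [IsAffine S] [IsAffine S'] (M : X.Modules) (hM : Coh.IsQCoh M) :
    Tot.BC (Tot.cartLift (P := modPull) ⟨X, M⟩ g') f f' g := by
  have hX' : IsAffine X' := IsAffine.of_isPullback h
  obtain ⟨⟨s, φ⟩, hs, hs'⟩ := (isCocart_cocartLift (P := modPull) f'
      (Scheme.Modules.pullbackPushforwardAdjunction f') ((Scheme.Modules.pullback g').obj M)).desc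
    (cartLift (P := modPull) ⟨X, M⟩ g' ≫
        cocartLift (P := modPull) f (Scheme.Modules.pullbackPushforwardAdjunction f) M) g h.w.symm
  obtain rfl : s = g := hs
  refine BC.of_exists _ _ _ _ rfl rfl rfl (isCocart_cocartLift (P := modPull) f
      (Scheme.Modules.pullbackPushforwardAdjunction f) M) (isCocart_cocartLift (P := modPull) f'
      (Scheme.Modules.pullbackPushforwardAdjunction f') ((Scheme.Modules.pullback g').obj M)) hs' ?_
  have q1 : Coh.IsQCoh ((Scheme.Modules.pushforward f).obj M) := Ega1.QcqsPush.isQCoh_pushforward f M hM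
  have q2 : Coh.IsQCoh ((Scheme.Modules.pullback s).obj ((Scheme.Modules.pushforward f).obj M)) :=
    VarietyB.PullSec.isQCoh_pullback _ _ q1
  have q3 : Coh.IsQCoh ((Scheme.Modules.pullback g').obj M) := VarietyB.PullSec.isQCoh_pullback _ _ hM
  have q4 : Coh.IsQCoh ((Scheme.Modules.pushforward f').obj ((Scheme.Modules.pullback g').obj M)) :=
    Ega1.QcqsPush.isQCoh_pushforward f' _ q3
  have key := app_unit_eq h.w M φ hs' ⊤
  refine @Groth.Agent.CohqA.PullbackQCoh.isIso_of_bijective_top S' _ _ _ q2 q4 φ ?_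
  have b1 := isBC_sec_top s ((Scheme.Modules.pushforward f).obj M) q1
  have b2 := isBC_sec_top g' M hM
  have hc : g'.appTop.hom.comp f.appTop.hom = f'.appTop.hom.comp s.appTop.hom := by
    have h1 : (g' ≫ f).appTop = (f' ≫ s).appTop := by rw [h.w]
    rw [Scheme.Hom.comp_appTop, Scheme.Hom.comp_appTop] at h1
    exact congrArg CommRingCat.Hom.hom h1
  have b3 := IsBC.of_isPushout f.appTop.hom s.appTop.hom g'.appTop.hom f'.appTop.hom hc ?_ b2
  · refine @IsBC.bijective Γ(S, ⊤) Γ(S', ⊤) _ _ s.appTop.hom Γ(M, ⊤) _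
      Γ((Scheme.Modules.pullback g').obj M, ⊤) _ (Module.compHom _ f.appTop.hom) _ _ _
      (Module.compHom _ f'.appTop.hom) _ _ b1 b3 (φ.app ⊤).hom ?_ ?_
    · intro a n
      exact Scheme.Modules.Hom.app_smul φ a n
    · intro x
      refine (key x).trans ?_
      exact map_self _ (V := ⊤) (𝟙 _) _
  · letI i1 := f.appTop.hom.toAlgebra
    letI i2 := s.appTop.hom.toAlgebra
    letI i3 := g'.appTop.hom.toAlgebra
    letI i4 := f'.appTop.hom.toAlgebra
    letI i5 := (f'.appTop.hom.comp s.appTop.hom).toAlgebra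
    haveI : IsScalarTower Γ(S, ⊤) Γ(S', ⊤) Γ(X', ⊤) := IsScalarTower.of_algebraMap_eq (fun _ => rfl)
    haveI : IsScalarTower Γ(S, ⊤) Γ(X, ⊤) Γ(X', ⊤) := IsScalarTower.of_algebraMap_eq (fun a => congr($hc.symm a))
    exact CommRingCat.isPushout_iff_isPushout.mp (isPushout_appTop_of_isPullback h).flip

end Affine

end Groth.Agent.PerfB.BCMod
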