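import Groth.Agent.PerfB.BCTri
import Groth.Agent.Dcoh.DerAdj

/-!
# Formal base change, VI: complexes

From a pseudofunctor `P` with additive pullbacks we get the pseudofunctor of cochain complexes.  Base change for
complexes holds as soon as it holds termwise.
-/

set_option autoImplicit false

universe v₁ u₁ v₂ u₂ u

open CategoryTheory CategoryTheory.Limits

namespace Groth.Agent.PerfB.BCCx

open Groth.Agent.PerfB.BCTot Groth.Agent.PerfB.BCTot.Tot Groth.Agent.Dcoh.DerAdj

variable {𝒮 : Type u₁} [Category.{v₁} 𝒮]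
  {A : 𝒮 → Type u₂} [∀ X, Category.{v₂} (A X)] [∀ X, Preadditive (A X)]
  (P : PullData A) [∀ {X Y : 𝒮} (f : X ⟶ Y), (P.pull f).Additive]

/-- The pseudofunctor of cochain complexes. -/
noncomputable def cxPull : PullData (fun X => CochainComplex (A X) ℤ) where
  pull f := (P.pull f).mapHomologicalComplex (ComplexShape.up ℤ)
  idI X := NatIso.ofComponents (fun K => HomologicalComplex.Hom.isoOfComponents
    (fun i => (P.idI X).app (K.X i)) (fun i j _ => ((P.idI X).hom.naturality (K.d i j)).symm))
    (fun φ => by ext i; exact (P.idI X).hom.naturality (φ.f i))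
  compI f g := NatIso.ofComponents (fun K => HomologicalComplex.Hom.isoOfComponents
    (fun i => (P.compI f g).app (K.X i))
    (fun i j _ => ((P.compI f g).hom.naturality (K.d i j)).symm))
    (fun φ => by ext i; exact (P.compI f g).hom.naturality (φ.f i))
  comp_id f K := by
    ext i
    rw [HomologicalComplex.eqToHom_f]
    exact P.comp_id f (K.X i)
  id_comp f K := by
    ext i
    rw [HomologicalComplex.eqToHom_f]
    exact P.id_comp f (K.X i)
  assoc f g h K := by
    ext i
    rw [HomologicalComplex.eqToHom_f]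
    exact P.assoc f g h (K.X i)

@[simp] lemma cxPull_pull {X Y : 𝒮} (f : X ⟶ Y) :
    (cxPull P).pull f = (P.pull f).mapHomologicalComplex (ComplexShape.up ℤ) := rfl

lemma cxPull_idI_f (X : 𝒮) (K : CochainComplex (A X) ℤ) (i : ℤ) :
    (((cxPull P).idI X).hom.app K).f i = (P.idI X).hom.app (K.X i) := rfl

lemma cxPull_compI_inv_f {X Y Z : 𝒮} (f : X ⟶ Y) (g : Y ⟶ Z) (K : CochainComplex (A Z) ℤ) (i : ℤ) :
    (((cxPull P).compI f g).inv.app K).f i = (P.compI f g).inv.app (K.X i) := rfl

lemma cxPull_compI_hom_f {X Y Z : 𝒮} (f : X ⟶ Y) (g : Y ⟶ Z) (K : CochainComplex (A Z) ℤ) (i : ℤ) :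
    (((cxPull P).compI f g).hom.app K).f i = (P.compI f g).hom.app (K.X i) := rfl

/-- Evaluation in degree `n`. -/
noncomputable def evalMap (n : ℤ) : PullMap (cxPull P) P where
  Q X := HomologicalComplex.eval (A X) (ComplexShape.up ℤ) n
  lam {X Y} f :=
    { app := fun K => 𝟙 ((P.pull f).obj (K.X n))
      naturality := fun K L φ => (Category.comp_id _).trans (Category.id_comp _).symm }
  lam_id X K := Category.id_comp _
  lam_comp {X Y Z} f g K := by
    refine Eq.trans ?_ (Category.id_comp _).symm
    refine (congrArg (fun t => ((P.compI f g).inv.app (K.X n) ≫ t)) ?_).trans (Category.comp_id _)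
    exact (Category.comp_id _).trans ((P.pull f).map_id _)

lemma evalMap_fib (n : ℤ) {B C : Tot (cxPull P)} (m : B ⟶ C) :
    Hom.fib ((evalMap P n).tot.map m) = m.fib.f n := Category.id_comp _

lemma isCart_iff_eval {B C : Tot (cxPull P)} (m : B ⟶ C) :
    IsCart m ↔ ∀ n, IsCart ((evalMap P n).tot.map m) := by
  constructor
  · intro h n
    unfold IsCart at h ⊢
    rw [evalMap_fib]
    exact inferInstanceAs (IsIso ((HomologicalComplex.eval _ _ n).map m.fib))
  · intro h
    unfold IsCart at h ⊢
    have h' : ∀ n, IsIso (m.fib.f n) := fun n => by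
      have := h n
      rw [evalMap_fib] at this
      exact this
    exact @HomologicalComplex.Hom.isIso_of_components _ _ _ _ _ _ _ m.fib h'

section Adj

variable {P}
variable {X Y : 𝒮} {f : X ⟶ Y} {push : A X ⥤ A Y} [push.Additive] (adj : P.pull f ⊣ push)

/-- The adjunction on complexes. -/
noncomputable def cxAdj : (cxPull P).pull f ⊣ push.mapHomologicalComplex (ComplexShape.up ℤ) :=
  adjCx adj (ComplexShape.up ℤ)

lemma eval_cocartLift (n : ℤ) (K : CochainComplex (A X) ℤ) :
    (evalMap P n).tot.map (cocartLift f (cxAdj adj) K) = cocartLift f adj (K.X n) := by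
  refine hom_ext rfl ?_
  refine (evalMap_fib P n _).trans ?_
  exact (Category.id_comp _).symm

end Adj

/-- Base change for complexes from base change in each degree. -/
theorem bc_of_eval {B B' : Tot (cxPull P)} (θ : B' ⟶ B) {S S' : 𝒮} {f : B.base ⟶ S}
    {f' : B'.base ⟶ S'} {g : S' ⟶ S} (e : θ.base ≫ f = f' ≫ g)
    {push : A B.base ⥤ A S} [push.Additive] (adj : P.pull f ⊣ push)
    {push' : A B'.base ⥤ A S'} [push'.Additive] (adj' : P.pull f' ⊣ push')
    (h : ∀ n, BC ((evalMap P n).tot.map θ) f f' g) : BC θ f f' g := by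
  obtain ⟨s, hs, hs'⟩ := (isCocart_cocartLift f' (cxAdj adj') B'.fib).desc
    (θ ≫ cocartLift f (cxAdj adj) B.fib) g e.symm
  refine BC.of_exists θ (cocartLift f (cxAdj adj) B.fib) (cocartLift f' (cxAdj adj') B'.fib) s
    rfl rfl hs (isCocart_cocartLift _ _ _) (isCocart_cocartLift _ _ _) hs' ?_
  rw [isCart_iff_eval]
  intro n
  refine h n _ _ (cocartLift f adj (B.fib.X n)) (cocartLift f' adj' (B'.fib.X n))
    ((evalMap P n).tot.map s) rfl rfl hs (isCocart_cocartLift _ _ _) (isCocart_cocartLift _ _ _) ?_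
  have h1 := congrArg (fun t => (evalMap P n).tot.map t) hs'
  simp only [Functor.map_comp] at h1
  rw [eval_cocartLift, eval_cocartLift] at h1
  exact h1

end Groth.Agent.PerfB.BCCx
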