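import Groth.Agent.PerfB.BCTot
import Mathlib.CategoryTheory.Functor.Derived.LeftDerived
import Mathlib.CategoryTheory.Functor.Derived.RightDerived

/-!
# Formal base change, II: the derived pseudofunctor

Given a contravariant pseudofunctor `P` on categories `C X`, localization functors `Q X : C X ⥤ D X`, left derived
functors `L f` of `pull f ⋙ Q X`, all computed by a class `Flat` of objects which is stable under pullback, the `L f`
form a contravariant pseudofunctor `derived` and `Q` is a lax morphism `P → derived`.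
-/

set_option autoImplicit false

universe v₁ u₁ v₂ u₂ v₃ u₃

open CategoryTheory

namespace Groth.Agent.PerfB.BCDer

open Groth.Agent.PerfB.BCTot

variable {𝒮 : Type u₁} [Category.{v₁} 𝒮] {C : 𝒮 → Type u₃} [∀ X, Category.{v₃} (C X)]
  {D : 𝒮 → Type u₂} [∀ X, Category.{v₂} (D X)] (P : PullData C)

/-- Data for deriving a pseudofunctor. -/
structure DerData (D : 𝒮 → Type u₂) [∀ X, Category.{v₂} (D X)] where
  Q (X : 𝒮) : C X ⥤ D X
  W (X : 𝒮) : MorphismProperty (C X)
  isLoc (X : 𝒮) : (Q X).IsLocalization (W X)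
  L {X Y : 𝒮} (f : X ⟶ Y) : D Y ⥤ D X
  lam {X Y : 𝒮} (f : X ⟶ Y) : Q Y ⋙ L f ⟶ P.pull f ⋙ Q X
  isLeftDer {X Y : 𝒮} (f : X ⟶ Y) : (L f).IsLeftDerivedFunctor (lam f) (W Y)
  Flat (X : 𝒮) : ObjectProperty (C X)
  flat_pull {X Y : 𝒮} (f : X ⟶ Y) (K : C Y) : Flat Y K → Flat X ((P.pull f).obj K)
  lam_iso {X Y : 𝒮} (f : X ⟶ Y) (K : C Y) : Flat Y K → IsIso ((lam f).app K)
  exists_res (X : 𝒮) (K : D X) : ∃ R : C X, Flat X R ∧ Nonempty ((Q X).obj R ≅ K)

variable {P}

namespace DerData

variable (E : DerData P D)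

attribute [instance] DerData.isLoc DerData.isLeftDer

/-- Natural transformations agreeing on flat objects are equal. -/
lemma natTrans_ext {Y : 𝒮} {H : Type*} [Category H] {F G : D Y ⥤ H} {α β : F ⟶ G}
    (h : ∀ K : C Y, E.Flat Y K → α.app ((E.Q Y).obj K) = β.app ((E.Q Y).obj K)) : α = β := by
  ext K
  obtain ⟨R, hR, ⟨i⟩⟩ := E.exists_res Y K
  rw [← cancel_epi (F.map i.hom), α.naturality, β.naturality, h R hR]

lemma isIso_natTrans {Y : 𝒮} {H : Type*} [Category H] {F G : D Y ⥤ H} (α : F ⟶ G)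
    (h : ∀ K : C Y, E.Flat Y K → IsIso (α.app ((E.Q Y).obj K))) : IsIso α := by
  rw [NatTrans.isIso_iff_isIso_app]
  intro K
  obtain ⟨R, hR, ⟨i⟩⟩ := E.exists_res Y K
  have := h R hR
  rwa [← NatTrans.isIso_app_iff_of_iso α i]

/-- The natural transformation underlying the composition isomorphism. -/
noncomputable def compT {X Y Z : 𝒮} (f : X ⟶ Y) (g : Y ⟶ Z) : E.L g ⋙ E.L f ⟶ E.L (f ≫ g) :=
  (E.L (f ≫ g)).leftDerivedLift (E.lam (f ≫ g)) (E.W Z) (E.L g ⋙ E.L f)
    { app := fun K => (E.L f).map ((E.lam g).app K) ≫ (E.lam f).app ((P.pull g).obj K) ≫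
        (E.Q X).map ((P.compI f g).hom.app K)
      naturality := fun K K' φ => by
        have h1 := (E.lam g).naturality φ
        have h2 := (E.lam f).naturality ((P.pull g).map φ)
        have h3 := (P.compI f g).hom.naturality φ
        simp only [Functor.comp_map, Functor.comp_obj, Category.assoc] at h1 h2 h3 ⊢
        rw [← Functor.map_comp_assoc, h1, Functor.map_comp, Category.assoc, reassoc_of% h2,
          ← Functor.map_comp, h3, Functor.map_comp] }

lemma compT_fac {X Y Z : 𝒮} (f : X ⟶ Y) (g : Y ⟶ Z) (K : C Z) :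
    (E.compT f g).app ((E.Q Z).obj K) ≫ (E.lam (f ≫ g)).app K =
      (E.L f).map ((E.lam g).app K) ≫ (E.lam f).app ((P.pull g).obj K) ≫
        (E.Q X).map ((P.compI f g).hom.app K) :=
  Functor.leftDerived_fac_app _ _ _ _ _ _

instance {X Y Z : 𝒮} (f : X ⟶ Y) (g : Y ⟶ Z) : IsIso (E.compT f g) := by
  refine E.isIso_natTrans _ fun K hK => ?_
  have h1 := E.lam_iso g K hK
  have h2 := E.lam_iso f _ (E.flat_pull g K hK)
  have h3 := E.lam_iso (f ≫ g) K hK
  have h4 : IsIso ((E.compT f g).app ((E.Q Z).obj K) ≫ (E.lam (f ≫ g)).app K) := by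
    rw [E.compT_fac]; infer_instance
  exact IsIso.of_isIso_comp_right _ ((E.lam (f ≫ g)).app K)

/-- The natural transformation underlying the unit isomorphism. -/
noncomputable def idT (X : 𝒮) : 𝟭 (D X) ⟶ E.L (𝟙 X) :=
  (E.L (𝟙 X)).leftDerivedLift (E.lam (𝟙 X)) (E.W X) (𝟭 (D X))
    { app := fun K => (E.Q X).map ((P.idI X).inv.app K)
      naturality := fun K K' φ => by
        have h1 := (P.idI X).inv.naturality φ
        simp only [Functor.comp_map, Functor.comp_obj, Functor.id_map] at h1 ⊢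
        rw [← Functor.map_comp, h1, Functor.map_comp] }

lemma idT_fac (X : 𝒮) (K : C X) :
    (E.idT X).app ((E.Q X).obj K) ≫ (E.lam (𝟙 X)).app K = (E.Q X).map ((P.idI X).inv.app K) :=
  Functor.leftDerived_fac_app _ _ _ _ _ _

instance (X : 𝒮) : IsIso (E.idT X) := by
  refine E.isIso_natTrans _ fun K hK => ?_
  have h3 := E.lam_iso (𝟙 X) K hK
  have h4 : IsIso ((E.idT X).app ((E.Q X).obj K) ≫ (E.lam (𝟙 X)).app K) := by
    rw [E.idT_fac]; infer_instance
  exact IsIso.of_isIso_comp_right _ ((E.lam (𝟙 X)).app K)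

lemma idT_inv_fac (X : 𝒮) (K : C X) :
    (inv (E.idT X)).app ((E.Q X).obj K) = (E.lam (𝟙 X)).app K ≫ (E.Q X).map ((P.idI X).hom.app K) := by
  have h := E.idT_fac X K
  have h2 : (inv (E.idT X)).app ((E.Q X).obj K) ≫ (E.idT X).app ((E.Q X).obj K) = 𝟙 _ := by
    rw [← NatTrans.comp_app, IsIso.inv_hom_id]; rfl
  have h5 : (E.Q X).map ((P.idI X).inv.app K) ≫ (E.Q X).map ((P.idI X).hom.app K) = 𝟙 _ := by
    rw [← Functor.map_comp]; simp
  have h6 : (E.lam (𝟙 X)).app K ≫ (E.Q X).map ((P.idI X).hom.app K) =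
      ((inv (E.idT X)).app ((E.Q X).obj K) ≫ (E.idT X).app ((E.Q X).obj K)) ≫
        (E.lam (𝟙 X)).app K ≫ (E.Q X).map ((P.idI X).hom.app K) := by
    rw [h2, Category.id_comp]
  rw [h6, Category.assoc, reassoc_of% h, h5]
  exact (Category.comp_id _).symm

lemma lam_eqToHom {X Y : 𝒮} {f g : X ⟶ Y} (e : f = g) (K : C Y) :
    (eqToHom (by rw [e]) : (E.L f).obj ((E.Q Y).obj K) ⟶ (E.L g).obj ((E.Q Y).obj K)) ≫
      (E.lam g).app K = (E.lam f).app K ≫ (E.Q X).map (eqToHom (by rw [e])) := by
  subst e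
  simp

/-- The derived pseudofunctor. -/
noncomputable def derived : PullData D where
  pull f := E.L f
  idI X := (asIso (E.idT X)).symm
  compI f g := asIso (E.compT f g)
  comp_id {X Y} f K := by
    suffices h : inv (E.compT f (𝟙 Y)) ≫ Functor.whiskerRight (inv (E.idT Y)) (E.L f) ≫
        (Functor.leftUnitor _).hom = eqToHom (by rw [Category.comp_id]) by
      have := congr_app h K
      simpa [eqToHom_app] using this
    refine E.natTrans_ext fun K hK => ?_
    have h1 := E.lam_iso f K hK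
    rw [← cancel_epi ((E.compT f (𝟙 Y)).app _), ← cancel_mono ((E.lam f).app K)]
    simp only [NatTrans.comp_app, Functor.whiskerRight_app, Functor.leftUnitor_hom_app,
      Category.assoc, eqToHom_app, NatIso.isIso_inv_app,
      IsIso.hom_inv_id_assoc]
    rw [E.lam_eqToHom (Category.comp_id f) K, reassoc_of% (E.compT_fac f (𝟙 Y) K),
      ← NatIso.isIso_inv_app, E.idT_inv_fac]
    have h2 := P.comp_id f K
    have h3 : (P.pull f).map ((P.idI Y).hom.app K) = (P.compI f (𝟙 Y)).hom.app K ≫
        eqToHom (by rw [Category.comp_id]; rfl) := by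
      rw [← h2]; simp
    rw [← Functor.map_comp]
    erw [← h3]
    have h4 := (E.lam f).naturality ((P.idI Y).hom.app K)
    simp only [Functor.comp_map, Functor.id_obj] at h4
    rw [← h4, Functor.map_comp]
    simp only [Category.assoc]
    erw [Category.id_comp]
  id_comp {X Y} f K := by
    suffices h : inv (E.compT (𝟙 X) f) ≫ Functor.whiskerLeft (E.L f) (inv (E.idT X)) ≫
        (Functor.rightUnitor _).hom = eqToHom (by rw [Category.id_comp]) by
      have := congr_app h K
      simpa [eqToHom_app] using this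
    refine E.natTrans_ext fun K hK => ?_
    have h1 := E.lam_iso f K hK
    rw [← cancel_epi ((E.compT (𝟙 X) f).app _), ← cancel_mono ((E.lam f).app K)]
    simp only [NatTrans.comp_app, Functor.whiskerLeft_app, Functor.rightUnitor_hom_app,
      Category.assoc, eqToHom_app, NatIso.isIso_inv_app,
      IsIso.hom_inv_id_assoc]
    rw [E.lam_eqToHom (Category.id_comp f) K, reassoc_of% (E.compT_fac (𝟙 X) f K)]
    have h2 := P.id_comp f K
    have h3 : (P.idI X).hom.app ((P.pull f).obj K) = (P.compI (𝟙 X) f).hom.app K ≫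
        eqToHom (by rw [Category.id_comp]; rfl) := by
      rw [← h2]; simp
    rw [← Functor.map_comp]
    erw [← h3]
    have h5 := (inv (E.idT X)).naturality ((E.lam f).app K)
    simp only [Functor.id_map] at h5
    have h6 := E.idT_inv_fac X ((P.pull f).obj K)
    simp only [NatIso.isIso_inv_app] at h5 h6
    erw [Category.id_comp]
    refine h5.symm.trans ?_
    exact congrArg (fun t => (E.L (𝟙 X)).map ((E.lam f).app K) ≫ t) h6
  assoc {W X Y Z} f g h K := by
    have key : Functor.whiskerLeft (E.L h) (E.compT f g) ≫ E.compT (f ≫ g) h =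
        (Functor.associator _ _ _).inv ≫ Functor.whiskerRight (E.compT g h) (E.L f) ≫
          E.compT f (g ≫ h) ≫ eqToHom (by rw [Category.assoc]) := by
      refine E.natTrans_ext fun K hK => ?_
      have h1 := E.lam_iso ((f ≫ g) ≫ h) K hK
      rw [← cancel_mono ((E.lam ((f ≫ g) ≫ h)).app K)]
      simp only [NatTrans.comp_app, Functor.whiskerLeft_app, Functor.whiskerRight_app,
        Functor.associator_inv_app, Category.id_comp, Category.assoc, eqToHom_app]
      rw [E.lam_eqToHom (Category.assoc f g h).symm K, E.compT_fac (f ≫ g) h K,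
        reassoc_of% (E.compT_fac f (g ≫ h) K)]
      have h2 := (E.compT f g).naturality ((E.lam h).app K)
      simp only [Functor.comp_map, Functor.comp_obj] at h2
      rw [← reassoc_of% h2]
      have h3 := E.compT_fac f g ((P.pull h).obj K)
      have h3' : (E.L f).map ((E.compT g h).app ((E.Q Z).obj K)) ≫ (E.L f).map ((E.lam (g ≫ h)).app K) =
          (E.L f).map ((E.L g).map ((E.lam h).app K)) ≫ (E.L f).map ((E.lam g).app ((P.pull h).obj K)) ≫
            (E.L f).map ((E.Q X).map ((P.compI g h).hom.app K)) := by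
        rw [← Functor.map_comp, E.compT_fac g h K, Functor.map_comp, Functor.map_comp]
      rw [reassoc_of% h3, reassoc_of% h3']
      have h4 := (E.lam f).naturality ((P.compI g h).hom.app K)
      simp only [Functor.comp_map, Functor.comp_obj] at h4
      have h4' := reassoc_of% h4
      rw [h4']
      have h5 := P.assoc f g h K
      have h6 : (P.compI f g).hom.app ((P.pull h).obj K) ≫ (P.compI (f ≫ g) h).hom.app K =
          (P.pull f).map ((P.compI g h).hom.app K) ≫ (P.compI f (g ≫ h)).hom.app K ≫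
            eqToHom (by rw [Category.assoc]) := by
        rw [← h5]
        simp only [Iso.hom_inv_id_app_assoc]
        rw [← Functor.map_comp_assoc]
        simp
      rw [← Functor.map_comp, ← Functor.map_comp, ← Functor.map_comp]
      erw [h6]
    have k := congr_app key K
    simp only [NatTrans.comp_app, Functor.whiskerLeft_app, Functor.whiskerRight_app,
      Functor.associator_inv_app, Category.id_comp, eqToHom_app] at k
    simp only [asIso_inv, asIso_hom, NatIso.isIso_inv_app]
    rw [IsIso.inv_comp_eq]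
    rw [k, ← Functor.map_comp_assoc, IsIso.inv_hom_id, Functor.map_id, Category.id_comp]

@[simp] lemma derived_pull {X Y : 𝒮} (f : X ⟶ Y) : E.derived.pull f = E.L f := rfl

lemma compT_inv_fac {X Y Z : 𝒮} (f : X ⟶ Y) (g : Y ⟶ Z) (K : C Z) :
    (inv (E.compT f g)).app ((E.Q Z).obj K) ≫ (E.L f).map ((E.lam g).app K) ≫
      (E.lam f).app ((P.pull g).obj K) =
    (E.lam (f ≫ g)).app K ≫ (E.Q X).map ((P.compI f g).inv.app K) := by
  have h1 := E.compT_fac f g K
  have h5 : (E.Q X).map ((P.compI f g).hom.app K) ≫ (E.Q X).map ((P.compI f g).inv.app K) = 𝟙 _ := by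
    rw [← Functor.map_comp]; simp
  have h2 : (E.L f).map ((E.lam g).app K) ≫ (E.lam f).app ((P.pull g).obj K) =
      (E.compT f g).app ((E.Q Z).obj K) ≫ (E.lam (f ≫ g)).app K ≫
        (E.Q X).map ((P.compI f g).inv.app K) := by
    rw [reassoc_of% h1, h5]
    exact (congrArg (fun t => (E.L f).map ((E.lam g).app K) ≫ t) (Category.comp_id _)).symm
  rw [h2]
  have h3 : (inv (E.compT f g)).app ((E.Q Z).obj K) ≫ (E.compT f g).app ((E.Q Z).obj K) = 𝟙 _ := by
    rw [← NatTrans.comp_app, IsIso.inv_hom_id]; rfl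
  rw [reassoc_of% h3]

/-- The lax morphism to the derived pseudofunctor. -/
noncomputable def toDerived : PullMap P E.derived where
  Q := E.Q
  lam f := E.lam f
  lam_id X K := (E.idT_inv_fac X K).symm
  lam_comp f g K := E.compT_inv_fac f g K

@[simp] lemma toDerived_Q (X : 𝒮) : E.toDerived.Q X = E.Q X := rfl
@[simp] lemma toDerived_lam {X Y : 𝒮} (f : X ⟶ Y) : E.toDerived.lam f = E.lam f := rfl

lemma isCart_map_of_flat {A B : Tot P} {m : A ⟶ B} (hm : Tot.IsCart m) (h : E.Flat _ B.fib) :
    Tot.IsCart (E.toDerived.tot.map m) :=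
  PullMap.isCart_map _ hm (E.lam_iso m.base B.fib h)

/-- The image of a cocartesian arrow is cocartesian, when the direct image is computed without deriving. -/
lemma isCocart_map {X Y : 𝒮} (f : X ⟶ Y) {push : C X ⥤ C Y} (adj : P.pull f ⊣ push)
    {R : D X ⥤ D Y} (dadj : E.L f ⊣ R) (rho : push ⋙ E.Q Y ⟶ E.Q X ⋙ R)
    (hfac : ∀ K : C X, (E.L f).map (rho.app K) ≫ dadj.counit.app ((E.Q X).obj K) =
      (E.lam f).app (push.obj K) ≫ (E.Q X).map (adj.counit.app K)) (K : C X)
    (hK : IsIso (rho.app K)) :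
    Tot.IsCocart (E.toDerived.tot.map (Tot.cocartLift f adj K)) := by
  have h1 := Tot.isCocart_cocartLift (P := E.derived) f dadj ((E.Q X).obj K)
  have h3 : IsIso (Tot.ver (P := E.derived) (rho.app K)) := Tot.isIso_ver (P := E.derived) (rho.app K)
  have h2 : E.toDerived.tot.map (Tot.cocartLift f adj K) =
      Tot.cocartLift (P := E.derived) f dadj ((E.Q X).obj K) ≫ Tot.ver (rho.app K) := by
    refine Eq.trans ?_ (Tot.comp_ver' (P := E.derived) (A := ⟨X, (E.Q X).obj K⟩) (rho.app K) f
      (dadj.counit.app ((E.Q X).obj K))).symm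
    refine Tot.hom_ext rfl ?_
    exact ((Category.id_comp _).trans (hfac K)).symm
  rw [h2]
  exact h1.comp (@Tot.isCocart_of_isIso _ _ _ _ _ _ _ (Tot.ver (P := E.derived) (rho.app K)) h3)

end DerData

end Groth.Agent.PerfB.BCDer
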