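import Groth.Agent.PerfB.RingKFlat

/-!
# K-flatness of `M ⊗_B N` over `A` for `M` K-flat over `B` and `N` flat over `A`

`A → B` a homomorphism of commutative rings, `N` a `B`-module flat over `A`.  If `K` is a K-flat complex of
`B`-modules then `(K ⊗_B N)|_A` is K-flat over `A`.
-/

set_option autoImplicit false

universe u

open CategoryTheory CategoryTheory.Limits MonoidalCategory HomologicalComplex

namespace Groth.Agent.PerfB.BCFlat

open Groth.Agent.Dcoh.KFlatAbs Groth.Agent.PerfB.RingKFlat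

section Ring

variable (A B : Type u) [CommRing A] [CommRing B] [Algebra A B] (N : ModuleCat.{u} B)

/-- `L ↦ N ⊗_B (B ⊗_A L)` -/
noncomputable abbrev GN : ModuleCat.{u} A ⥤ ModuleCat.{u} B := ext A B ⋙ tensorLeft N

/-- `K ↦ (K ⊗_B N)|_A` -/
noncomputable abbrev FN : ModuleCat.{u} B ⥤ ModuleCat.{u} A := tensorRight N ⋙ res A B

/-- `(L, K) ↦ GN(L) ⊗_B K` -/
noncomputable abbrev TN : ModuleCat.{u} A ⥤ ModuleCat.{u} B ⥤ ModuleCat.{u} B := GN A B N ⋙ TR B

instance : (GN A B N).Additive := inferInstanceAs (ext A B ⋙ tensorLeft N).Additive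

instance : (TN A B N).Additive := inferInstanceAs (GN A B N ⋙ TR B).Additive

instance (L : ModuleCat.{u} A) : ((TN A B N).obj L).Additive :=
  inferInstanceAs (((TR B).obj ((GN A B N).obj L)).Additive)

/-- `((N ⊗_B (B ⊗_A L)) ⊗_B K)|_A ≅ L ⊗_A (K ⊗_B N)|_A` -/
noncomputable def eN (L : ModuleCat.{u} A) (K : ModuleCat.{u} B) :
    (res A B).obj (((TN A B N).obj L).obj K) ≅ ((TR A).obj L).obj ((FN A B N).obj K) :=
  (res A B).mapIso (β_ (N ⊗ (ext A B).obj L) K ≪≫ (α_ K N ((ext A B).obj L)).symm) ≪≫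
    (cbcData A B).e (K ⊗ N) L ≪≫ β_ _ _

open TensorProduct in
/-- The pure tensors. -/
noncomputable def pt (L : ModuleCat.{u} A) (K : ModuleCat.{u} B) (n : N) (b : B) (l : L) (k : K) :
    (res A B).obj (((TN A B N).obj L).obj K) :=
  ((n ⊗ₜ[B] (b ⊗ₜ[A] l) : N ⊗[B] (B ⊗[A] L)) ⊗ₜ[B] k : (N ⊗[B] (B ⊗[A] L)) ⊗[B] K)

open TensorProduct in
lemma hom_ext_pt (L : ModuleCat.{u} A) (K : ModuleCat.{u} B) {P : ModuleCat.{u} A}
    (f g : (res A B).obj (((TN A B N).obj L).obj K) ⟶ P)
    (h : ∀ (n : N) (b : B) (l : L) (k : K), f (pt A B N L K n b l k) = g (pt A B N L K n b l k)) : f = g := by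
  ext1
  apply LinearMap.ext
  intro x
  change (N ⊗[B] (B ⊗[A] L)) ⊗[B] K at x
  induction x using TensorProduct.induction_on with
  | zero => exact (map_zero f.hom).trans (map_zero g.hom).symm
  | add x y hx hy => exact (map_add f.hom x y).trans ((congrArg₂ (· + ·) hx hy).trans (map_add g.hom x y).symm)
  | tmul m k =>
    induction m using TensorProduct.induction_on with
    | zero =>
      have e : ((0 : N ⊗[B] (B ⊗[A] L)) ⊗ₜ[B] k : (N ⊗[B] (B ⊗[A] L)) ⊗[B] K) = 0 :=
        TensorProduct.zero_tmul _ k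
      rw [e]
      exact (map_zero f.hom).trans (map_zero g.hom).symm
    | add x y hx hy =>
      have e : ((x + y) ⊗ₜ[B] k : (N ⊗[B] (B ⊗[A] L)) ⊗[B] K) = x ⊗ₜ[B] k + y ⊗ₜ[B] k :=
        TensorProduct.add_tmul x y k
      rw [e]
      exact (map_add f.hom _ _).trans ((congrArg₂ (· + ·) hx hy).trans (map_add g.hom _ _).symm)
    | tmul n y =>
      induction y using TensorProduct.induction_on with
      | zero =>
        have e : ((n ⊗ₜ[B] (0 : B ⊗[A] L)) ⊗ₜ[B] k : (N ⊗[B] (B ⊗[A] L)) ⊗[B] K) = 0 := by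
          rw [TensorProduct.tmul_zero, TensorProduct.zero_tmul]
        rw [e]
        exact (map_zero f.hom).trans (map_zero g.hom).symm
      | add x y hx hy =>
        have e : ((n ⊗ₜ[B] (x + y)) ⊗ₜ[B] k : (N ⊗[B] (B ⊗[A] L)) ⊗[B] K) =
            (n ⊗ₜ[B] x) ⊗ₜ[B] k + (n ⊗ₜ[B] y) ⊗ₜ[B] k := by
          rw [TensorProduct.tmul_add, TensorProduct.add_tmul]
        rw [e]
        exact (map_add f.hom _ _).trans ((congrArg₂ (· + ·) hx hy).trans (map_add g.hom _ _).symm)
      | tmul b l => exact h n b l k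

open TensorProduct in
lemma eN_pt (L : ModuleCat.{u} A) (K : ModuleCat.{u} B) (n : N) (b : B) (l : L) (k : K) :
    (eN A B N L K).hom (pt A B N L K n b l k) =
      (l ⊗ₜ[A] (show (res A B).obj (K ⊗ N) from ((b • (k ⊗ₜ[B] n : K ⊗[B] N)) : K ⊗[B] N))) := rfl

open TensorProduct in
/-- The data for the comparison of total complexes. -/
noncomputable def data : BifCompare.Data (TN A B N) (TR A) (𝟭 _) (FN A B N) (res A B) where
  e L K := eN A B N L K
  nat₁ {L L'} f K := by
    apply hom_ext_pt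
    intro n b l k
    rfl
  nat₂ L {K K'} g := by
    apply hom_ext_pt
    intro n b l k
    change (eN A B N L K').hom (pt A B N L K' n b l (g k)) = _
    rw [eN_pt]
    have h : (b • (g k ⊗ₜ[B] n : K' ⊗[B] N)) = (g ▷ N).hom (b • (k ⊗ₜ[B] n : K ⊗[B] N)) := by
      rw [map_smul]
      rfl
    rw [h]
    rfl

variable {A B} in
/-- `L ⊗_A N` is acyclic for `L` acyclic and `N` flat over `A`. -/
lemma acyclic_GN (hN : Module.Flat A ((res A B).obj N)) (L : CochainComplex (ModuleCat.{u} A) ℤ)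
    (hL : L.Acyclic) : (((GN A B N).mapHomologicalComplex (ComplexShape.up ℤ)).obj L).Acyclic := by
  refine acyclic_of_res (R := A) _ ?_
  let e : GN A B N ⋙ res A B ≅ tensorLeft ((res A B).obj N) :=
    NatIso.ofComponents (fun L => (cbcData A B).e N L) (fun g => (cbcData A B).nat₂ N g)
  have h1 : (((tensorLeft ((res A B).obj N)).mapHomologicalComplex (ComplexShape.up ℤ)).obj L).Acyclic := by
    have := preservesHomology_tensorLeft ((res A B).obj N) hN
    exact Groth.Agent.Dcoh.KFlatSingle.acyclic_map_of_preservesHomology _ L hL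
  exact Groth.Agent.Dcoh.KFlatSingle.acyclic_of_iso ((NatIso.mapHomologicalComplex e
    (ComplexShape.up ℤ)).app L).symm h1

variable {A B} in
/-- (A1) If `K` is a K-flat complex of `B`-modules and `N` a `B`-module flat over `A`, then `(K ⊗_B N)|_A` is
K-flat over `A`. -/
theorem kfl_FN (hN : Module.Flat A ((res A B).obj N)) (K : CochainComplex (ModuleCat.{u} B) ℤ)
    (hK : KFl (TR B) K) :
    KFl (TR A) (((FN A B N).mapHomologicalComplex (ComplexShape.up ℤ)).obj K) := by
  intro L hL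
  have h := hK _ (acyclic_GN N hN L hL)
  have h1 := acyclic_res (R := A) _ h
  exact Groth.Agent.Dcoh.KFlatSingle.acyclic_of_iso (BifCompare.iso (data A B N) L K).symm h1

end Ring

end Groth.Agent.PerfB.BCFlat
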