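import Groth.Agent.Ega1.TensorTilde
import Groth.Agent.PerfB.TensExact

/-!
# `M^~ ⊗ G ≅ (M ⊗_R Γ(G))^~`, naturally in the `R`-module `M`, for `G` quasi-coherent on `Spec R`
-/

set_option autoImplicit false

universe u

open CategoryTheory CategoryTheory.Limits AlgebraicGeometry TopologicalSpace Opposite MonoidalCategory
open scoped TensorProduct

namespace Groth.Agent.PerfB.TildeTens

open Ega2.Tens Ega1

variable {R : CommRingCat.{u}}

/-- The `R`-module of global sections. -/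
noncomputable abbrev Gam (F : (Spec R).Modules) : ModuleCat.{u} R := (moduleSpecΓFunctor (R := R)).obj F

/-- The section of `M^~` given by an element of `M`. -/
noncomputable def sec {M : ModuleCat.{u} R} (m : M) : Γ(tilde M, ⊤) := (tilde.toOpen M ⊤).hom m

lemma sec_bijective (M : ModuleCat.{u} R) : Function.Bijective (sec (M := M)) :=
  (ConcreteCategory.isIso_iff_bijective (tilde.toOpen M ⊤)).1 inferInstance

lemma map_sec {M N : ModuleCat.{u} R} (f : M ⟶ N) (m : M) : (tilde.map f).app ⊤ (sec m) = sec (f m) :=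
  congr($(tilde.toOpen_map_app f ⊤).hom m)

/-- The counit on the sections coming from elements. -/
lemma fromTilde_sec (F : (Spec R).Modules) (m : Gam F) :
    (F.fromTildeΓ).app ⊤ (sec m) = (show Γ(F, ⊤) from m) := by
  have h := congr($(Scheme.Modules.toOpen_fromTildeΓ_app F ⊤).hom m)
  refine h.trans ?_
  exact congr($((modulesSpecToSheaf.obj F).obj.map_id (op ⊤)).hom m)

/-- Morphisms out of `M^~` are determined by their values on elements of `M`. -/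
lemma tilde_ext {M : ModuleCat.{u} R} {F : (Spec R).Modules} (f g : tilde M ⟶ F)
    (h : ∀ m : M, f.app ⊤ (sec m) = g.app ⊤ (sec m)) : f = g := by
  apply ((tilde.adjunction (R := R)).homEquiv M F).injective
  refine ((tilde.adjunction (R := R)).homEquiv_unit _ _ f).trans
    (Eq.trans ?_ ((tilde.adjunction (R := R)).homEquiv_unit _ _ g).symm)
  ext m
  exact h m

lemma sec_add {M : ModuleCat.{u} R} (m m' : M) : sec (m + m') = sec m + sec m' :=
  map_add (tilde.toOpen M ⊤).hom m m'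

lemma sec_zero {M : ModuleCat.{u} R} : sec (0 : M) = 0 := map_zero (tilde.toOpen M ⊤).hom

/-- Morphisms out of `(M ⊗ N)^~` are determined by their values on pure tensors. -/
lemma tilde_tensor_ext {M N : Type u} [AddCommGroup M] [Module R M] [AddCommGroup N] [Module R N]
    {F : (Spec R).Modules} (f g : tilde (ModuleCat.of R (M ⊗[R] N)) ⟶ F)
    (h : ∀ (m : M) (n : N), f.app ⊤ (sec (M := ModuleCat.of R (M ⊗[R] N)) (m ⊗ₜ[R] n)) =
      g.app ⊤ (sec (M := ModuleCat.of R (M ⊗[R] N)) (m ⊗ₜ[R] n))) : f = g := by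
  apply tilde_ext
  intro x
  change M ⊗[R] N at x
  induction x using TensorProduct.induction_on with
  | zero =>
    refine (congrArg (f.app ⊤) (sec_zero (M := ModuleCat.of R (M ⊗[R] N)))).trans
      (Eq.trans ?_ (congrArg (g.app ⊤) (sec_zero (M := ModuleCat.of R (M ⊗[R] N)))).symm)
    rw [map_zero, map_zero]
  | tmul m n => exact h m n
  | add x y hx hy =>
    refine (congrArg (f.app ⊤) (sec_add (M := ModuleCat.of R (M ⊗[R] N)) x y)).trans
      (Eq.trans ?_ (congrArg (g.app ⊤) (sec_add (M := ModuleCat.of R (M ⊗[R] N)) x y)).symm)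
    rw [map_add, map_add]
    exact congrArg₂ (· + ·) hx hy

/-- `Γ(F) ⊗_R Γ(G) ⟶ Γ(F ⊗ G)`. -/
noncomputable def gam (F G : (Spec R).Modules) :
    ModuleCat.of R (Γ(F, ⊤) ⊗[R] Γ(G, ⊤)) ⟶ Gam (CohB1.tensorMod F G) :=
  ModuleCat.ofHom (Y := Gam (CohB1.tensorMod F G)) (TensorProduct.lift (LinearMap.mk₂ R
    (fun (s : Γ(F, ⊤)) (t : Γ(G, ⊤)) => (tmul s t : Γ(CohB1.tensorMod F G, ⊤)))
    (fun s s' t => add_tmul s s' t)
    (fun _ s t => smul_tmul _ s t)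
    (fun s t t' => tmul_add s t t')
    (fun _ s t => tmul_smul _ s t)))

lemma gam_tmul (F G : (Spec R).Modules) (s : Γ(F, ⊤)) (t : Γ(G, ⊤)) :
    (gam F G) (s ⊗ₜ[R] t : Γ(F, ⊤) ⊗[R] Γ(G, ⊤)) = (show Gam (CohB1.tensorMod F G) from tmul s t) := rfl

/-- `(Γ(F) ⊗_R Γ(G))^~ ⟶ F ⊗ G`. -/
noncomputable def cmap (F G : (Spec R).Modules) :
    tilde (ModuleCat.of R (Γ(F, ⊤) ⊗[R] Γ(G, ⊤))) ⟶ CohB1.tensorMod F G :=
  tilde.map (gam F G) ≫ (CohB1.tensorMod F G).fromTildeΓ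

lemma cmap_sec (F G : (Spec R).Modules) (s : Γ(F, ⊤)) (t : Γ(G, ⊤)) :
    (cmap F G).app ⊤ (sec (M := ModuleCat.of R (Γ(F, ⊤) ⊗[R] Γ(G, ⊤))) (s ⊗ₜ[R] t)) = tmul s t := by
  exact (congrArg ((CohB1.tensorMod F G).fromTildeΓ.app ⊤) (map_sec (gam F G)
    (s ⊗ₜ[R] t : Γ(F, ⊤) ⊗[R] Γ(G, ⊤)))).trans (fromTilde_sec (CohB1.tensorMod F G) _)

/-- Formula for `tensorModIso` on global pure tensors. -/
lemma tensorModIso_hom_tmul (F G : (Spec R).Modules) (hF : IsIso F.fromTildeΓ) (hG : IsIso G.fromTildeΓ)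
    (s : Γ(F, ⊤)) (t : Γ(G, ⊤)) :
    (TensorTilde.tensorModIso F G hF hG).hom.app ⊤ (tmul s t) =
      sec (M := ModuleCat.of R (Γ(F, ⊤) ⊗[R] Γ(G, ⊤))) (s ⊗ₜ[R] t) := by
  let L : ModuleCat.{u} R := ModuleCat.of R (Γ(F, ⊤) ⊗[R] Γ(G, ⊤))
  let P := TensorTilde.pre F G
  let hj := TensorTilde.isLocalizing_j F G hF hG
  have h1 := SheafifyBasis.toSh_desc (TildeCriterion.toTilde P L (TensorTilde.j F G) hj)
  have h2 := congr($(h1).app (op ⊤) (TensorTilde.tmul s t))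
  have h3 := TildeCriterion.toP_toTildeAux P L (TensorTilde.j F G) hj ⊤
    (s ⊗ₜ[R] t : Γ(F, ⊤) ⊗[R] Γ(G, ⊤))
  rw [TildeCriterion.toP_top] at h3
  exact h2.trans h3

/-- `(Γ(F) ⊗_R Γ(G))^~ ≅ F ⊗ G` for quasi-coherent modules. -/
theorem isIso_cmap (F G : (Spec R).Modules) (hF : IsIso F.fromTildeΓ) (hG : IsIso G.fromTildeΓ) :
    IsIso (cmap F G) := by
  have h : cmap F G ≫ (TensorTilde.tensorModIso F G hF hG).hom = 𝟙 _ := by
    apply tilde_tensor_ext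
    intro s t
    change (TensorTilde.tensorModIso F G hF hG).hom.app ⊤ ((cmap F G).app ⊤
      (sec (M := ModuleCat.of R (Γ(F, ⊤) ⊗[R] Γ(G, ⊤))) (s ⊗ₜ[R] t))) = _
    rw [cmap_sec, tensorModIso_hom_tmul]
    rfl
  exact (isIso_comp_right_iff (cmap F G) (TensorTilde.tensorModIso F G hF hG).hom).1 (h ▸ inferInstance)

variable (G : (Spec R).Modules)

/-- `M ≅ Γ(M^~)` -/
noncomputable def secIso (M : ModuleCat.{u} R) : M ≅ Gam (tilde M) := tilde.isoTop M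

/-- `M ⊗_R Γ(G) ≅ Γ(M^~) ⊗_R Γ(G)` -/
noncomputable def secT (M : ModuleCat.{u} R) :
    (M ⊗ Gam G : ModuleCat.{u} R) ≅ ModuleCat.of R (Γ(tilde M, ⊤) ⊗[R] Γ(G, ⊤)) :=
  whiskerRightIso (secIso M) (Gam G)

/-- `(Γ(F) ⊗_R Γ(G))^~ ≅ F ⊗ G` for quasi-coherent modules. -/
noncomputable def cIso (F G : (Spec R).Modules) (hF : IsIso F.fromTildeΓ) (hG : IsIso G.fromTildeΓ) :
    tilde (ModuleCat.of R (Γ(F, ⊤) ⊗[R] Γ(G, ⊤))) ≅ CohB1.tensorMod F G :=
  haveI := isIso_cmap F G hF hG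
  asIso (cmap F G)

/-- `(M ⊗ Γ(G))^~ ≅ M^~ ⊗ G`. -/
noncomputable def aIso (hG : IsIso G.fromTildeΓ) (M : ModuleCat.{u} R) :
    tilde (M ⊗ Gam G : ModuleCat.{u} R) ≅ CohB1.tensorMod (tilde M) G :=
  (tilde.functor R).mapIso (secT G M) ≪≫ cIso (tilde M) G inferInstance hG

lemma aIso_hom_sec (hG : IsIso G.fromTildeΓ) (M : ModuleCat.{u} R) (m : M) (n : Γ(G, ⊤)) :
    (aIso G hG M).hom.app ⊤ (sec (M := (M ⊗ Gam G : ModuleCat.{u} R)) (m ⊗ₜ[R] n : M ⊗[R] Γ(G, ⊤))) =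
      tmul (sec m) n := by
  have h1 : (tilde.map (secT G M).hom).app ⊤ (sec (M := (M ⊗ Gam G : ModuleCat.{u} R))
      (m ⊗ₜ[R] n : M ⊗[R] Γ(G, ⊤))) = sec (M := ModuleCat.of R (Γ(tilde M, ⊤) ⊗[R] Γ(G, ⊤)))
        (sec m ⊗ₜ[R] n) := map_sec _ _
  exact (congrArg ((cmap (tilde M) G).app ⊤) h1).trans (cmap_sec _ _ _ _)

/-- `(M ⊗ Γ(G))^~ ≅ M^~ ⊗ G`, naturally in `M`. -/
noncomputable def tildeTensNatIso (hG : IsIso G.fromTildeΓ) :
    tensorRight (Gam G) ⋙ tilde.functor R ≅ tilde.functor R ⋙ DCoh.tensorRightMod G :=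
  NatIso.ofComponents (fun M => aIso G hG M) (fun {M N} f => by
    refine tilde_tensor_ext (M := M) (N := Γ(G, ⊤)) _ _ fun m n => ?_
    have h1 : (tilde.map (f ▷ Gam G)).app ⊤ (sec (M := (M ⊗ Gam G : ModuleCat.{u} R))
        (m ⊗ₜ[R] n : M ⊗[R] Γ(G, ⊤))) = sec (M := (N ⊗ Gam G : ModuleCat.{u} R))
          (f m ⊗ₜ[R] n : N ⊗[R] Γ(G, ⊤)) := map_sec _ _
    have h2 := (congrArg ((aIso G hG N).hom.app ⊤) h1).trans (aIso_hom_sec G hG N (f m) n)
    have h3 : ((DCoh.tensorRightMod G).map (tilde.map f)).app ⊤ (tmul (sec m) n) =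
        tmul (sec (f m)) n := by
      rw [TensExact.tensorRightMod_map_tmul, map_sec]
    have h4 := (congrArg (((DCoh.tensorRightMod G).map (tilde.map f)).app ⊤)
      (aIso_hom_sec G hG M m n)).trans h3
    exact h2.trans h4.symm)

end Groth.Agent.PerfB.TildeTens
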