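import Mathlib.CategoryTheory.Adjunction.Mates
import Mathlib.CategoryTheory.Adjunction.Basic
import Mathlib.CategoryTheory.Localization.Predicate
import Mathlib.CategoryTheory.Localization.Bousfield
import Mathlib.CategoryTheory.Yoneda

/-!
# Formal calculus of base change maps (helper342)

`F ⊣ G : S ⇄ T`, `F' ⊣ G' : S' ⇄ T'`, `P : S ⥤ S'`, `P' : T ⥤ T'` and `σ : F ⋙ P' ≅ P ⋙ F'`.
The base change map `bc K : P (G K) ⟶ G' (P' K)` is the transpose of
`F' P G K ≅ P' F G K ⟶ P' K`.

* `trans_bc`: characterization through transposes;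
* `bc_naturality`;
* `bc_paste`: horizontal pasting;
* `bc_congr`: change of `P`, `P'` up to isomorphism;
* `isIso_bc_of_localization`: the case where `P`, `P'` have fully faithful right adjoints
  and `G ⋙ P ≅ P' ⋙ G'`;
* `exists_paste`: if `P₀` is a localization, any `σ` for `P₀ ⋙ P₁` is pasted from given `σ₀`;
* `homEquiv_symm_unit_conj`: relation with units and conjugates.
-/

set_option autoImplicit false

universe v₁ v₂ v₃ v₄ v₅ v₆ u₁ u₂ u₃ u₄ u₅ u₆

open CategoryTheory

namespace Groth.Agent.PerfB.BCFormal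

variable {S : Type u₁} [Category.{v₁} S] {T : Type u₂} [Category.{v₂} T]
  {S' : Type u₃} [Category.{v₃} S'] {T' : Type u₄} [Category.{v₄} T']
  {F : S ⥤ T} {G : T ⥤ S} (adj : F ⊣ G)
  {F' : S' ⥤ T'} {G' : T' ⥤ S'} (adj' : F' ⊣ G')
  {P : S ⥤ S'} {P' : T ⥤ T'} (σ : F ⋙ P' ≅ P ⋙ F')

/-- The base change map. -/
def bc (K : T) : P.obj (G.obj K) ⟶ G'.obj (P'.obj K) :=
  adj'.homEquiv _ _ (σ.inv.app (G.obj K) ≫ P'.map (adj.counit.app K))

lemma trans_bc_self (K : T) :
    (adj'.homEquiv _ _).symm (bc adj adj' σ K) =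
      σ.inv.app (G.obj K) ≫ P'.map (adj.counit.app K) := by
  rw [bc, Equiv.symm_apply_apply]

/-- Characterization of the base change map. -/
lemma trans_bc {M : S} {K : T} (y : M ⟶ G.obj K) :
    (adj'.homEquiv _ _).symm (P.map y ≫ bc adj adj' σ K) =
      σ.inv.app M ≫ P'.map ((adj.homEquiv _ _).symm y) := by
  rw [Adjunction.homEquiv_naturality_left_symm, trans_bc_self, Adjunction.homEquiv_counit,
    Functor.map_comp]
  have := σ.inv.naturality y
  dsimp at this
  rw [reassoc_of% this]

lemma bc_naturality {K L : T} (k : K ⟶ L) :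
    P.map (G.map k) ≫ bc adj adj' σ L = bc adj adj' σ K ≫ G'.map (P'.map k) := by
  apply (adj'.homEquiv _ _).symm.injective
  rw [trans_bc, Adjunction.homEquiv_naturality_right_symm, trans_bc_self, Category.assoc,
    ← Functor.map_comp]
  congr 2
  rw [Adjunction.homEquiv_counit]
  exact adj.counit.naturality k

section Paste

variable {S'' : Type u₅} [Category.{v₅} S''] {T'' : Type u₆} [Category.{v₆} T'']
  {F'' : S'' ⥤ T''} {G'' : T'' ⥤ S''} (adj'' : F'' ⊣ G'')
  {Q : S' ⥤ S''} {Q' : T' ⥤ T''} (τ : F' ⋙ Q' ≅ Q ⋙ F'')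

/-- Pasting of the two compatibility isomorphisms. -/
def paste : F ⋙ (P' ⋙ Q') ≅ (P ⋙ Q) ⋙ F'' :=
  (Functor.associator F P' Q').symm ≪≫ Functor.isoWhiskerRight σ Q' ≪≫
    Functor.associator P F' Q' ≪≫ Functor.isoWhiskerLeft P τ ≪≫ (Functor.associator P Q F'').symm

omit adj adj' adj'' in
lemma paste_inv_app (M : S) :
    (paste σ τ).inv.app M = τ.inv.app (P.obj M) ≫ Q'.map (σ.inv.app M) := by
  simp [paste]

lemma bc_paste (K : T) :
    bc adj adj'' (paste σ τ) K = Q.map (bc adj adj' σ K) ≫ bc adj' adj'' τ (P'.obj K) := by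
  apply (adj''.homEquiv _ _).symm.injective
  have h1 := trans_bc_self adj adj'' (paste σ τ) K
  have h2 := trans_bc adj' adj'' τ (bc adj adj' σ K)
  rw [trans_bc_self] at h2
  refine h1.trans (Eq.trans ?_ h2.symm)
  rw [paste_inv_app, Functor.map_comp, Category.assoc]
  rfl

lemma isIso_map_bc (K : T) [IsIso (bc adj' adj'' τ (P'.obj K))]
    [IsIso (bc adj adj'' (paste σ τ) K)] : IsIso (Q.map (bc adj adj' σ K)) := by
  have h := bc_paste adj adj' σ adj'' τ K
  have : Q.map (bc adj adj' σ K) = bc adj adj'' (paste σ τ) K ≫ inv (bc adj' adj'' τ (P'.obj K)) := by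
    rw [h, Category.assoc, IsIso.hom_inv_id, Category.comp_id]
  rw [this]
  infer_instance

lemma isIso_bc_paste (K : T) [IsIso (bc adj' adj'' τ (P'.obj K))]
    [IsIso (bc adj adj' σ K)] : IsIso (bc adj adj'' (paste σ τ) K) := by
  rw [bc_paste adj adj' σ adj'' τ K]
  infer_instance

end Paste

section Congr

variable {P₁ : S ⥤ S'} {P₁' : T ⥤ T'} (κ : P ≅ P₁) (κ' : P' ≅ P₁')

/-- Transport of `σ`. -/
def congrIso : F ⋙ P₁' ≅ P₁ ⋙ F' :=
  Functor.isoWhiskerLeft F κ'.symm ≪≫ σ ≪≫ Functor.isoWhiskerRight κ F'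

omit adj adj' in
lemma congrIso_inv_app (M : S) :
    (congrIso σ κ κ').inv.app M = F'.map (κ.inv.app M) ≫ σ.inv.app M ≫ κ'.hom.app (F.obj M) := by
  simp [congrIso]

lemma bc_congr (K : T) :
    bc adj adj' (congrIso σ κ κ') K =
      κ.inv.app (G.obj K) ≫ bc adj adj' σ K ≫ G'.map (κ'.hom.app K) := by
  apply (adj'.homEquiv _ _).symm.injective
  rw [Adjunction.homEquiv_naturality_left_symm, Adjunction.homEquiv_naturality_right_symm,
    trans_bc_self, trans_bc_self, congrIso_inv_app]
  simp only [Category.assoc]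
  congr 2
  exact (κ'.hom.naturality (adj.counit.app K)).symm

lemma isIso_bc_congr_iff (K : T) :
    IsIso (bc adj adj' (congrIso σ κ κ') K) ↔ IsIso (bc adj adj' σ K) := by
  rw [bc_congr]
  constructor
  · intro h
    have h1 : IsIso (bc adj adj' σ K ≫ G'.map (κ'.hom.app K)) :=
      IsIso.of_isIso_comp_left (κ.inv.app (G.obj K)) _
    exact IsIso.of_isIso_comp_right _ (G'.map (κ'.hom.app K))
  · intro h
    infer_instance

end Congr

lemma isIso_bc_iff_of_iso {K L : T} (k : K ≅ L) :
    IsIso (bc adj adj' σ K) ↔ IsIso (bc adj adj' σ L) := by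
  have h := bc_naturality adj adj' σ k.hom
  constructor
  · intro _
    have : bc adj adj' σ L = inv (P.map (G.map k.hom)) ≫ bc adj adj' σ K ≫ G'.map (P'.map k.hom) := by
      rw [← h, IsIso.inv_hom_id_assoc]
    rw [this]; infer_instance
  · intro _
    have : bc adj adj' σ K = (P.map (G.map k.hom) ≫ bc adj adj' σ L) ≫ inv (G'.map (P'.map k.hom)) := by
      rw [h, Category.assoc, IsIso.hom_inv_id, Category.comp_id]
    rw [this]; infer_instance

/-- Criterion for a base change map to be an isomorphism by testing against objects `P M`. -/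
lemma isIso_bc_of_bijective [P.EssSurj] (K : T)
    (h₁ : ∀ M : S, Function.Bijective (fun y : M ⟶ G.obj K => P.map y))
    (h₂ : ∀ M : S, Function.Bijective (fun y : F.obj M ⟶ K => P'.map y)) :
    IsIso (bc adj adj' σ K) := by
  have key : ∀ M : S, Function.Bijective
      (fun z : P.obj M ⟶ P.obj (G.obj K) => z ≫ bc adj adj' σ K) := by
    intro M
    have h3 : Function.Bijective
        (fun y : M ⟶ G.obj K => P.map y ≫ bc adj adj' σ K) := by
      have e : (fun y : M ⟶ G.obj K => P.map y ≫ bc adj adj' σ K) =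
          (adj'.homEquiv _ _) ∘ (fun w => σ.inv.app M ≫ w) ∘
            (fun y : F.obj M ⟶ K => P'.map y) ∘ (adj.homEquiv _ _).symm := by
        funext y
        apply (adj'.homEquiv _ _).symm.injective
        rw [trans_bc]
        simp
      rw [e]
      refine (Equiv.bijective _).comp (Function.Bijective.comp ?_ ((h₂ M).comp (Equiv.bijective _)))
      exact ((Iso.homFromEquiv (σ.symm.app M).symm)).bijective
    exact (Function.Bijective.of_comp_iff _ (h₁ M)).mp h3
  have key' : ∀ N : S', Function.Bijective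
      (fun z : N ⟶ P.obj (G.obj K) => z ≫ bc adj adj' σ K) := by
    intro N
    let e := P.objObjPreimageIso N
    have h := key (P.objPreimage N)
    have e' : (fun z : N ⟶ P.obj (G.obj K) => z ≫ bc adj adj' σ K) =
        (fun w => e.inv ≫ w) ∘ (fun z => z ≫ bc adj adj' σ K) ∘ (fun z => e.hom ≫ z) := by
      funext z
      simp
    rw [e']
    exact ((Iso.homFromEquiv e)).bijective.comp (h.comp (Iso.homFromEquiv e.symm).bijective)
  obtain ⟨g, hg⟩ := (key' (G'.obj (P'.obj K))).2 (𝟙 _)
  refine ⟨g, (key' _).1 ?_, hg⟩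
  dsimp at hg ⊢
  rw [Category.assoc, hg, Category.comp_id, Category.id_comp]

section Localization

variable {R : S' ⥤ S} (adjP : P ⊣ R) [R.Full] [R.Faithful]
  {R' : T' ⥤ T} (adjP' : P' ⊣ R') [R'.Full] [R'.Faithful]

omit adj adj' in
include adjP in
lemma bijective_map_of_iso {M L : S} {Z : S'} (e : L ≅ R.obj Z) :
    Function.Bijective (fun y : M ⟶ L => P.map y) := by
  have h1 : Function.Bijective (fun y : M ⟶ R.obj Z => P.map y) := by
    have e1 : (fun y : M ⟶ R.obj Z => P.map y) =
        (fun w => w ≫ inv (adjP.counit.app Z)) ∘ (adjP.homEquiv M Z).symm := by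
      funext y
      simp [Adjunction.homEquiv_counit]
    rw [e1]
    exact (Iso.homToEquiv (asIso (adjP.counit.app Z)).symm).bijective.comp (Equiv.bijective _)
  have e2 : (fun y : M ⟶ L => P.map y) =
      (fun w => w ≫ P.map e.inv) ∘ (fun y => P.map y) ∘ (fun y => y ≫ e.hom) := by
    funext y
    simp [← Functor.map_comp]
  rw [e2]
  exact (Iso.homToEquiv (P.mapIso e).symm).bijective.comp (h1.comp (Iso.homToEquiv e).bijective)

omit adj adj' in
include adjP in
lemma essSurj_of_adj : P.EssSurj :=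
  ⟨fun Z => ⟨R.obj Z, ⟨asIso (adjP.counit.app Z)⟩⟩⟩

include adjP adjP' in
/-- The base change map for localization functors `P`, `P'`. -/
theorem isIso_bc_of_localization (ρ : G ⋙ P ≅ P' ⋙ G') (K : T) :
    IsIso (bc adj adj' σ K) := by
  have := essSurj_of_adj adjP
  -- the right adjoints of `σ`
  let e : R' ⋙ G ≅ G' ⋙ R :=
    conjugateIsoEquiv (adj.comp adjP') (adjP.comp adj') σ.symm
  have step1 : ∀ Z : T', IsIso (bc adj adj' σ (R'.obj Z)) := fun Z =>
    isIso_bc_of_bijective adj adj' σ (R'.obj Z)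
      (fun M => bijective_map_of_iso adjP (e.app Z))
      (fun M => bijective_map_of_iso adjP' (Iso.refl _))
  let η : K ⟶ R'.obj (P'.obj K) := adjP'.unit.app K
  have h1 : IsIso (P'.map η) := by
    have := adjP'.left_triangle_components K
    have h2 : P'.map η = inv (adjP'.counit.app (P'.obj K)) := by
      rw [← cancel_mono (adjP'.counit.app (P'.obj K)), this, IsIso.inv_hom_id]
    rw [h2]; infer_instance
  have h2 : IsIso (P.map (G.map η)) := by
    have h3 := ρ.hom.naturality η
    dsimp at h3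
    have h4 : P.map (G.map η) = ρ.hom.app _ ≫ G'.map (P'.map η) ≫ ρ.inv.app _ := by
      rw [← reassoc_of% h3, Iso.hom_inv_id_app]
      exact (Category.comp_id _).symm
    rw [h4]; infer_instance
  have h3 := bc_naturality adj adj' σ η
  have h4 := step1 (P'.obj K)
  have h5 : bc adj adj' σ K =
      (P.map (G.map η) ≫ bc adj adj' σ (R'.obj (P'.obj K))) ≫ inv (G'.map (P'.map η)) := by
    rw [h3, Category.assoc, IsIso.hom_inv_id, Category.comp_id]
  rw [h5]; infer_instance

end Localization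

section Lift

variable {S₀ : Type u₅} [Category.{v₅} S₀] {T₀ : Type u₆} [Category.{v₆} T₀]
  {F₀ : S₀ ⥤ T₀} {P₀ : S ⥤ S₀} {P₀' : T ⥤ T₀} (σ₀ : F ⋙ P₀' ≅ P₀ ⋙ F₀)
  {P₁ : S₀ ⥤ S'} {P₁' : T₀ ⥤ T'}

omit adj adj' in
/-- If `P₀` is a localization functor, any compatibility isomorphism for `P₀ ⋙ P₁` is pasted from
a given one for `P₀`. -/
theorem exists_paste (W : MorphismProperty S) [P₀.IsLocalization W]
    (σ : F ⋙ (P₀' ⋙ P₁') ≅ (P₀ ⋙ P₁) ⋙ F') :
    ∃ σ₁ : F₀ ⋙ P₁' ≅ P₁ ⋙ F', paste σ₀ σ₁ = σ := by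
  let θ : P₀ ⋙ (F₀ ⋙ P₁') ≅ P₀ ⋙ (P₁ ⋙ F') :=
    (Functor.associator P₀ F₀ P₁').symm ≪≫ Functor.isoWhiskerRight σ₀.symm P₁' ≪≫
      Functor.associator F P₀' P₁' ≪≫ σ ≪≫ Functor.associator P₀ P₁ F'
  have := Localization.full_whiskeringLeft P₀ W T'
  have := Localization.faithful_whiskeringLeft P₀ W T'
  let W' := (Functor.whiskeringLeft S S₀ T').obj P₀
  let σ₁ : F₀ ⋙ P₁' ≅ P₁ ⋙ F' := W'.preimageIso θ
  have h1 : ∀ M, σ₁.hom.app (P₀.obj M) = θ.hom.app M := by
    intro M
    have : W'.map σ₁.hom = θ.hom := W'.map_preimage θ.hom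
    exact congr_app this M
  refine ⟨σ₁, ?_⟩
  ext M
  have h2 := h1 M
  simp only [θ, Iso.trans_hom, NatTrans.comp_app, Iso.symm_hom, Functor.associator_inv_app,
    Functor.isoWhiskerRight_hom, Functor.whiskerRight_app, Functor.associator_hom_app,
    Category.id_comp, Category.comp_id] at h2
  simp only [paste, Iso.trans_hom, NatTrans.comp_app, Iso.symm_hom, Functor.associator_inv_app,
    Functor.isoWhiskerRight_hom, Functor.whiskerRight_app, Functor.associator_hom_app,
    Functor.isoWhiskerLeft_hom, Functor.whiskerLeft_app,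
    Category.id_comp, Category.comp_id]
  rw [h2]
  simp [← Functor.map_comp_assoc]

end Lift

/-! ### Relation with the definition through right adjoints of `P`, `P'` -/

section Conj

variable {R : S' ⥤ S} (adjP : P ⊣ R) {R' : T' ⥤ T} (adjP' : P' ⊣ R')

/-- The identification of the right adjoints. -/
def conjIso : R' ⋙ G ≅ G' ⋙ R :=
  conjugateIsoEquiv (adj.comp adjP') (adjP.comp adj') σ.symm

/-- The base change map through units and the conjugate isomorphism. -/
lemma bc_eq_conj (K : T) :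
    (adjP.homEquiv _ _).symm (G.map (adjP'.unit.app K) ≫
      (conjIso adj adj' σ adjP adjP').hom.app (P'.obj K)) = bc adj adj' σ K := by
  rw [Equiv.symm_apply_eq]
  have h := unit_conjugateEquiv (adj.comp adjP') (adjP.comp adj') σ.inv (G.obj K)
  have h0 : (conjIso adj adj' σ adjP adjP').hom =
    conjugateEquiv (adj.comp adjP') (adjP.comp adj') σ.inv := rfl
  have h1 : G.map (adjP'.unit.app K) = (adj.comp adjP').unit.app (G.obj K) ≫
      (R' ⋙ G).map (P'.map (adj.counit.app K)) := by
    have e := adjP'.unit.naturality (adj.counit.app K)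
    dsimp at e
    rw [Adjunction.comp_unit_app, Functor.comp_map, Category.assoc, ← Functor.map_comp, ← e,
      Functor.map_comp]
    exact (adj.right_triangle_components_assoc K _).symm
  have h2 := (conjIso adj adj' σ adjP adjP').hom.naturality (P'.map (adj.counit.app K))
  rw [h1, Category.assoc]
  refine (congrArg ((adj.comp adjP').unit.app (G.obj K) ≫ ·) h2).trans ?_
  rw [h0, ← Category.assoc]
  refine (congrArg (· ≫ (G' ⋙ R).map (P'.map (adj.counit.app K))) h).trans ?_
  rw [bc, Adjunction.comp_unit_app, Category.assoc, Category.assoc]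
  rw [Adjunction.homEquiv_unit, Adjunction.homEquiv_unit, Functor.map_comp R, Functor.map_comp G',
    Functor.map_comp R]
  rfl

end Conj

end Groth.Agent.PerfB.BCFormal
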