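import Groth.Agent.PerfB.BCTri

/-!
# Formal base change, IV: Mayer-Vietoris
-/

set_option autoImplicit false

universe v₁ u₁ v₂ u₂ v₃ u₃

open CategoryTheory CategoryTheory.Limits Pretriangulated

namespace Groth.Agent.PerfB.BCMV

open Groth.Agent.PerfB.BCTot Groth.Agent.PerfB.BCTri Groth.Agent.PerfB.BCTot.Tot

section Res

variable {𝒮 : Type u₁} [Category.{v₁} 𝒮]
  {D : 𝒮 → Type u₂} [∀ X, Category.{v₂} (D X)] {P : PullData D}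

/-- Base change for the restriction of `θ` along `j`, `j'`. -/
def BCres {A A' : Tot P} (θ : A' ⟶ A) {V V' : 𝒮} (j : V ⟶ A.base) (j' : V' ⟶ A'.base) (h : V' ⟶ V)
    {S S' : 𝒮} (f : V ⟶ S) (f' : V' ⟶ S') (g : S' ⟶ S) : Prop :=
  ∀ (K₀ : D V) (K₀' : D V') (a : (⟨V, K₀⟩ : Tot P) ⟶ A) (a' : (⟨V', K₀'⟩ : Tot P) ⟶ A')
    (θ₀ : (⟨V', K₀'⟩ : Tot P) ⟶ ⟨V, K₀⟩), a.base = j → a'.base = j' → θ₀.base = h →
      IsCart a → IsCart a' → θ₀ ≫ a = a' ≫ θ → BC θ₀ f f' g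

lemma BCres.of_exists {A A' : Tot P} (θ : A' ⟶ A) {V V' : 𝒮} {j : V ⟶ A.base} {j' : V' ⟶ A'.base}
    {h : V' ⟶ V} {S S' : 𝒮} {f : V ⟶ S} {f' : V' ⟶ S'} {g : S' ⟶ S}
    {K₀ : D V} {K₀' : D V'} {a : (⟨V, K₀⟩ : Tot P) ⟶ A} {a' : (⟨V', K₀'⟩ : Tot P) ⟶ A'}
    {θ₀ : (⟨V', K₀'⟩ : Tot P) ⟶ ⟨V, K₀⟩} (ha : a.base = j) (ha' : a'.base = j') (hθ₀ : θ₀.base = h)
    (hac : IsCart a) (hac' : IsCart a') (e : θ₀ ≫ a = a' ≫ θ) (H : BC θ₀ f f' g) :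
    BCres θ j j' h f f' g := by
  intro K₁ K₁' a₁ a₁' θ₁ ha₁ ha₁' hθ₁ hac₁ hac₁' e₁
  obtain ⟨i, hi⟩ := hac₁.exists_iso hac (ha₁.trans ha.symm)
  obtain ⟨i', hi'⟩ := hac₁'.exists_iso hac' (ha₁'.trans ha'.symm)
  refine BC.congr_fib i.symm i'.symm ?_ H
  have h1 : ver (P := P) i.inv ≫ ver i.hom = 𝟙 _ := by
    rw [ver_comp_ver, Iso.hom_inv_id, ver_id]
  have h2 : ver (P := P) i'.inv ≫ ver i'.hom = 𝟙 _ := by
    rw [ver_comp_ver, Iso.hom_inv_id, ver_id]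
  refine hac.uniq ?_ ?_
  · simp [hθ₀, hθ₁]
  · simp only [Iso.symm_hom, Category.assoc]
    rw [e, ← hi, ← hi', reassoc_of% h1, e₁, Category.assoc, reassoc_of% h2]

lemma exists_res {A A' : Tot P} (θ : A' ⟶ A) {V V' : 𝒮} {K₀ : D V} {K₀' : D V'}
    {a : (⟨V, K₀⟩ : Tot P) ⟶ A} (a' : (⟨V', K₀'⟩ : Tot P) ⟶ A') (hac : IsCart a) (h : V' ⟶ V)
    (e : h ≫ a.base = a'.base ≫ θ.base) :
    ∃ θ₀ : (⟨V', K₀'⟩ : Tot P) ⟶ ⟨V, K₀⟩, θ₀.base = h ∧ θ₀ ≫ a = a' ≫ θ :=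
  hac.lift (a' ≫ θ) h e

/-- Iterated restriction. -/
lemma BCres.res {A A' : Tot P} {θ : A' ⟶ A} {V V' : 𝒮} {K₀ : D V} {K₀' : D V'}
    {a : (⟨V, K₀⟩ : Tot P) ⟶ A} {a' : (⟨V', K₀'⟩ : Tot P) ⟶ A'} {θ₀ : (⟨V', K₀'⟩ : Tot P) ⟶ ⟨V, K₀⟩}
    (hac : IsCart a) (hac' : IsCart a') (e : θ₀ ≫ a = a' ≫ θ) {U U' : 𝒮} {p : U ⟶ V} {p' : U' ⟶ V'}
    {h : U' ⟶ U} {S S' : 𝒮} {f : U ⟶ S} {f' : U' ⟶ S'} {g : S' ⟶ S}
    (H : BCres θ (p ≫ a.base) (p' ≫ a'.base) h f f' g) : BCres θ₀ p p' h f f' g := by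
  intro K₁ K₁' b b' θ₁ hb hb' hθ₁ hbc hbc' eb
  refine H K₁ K₁' (b ≫ a) (b' ≫ a') θ₁ ?_ ?_ hθ₁ (hbc.comp hac) (hbc'.comp hac') ?_
  · rw [comp_base, hb]
  · rw [comp_base, hb']
  · rw [reassoc_of% eb, e, Category.assoc]

lemma BCres.of_res {A A' : Tot P} {θ : A' ⟶ A} {V V' : 𝒮} {K₀ : D V} {K₀' : D V'}
    {a : (⟨V, K₀⟩ : Tot P) ⟶ A} {a' : (⟨V', K₀'⟩ : Tot P) ⟶ A'} {θ₀ : (⟨V', K₀'⟩ : Tot P) ⟶ ⟨V, K₀⟩}
    (hac : IsCart a) (hac' : IsCart a') (e : θ₀ ≫ a = a' ≫ θ) {U U' : 𝒮} {p : U ⟶ V} {p' : U' ⟶ V'}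
    {h : U' ⟶ U} {S S' : 𝒮} {f : U ⟶ S} {f' : U' ⟶ S'} {g : S' ⟶ S}
    (hcomm : h ≫ p = p' ≫ θ₀.base)
    (H : BCres θ₀ p p' h f f' g) : BCres θ (p ≫ a.base) (p' ≫ a'.base) h f f' g := by
  obtain ⟨θ₁, hθ₁, e₁⟩ := exists_res θ₀ (a := cartLift ⟨V, K₀⟩ p) (cartLift ⟨V', K₀'⟩ p')
    (isCart_cartLift _ _) h hcomm
  refine BCres.of_exists θ (a := cartLift ⟨V, K₀⟩ p ≫ a) (a' := cartLift ⟨V', K₀'⟩ p' ≫ a')
    rfl rfl hθ₁ ((isCart_cartLift _ _).comp hac) ((isCart_cartLift _ _).comp hac') ?_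
    (H _ _ (cartLift ⟨V, K₀⟩ p) (cartLift ⟨V', K₀'⟩ p') θ₁ rfl rfl hθ₁ (isCart_cartLift _ _)
      (isCart_cartLift _ _) e₁)
  rw [reassoc_of% e₁, e, Category.assoc]

end Res

variable {𝒮 : Type u₁} [Category.{v₁} 𝒮]
  {D : 𝒮 → Type u₂} [∀ X, Category.{v₂} (D X)] [∀ X, Preadditive (D X)] [∀ X, HasZeroObject (D X)]
  [∀ X, HasShift (D X) ℤ] [∀ (X : 𝒮) (n : ℤ), (shiftFunctor (D X) n).Additive]
  [∀ X, Pretriangulated (D X)]

variable (P : PullData D) [TriData P]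

/-- An abstract Mayer-Vietoris square (open cover of `X` by `V` and `W`). -/
structure MVSq {X V W U : 𝒮} (jV : V ⟶ X) (jW : W ⟶ X) (p : U ⟶ V) (q : U ⟶ W) : Prop where
  comm : p ≫ jV = q ≫ jW
  counitV : ∀ K : D V, IsIso ((adj P jV).counit.app K)
  counitW : ∀ K : D W, IsIso ((adj P jW).counit.app K)
  bcVW : ∀ K : D V, BC (cartLift (P := P) ⟨V, K⟩ p) jV q jW
  bcWV : ∀ K : D W, BC (cartLift (P := P) ⟨W, K⟩ q) jW p jV
  cons : ∀ {K L : D X} (φ : K ⟶ L), IsIso ((P.pull jV).map φ) → IsIso ((P.pull jW).map φ) → IsIso φ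

variable {P}

section ResTri

variable {X X' V V' : 𝒮} {j : V ⟶ X} {j' : V' ⟶ X'} {g' : X' ⟶ X} {g₀ : V' ⟶ V}
  (e : j' ≫ g' = g₀ ≫ j) {T : Triangle (D X)} {T' : Triangle (D X')}
  (Θ : (P.pull g').mapTriangle.obj T ⟶ T')

/-- Restriction of a morphism of triangles. -/
noncomputable def resTri : (P.pull g₀).mapTriangle.obj ((P.pull j).mapTriangle.obj T) ⟶
    (P.pull j').mapTriangle.obj T' :=
  (Functor.mapTriangleCompIso (P.pull j) (P.pull g₀)).inv.app T ≫ natTri (exch P e) T ≫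
    (Functor.mapTriangleCompIso (P.pull g') (P.pull j')).hom.app T ≫ (P.pull j').mapTriangle.map Θ

lemma resTri_hom₁ : (resTri e Θ).hom₁ = (exch P e).app T.obj₁ ≫ (P.pull j').map Θ.hom₁ := by
  change 𝟙 _ ≫ (exch P e).app T.obj₁ ≫ 𝟙 _ ≫ (P.pull j').map Θ.hom₁ = _
  rw [Category.id_comp, Category.id_comp]

lemma resTri_hom₂ : (resTri e Θ).hom₂ = (exch P e).app T.obj₂ ≫ (P.pull j').map Θ.hom₂ := by
  change 𝟙 _ ≫ (exch P e).app T.obj₂ ≫ 𝟙 _ ≫ (P.pull j').map Θ.hom₂ = _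
  rw [Category.id_comp, Category.id_comp]

lemma resTri_hom₃ : (resTri e Θ).hom₃ = (exch P e).app T.obj₃ ≫ (P.pull j').map Θ.hom₃ := by
  change 𝟙 _ ≫ (exch P e).app T.obj₃ ≫ 𝟙 _ ≫ (P.pull j').map Θ.hom₃ = _
  rw [Category.id_comp, Category.id_comp]

omit [∀ X, Preadditive (D X)] [∀ X, HasZeroObject (D X)] [∀ X, HasShift (D X) ℤ]
  [∀ (X : 𝒮) (n : ℤ), (shiftFunctor (D X) n).Additive] [∀ X, Pretriangulated (D X)]
  [TriData P] in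
lemma res_arrow {K : D X} {K' : D X'} (φ : (P.pull g').obj K ⟶ K') :
    (⟨g₀, (exch P e).app K ≫ (P.pull j').map φ⟩ :
      (⟨V', (P.pull j').obj K'⟩ : Tot P) ⟶ ⟨V, (P.pull j).obj K⟩) ≫ cartLift (⟨X, K⟩ : Tot P) j =
    cartLift (⟨X', K'⟩ : Tot P) j' ≫ (⟨g', φ⟩ : (⟨X', K'⟩ : Tot P) ⟶ ⟨X, K⟩) := by
  refine hom_ext e.symm ?_
  rw [comp_fib, comp_fib]
  simp [cartLift, exch, eqToHom_app]

end ResTri

section MV

variable {X V W U : 𝒮} {jV : V ⟶ X} {jW : W ⟶ X} {p : U ⟶ V} {q : U ⟶ W}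

omit [∀ X, Preadditive (D X)] [∀ X, HasZeroObject (D X)] [∀ X, HasShift (D X) ℤ]
  [∀ (X : 𝒮) (n : ℤ), (shiftFunctor (D X) n).Additive] [∀ X, Pretriangulated (D X)]
  [TriData P] in
lemma ver_comp_cartLift {X V : 𝒮} (j : V ⟶ X) {K L : D X} (φ : K ⟶ L) :
    cartLift (P := P) ⟨X, L⟩ j ≫ ver φ = ver ((P.pull j).map φ) ≫ cartLift ⟨X, K⟩ j := by
  have h1 := comp_ver' (P := P) (A := ⟨V, (P.pull j).obj L⟩) φ j (𝟙 _)
  have h2 := ver_comp' (P := P) ((P.pull j).map φ) (B := ⟨X, K⟩) j (𝟙 _)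
  refine h1.trans (Eq.trans ?_ h2.symm)
  simp

/-- the unit `K ⟶ j_* j^* K` and cocartesian arrows -/
lemma unit_arrow {X V : 𝒮} (j : V ⟶ X) (K : D X) :
    cocartLift j (adj P j) ((P.pull j).obj K) ≫ ver ((adj P j).unit.app K) = cartLift ⟨X, K⟩ j := by
  refine (comp_ver' (P := P) (A := ⟨V, (P.pull j).obj K⟩) ((adj P j).unit.app K) j _).trans ?_
  refine hom_ext rfl ?_
  simp [cartLift]

lemma isIso_pull_unit {X V : 𝒮} (j : V ⟶ X) (h : ∀ K : D V, IsIso ((adj P j).counit.app K))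
    (K : D X) : IsIso ((P.pull j).map ((adj P j).unit.app K)) := by
  have h1 := (adj P j).left_triangle_components K
  have h2 := h ((P.pull j).obj K)
  have h3 : IsIso ((P.pull j).map ((adj P j).unit.app K) ≫
    (adj P j).counit.app ((P.pull j).obj K)) := by
    rw [h1]; exact IsIso.id _
  exact IsIso.of_isIso_comp_right _ ((adj P j).counit.app ((P.pull j).obj K))

/-- `jV^* jW_* K = p_* q^* K`, in the form of an isomorphism of objects -/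
lemma nonempty_iso_of_bc {X V W U : 𝒮} {jV : V ⟶ X} {jW : W ⟶ X} {p : U ⟶ V} {q : U ⟶ W}
    (comm : q ≫ jW = p ≫ jV) {K : D W} (h : BC (cartLift (P := P) ⟨W, K⟩ q) jW p jV) :
    Nonempty ((P.pull jV).obj ((R P jW).obj K) ≅ (R P p).obj ((P.pull q).obj K)) := by
  have h1 : IsIso ((bcT P comm).app K ≫ (R P p).map (𝟙 _)) := (bc_iff P comm (K := K) (𝟙 _)).1 h
  exact ⟨asIso ((bcT P comm).app K ≫ (R P p).map (𝟙 _))⟩

lemma isIso_of_isZero {C : Type*} [Category C] {X Y : C} (hX : IsZero X) (hY : IsZero Y)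
    (f : X ⟶ Y) : IsIso f :=
  ⟨hY.to_ X, hX.eq_of_src _ _, hY.eq_of_src _ _⟩

omit [Category.{v₁} 𝒮] in
lemma isZero_of_dist {X : 𝒮} {T : Triangle (D X)} (hT : T ∈ distTriang (D X)) (h : IsIso T.mor₁) :
    IsZero T.obj₃ := (Triangle.isZero₃_iff_isIso₁ T hT).2 h

/-- excision: if `jV^* C = 0` then `C ⟶ jW_* jW^* C` is an isomorphism -/
lemma isIso_unit_of_isZero (sq : MVSq P jV jW p q) (C : D X) (hC : IsZero ((P.pull jV).obj C)) :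
    IsIso ((adj P jW).unit.app C) := by
  refine sq.cons _ ?_ (isIso_pull_unit jW sq.counitW C)
  obtain ⟨i⟩ := nonempty_iso_of_bc sq.comm.symm (sq.bcWV ((P.pull jW).obj C))
  have h1 : IsZero ((P.pull q).obj ((P.pull jW).obj C)) := by
    have e1 : (P.pull q).obj ((P.pull jW).obj C) ≅ (P.pull p).obj ((P.pull jV).obj C) :=
      (P.compI q jW).app C ≪≫ eqToIso (by rw [sq.comm]) ≪≫ ((P.compI p jV).app C).symm
    exact ((P.pull p).map_isZero hC).of_iso e1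
  have h2 : IsZero ((P.pull jV).obj ((R P jW).obj ((P.pull jW).obj C))) :=
    ((R P p).map_isZero h1).of_iso i
  exact isIso_of_isZero hC h2 _

/-- Mayer-Vietoris for base change. -/
theorem bc_mv {X' V' W' U' : 𝒮} {jV' : V' ⟶ X'} {jW' : W' ⟶ X'} {p' : U' ⟶ V'} {q' : U' ⟶ W'}
    (sq : MVSq P jV jW p q) (sq' : MVSq P jV' jW' p' q') {g' : X' ⟶ X} {gV : V' ⟶ V}
    {gW : W' ⟶ W} {gU : U' ⟶ U} (eV : jV' ≫ g' = gV ≫ jV) (eW : jW' ≫ g' = gW ≫ jW)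
    (eU : q' ≫ gW = gU ≫ q) (eU' : p' ≫ gV = gU ≫ p) {S S' : 𝒮} {f : X ⟶ S} {f' : X' ⟶ S'}
    {g : S' ⟶ S} (e : g' ≫ f = f' ≫ g) {K : D X} {K' : D X'} (φ : (P.pull g').obj K ⟶ K')
    (hV : BCres (⟨g', φ⟩ : (⟨X', K'⟩ : Tot P) ⟶ ⟨X, K⟩) jV jV' gV (jV ≫ f) (jV' ≫ f') g)
    (hW : BCres (⟨g', φ⟩ : (⟨X', K'⟩ : Tot P) ⟶ ⟨X, K⟩) jW jW' gW (jW ≫ f) (jW' ≫ f') g)
    (hU : BCres (⟨g', φ⟩ : (⟨X', K'⟩ : Tot P) ⟶ ⟨X, K⟩) (p ≫ jV) (p' ≫ jV') gU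
      ((p ≫ jV) ≫ f) ((p' ≫ jV') ≫ f') g) :
    BC (⟨g', φ⟩ : (⟨X', K'⟩ : Tot P) ⟶ ⟨X, K⟩) f f' g := by
  have hP : ∀ {X Y : 𝒮} (f : X ⟶ Y), (P.pull f).IsLeftAdjoint := fun f => inferInstance
  -- the units
  let u := (adj P jV).unit.app K
  let u' := (adj P jV').unit.app K'
  let KV := (R P jV).obj ((P.pull jV).obj K)
  let KV' := (R P jV').obj ((P.pull jV').obj K')
  let n := cocartLift jV (adj P jV) ((P.pull jV).obj K)
  let n' := cocartLift jV' (adj P jV') ((P.pull jV').obj K')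
  have hn : IsCocart n := isCocart_cocartLift _ _ _
  have hn' : IsCocart n' := isCocart_cocartLift _ _ _
  have hnu : n ≫ ver u = cartLift ⟨X, K⟩ jV := unit_arrow jV K
  have hnu' : n' ≫ ver u' = cartLift ⟨X', K'⟩ jV' := unit_arrow jV' K'
  let θV : (⟨V', (P.pull jV').obj K'⟩ : Tot P) ⟶ ⟨V, (P.pull jV).obj K⟩ :=
    ⟨gV, (exch P eV).app K ≫ (P.pull jV').map φ⟩
  have hθV : θV ≫ cartLift ⟨X, K⟩ jV = cartLift ⟨X', K'⟩ jV' ≫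
    (⟨g', φ⟩ : (⟨X', K'⟩ : Tot P) ⟶ ⟨X, K⟩) := res_arrow eV φ
  obtain ⟨θV', hθV'b, hθV'⟩ := hn'.desc (θV ≫ n) g' eV
  obtain ⟨b, φV⟩ := θV'
  obtain rfl : b = g' := hθV'b
  have hcomm : φ ≫ u' = (P.pull b).map u ≫ φV := by
    have h1 : ver u' ≫ (⟨b, φ⟩ : (⟨X', K'⟩ : Tot P) ⟶ ⟨X, K⟩) =
        (⟨b, φV⟩ : (⟨X', KV'⟩ : Tot P) ⟶ ⟨X, KV⟩) ≫ ver u := by
      refine hn'.uniq (by simp) ?_
      rw [reassoc_of% hnu', reassoc_of% hθV', hnu, hθV]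
    rw [ver_comp'] at h1
    have h2 := h1.trans (comp_ver' (P := P) (A := ⟨X', KV'⟩) u b φV)
    simpa using fib_eq h2
  obtain ⟨C, v, w, hT⟩ := distinguished_cocone_triangle u
  obtain ⟨C', v', w', hT'⟩ := distinguished_cocone_triangle u'
  have hTg := (P.pull b).map_distinguished _ hT
  obtain ⟨γ, hγ₂, hγ₃⟩ := complete_distinguished_triangle_morphism _ _ hTg hT' φ φV hcomm.symm
  let Θ : (P.pull b).mapTriangle.obj (Triangle.mk u v w) ⟶ Triangle.mk u' v' w' :=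
    Triangle.homMk _ _ φ φV γ hcomm.symm hγ₂ hγ₃
  -- base change for `KV`
  have hBV : BC (⟨b, φV⟩ : (⟨X', KV'⟩ : Tot P) ⟶ ⟨X, KV⟩) f f' g := by
    refine (BC.comp_iff n n' hn hn' hθV' hP e.symm).2 ?_
    exact hV _ _ (cartLift ⟨X, K⟩ jV) (cartLift ⟨X', K'⟩ jV') θV rfl rfl rfl (isCart_cartLift _ _)
      (isCart_cartLift _ _) hθV
  -- `C` is concentrated on `W`
  have hC : IsZero ((P.pull jV).obj C) :=
    isZero_of_dist ((P.pull jV).map_distinguished _ hT) (isIso_pull_unit jV sq.counitV K)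
  have hC' : IsZero ((P.pull jV').obj C') :=
    isZero_of_dist ((P.pull jV').map_distinguished _ hT') (isIso_pull_unit jV' sq'.counitV K')
  have iC := isIso_unit_of_isZero sq C hC
  have iC' := isIso_unit_of_isZero sq' C' hC'
  -- base change on `W`
  let ΘW := resTri eW Θ
  have hW₁ : BC (⟨gW, ΘW.hom₁⟩ : (⟨W', (P.pull jW').obj K'⟩ : Tot P) ⟶ ⟨W, (P.pull jW).obj K⟩)
      (jW ≫ f) (jW' ≫ f') g := by
    have h1 := res_arrow eW φ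
    refine hW _ _ (cartLift ⟨X, K⟩ jW) (cartLift ⟨X', K'⟩ jW') _ rfl rfl rfl (isCart_cartLift _ _)
      (isCart_cartLift _ _) ?_
    rw [← h1]
    congr 2
    exact resTri_hom₁ eW Θ
  have hW₂ : BC (⟨gW, ΘW.hom₂⟩ : (⟨W', (P.pull jW').obj KV'⟩ : Tot P) ⟶ ⟨W, (P.pull jW).obj KV⟩)
      (jW ≫ f) (jW' ≫ f') g := by
    have h1 := res_arrow eW φV
    have h1' : (⟨gW, ΘW.hom₂⟩ : (⟨W', (P.pull jW').obj KV'⟩ : Tot P) ⟶ ⟨W, (P.pull jW).obj KV⟩) ≫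
        cartLift ⟨X, KV⟩ jW = cartLift ⟨X', KV'⟩ jW' ≫
          (⟨b, φV⟩ : (⟨X', KV'⟩ : Tot P) ⟶ ⟨X, KV⟩) := by
      rw [← h1]
      congr 2
      exact resTri_hom₂ eW Θ
    obtain ⟨m₀, hm₀b, hm₀⟩ := (isCart_cartLift (P := P) ⟨X, KV⟩ jW).lift
      (cartLift ⟨V, (P.pull jV).obj K⟩ p ≫ n) q sq.comm.symm
    obtain ⟨m₀', hm₀b', hm₀'⟩ := (isCart_cartLift (P := P) ⟨X', KV'⟩ jW').lift
      (cartLift ⟨V', (P.pull jV').obj K'⟩ p' ≫ n') q' sq'.comm.symm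
    have c₀ : IsCocart m₀ := hn.restrict (isCart_cartLift _ _) hm₀ hP
      ((sq.bcVW _).congr_base rfl hm₀b.symm rfl)
    have c₀' : IsCocart m₀' := hn'.restrict (isCart_cartLift _ _) hm₀' hP
      ((sq'.bcVW _).congr_base rfl hm₀b'.symm rfl)
    obtain ⟨θU, hθUb, hθU⟩ := exists_res θV (a := cartLift ⟨V, (P.pull jV).obj K⟩ p)
      (cartLift ⟨V', (P.pull jV').obj K'⟩ p') (isCart_cartLift _ _) gU eU'.symm
    have h2 : m₀' ≫ (⟨gW, ΘW.hom₂⟩ : (⟨W', (P.pull jW').obj KV'⟩ : Tot P) ⟶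
        ⟨W, (P.pull jW).obj KV⟩) = θU ≫ m₀ := by
      refine (isCart_cartLift (P := P) ⟨X, KV⟩ jW).uniq ?_ ?_
      · rw [comp_base, comp_base, hm₀b, hm₀b', hθUb]
        exact eU
      · rw [Category.assoc, h1', reassoc_of% hm₀', hθV', Category.assoc, hm₀, reassoc_of% hθU]
    refine (BC.comp_iff m₀ m₀' c₀ c₀' h2 hP ?_).2 ?_
    · change (jW' ≫ f') ≫ g = gW ≫ jW ≫ f
      rw [Category.assoc, ← e, reassoc_of% eW]
    · refine (hU _ _ (cartLift ⟨V, (P.pull jV).obj K⟩ p ≫ cartLift ⟨X, K⟩ jV)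
        (cartLift ⟨V', (P.pull jV').obj K'⟩ p' ≫ cartLift ⟨X', K'⟩ jV') θU rfl rfl hθUb
        ((isCart_cartLift _ _).comp (isCart_cartLift _ _))
        ((isCart_cartLift _ _).comp (isCart_cartLift _ _)) ?_).congr_base ?_ ?_ rfl
      · rw [reassoc_of% hθU, hθV, Category.assoc]
      · rw [hm₀b, sq.comm, Category.assoc]
      · rw [hm₀b', sq'.comm, Category.assoc]
  have eW' : gW ≫ (jW ≫ f) = (jW' ≫ f') ≫ g := by
    rw [Category.assoc, ← e, reassoc_of% eW]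
  have hW₃ : BC (⟨gW, ΘW.hom₃⟩ : (⟨W', (P.pull jW').obj C'⟩ : Tot P) ⟶ ⟨W, (P.pull jW).obj C⟩)
      (jW ≫ f) (jW' ≫ f') g :=
    bc₃ P eW' ((P.pull jW).map_distinguished _ hT) ((P.pull jW').map_distinguished _ hT') ΘW hW₁ hW₂
  -- base change for `C`
  have hBC : BC (⟨b, γ⟩ : (⟨X', C'⟩ : Tot P) ⟶ ⟨X, C⟩) f f' g := by
    let nC := cocartLift jW (adj P jW) ((P.pull jW).obj C)
    let nC' := cocartLift jW' (adj P jW') ((P.pull jW').obj C')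
    have hnC : nC ≫ ver ((adj P jW).unit.app C) = cartLift ⟨X, C⟩ jW := unit_arrow jW C
    have hnC' : nC' ≫ ver ((adj P jW').unit.app C') = cartLift ⟨X', C'⟩ jW' := unit_arrow jW' C'
    have h1 := res_arrow eW (show (P.pull b).obj C ⟶ C' from γ)
    have h1' : (⟨gW, ΘW.hom₃⟩ : (⟨W', (P.pull jW').obj C'⟩ : Tot P) ⟶ ⟨W, (P.pull jW).obj C⟩) ≫
        cartLift ⟨X, C⟩ jW = cartLift ⟨X', C'⟩ jW' ≫ (⟨b, γ⟩ : (⟨X', C'⟩ : Tot P) ⟶ ⟨X, C⟩) := by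
      rw [← h1]
      congr 2
      exact resTri_hom₃ eW Θ
    obtain ⟨θC, hθCb, hθC⟩ := (isCocart_cocartLift (P := P) jW' (adj P jW')
      ((P.pull jW').obj C')).desc ((⟨gW, ΘW.hom₃⟩ : (⟨W', (P.pull jW').obj C'⟩ : Tot P) ⟶
        ⟨W, (P.pull jW).obj C⟩) ≫ nC) b eW
    have hB : BC θC f f' g := by
      refine (BC.comp_iff nC nC' (isCocart_cocartLift _ _ _) (isCocart_cocartLift _ _ _) hθC hP ?_).2
        hW₃
      rw [hθCb]; exact e.symm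
    refine BC.congr_fib (asIso ((adj P jW).unit.app C)).symm (asIso ((adj P jW').unit.app C')).symm
      ?_ hB
    have h2 : ver ((adj P jW').unit.app C') ≫ (⟨b, γ⟩ : (⟨X', C'⟩ : Tot P) ⟶ ⟨X, C⟩) =
        θC ≫ ver ((adj P jW).unit.app C) := by
      refine (isCocart_cocartLift (P := P) jW' (adj P jW') ((P.pull jW').obj C')).uniq ?_ ?_
      · simp [hθCb]
      · erw [reassoc_of% hnC', reassoc_of% hθC, hnC, h1']
    have i1 := isIso_ver (P := P) ((adj P jW).unit.app C)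
    have i2 := isIso_ver (P := P) ((adj P jW').unit.app C')
    have h3 : ver (P := P) (asIso ((adj P jW').unit.app C')).symm.hom ≫
        ver ((adj P jW').unit.app C') = 𝟙 _ := by
      rw [ver_comp_ver]
      simp [ver_id]
    have h4 : ver (P := P) ((adj P jW).unit.app C) ≫
        ver (asIso ((adj P jW).unit.app C)).symm.hom =
          𝟙 (⟨X, (R P jW).obj ((P.pull jW).obj C)⟩ : Tot P) := by
      rw [ver_comp_ver]
      simp [ver_id]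
    calc ver (P := P) (asIso ((adj P jW').unit.app C')).symm.hom ≫ θC
        = ver (P := P) (asIso ((adj P jW').unit.app C')).symm.hom ≫ θC ≫
          ver ((adj P jW).unit.app C) ≫ ver (asIso ((adj P jW).unit.app C)).symm.hom := by
          rw [h4, Category.comp_id]
      _ = _ := by
          rw [← reassoc_of% h2, reassoc_of% h3]
  exact bc₁ P e hT hT' Θ hBV hBC

end MV

end Groth.Agent.PerfB.BCMV
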