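import Groth.Agent.PerfB.BCPush
import Groth.Agent.PerfB.BCMV
import Groth.Agent.PerfB.BCModIso
import Groth.Agent.PerfB.LpullOpens
import Groth.Agent.PerfA.Restrict

/-!
# Formal base change, X: open immersions and Mayer-Vietoris on schemes
-/

set_option autoImplicit false

universe u

open CategoryTheory CategoryTheory.Limits AlgebraicGeometry Pretriangulated

attribute [local instance] HasDerivedCategory.standard

namespace Groth.Agent.PerfB.BCGeom

open Groth.Agent.PerfB.BCTot Groth.Agent.PerfB.BCTot.Tot Groth.Agent.PerfB.BCMod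
  Groth.Agent.PerfB.BCCx Groth.Agent.PerfB.BCDer Groth.Agent.PerfB.BCSch Groth.Agent.PerfB.BCTri
  Groth.Agent.PerfB.BCShift Groth.Agent.PerfB.BCPush Groth.Agent.PerfB.BCMV
  Groth.Agent.Dcoh.DerHo Groth.Agent.Dcoh.DerComp Groth.Agent.Dcoh.DerSch

attribute [local instance] hasLpull hasRpush

lemma isIso_rpushUnitQ_iff {X Y : Scheme.{u}} (f : X ⟶ Y) {C C' : CochainComplex X.Modules ℤ}
    (e : C ≅ C') : IsIso ((rpushUnitQ f).app C) ↔ IsIso ((rpushUnitQ f).app C') :=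
  NatTrans.isIso_app_iff_of_iso _ e

lemma eval_cartLift (n : ℤ) {X V : Scheme.{u}} (C : CochainComplex X.Modules ℤ) (j : V ⟶ X) :
    (evalMap modPull.{u} n).tot.map (cartLift (P := cxMod.{u}) ⟨X, C⟩ j) =
      cartLift (P := modPull) ⟨X, C.X n⟩ j := by
  refine hom_ext rfl ?_
  refine (evalMap_fib _ n _).trans ?_
  exact (Category.id_comp _).symm

lemma bc_openC {X S U V : Scheme.{u}} {f : X ⟶ S} {i : U ⟶ S} {j : V ⟶ X} {f₀ : V ⟶ U}
    (h : IsPullback j f₀ f i) [IsOpenImmersion i] (I : CochainComplex X.Modules ℤ) :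
    BC (cartLift (P := cxMod.{u}) ⟨X, I⟩ j) f f₀ i := by
  refine bc_of_eval _ (cartLift (P := cxMod.{u}) ⟨X, I⟩ j) h.w (mAdj f) (mAdj f₀) fun n => ?_
  rw [eval_cartLift]
  exact Groth.Agent.PerfB.BCMod.bc_open h (I.X n)

lemma isIso_rpushUnitQ_pullback {V U X : Scheme.{u}} {j : V ⟶ X} [IsOpenImmersion j] {f₀ : V ⟶ U}
    (I : CochainComplex X.Modules ℤ) (hI : I.IsKInjective) : IsIso ((rpushUnitQ f₀).app
      (((Scheme.Modules.pullback j).mapHomologicalComplex (ComplexShape.up ℤ)).obj I)) := by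
  refine (isIso_rpushUnitQ_iff f₀ ((NatIso.mapHomologicalComplex
      (Scheme.Modules.restrictFunctorIsoPullback j) (ComplexShape.up ℤ)).app I)).1 ?_
  exact isIso_rpushUnitQ_app f₀ _ (isKInjective_restrict j I hI)


lemma bc_openD1 {X S U V : Scheme.{u}} {f : X ⟶ S} {i : U ⟶ S} {j : V ⟶ X} {f₀ : V ⟶ U}
    (h : IsPullback j f₀ f i) [IsOpenImmersion i] [IsOpenImmersion j]
    (I : CochainComplex X.Modules ℤ) (hI : I.IsKInjective) :
    BC (toD.tot.map (cartLift (P := cxMod.{u}) ⟨X, I⟩ j)) f f₀ i :=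
  bc_toD_cartLift I j f f₀ i h.w (bc_openC h I) (isIso_rpushUnitQ_app f I hI)
    (isIso_rpushUnitQ_pullback I hI) (isIso_lpullCounitQ_of_flat i _)

lemma BC_of_cart {𝒮 : Type*} [Category 𝒮] {D : 𝒮 → Type*} [∀ X, Category (D X)] {P : PullData D}
    {X V S U : 𝒮} {K K₁ : D X} (i : K₁ ≅ K) {L L₁ : D V}
    (a : (⟨V, L⟩ : Tot P) ⟶ ⟨X, K⟩) (a₁ : (⟨V, L₁⟩ : Tot P) ⟶ ⟨X, K₁⟩) (ha : IsCart a)
    (ha₁ : IsCart a₁) (e : a.base = a₁.base) {f : X ⟶ S} {f₀ : V ⟶ U} {g : U ⟶ S}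
    (h : BC a f f₀ g) : BC a₁ f f₀ g := by
  have c1 : IsCart (a ≫ ver i.hom) := ha.comp ((isCart_ver_iff _).2 inferInstance)
  obtain ⟨i', hi'⟩ := c1.exists_iso ha₁ (by simp [e])
  refine BC.congr_fib i.symm i' ?_ h
  rw [← hi', Iso.symm_hom, Category.assoc, Category.assoc, ver_comp_ver, Iso.inv_hom_id, ver_id]
  simp


lemma isCart_toD_flat {X V : Scheme.{u}} (j : V ⟶ X) [Flat j] (I : CochainComplex X.Modules ℤ) :
    IsCart (toD.tot.map (cartLift (P := cxMod.{u}) ⟨X, I⟩ j)) :=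
  have : Flat (cartLift (P := cxMod.{u}) ⟨X, I⟩ j).base := inferInstanceAs (Flat j)
  isCart_toD_of_flat (isCart_cartLift _ _)

theorem bc_openD {X S U V : Scheme.{u}} {f : X ⟶ S} {i : U ⟶ S} {j : V ⟶ X} {f₀ : V ⟶ U}
    (h : IsPullback j f₀ f i) [IsOpenImmersion i] (K : DCoh.D X) :
    BC (cartLift (P := dPull.{u}) ⟨X, K⟩ j) f f₀ i := by
  have hj : IsOpenImmersion j := MorphismProperty.of_isPullback h.flip inferInstance
  obtain ⟨I, φ, hI, hφ⟩ := hasKInj X (DerivedCategory.Q.objPreimage K)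
  let e : K ≅ DerivedCategory.Q.obj I :=
    (DerivedCategory.Q.objObjPreimageIso K).symm ≪≫ asIso (DerivedCategory.Q.map φ)
  have h1 := bc_openD1 h I hI
  exact BC_of_cart (P := dPull.{u}) e (toD.tot.map (cartLift (P := cxMod.{u}) ⟨X, I⟩ j)) (cartLift (P := dPull.{u}) ⟨X, K⟩ j) (isCart_toD_flat j I) (isCart_cartLift _ _) rfl h1

/-- A criterion: if base change holds for the square of a monomorphism with itself, the cocartesian arrow
is cartesian. -/
lemma isCart_of_bc {𝒮 : Type*} [Category 𝒮] {D : 𝒮 → Type*} [∀ X, Category (D X)] {P : PullData D}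
    {V X : 𝒮} {j : V ⟶ X} {K : D V} {L : D X} {m : (⟨V, K⟩ : Tot P) ⟶ ⟨X, L⟩} (hmj : m.base = j)
    (hm : IsCocart m) (h : BC (cartLift (P := P) ⟨V, K⟩ (𝟙 V)) j (𝟙 V) j) : IsCart m := by
  have i1 : IsIso (cartLift (P := P) ⟨V, K⟩ (𝟙 V)) := by
    have e : cartLift (P := P) ⟨V, K⟩ (𝟙 V) = ver ((P.idI V).inv.app K) := by
      refine hom_ext rfl ?_
      simp [cartLift, ver]
    rw [e]
    exact isIso_ver _
  exact h L K m (cartLift (P := P) ⟨V, K⟩ (𝟙 V)) m hmj rfl hmj hm (isCocart_of_isIso _) rfl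

/-- `j^* Rj_* = id` for an open immersion. -/
theorem isIso_counit {V X : Scheme.{u}} (j : V ⟶ X) [IsOpenImmersion j] (K : DCoh.D V) :
    IsIso ((adj dPull.{u} j).counit.app K) := by
  have h := bc_openD (f := j) (i := j) (j := 𝟙 V) (f₀ := 𝟙 V) (IsKernelPair.id_of_mono j) K
  exact isCart_of_bc (m := cocartLift j (adj dPull.{u} j) K) rfl (isCocart_cocartLift _ _ _) h

/-- Isomorphisms in `D(O_X)` are local. -/
theorem isIso_of_cover {X : Scheme.{u}} {K L : DCoh.D X} (φ : K ⟶ L)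
    (h : ∀ x : X, ∃ (U : Scheme.{u}) (j : U ⟶ X) (_ : IsOpenImmersion j) (y : U), j y = x ∧
      IsIso ((DCoh.Lpull j).map φ)) : IsIso φ := by
  rw [DerivedCategory.isIso_iff]
  intro i
  refine Groth.Agent.PerfA.Restrict.isIso_of_restrict _ fun x => ?_
  obtain ⟨U, j, hj, y, hy, hU⟩ := h x
  refine ⟨U, j, hj, y, hy, ?_⟩
  have h1 : IsIso ((Groth.Agent.PerfA.Restrict.restrictD j).map φ) :=
    (NatIso.isIso_map_iff (Groth.Agent.PerfB.LpullOpens.lpullRestrictD j) φ).1 hU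
  exact (NatIso.isIso_map_iff
    (Groth.Agent.PerfA.ExactD.mapHomology (Scheme.Modules.restrictFunctor j) i) φ).1
    (inferInstanceAs (IsIso ((DerivedCategory.homologyFunctor _ i).map
      ((Groth.Agent.PerfA.Restrict.restrictD j).map φ))))

/-- Mayer-Vietoris squares from covers by two opens. -/
theorem mvSq {X V W U : Scheme.{u}} {jV : V ⟶ X} {jW : W ⟶ X} {p : U ⟶ V} {q : U ⟶ W}
    [IsOpenImmersion jV] [IsOpenImmersion jW] (sq : IsPullback p q jV jW)
    (hcov : ∀ x : X, x ∈ Set.range jV ∨ x ∈ Set.range jW) : MVSq dPull.{u} jV jW p q where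
  comm := sq.w
  counitV K := isIso_counit jV K
  counitW K := isIso_counit jW K
  bcVW K := bc_openD sq K
  bcWV K := bc_openD sq.flip K
  cons φ h₁ h₂ := by
    refine isIso_of_cover φ fun x => ?_
    rcases hcov x with ⟨y, hy⟩ | ⟨y, hy⟩
    · exact ⟨V, jV, inferInstance, y, hy, h₁⟩
    · exact ⟨W, jW, inferInstance, y, hy, h₂⟩

end Groth.Agent.PerfB.BCGeom
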