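import Groth.Agent.PerfB.BCTot
import Groth.Agent.Dcoh.DerAdj
import Mathlib.AlgebraicGeometry.Modules.Sheaf

/-!
# Formal base change, V: the pseudofunctor of modules on schemes, of complexes and homotopy categories
-/

set_option autoImplicit false

universe v₁ u₁ v₂ u₂ u

open CategoryTheory CategoryTheory.Limits AlgebraicGeometry

namespace Groth.Agent.PerfB.BCMod

open Groth.Agent.PerfB.BCTot Groth.Agent.PerfB.BCTot.Tot

/-- `X ↦ X.Modules` with pullbacks. -/
noncomputable def modPull : PullData (fun X : Scheme.{u} => X.Modules) where
  pull f := Scheme.Modules.pullback f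
  idI X := Scheme.Modules.pullbackId X
  compI f g := Scheme.Modules.pullbackComp f g
  comp_id {X Y} f K := by
    have h := congr_app (Scheme.Modules.pseudofunctor_left_unitality f) K
    simpa [eqToHom_app] using h
  id_comp {X Y} f K := by
    have h := congr_app (Scheme.Modules.pseudofunctor_right_unitality f) K
    simpa [eqToHom_app] using h
  assoc f g h K := by
    have h := congr_app (Scheme.Modules.pseudofunctor_associativity f g h) K
    simpa [eqToHom_app] using h

end Groth.Agent.PerfB.BCMod
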