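import Groth.Agent.PerfB.BCShift

/-!
# Formal base change, IX: chain-level direct images and pullbacks in the derived pseudofunctor
-/

set_option autoImplicit false

universe u

open CategoryTheory CategoryTheory.Limits AlgebraicGeometry Pretriangulated

attribute [local instance] HasDerivedCategory.standard

namespace Groth.Agent.PerfB.BCPush

open Groth.Agent.PerfB.BCTot Groth.Agent.PerfB.BCTot.Tot Groth.Agent.PerfB.BCMod
  Groth.Agent.PerfB.BCCx Groth.Agent.PerfB.BCDer Groth.Agent.PerfB.BCSch Groth.Agent.PerfB.BCTri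
  Groth.Agent.PerfB.BCShift
  Groth.Agent.Dcoh.DerAdj Groth.Agent.Dcoh.DerAbs
  Groth.Agent.Dcoh.DerHo Groth.Agent.Dcoh.DerComp Groth.Agent.Dcoh.DerSch

attribute [local instance] hasLpull hasRpush

section

variable {X Y : Scheme.{u}} (f : X ⟶ Y)

/-- Module level adjunction in terms of `modPull`. -/
noncomputable abbrev mAdj : (modPull.{u}).pull f ⊣ Scheme.Modules.pushforward f :=
  Scheme.Modules.pullbackPushforwardAdjunction f

/-- Chain level adjunction. -/
noncomputable abbrev cAdj : (cxMod.{u}).pull f ⊣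
    (Scheme.Modules.pushforward f).mapHomologicalComplex (ComplexShape.up ℤ) :=
  cxAdj (mAdj f)

lemma aux {C : Type*} [Category C] {A B C' D E F G : C} (x : A ⟶ B) (y : B ⟶ C') (ε : C' ⟶ D)
    (w : D ⟶ E) (α : B ⟶ F) (q : F ⟶ D) (i : F ⟶ G) (c : G ⟶ E) (h1 : y ≫ ε = α ≫ q)
    (h5 : q ≫ w = i ≫ c) : x ≫ y ≫ ε ≫ w = (x ≫ α ≫ i) ≫ c := by
  rw [reassoc_of% h1, h5]
  simp only [Category.assoc]

lemma counit_fac (K : CochainComplex X.Modules ℤ) :
    (DCoh.Lpull f).map ((rpushUnitQ f).app K) ≫ (lAdj f).counit.app (DerivedCategory.Q.obj K) =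
      (lpullCounitQ f).app (((Scheme.Modules.pushforward f).mapHomologicalComplex _).obj K) ≫
        DerivedCategory.Q.map ((cAdj f).counit.app K) := by
  have h1 := derivedAdj_counit_fac (Scheme.Modules.pullbackPushforwardAdjunction f) (hasKInj X)
    (leftDataPull f) (DCoh.Lpull f) (lpullCounit f) (DCoh.Rpush f) (rpushUnit f)
    ((HomotopyCategory.quotient _ _).obj K)
  have h2 := unitQ_app (Scheme.Modules.pushforward f) (DCoh.Rpush f) (rpushUnit f) K
  have h3 := counitQ_app (Scheme.Modules.pullback f) (DCoh.Lpull f) (lpullCounit f)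
    (((Scheme.Modules.pushforward f).mapHomologicalComplex (ComplexShape.up ℤ)).obj K)
  have h4 := (lAdj f).counit.naturality ((DerivedCategory.quotientCompQhIso X.Modules).hom.app K)
  have h5 := (DerivedCategory.quotientCompQhIso X.Modules).hom.naturality ((cAdj f).counit.app K)
  refine (congrArg (fun t => (DCoh.Lpull f).map t ≫ (lAdj f).counit.app (DerivedCategory.Q.obj K))
    h2).trans ?_
  refine Eq.trans ?_ (congrArg (fun t => t ≫ DerivedCategory.Q.map ((cAdj f).counit.app K)) h3.symm)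
  rw [Functor.map_comp, Functor.map_comp, Category.assoc, Category.assoc]
  refine (congrArg (fun t => _ ≫ _ ≫ t) h4).trans ?_
  exact aux _ _ _ _ _ _ _ _ h1 h5

/-- `Rf_*` on `Q C` is computed by `f_* C`, when the unit is an isomorphism. -/
theorem isCocart_toD (C : CochainComplex X.Modules ℤ) (h : IsIso ((rpushUnitQ f).app C)) :
    IsCocart (toD.tot.map (cocartLift f (cAdj f) C)) :=
  schDer.isCocart_map f (cAdj f) (lAdj f) (rpushUnitQ f) (counit_fac f) C h

theorem isCocart_toD_of_kInj (I : CochainComplex X.Modules ℤ) (h : I.IsKInjective) :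
    IsCocart (toD.tot.map (cocartLift f (cAdj f) I)) :=
  isCocart_toD f I (isIso_rpushUnitQ_app f I h)

end

section Flat

variable {X Y : Scheme.{u}} (f : X ⟶ Y) [Flat f]

lemma isIso_lpullCounitQ_of_flat (K : CochainComplex Y.Modules ℤ) :
    IsIso ((lpullCounitQ f).app K) := by
  obtain ⟨R, φ, hR, hφ⟩ := exists_kflat K
  have h1 := (lpullCounitQ f).naturality φ
  have h2 := isIso_lpullCounitQ_app f R hR
  have h3 : QuasiIso (((Scheme.Modules.pullback f).mapHomologicalComplex (ComplexShape.up ℤ)).map φ) :=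
    quasiIso_map_exact (Scheme.Modules.pullback f) φ hφ
  have h4 : IsIso ((lpullCounitQ f).app R ≫ DerivedCategory.Q.map
    (((Scheme.Modules.pullback f).mapHomologicalComplex (ComplexShape.up ℤ)).map φ)) :=
    IsIso.comp_isIso' h2 inferInstance
  have h5 : IsIso ((DCoh.Lpull f).map (DerivedCategory.Q.map φ) ≫ (lpullCounitQ f).app K) := by
    have : (DCoh.Lpull f).map (DerivedCategory.Q.map φ) ≫ (lpullCounitQ f).app K = _ := h1
    rw [this]; exact h4
  exact IsIso.of_isIso_comp_left ((DCoh.Lpull f).map (DerivedCategory.Q.map φ)) _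

end Flat

lemma isCart_toD_of_flat {A B : Tot cxMod.{u}} {m : A ⟶ B} (hm : IsCart m) [Flat m.base] :
    IsCart (toD.tot.map m) :=
  PullMap.isCart_map _ hm (isIso_lpullCounitQ_of_flat m.base B.fib)

lemma isCart_toD_of_kflat {A B : Tot cxMod.{u}} {m : A ⟶ B} (hm : IsCart m)
    (h : DCoh.IsKFlat B.fib) : IsCart (toD.tot.map m) :=
  schDer.isCart_map_of_flat hm h

/-- Chain level base change gives derived base change. -/
theorem bc_toD {A A' : Tot cxMod.{u}} (θ : A' ⟶ A) {S S' : Scheme.{u}} (f : A.base ⟶ S)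
    (f' : A'.base ⟶ S') (g : S' ⟶ S) (e : θ.base ≫ f = f' ≫ g) (h : BC θ f f' g)
    (hf : IsIso ((rpushUnitQ f).app A.fib)) (hf' : IsIso ((rpushUnitQ f').app A'.fib))
    (hg : IsIso ((lpullCounitQ g).app
      (((Scheme.Modules.pushforward f).mapHomologicalComplex (ComplexShape.up ℤ)).obj A.fib))) :
    BC (toD.tot.map θ) f f' g := by
  obtain ⟨s, hs, hs'⟩ := (isCocart_cocartLift f' (cAdj f') A'.fib).desc
    (θ ≫ cocartLift f (cAdj f) A.fib) g e.symm
  have hc : IsCart s := h _ _ (cocartLift f (cAdj f) A.fib) (cocartLift f' (cAdj f') A'.fib) s rfl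
    rfl hs (isCocart_cocartLift _ _ _) (isCocart_cocartLift _ _ _) hs'
  subst hs
  refine BC.of_exists (toD.tot.map θ) (toD.tot.map (cocartLift f (cAdj f) A.fib))
    (toD.tot.map (cocartLift f' (cAdj f') A'.fib)) (toD.tot.map s) rfl rfl rfl
    (isCocart_toD f _ hf) (isCocart_toD f' _ hf') ?_ (PullMap.isCart_map _ hc hg)
  have h1 := congrArg (fun t => toD.tot.map t) hs'
  simp only [Functor.map_comp] at h1
  exact h1

/-- `bc_toD`, with explicit complexes. -/
theorem bc_toD_mk {X X' S S' : Scheme.{u}} {C : CochainComplex X.Modules ℤ}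
    {C' : CochainComplex X'.Modules ℤ} (θ : (⟨X', C'⟩ : Tot cxMod.{u}) ⟶ ⟨X, C⟩) (f : X ⟶ S)
    (f' : X' ⟶ S') (g : S' ⟶ S) (e : θ.base ≫ f = f' ≫ g) (h : BC θ f f' g)
    (hf : IsIso ((rpushUnitQ f).app C)) (hf' : IsIso ((rpushUnitQ f').app C'))
    (hg : IsIso ((lpullCounitQ g).app
      (((Scheme.Modules.pushforward f).mapHomologicalComplex (ComplexShape.up ℤ)).obj C))) :
    BC (toD.tot.map θ) f f' g :=
  bc_toD θ f f' g e h hf hf' hg

/-- Version for the cartesian arrows. -/
theorem bc_toD_cartLift {X X' S S' : Scheme.{u}} (C : CochainComplex X.Modules ℤ)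
    (j : X' ⟶ X) (f : X ⟶ S)
    (f' : X' ⟶ S') (g : S' ⟶ S) (e : j ≫ f = f' ≫ g)
    (h : BC (cartLift (P := cxMod.{u}) ⟨X, C⟩ j) f f' g)
    (hf : IsIso ((rpushUnitQ f).app C))
    (hf' : IsIso ((rpushUnitQ f').app
      (((Scheme.Modules.pullback j).mapHomologicalComplex (ComplexShape.up ℤ)).obj C)))
    (hg : IsIso ((lpullCounitQ g).app
      (((Scheme.Modules.pushforward f).mapHomologicalComplex (ComplexShape.up ℤ)).obj C))) :
    BC (toD.tot.map (cartLift (P := cxMod.{u}) ⟨X, C⟩ j)) f f' g :=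
  bc_toD_mk (cartLift (P := cxMod.{u}) ⟨X, C⟩ j) f f' g e h hf hf' hg

end Groth.Agent.PerfB.BCPush
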