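import Groth.Agent.PerfB.TensQCoh
import Groth.Agent.Models2.TensLocal

/-!
# Roofs to tilde complexes

On `Spec R` every complex with quasi-coherent cohomology sheaves is connected to the tilde of a K-projective
complex of `R`-modules by two quasi-isomorphisms with common source a K-flat complex.
-/

set_option autoImplicit false
universe u
open CategoryTheory CategoryTheory.Limits AlgebraicGeometry Opposite
attribute [local instance] HasDerivedCategory.standard

namespace Groth.Agent.PerfB.BCRoof331

open Groth.Agent.PerfA Groth.Agent.Dcoh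

section General

variable {X : Scheme.{u}}

/-- A K-flat resolution by an honest morphism of complexes. -/
theorem exists_kflat_hom (K : CochainComplex X.Modules ℤ) :
    ∃ (P : CochainComplex X.Modules ℤ) (α : P ⟶ K), DCoh.IsKFlat P ∧ QuasiIso α := by
  obtain ⟨P, α, h1, h2⟩ := (LTMod.adapted (Coh.structureModule X)).exists_res K
  exact ⟨P, α, h1, h2⟩

/-- An isomorphism in `D(O_X)` between two complexes is a roof with K-flat top. -/
theorem exists_roof (E T : CochainComplex X.Modules ℤ)
    (e : DerivedCategory.Q.obj T ≅ DerivedCategory.Q.obj E) :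
    ∃ (P : CochainComplex X.Modules ℤ) (α : P ⟶ E) (β : P ⟶ T),
      DCoh.IsKFlat P ∧ QuasiIso α ∧ QuasiIso β := by
  obtain ⟨T', s, hs, g, hg⟩ := DerivedCategory.right_fac e.hom
  obtain ⟨P, t, hP, ht⟩ := exists_kflat_hom T'
  have hg' : IsIso (DerivedCategory.Q.map g) := by
    have : DerivedCategory.Q.map g = DerivedCategory.Q.map s ≫ e.hom := by
      rw [hg, IsIso.hom_inv_id_assoc]
    rw [this]
    infer_instance
  have h1 : QuasiIso g := (DerivedCategory.isIso_Q_map_iff_quasiIso _ g).1 hg'
  have h2 : QuasiIso s := (DerivedCategory.isIso_Q_map_iff_quasiIso _ s).1 hs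
  exact ⟨P, t ≫ g, t ≫ s, hP, inferInstance, inferInstance⟩

end General

/-- `Spec R`: a complex with quasi-coherent cohomology is connected by a roof with K-flat top to the tilde
of a K-projective complex of `R`-modules. -/
theorem exists_roof_tilde {R : CommRingCat.{u}} (E : CochainComplex (Spec R).Modules ℤ)
    (hE : DCoh.IsQCohD (DerivedCategory.Q.obj E)) :
    ∃ (M : DRing.Cx R) (P : CochainComplex (Spec R).Modules ℤ) (α : P ⟶ E)
      (β : P ⟶ ((tilde.functor R).mapHomologicalComplex (ComplexShape.up ℤ)).obj M),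
      M.IsKProjective ∧
      DCoh.IsKFlat (((tilde.functor R).mapHomologicalComplex (ComplexShape.up ℤ)).obj M) ∧
      DCoh.IsKFlat P ∧ QuasiIso α ∧ QuasiIso β := by
  obtain ⟨M, hM, ⟨e⟩⟩ := TensQCoh.exists_tilde _ hE
  obtain ⟨P, α, β, h1, h2, h3⟩ := exists_roof _ _ e
  exact ⟨M, P, α, β, hM, PerfC.TildeKFlat.isKFlat_tilde M
    (fun L hL i => TensQCoh.acyclic_tensorRight M L hL i), h1, h2, h3⟩

end Groth.Agent.PerfB.BCRoof331
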