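import Groth.Agent.PerfC.RelFlatLpull
import Groth.Agent.PerfB.StalkKFlat
import Groth.Agent.Dcoh.KFlatMod
import Groth.Agent.Dcoh.DerHo

/-!
# K-flat complexes compute derived pullback

For every `g : Y ⟶ X` the class of K-flat complexes is adapted to `g^*` (`PullData g IsKFlat`).
-/

set_option autoImplicit false
universe u
open CategoryTheory CategoryTheory.Limits AlgebraicGeometry
attribute [local instance] HasDerivedCategory.standard

namespace Groth.Agent.PerfB.PullData

open Groth.Agent.PerfC.RelFlatLpull

variable {X Y : Scheme.{u}}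

variable (X) in
/-- the class of K-flat complexes -/
def kFlat : ObjectProperty (CochainComplex X.Modules ℤ) := fun K => DCoh.IsKFlat K

/-- K-flat complexes are adapted to `g^*`. -/
theorem adapted (g : Y ⟶ X) : Dcoh.LDer.Adapted (Scheme.Modules.pullback g) (kFlat X) where
  exists_res K := by
    obtain ⟨K', q, h1, -, h2, -⟩ := Groth.Agent.Dcoh.KFlatMod.exists_resolution K
    exact ⟨K', q, h1, h2⟩
  inverts K L f hK hL hf :=
    Groth.Agent.Dcoh.DerHo.quasiIso_map_of_acyclic (Scheme.Modules.pullback g) (kFlat X)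
      (fun f hK hL => Groth.Agent.Dcoh.KFlat.isKFlat_mappingCone f hK hL)
      (fun K hK hK2 => Groth.Agent.PerfB.StalkKFlat.acyclic_pullback g K hK hK2) f hK hL hf
  cone _ _ f hK hL := Groth.Agent.Dcoh.KFlat.isKFlat_mappingCone f hK hL

/-- K-flat complexes compute `Lg^*`. -/
theorem pullData (g : Y ⟶ X) : PullData g (kFlat X) where
  adapted := adapted g
  flat K b hb hK := by
    have : K.IsStrictlyLE b := by
      rw [CochainComplex.isStrictlyLE_iff]
      exact fun i hi => hb i (by omega)
    exact Groth.Agent.Dcoh.KFlatMod.isKFlat_of_isStrictlyLE K b hK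

/-- `Lg^*` exists. -/
theorem hasLpull (g : Y ⟶ X) : DCoh.HasLpull g :=
  Groth.Agent.Dcoh.LDer.hasLeftDerivedFunctor (adapted g)

end Groth.Agent.PerfB.PullData
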