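import Groth.Agent.PerfB.TensQCoh
import Groth.Agent.PerfB.PullData
import Groth.Agent.Dcoh.TMod
import Mathlib.Algebra.Homology.DerivedCategory.Fractions

/-!
# Roofs for `D_QCoh` of an affine scheme; `f^*(K ⊗ G)` for `K` K-flat

* `exists_roof`: on `Spec R`, a complex `E` with quasi-coherent cohomology is related by quasi-isomorphisms
  `E ← P → M^~` with `P` K-flat and `M` K-projective (and `M^~` K-flat with quasi-coherent terms);
* `acyclic_pull_tensor`: `f^*(K ⊗ G)` is acyclic if `K` is acyclic and K-flat;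
* `quasiIso_pull_tensor`: `K ↦ f^*(K ⊗ G)` preserves quasi-isomorphisms of K-flat complexes.
-/

set_option autoImplicit false

universe u

open CategoryTheory CategoryTheory.Limits MonoidalCategory HomologicalComplex AlgebraicGeometry
attribute [local instance] HasDerivedCategory.standard

namespace Groth.Agent.PerfB.BCRoof335

open Groth.Agent.Dcoh.KFlatAbs Groth.Agent.Dcoh.KFlatSingle Groth.Agent.Dcoh.Stalk
  Groth.Agent.PerfB.SkyFun Groth.Agent.PerfB.RingKFlat Groth.Agent.PerfB.StalkKFlat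
  Groth.Agent.Fdesc.PullbackStalk

section PullTens

variable {X Y : Scheme.{u}} (f : X ⟶ Y) (G : Y.Modules)

/-- the stalk of `- ⊗ G` -/
noncomputable def tensStalk (y : Y) :
    DCoh.tensorRightMod G ⋙ stalkF y ≅ stalkF y ⋙ tensorRight ((stalkF y).obj G) :=
  Functor.isoWhiskerRight (Groth.Agent.Dcoh.TMod.flipIso G).symm (stalkF y) ≪≫
    NatIso.ofComponents (fun M => tensorStalkIso M G y) (fun g => tensorStalkIso_naturality_left g y)

/-- `N ↦ S ⊗ (N ⊗ B)` is `N ↦ (S ⊗ B) ⊗ N` -/
noncomputable def swapIso {R : Type u} [CommRing R] (S B : ModuleCat.{u} R) :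
    tensorRight B ⋙ tensorLeft S ≅ tensorLeft (S ⊗ B) :=
  Functor.isoWhiskerRight (BraidedCategory.tensorLeftIsoTensorRight B).symm (tensorLeft S) ≪≫
    (tensorLeftTensor S B).symm

/-- `f^*(K ⊗ G)` is acyclic if `K` is acyclic and K-flat. -/
theorem acyclic_pull_tensor (K : CochainComplex Y.Modules ℤ) (hK : DCoh.IsKFlat K)
    (hK2 : K.Acyclic) :
    (((DCoh.tensorRightMod G ⋙ Scheme.Modules.pullback f).mapHomologicalComplex
      (ComplexShape.up ℤ)).obj K).Acyclic := by
  rw [acyclic_iff_stalk]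
  intro x
  let _ := stalkAlg f x
  let S := X.presheaf.stalk x
  let R := Y.presheaf.stalk (f.base x)
  let N := ((stalkF (f.base x)).mapHomologicalComplex (ComplexShape.up ℤ)).obj K
  let B : ModuleCat.{u} R := (stalkF (f.base x)).obj G
  have h0 := acyclic_tensorLeft N (kfl_stalk hK (f.base x)) ((acyclic_iff_stalk K).1 hK2 (f.base x))
    (ModuleCat.of R S ⊗ B)
  have h1 : (((tensorRight B ⋙ tensorLeft (ModuleCat.of R S)).mapHomologicalComplex
      (ComplexShape.up ℤ)).obj N).Acyclic :=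
    acyclic_of_iso ((NatIso.mapHomologicalComplex (swapIso (ModuleCat.of R S) B)
      (ComplexShape.up ℤ)).symm.app N) h0
  have h2 : (((tensorRight B ⋙ ext R S).mapHomologicalComplex (ComplexShape.up ℤ)).obj N).Acyclic := by
    refine acyclic_of_res (R := R) _ ?_
    exact acyclic_of_iso ((NatIso.mapHomologicalComplex (Functor.isoWhiskerLeft (tensorRight B)
      (extResIso R S)).symm (ComplexShape.up ℤ)).app N) h1
  let e : stalkF (f.base x) ⋙ tensorRight B ⋙ ext R S ≅
      (DCoh.tensorRightMod G ⋙ Scheme.Modules.pullback f) ⋙ stalkF x :=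
    Functor.isoWhiskerRight (tensStalk G (f.base x)).symm (ext R S) ≪≫
      Functor.isoWhiskerLeft (DCoh.tensorRightMod G) (stalkPull f x)
  exact acyclic_of_iso ((NatIso.mapHomologicalComplex e (ComplexShape.up ℤ)).app K) h2

/-- `K ↦ f^*(K ⊗ G)` preserves quasi-isomorphisms between K-flat complexes. -/
theorem quasiIso_pull_tensor {K L : CochainComplex Y.Modules ℤ} (φ : K ⟶ L) (hK : DCoh.IsKFlat K)
    (hL : DCoh.IsKFlat L) (hφ : QuasiIso φ) :
    QuasiIso (((Scheme.Modules.pullback f).mapHomologicalComplex (ComplexShape.up ℤ)).map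
      (((DCoh.tensorRightMod G).mapHomologicalComplex (ComplexShape.up ℤ)).map φ)) :=
  Groth.Agent.Dcoh.DerHo.quasiIso_map_of_acyclic (DCoh.tensorRightMod G ⋙ Scheme.Modules.pullback f)
    (PullData.kFlat Y) (fun f hK hL => Groth.Agent.Dcoh.KFlat.isKFlat_mappingCone f hK hL)
    (fun K hK hK2 => acyclic_pull_tensor f G K hK hK2) φ hK hL hφ

/-- `K ↦ K ⊗ G` preserves quasi-isomorphisms between K-flat complexes. -/
theorem quasiIso_tensor {K L : CochainComplex Y.Modules ℤ} (φ : K ⟶ L) (hK : DCoh.IsKFlat K)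
    (hL : DCoh.IsKFlat L) (hφ : QuasiIso φ) :
    QuasiIso (((DCoh.tensorRightMod G).mapHomologicalComplex (ComplexShape.up ℤ)).map φ) :=
  Groth.Agent.Dcoh.LTMod.quasiIso_tensorRightMod G φ hφ hK hL

end PullTens

section Roof

open DerivedCategory

/-- Every isomorphism `Q T ≅ Q E` in the derived category of `O_X`-modules comes from a roof
`T ← P → E` with `P` K-flat. -/
theorem exists_kflat_roof {X : Scheme.{u}} {T E : CochainComplex X.Modules ℤ}
    (e : Q.obj E ≅ Q.obj T) :
    ∃ (P : CochainComplex X.Modules ℤ) (p : P ⟶ E) (q : P ⟶ T),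
      DCoh.IsKFlat P ∧ QuasiIso p ∧ QuasiIso q ∧ Q.map q = Q.map p ≫ e.hom := by
  obtain ⟨P', s, hs, g, hg⟩ := right_fac e.hom
  obtain ⟨P, r, h1, -, h2, -⟩ := Groth.Agent.Dcoh.KFlatMod.exists_resolution P'
  have hg' : Q.map g = Q.map s ≫ e.hom := by rw [hg, IsIso.hom_inv_id_assoc]
  have hgi : IsIso (Q.map g) := by rw [hg']; infer_instance
  have hs' : QuasiIso s := by rwa [← isIso_Q_map_iff_quasiIso]
  have hgq : QuasiIso g := by rwa [← isIso_Q_map_iff_quasiIso]
  have h2' : QuasiIso r := h2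
  exact ⟨P, r ≫ s, r ≫ g, h1, inferInstance, inferInstance, by
    rw [Q.map_comp, Q.map_comp, hg', Category.assoc]⟩

variable (R : CommRingCat.{u})

/-- K-projective complexes of modules are K-flat. -/
theorem kfl_of_isKProjective (M : CochainComplex (ModuleCat.{u} R) ℤ) [M.IsKProjective] :
    KFl (TR R) M := fun L hL i =>
  (HomologicalComplex.exactAt_iff_isZero_homology _ i).2
    (TensQCoh.acyclic_tensorRight M L (fun j => (L.exactAt_iff_isZero_homology j).1 (hL j)) i)

/-- A complex with quasi-coherent cohomology on `Spec R` is related to the tilde of a K-projective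
complex by a roof with K-flat top. -/
theorem exists_roof [PreservesFiniteLimits (tilde.functor R)] (E : CochainComplex (Spec R).Modules ℤ) (hE : DCoh.IsQCohD (Q.obj E)) :
    ∃ (M : CochainComplex (ModuleCat.{u} R) ℤ) (_ : M.IsKProjective)
      (P : CochainComplex (Spec R).Modules ℤ) (p : P ⟶ E)
      (q : P ⟶ ((tilde.functor R).mapHomologicalComplex (ComplexShape.up ℤ)).obj M),
      DCoh.IsKFlat P ∧ QuasiIso p ∧ QuasiIso q ∧
        DCoh.IsKFlat (((tilde.functor R).mapHomologicalComplex (ComplexShape.up ℤ)).obj M) ∧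
        ∀ n, Coh.IsQCoh ((((tilde.functor R).mapHomologicalComplex (ComplexShape.up ℤ)).obj M).X n) := by
  obtain ⟨M, hM, ⟨e⟩⟩ := TensQCoh.exists_tilde (Q.obj E) hE
  obtain ⟨P, p, q, h1, h2, h3, -⟩ := exists_kflat_roof e.symm
  exact ⟨M, hM, P, p, q, h1, h2, h3,
    PerfC.TildeKFlat.isKFlat_tilde M (fun L hL i => TensQCoh.acyclic_tensorRight M L hL i),
    fun n => (inferInstance : (tilde (M.X n)).IsQuasicoherent)⟩

end Roof

end Groth.Agent.PerfB.BCRoof335
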