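import Groth.Agent.PerfB.BCRoof331

/-!
# Roofs to tilde complexes on affine schemes

`e : X ≅ Spec R`.  `cxTilde e M` is the complex of `O_X`-modules given by the complex `M` of `R`-modules; it has
quasi-coherent terms and is K-flat if `M` is K-projective; every complex with quasi-coherent cohomology is
connected to such a complex by a roof with K-flat top.
-/

set_option autoImplicit false
universe u
open CategoryTheory CategoryTheory.Limits AlgebraicGeometry Opposite
attribute [local instance] HasDerivedCategory.standard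

namespace Groth.Agent.PerfB.BCRoofAff333

open Groth.Agent.PerfA Groth.Agent.Dcoh BCRoof331

variable {X : Scheme.{u}} {R : CommRingCat.{u}} (e : X ≅ Spec R)

/-- The complex of `O_X`-modules of a complex of `R`-modules, `X ≅ Spec R`. -/
noncomputable abbrev cxTilde (M : DRing.Cx R) : CochainComplex X.Modules ℤ :=
  ((Scheme.Modules.restrictFunctor e.hom).mapHomologicalComplex (ComplexShape.up ℤ)).obj
    (((tilde.functor R).mapHomologicalComplex (ComplexShape.up ℤ)).obj M)

theorem isQCoh_cxTilde_X (M : DRing.Cx R) (i : ℤ) : Coh.IsQCoh ((cxTilde e M).X i) := by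
  have h : (tilde (M.X i)).IsQuasicoherent := inferInstance
  have h2 : ((tilde (M.X i)).restrict e.hom).IsQuasicoherent := inferInstance
  exact h2

theorem isKFlat_cxTilde (M : DRing.Cx R) [M.IsKProjective] : DCoh.IsKFlat (cxTilde e M) :=
  TensQCoh.isKFlat_restrict e.hom (PerfC.TildeKFlat.isKFlat_tilde M
    (fun L hL i => TensQCoh.acyclic_tensorRight M L hL i))

theorem exists_cxTilde (E : DCoh.D X) (hE : DCoh.IsQCohD E) :
    ∃ M : DRing.Cx R, M.IsKProjective ∧ Nonempty (DerivedCategory.Q.obj (cxTilde e M) ≅ E) := by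
  obtain ⟨M, hM, ⟨a⟩⟩ := TensQCoh.exists_tilde ((DCoh.restrictD e.inv).obj E)
    (QCohD.isQCohD_restrictD e.inv hE)
  exact ⟨M, hM, ⟨(LocalD.QRestrict e.hom _).symm ≪≫ (DCoh.restrictD e.hom).mapIso a ≪≫
    LocalD.restrictHomInv e E⟩⟩

/-- Any complex with quasi-coherent cohomology on `X ≅ Spec R` is connected by a roof with K-flat top to the
complex of a K-projective complex of `R`-modules. -/
theorem exists_roof_cxTilde (E : CochainComplex X.Modules ℤ)
    (hE : DCoh.IsQCohD (DerivedCategory.Q.obj E)) :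
    ∃ (M : DRing.Cx R) (P : CochainComplex X.Modules ℤ) (α : P ⟶ E) (β : P ⟶ cxTilde e M),
      M.IsKProjective ∧ DCoh.IsKFlat (cxTilde e M) ∧ (∀ i, Coh.IsQCoh ((cxTilde e M).X i)) ∧
      DCoh.IsKFlat P ∧ QuasiIso α ∧ QuasiIso β := by
  obtain ⟨M, hM, ⟨a⟩⟩ := exists_cxTilde e _ hE
  obtain ⟨P, α, β, h1, h2, h3⟩ := exists_roof _ _ a
  exact ⟨M, P, α, β, hM, isKFlat_cxTilde e M, isQCoh_cxTilde_X e M, h1, h2, h3⟩

/-- Affine `X`: a roof with K-flat top to a K-flat complex with quasi-coherent terms. -/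
theorem exists_roof_affine [IsAffine X] (E : CochainComplex X.Modules ℤ)
    (hE : DCoh.IsQCohD (DerivedCategory.Q.obj E)) :
    ∃ (M : DRing.Cx Γ(X, ⊤)) (P : CochainComplex X.Modules ℤ) (α : P ⟶ E)
      (β : P ⟶ cxTilde X.isoSpec M),
      M.IsKProjective ∧ DCoh.IsKFlat (cxTilde X.isoSpec M) ∧
      (∀ i, Coh.IsQCoh ((cxTilde X.isoSpec M).X i)) ∧
      DCoh.IsKFlat P ∧ QuasiIso α ∧ QuasiIso β :=
  exists_roof_cxTilde X.isoSpec E hE

end Groth.Agent.PerfB.BCRoofAff333
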