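import Groth.Agent.PerfB.BCMod
import Groth.Agent.PerfB.BCCx
import Groth.Agent.PerfB.BCDer
import Groth.Agent.PerfB.StalkKFlat
import Groth.Agent.PerfB.FlatPull
import Groth.Agent.Dcoh.DerSch
import Groth.Agent.S0955
import Groth.Agent.S0951

/-!
# Formal base change, VII: the derived pseudofunctor on schemes
-/

set_option autoImplicit false

universe u

open CategoryTheory CategoryTheory.Limits AlgebraicGeometry Pretriangulated

attribute [local instance] HasDerivedCategory.standard

namespace Groth.Agent.PerfB.BCSch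

open Groth.Agent.PerfB.BCTot Groth.Agent.PerfB.BCTot.Tot Groth.Agent.PerfB.BCMod
  Groth.Agent.PerfB.BCCx Groth.Agent.PerfB.BCDer Groth.Agent.Dcoh.DerAdj Groth.Agent.Dcoh.DerAbs
  Groth.Agent.Dcoh.DerHo Groth.Agent.Dcoh.DerComp Groth.Agent.Dcoh.DerSch

instance {X Y : Scheme.{u}} (f : X ⟶ Y) : ((modPull.{u}).pull f).Additive :=
  inferInstanceAs (Scheme.Modules.pullback f).Additive

/-- The pseudofunctor of complexes of modules. -/
noncomputable abbrev cxMod : PullData (fun X : Scheme.{u} => CochainComplex X.Modules ℤ) :=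
  cxPull modPull

section Adapted

variable {X Y : Scheme.{u}} (f : X ⟶ Y)

lemma quasiIso_pullback {K L : CochainComplex Y.Modules ℤ} (φ : K ⟶ L) (hK : DCoh.IsKFlat K)
    (hL : DCoh.IsKFlat L) (hφ : QuasiIso φ) :
    QuasiIso (((Scheme.Modules.pullback f).mapHomologicalComplex (ComplexShape.up ℤ)).map φ) :=
  quasiIso_map_of_acyclic (Scheme.Modules.pullback f) (fun K => DCoh.IsKFlat K)
    (fun φ hK hL => (Groth.Agent.S0951.result φ).1 hK hL)
    (fun K hK hK' => StalkKFlat.acyclic_pullback f K hK hK') φ hK hL hφ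

lemma exists_kflat (K : CochainComplex Y.Modules ℤ) :
    ∃ (L : CochainComplex Y.Modules ℤ) (φ : L ⟶ K), DCoh.IsKFlat L ∧ QuasiIso φ := by
  obtain ⟨L, φ, h1, -, h2, -⟩ := Groth.Agent.S0955.result K
  exact ⟨L, φ, h1, h2⟩

lemma leftDataPull : LeftData (𝟭 _) (HomotopyCategory.quasiIso Y.Modules (ComplexShape.up ℤ))
    (DCoh.pullKh f) (ofCx (fun K => DCoh.IsKFlat K)) :=
  leftDataMap (Scheme.Modules.pullback f) _ (exists_kflat (Y := Y))
    (fun φ hK hL hφ => quasiIso_pullback f φ hK hL hφ)

theorem hasLpull : DCoh.HasLpull f :=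
  (leftDataPull f).hasLeftDerivedFunctor
    (W₀ := HomotopyCategory.quasiIso Y.Modules (ComplexShape.up ℤ)) (DerivedCategory.Qh.leftUnitor)
    (fun _ hw => hw)

attribute [local instance] hasLpull hasRpush

/-- The counit `Qh ⋙ Lf^* ⟶ f^* ⋙ Qh`. -/
noncomputable def lpullCounit : DerivedCategory.Qh ⋙ DCoh.Lpull f ⟶ DCoh.pullKh f :=
  (DCoh.pullKh f).totalLeftDerivedCounit DerivedCategory.Qh
    (HomotopyCategory.quasiIso Y.Modules (ComplexShape.up ℤ))

instance : (DCoh.Lpull f).IsLeftDerivedFunctor (lpullCounit f)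
    (HomotopyCategory.quasiIso Y.Modules (ComplexShape.up ℤ)) := by
  dsimp [lpullCounit]
  infer_instance

/-- The counit on complexes. -/
noncomputable def lpullCounitQ : DerivedCategory.Q ⋙ DCoh.Lpull f ⟶
    (Scheme.Modules.pullback f).mapHomologicalComplex (ComplexShape.up ℤ) ⋙ DerivedCategory.Q :=
  counitQ (Scheme.Modules.pullback f) (DCoh.Lpull f) (lpullCounit f)

lemma isIso_lpullCounit_app (K : CochainComplex Y.Modules ℤ) (hK : DCoh.IsKFlat K) :
    IsIso ((lpullCounit f).app ((HomotopyCategory.quotient _ _).obj K)) :=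
  (leftDataPull f).isIso_app (W₀ := HomotopyCategory.quasiIso Y.Modules (ComplexShape.up ℤ))
    (DerivedCategory.Qh.leftUnitor) (fun _ hw => hw) (DCoh.Lpull f) (lpullCounit f) _ hK

lemma isIso_lpullCounitQ_app (K : CochainComplex Y.Modules ℤ) (hK : DCoh.IsKFlat K) :
    IsIso ((lpullCounitQ f).app K) :=
  isIso_counitQ_app _ _ _ _ (isIso_lpullCounit_app f K hK)

lemma leftDataPullCx : LeftData (HomotopyCategory.quotient Y.Modules (ComplexShape.up ℤ))
    (HomotopyCategory.quasiIso Y.Modules (ComplexShape.up ℤ))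
    ((Scheme.Modules.pullback f).mapHomologicalComplex (ComplexShape.up ℤ) ⋙ DerivedCategory.Q)
    (fun K => DCoh.IsKFlat K) :=
  leftDataCx _ (fun φ ψ h => by
    have h1 := (Scheme.Modules.pullback f).mapHomotopy h
    exact DerivedCategory.Q_map_eq_of_homotopy _ h1) _ (exists_kflat (Y := Y))
    (fun φ hK hL hφ => by
      have := quasiIso_pullback f φ hK hL hφ
      dsimp
      infer_instance)

instance isLeftDerivedFunctor_lpullCounitQ : (DCoh.Lpull f).IsLeftDerivedFunctor (lpullCounitQ f)
    (HomologicalComplex.quasiIso Y.Modules (ComplexShape.up ℤ)) :=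
  (leftDataPullCx f).isLeftDerivedFunctor
    (W₀ := HomologicalComplex.quasiIso Y.Modules (ComplexShape.up ℤ))
    (DerivedCategory.quotientCompQhIso _)
    (fun w hw => (HomotopyCategory.quotient_map_mem_quasiIso_iff w).1 hw)
    (DCoh.Lpull f) (lpullCounitQ f) (fun K hK => isIso_lpullCounitQ_app f K hK)

end Adapted

attribute [local instance] hasLpull hasRpush

/-- The data deriving the pseudofunctor of complexes of modules: K-flat complexes. -/
noncomputable def schDer : DerData cxMod.{u} (fun X : Scheme.{u} => DCoh.D X) where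
  Q X := DerivedCategory.Q
  W X := HomologicalComplex.quasiIso X.Modules (ComplexShape.up ℤ)
  isLoc X := inferInstance
  L f := DCoh.Lpull f
  lam f := lpullCounitQ f
  isLeftDer f := isLeftDerivedFunctor_lpullCounitQ f
  Flat X := fun K => DCoh.IsKFlat K
  flat_pull f K hK := StalkKFlat.isKFlat_pullback f K hK
  lam_iso f K hK := isIso_lpullCounitQ_app f K hK
  exists_res X K := by
    obtain ⟨L, φ, hL, hφ⟩ := exists_kflat (DerivedCategory.Q.objPreimage K)
    exact ⟨L, hL, ⟨asIso (DerivedCategory.Q.map φ) ≪≫ DerivedCategory.Q.objObjPreimageIso K⟩⟩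

/-- The pseudofunctor `X ↦ D(O_X)`. -/
noncomputable abbrev dPull : PullData (fun X : Scheme.{u} => DCoh.D X) := schDer.derived

/-- From complexes to the derived category. -/
noncomputable abbrev toD : PullMap cxMod.{u} dPull.{u} := schDer.toDerived

end Groth.Agent.PerfB.BCSch
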