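import Mathlib.CategoryTheory.Adjunction.Basic
import Mathlib.CategoryTheory.EqToHom
import Mathlib.CategoryTheory.Functor.FullyFaithful
import Mathlib.CategoryTheory.Functor.EpiMono

/-!
# Formal base change, I: contravariant pseudofunctors and their total category

A `PullData D` is a family of categories `D X` with pullback functors `pull f : D Y ⥤ D X` and coherent composition
isomorphisms.  `Tot P` is the category of pairs `(X, K)`, with morphisms `(X', K') ⟶ (X, K)` the pairs `(h : X' ⟶ X,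
h^* K ⟶ K')`.  We develop the calculus of cartesian (`h^* K ≅ K'`) and cocartesian (`K = h_* K'`) arrows.
-/

set_option autoImplicit false

universe v₁ u₁ v₂ u₂ v₃ u₃ v₄ u₄

open CategoryTheory

namespace Groth.Agent.PerfB.BCTot

section Defs

variable {𝒮 : Type u₁} [Category.{v₁} 𝒮]

/-- A contravariant pseudofunctor on `𝒮`. -/
structure PullData (D : 𝒮 → Type u₂) [∀ X, Category.{v₂} (D X)] where
  pull {X Y : 𝒮} (f : X ⟶ Y) : D Y ⥤ D X
  idI (X : 𝒮) : pull (𝟙 X) ≅ 𝟭 (D X)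
  compI {X Y Z : 𝒮} (f : X ⟶ Y) (g : Y ⟶ Z) : pull g ⋙ pull f ≅ pull (f ≫ g)
  comp_id {X Y : 𝒮} (f : X ⟶ Y) (K : D Y) :
    (compI f (𝟙 Y)).inv.app K ≫ (pull f).map ((idI Y).hom.app K) = eqToHom (by rw [Category.comp_id]; rfl)
  id_comp {X Y : 𝒮} (f : X ⟶ Y) (K : D Y) :
    (compI (𝟙 X) f).inv.app K ≫ (idI X).hom.app ((pull f).obj K) = eqToHom (by rw [Category.id_comp]; rfl)
  assoc {W X Y Z : 𝒮} (f : W ⟶ X) (g : X ⟶ Y) (h : Y ⟶ Z) (K : D Z) :
    (compI f (g ≫ h)).inv.app K ≫ (pull f).map ((compI g h).inv.app K) ≫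
      (compI f g).hom.app ((pull h).obj K) ≫ (compI (f ≫ g) h).hom.app K = eqToHom (by rw [Category.assoc])

variable {D : 𝒮 → Type u₂} [∀ X, Category.{v₂} (D X)] (P : PullData D)

namespace PullData

lemma assoc' {W X Y Z : 𝒮} (f : W ⟶ X) (g : X ⟶ Y) (h : Y ⟶ Z) (K : D Z) :
    (P.compI (f ≫ g) h).inv.app K ≫ (P.compI f g).inv.app ((P.pull h).obj K) =
    eqToHom (by rw [Category.assoc]) ≫ (P.compI f (g ≫ h)).inv.app K ≫
      (P.pull f).map ((P.compI g h).inv.app K) := by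
  have h1 := P.assoc f g h K
  have h2 : (P.compI f (g ≫ h)).inv.app K ≫ (P.pull f).map ((P.compI g h).inv.app K) =
      eqToHom (by rw [Category.assoc]) ≫ (P.compI (f ≫ g) h).inv.app K ≫
        (P.compI f g).inv.app ((P.pull h).obj K) := by
    rw [← h1]
    simp only [Category.assoc, Iso.hom_inv_id_app_assoc, Iso.hom_inv_id_app]
    simp
  rw [h2]
  simp

end PullData

/-- Objects of the total category. -/
structure Tot (P : PullData D) where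
  base : 𝒮
  fib : D base

namespace Tot

variable {P}

/-- Morphisms in the total category. -/
structure Hom (A B : Tot P) where
  base : A.base ⟶ B.base
  fib : (P.pull base).obj B.fib ⟶ A.fib

lemma Hom.ext' {A B : Tot P} {m n : Hom A B} (h : m.base = n.base)
    (h' : m.fib = eqToHom (by rw [h]) ≫ n.fib) : m = n := by
  obtain ⟨mb, mf⟩ := m
  obtain ⟨nb, nf⟩ := n
  obtain rfl : mb = nb := h
  simp only [eqToHom_refl, Category.id_comp] at h'
  obtain rfl := h'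
  rfl

instance : CategoryStruct (Tot P) where
  Hom A B := Hom A B
  id A := ⟨𝟙 _, (P.idI _).hom.app A.fib⟩
  comp {A B C} m n := ⟨m.base ≫ n.base,
    (P.compI m.base n.base).inv.app C.fib ≫ (P.pull m.base).map n.fib ≫ m.fib⟩

@[simp] lemma id_base (A : Tot P) : Hom.base (𝟙 A) = 𝟙 A.base := rfl
@[simp] lemma id_fib (A : Tot P) : Hom.fib (𝟙 A) = (P.idI _).hom.app A.fib := rfl
@[simp, reassoc] lemma comp_base {A B C : Tot P} (m : A ⟶ B) (n : B ⟶ C) :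
    (m ≫ n).base = m.base ≫ n.base := rfl
lemma comp_fib {A B C : Tot P} (m : A ⟶ B) (n : B ⟶ C) :
    (m ≫ n).fib = (P.compI m.base n.base).inv.app C.fib ≫ (P.pull m.base).map n.fib ≫ m.fib := rfl

instance : Category (Tot P) where
  id_comp {A B} m := by
    refine Hom.ext' (Category.id_comp _) ?_
    rw [comp_fib]
    have h := (P.idI A.base).hom.naturality m.fib
    simp only [id_fib, id_base]
    rw [h, reassoc_of% (P.id_comp m.base B.fib)]
    rfl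
  comp_id {A B} m := by
    refine Hom.ext' (Category.comp_id _) ?_
    rw [comp_fib]
    simp only [id_fib, id_base]
    rw [reassoc_of% (P.comp_id m.base B.fib)]
  assoc {_ _ _ E} m n p := by
    refine Hom.ext' (Category.assoc _ _ _) ?_
    rw [comp_fib, comp_fib, comp_fib, comp_fib]
    simp only [Functor.map_comp, Category.assoc, comp_base]
    have h1 := (P.compI m.base n.base).inv.naturality p.fib
    have h2 := P.assoc' m.base n.base p.base E.fib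
    simp only [Functor.comp_map] at h1
    rw [reassoc_of% h1, reassoc_of% h2]

lemma hom_ext {A B : Tot P} {m n : A ⟶ B} (h : m.base = n.base)
    (h' : m.fib = eqToHom (by rw [h]) ≫ n.fib) : m = n := Hom.ext' h h'

lemma fib_eq {A B : Tot P} {m n : A ⟶ B} (h : m = n) : m.fib = eqToHom (by rw [h]) ≫ n.fib := by
  subst h; simp

/-- Cartesian arrows: `m^* B ≅ A`. -/
def IsCart {A B : Tot P} (m : A ⟶ B) : Prop := IsIso m.fib

/-- Cocartesian arrows: `B` is the direct image of `A` along `m.base`. -/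
def IsCocart {A B : Tot P} (m : A ⟶ B) : Prop :=
  ∀ N : D B.base, Function.Bijective (fun φ : N ⟶ B.fib => (P.pull m.base).map φ ≫ m.fib)

lemma IsCart.lift {A B N : Tot P} {m : A ⟶ B} (hm : IsCart m) (n : N ⟶ B) (h : N.base ⟶ A.base)
    (e : h ≫ m.base = n.base) : ∃ k : N ⟶ A, k.base = h ∧ k ≫ m = n := by
  have : IsIso m.fib := hm
  refine ⟨⟨h, (P.pull h).map (inv m.fib) ≫ (P.compI h m.base).hom.app B.fib ≫
    eqToHom (by rw [e]) ≫ n.fib⟩, rfl, ?_⟩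
  refine hom_ext e ?_
  rw [comp_fib]
  simp only [← Functor.map_comp_assoc, IsIso.hom_inv_id]
  simp

lemma IsCart.uniq {A B N : Tot P} {m : A ⟶ B} (hm : IsCart m) {k k' : N ⟶ A}
    (e : k.base = k'.base) (h : k ≫ m = k' ≫ m) : k = k' := by
  have : IsIso m.fib := hm
  obtain ⟨kb, kf⟩ := k
  obtain ⟨kb', kf'⟩ := k'
  obtain rfl : kb = kb' := e
  have h1 := fib_eq h
  rw [comp_fib, comp_fib] at h1
  simp only [eqToHom_refl, Category.id_comp] at h1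
  rw [cancel_epi, cancel_epi] at h1
  rw [h1]

lemma IsCocart.desc {A B N : Tot P} {m : A ⟶ B} (hm : IsCocart m) (n : A ⟶ N)
    (g : B.base ⟶ N.base) (e : m.base ≫ g = n.base) : ∃ s : B ⟶ N, s.base = g ∧ m ≫ s = n := by
  obtain ⟨φ, hφ⟩ := (hm ((P.pull g).obj N.fib)).2
    ((P.compI m.base g).hom.app N.fib ≫ eqToHom (by rw [e]) ≫ n.fib)
  refine ⟨⟨g, φ⟩, rfl, hom_ext e ?_⟩
  rw [comp_fib]
  dsimp only at hφ ⊢
  rw [hφ]
  simp

lemma IsCocart.uniq {A B N : Tot P} {m : A ⟶ B} (hm : IsCocart m) {s s' : B ⟶ N}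
    (e : s.base = s'.base) (h : m ≫ s = m ≫ s') : s = s' := by
  obtain ⟨b, f⟩ := s
  obtain ⟨b', f'⟩ := s'
  obtain rfl : b = b' := e
  have h1 := fib_eq h
  rw [comp_fib, comp_fib] at h1
  simp only [eqToHom_refl, Category.id_comp] at h1
  rw [cancel_epi] at h1
  rw [(hm _).1 h1]

lemma IsCart.comp {A B C : Tot P} {m : A ⟶ B} {n : B ⟶ C} (hm : IsCart m) (hn : IsCart n) :
    IsCart (m ≫ n) := by
  have : IsIso m.fib := hm
  have : IsIso n.fib := hn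
  unfold IsCart
  rw [comp_fib]
  infer_instance

lemma isCart_comp_iff {A B C : Tot P} {m : A ⟶ B} {n : B ⟶ C} (hn : IsCart n) :
    IsCart (m ≫ n) ↔ IsCart m := by
  have : IsIso n.fib := hn
  unfold IsCart
  rw [comp_fib]
  constructor
  · intro h
    have h2 : IsIso ((P.pull m.base).map n.fib ≫ m.fib) :=
      IsIso.of_isIso_comp_left ((P.compI m.base n.base).inv.app C.fib) _
    exact IsIso.of_isIso_comp_left ((P.pull m.base).map n.fib) _
  · intro h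
    infer_instance

lemma isCocart_comp_iff {A B C : Tot P} {m : A ⟶ B} {n : B ⟶ C} (hm : IsCocart m) :
    IsCocart (m ≫ n) ↔ IsCocart n := by
  unfold IsCocart
  refine forall_congr' fun N => ?_
  have h : (fun φ : N ⟶ C.fib => (P.pull (m ≫ n).base).map φ ≫ (m ≫ n).fib) =
      (fun x => (P.compI m.base n.base).inv.app N ≫ x) ∘
      (fun ψ : (P.pull n.base).obj N ⟶ B.fib => (P.pull m.base).map ψ ≫ m.fib) ∘
      (fun φ : N ⟶ C.fib => (P.pull n.base).map φ ≫ n.fib) := by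
    funext φ
    dsimp only [Function.comp_apply]
    rw [comp_fib, Functor.map_comp, Category.assoc]
    have h1 := (P.compI m.base n.base).inv.naturality φ
    simp only [Functor.comp_map] at h1
    rw [← reassoc_of% h1]
    rfl
  have hb : Function.Bijective (fun x : (P.pull m.base).obj ((P.pull n.base).obj N) ⟶ A.fib =>
      (P.compI m.base n.base).inv.app N ≫ x) := by
    constructor
    · intro x y hxy
      exact (cancel_epi _).1 hxy
    · intro x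
      exact ⟨(P.compI m.base n.base).hom.app N ≫ x, by simp⟩
  rw [h]
  exact (Function.Bijective.of_comp_iff' hb _).trans (Function.Bijective.of_comp_iff' (hm _) _)

lemma IsCocart.comp {A B C : Tot P} {m : A ⟶ B} {n : B ⟶ C} (hm : IsCocart m) (hn : IsCocart n) :
    IsCocart (m ≫ n) := (isCocart_comp_iff hm).2 hn

lemma isCart_of_isIso {A B : Tot P} (m : A ⟶ B) [IsIso m] : IsCart m := by
  have h1 : IsCart (𝟙 B) := by
    unfold IsCart; rw [id_fib]; infer_instance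
  have h2 : IsCart (𝟙 A) := by
    unfold IsCart; rw [id_fib]; infer_instance
  have h3 : IsCart (m ≫ inv m) := by rw [IsIso.hom_inv_id]; exact h2
  have h4 : IsCart (inv m ≫ m) := by rw [IsIso.inv_hom_id]; exact h1
  unfold IsCart at *
  rw [comp_fib] at h3 h4
  -- `(inv m).fib` is split mono and split epi after applying equivalences
  have h5 : IsIso ((P.pull m.base).map (inv m).fib ≫ m.fib) :=
    IsIso.of_isIso_comp_left ((P.compI m.base (inv m).base).inv.app A.fib) _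
  have h6 : IsIso ((P.pull (inv m).base).map m.fib ≫ (inv m).fib) :=
    IsIso.of_isIso_comp_left ((P.compI (inv m).base m.base).inv.app B.fib) _
  -- the functor `pull m.base` is an equivalence with quasi-inverse `pull (inv m).base`
  have e1 : (inv m).base ≫ m.base = 𝟙 _ := by rw [← comp_base, IsIso.inv_hom_id]; rfl
  have e2 : m.base ≫ (inv m).base = 𝟙 _ := by rw [← comp_base, IsIso.hom_inv_id]; rfl
  have hmono : Mono ((P.pull (inv m).base).map m.fib) := by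
    have := mono_of_mono ((P.pull (inv m).base).map m.fib) (inv m).fib
    exact this
  have hepi : Epi m.fib := epi_of_epi ((P.pull m.base).map (inv m).fib) m.fib
  -- faithfulness of `pull (inv m).base`
  have hff : (P.pull (inv m).base).Faithful := by
    have : (P.pull (inv m).base ⋙ P.pull m.base).Faithful := by
      have i : P.pull (inv m).base ⋙ P.pull m.base ≅ 𝟭 _ :=
        P.compI m.base (inv m).base ≪≫ eqToIso (by rw [e2]) ≪≫ P.idI _
      exact Functor.Faithful.of_iso i.symm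
    exact Functor.Faithful.of_comp (P.pull (inv m).base) (P.pull m.base)
  have hmono' : Mono m.fib := (P.pull (inv m).base).mono_of_mono_map hmono
  have hs : IsSplitEpi m.fib := by
    refine ⟨⟨⟨inv ((P.pull m.base).map (inv m).fib ≫ m.fib) ≫ (P.pull m.base).map (inv m).fib, ?_⟩⟩⟩
    rw [Category.assoc, IsIso.inv_hom_id]
  exact isIso_of_mono_of_isSplitEpi m.fib

/-- The vertical arrow attached to a morphism in a fibre. -/
def ver {X : 𝒮} {K L : D X} (φ : K ⟶ L) : (⟨X, L⟩ : Tot P) ⟶ ⟨X, K⟩ :=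
  ⟨𝟙 X, (P.idI X).hom.app K ≫ φ⟩

@[simp] lemma ver_base {X : 𝒮} {K L : D X} (φ : K ⟶ L) : (ver (P := P) φ).base = 𝟙 X := rfl

lemma ver_id {X : 𝒮} (K : D X) : ver (P := P) (𝟙 K) = 𝟙 _ := by
  refine hom_ext rfl ?_
  simp [ver]

lemma isCart_ver_iff {X : 𝒮} {K L : D X} (φ : K ⟶ L) : IsCart (ver (P := P) φ) ↔ IsIso φ := by
  unfold IsCart ver
  constructor
  · intro h
    exact IsIso.of_isIso_comp_left ((P.idI X).hom.app K) φ
  · intro h
    dsimp only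
    infer_instance

/-- `ver φ ≫ m` -/
lemma ver_comp' {X : 𝒮} {K L : D X} (φ : K ⟶ L) {B : Tot P} (f : X ⟶ B.base)
    (x : (P.pull f).obj B.fib ⟶ K) :
    ver φ ≫ (⟨f, x⟩ : (⟨X, K⟩ : Tot P) ⟶ B) = (⟨f, x ≫ φ⟩ : (⟨X, L⟩ : Tot P) ⟶ B) := by
  refine hom_ext (Category.id_comp _) ?_
  rw [comp_fib]
  simp only [ver]
  have h := (P.idI X).hom.naturality x
  simp only [Functor.id_map] at h
  rw [reassoc_of% h, reassoc_of% (P.id_comp f B.fib)]

/-- `m ≫ ver φ` -/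
lemma comp_ver' {Y : 𝒮} {K L : D Y} (φ : K ⟶ L) {A : Tot P} (f : A.base ⟶ Y)
    (x : (P.pull f).obj L ⟶ A.fib) :
    (⟨f, x⟩ : A ⟶ (⟨Y, L⟩ : Tot P)) ≫ ver φ = (⟨f, (P.pull f).map φ ≫ x⟩ : A ⟶ (⟨Y, K⟩ : Tot P)) := by
  refine hom_ext (Category.comp_id _) ?_
  rw [comp_fib]
  simp only [ver, Functor.map_comp, Category.assoc]
  rw [reassoc_of% (P.comp_id f K)]

lemma ver_comp_ver {X : 𝒮} {K L M : D X} (φ : K ⟶ L) (ψ : L ⟶ M) :
    ver (P := P) ψ ≫ ver φ = ver (φ ≫ ψ) := by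
  refine (ver_comp' ψ (B := ⟨X, K⟩) (𝟙 X) ((P.idI X).hom.app K ≫ φ)).trans ?_
  rw [ver, Category.assoc]

lemma ver_injective {X : 𝒮} {K L : D X} {φ ψ : K ⟶ L} (h : ver (P := P) φ = ver ψ) : φ = ψ := by
  have h1 := fib_eq h
  simp only [ver, eqToHom_refl, Category.id_comp] at h1
  exact (cancel_epi _).1 h1

lemma exists_ver {X : 𝒮} {K L : D X} (m : (⟨X, L⟩ : Tot P) ⟶ ⟨X, K⟩) (h : m.base = 𝟙 X) :
    ∃ φ : K ⟶ L, ver φ = m := by
  obtain ⟨b, x⟩ := m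
  obtain rfl : b = 𝟙 X := h
  exact ⟨(P.idI X).inv.app K ≫ x, by simp [ver]⟩

lemma isIso_ver {X : 𝒮} {K L : D X} (φ : K ⟶ L) [IsIso φ] : IsIso (ver (P := P) φ) :=
  ⟨ver (inv φ), by rw [ver_comp_ver, IsIso.inv_hom_id, ver_id], by
    rw [ver_comp_ver, IsIso.hom_inv_id, ver_id]⟩

lemma isCocart_of_isIso {A B : Tot P} (m : A ⟶ B) [IsIso m] : IsCocart m := by
  intro N
  constructor
  · intro φ ψ h
    apply ver_injective (P := P)
    have h1 : m ≫ ver φ = m ≫ ver ψ := by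
      obtain ⟨mb, mf⟩ := m
      obtain ⟨Bb, Bf⟩ := B
      rw [comp_ver', comp_ver']
      exact hom_ext rfl (by simpa using h)
    exact (cancel_epi m).1 h1
  · intro x
    have e : (inv m).base ≫ m.base = 𝟙 _ := by rw [← comp_base, IsIso.inv_hom_id]; rfl
    obtain ⟨φ, hφ⟩ := exists_ver (P := P) (inv m ≫ (⟨m.base, x⟩ : A ⟶ (⟨B.base, N⟩ : Tot P))) (by
      rw [comp_base]; exact e)
    refine ⟨φ, ?_⟩
    have h1 : m ≫ ver φ = (⟨m.base, x⟩ : A ⟶ (⟨B.base, N⟩ : Tot P)) := by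
      rw [hφ, IsIso.hom_inv_id_assoc]
    obtain ⟨mb, mf⟩ := m
    obtain ⟨Bb, Bf⟩ := B
    rw [comp_ver'] at h1
    have h2 := fib_eq h1
    simpa using h2

/-- The cartesian lift of `f` at `B`. -/
def cartLift {X : 𝒮} (B : Tot P) (f : X ⟶ B.base) : (⟨X, (P.pull f).obj B.fib⟩ : Tot P) ⟶ B :=
  ⟨f, 𝟙 _⟩

@[simp] lemma cartLift_base {X : 𝒮} (B : Tot P) (f : X ⟶ B.base) : (cartLift B f).base = f := rfl

lemma isCart_cartLift {X : 𝒮} (B : Tot P) (f : X ⟶ B.base) : IsCart (cartLift B f) := by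
  unfold IsCart cartLift
  dsimp only
  infer_instance

/-- The cocartesian arrow attached to a right adjoint of `f^*`. -/
def cocartLift {X Y : 𝒮} (f : X ⟶ Y) {R : D X ⥤ D Y} (adj : P.pull f ⊣ R) (K : D X) :
    (⟨X, K⟩ : Tot P) ⟶ ⟨Y, R.obj K⟩ := ⟨f, adj.counit.app K⟩

@[simp] lemma cocartLift_base {X Y : 𝒮} (f : X ⟶ Y) {R : D X ⥤ D Y} (adj : P.pull f ⊣ R) (K : D X) :
    (cocartLift f adj K).base = f := rfl

lemma isCocart_cocartLift {X Y : 𝒮} (f : X ⟶ Y) {R : D X ⥤ D Y} (adj : P.pull f ⊣ R) (K : D X) :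
    IsCocart (cocartLift f adj K) := by
  intro N
  have h : (fun φ : N ⟶ R.obj K => (P.pull f).map φ ≫ adj.counit.app K) =
      (adj.homEquiv N K).symm := by
    funext φ
    rw [Adjunction.homEquiv_counit]
  change Function.Bijective (fun φ : N ⟶ R.obj K => (P.pull f).map φ ≫ adj.counit.app K)
  rw [h]
  exact Equiv.bijective _

/-- Two cocartesian arrows over the same morphism differ by a vertical isomorphism. -/
lemma IsCocart.exists_iso {A : Tot P} {Y : 𝒮} {L L₁ : D Y} {m : A ⟶ (⟨Y, L⟩ : Tot P)}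
    {m₁ : A ⟶ (⟨Y, L₁⟩ : Tot P)} (hm : IsCocart m) (hm₁ : IsCocart m₁) (e : m.base = m₁.base) :
    ∃ i : L₁ ≅ L, m ≫ ver i.hom = m₁ := by
  obtain ⟨s, hs, hs'⟩ := hm.desc m₁ (𝟙 Y) (by rw [Category.comp_id]; exact e)
  obtain ⟨t, ht, ht'⟩ := hm₁.desc m (𝟙 Y) (by rw [Category.comp_id]; exact e.symm)
  obtain ⟨σ, rfl⟩ := exists_ver s hs
  obtain ⟨τ, rfl⟩ := exists_ver t ht
  have h1 : τ ≫ σ = 𝟙 _ := by
    refine ver_injective (P := P) (hm.uniq (by simp) ?_)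
    rw [← ver_comp_ver, reassoc_of% hs', ht', ver_id, Category.comp_id]
  have h2 : σ ≫ τ = 𝟙 _ := by
    refine ver_injective (P := P) (hm₁.uniq (by simp) ?_)
    rw [← ver_comp_ver, reassoc_of% ht', hs', ver_id, Category.comp_id]
  exact ⟨⟨σ, τ, h2, h1⟩, hs'⟩

lemma IsCart.exists_iso {A : Tot P} {X : 𝒮} {K K₁ : D X} {m : (⟨X, K⟩ : Tot P) ⟶ A}
    {m₁ : (⟨X, K₁⟩ : Tot P) ⟶ A} (hm : IsCart m) (hm₁ : IsCart m₁) (e : m.base = m₁.base) :
    ∃ i : K ≅ K₁, ver i.hom ≫ m = m₁ := by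
  obtain ⟨s, hs, hs'⟩ := hm.lift m₁ (𝟙 X) (by rw [Category.id_comp]; exact e)
  obtain ⟨t, ht, ht'⟩ := hm₁.lift m (𝟙 X) (by rw [Category.id_comp]; exact e.symm)
  obtain ⟨σ, rfl⟩ := exists_ver s hs
  obtain ⟨τ, rfl⟩ := exists_ver t ht
  have h1 : σ ≫ τ = 𝟙 _ := by
    refine ver_injective (P := P) (hm.uniq (by simp) ?_)
    rw [← ver_comp_ver, Category.assoc, hs', ht', ver_id, Category.id_comp]
  have h2 : τ ≫ σ = 𝟙 _ := by
    refine ver_injective (P := P) (hm₁.uniq (by simp) ?_)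
    rw [← ver_comp_ver, Category.assoc, ht', hs', ver_id, Category.id_comp]
  exact ⟨⟨σ, τ, h1, h2⟩, hs'⟩

/-! ### Base change -/

lemma exists_cocart (hP : ∀ {X Y : 𝒮} (f : X ⟶ Y), (P.pull f).IsLeftAdjoint) (A : Tot P) {S : 𝒮}
    (f : A.base ⟶ S) : ∃ (L : D S) (m : A ⟶ (⟨S, L⟩ : Tot P)), m.base = f ∧ IsCocart m := by
  have := hP f
  exact ⟨_, cocartLift f (Adjunction.ofIsLeftAdjoint (P.pull f)) A.fib, rfl,
    isCocart_cocartLift f (Adjunction.ofIsLeftAdjoint (P.pull f)) A.fib⟩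

/-- Base change holds for `θ : A' ⟶ A` (over `g'`), along `f` and `g`: the induced arrow `f'_* A' ⟶ f_* A` over `g`
is cartesian. -/
def BC {A A' : Tot P} (θ : A' ⟶ A) {S S' : 𝒮} (f : A.base ⟶ S) (f' : A'.base ⟶ S') (g : S' ⟶ S) :
    Prop :=
  ∀ (L : D S) (L' : D S') (m : A ⟶ (⟨S, L⟩ : Tot P)) (m' : A' ⟶ (⟨S', L'⟩ : Tot P))
    (s : (⟨S', L'⟩ : Tot P) ⟶ (⟨S, L⟩ : Tot P)),
    m.base = f → m'.base = f' → s.base = g → IsCocart m → IsCocart m' → m' ≫ s = θ ≫ m → IsCart s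

lemma BC.of_exists {A A' : Tot P} (θ : A' ⟶ A) {S S' : 𝒮} {f : A.base ⟶ S} {f' : A'.base ⟶ S'}
    {g : S' ⟶ S} {L : D S} {L' : D S'} (m : A ⟶ (⟨S, L⟩ : Tot P)) (m' : A' ⟶ (⟨S', L'⟩ : Tot P))
    (s : (⟨S', L'⟩ : Tot P) ⟶ (⟨S, L⟩ : Tot P)) (hf : m.base = f) (hf' : m'.base = f')
    (hg : s.base = g) (hm : IsCocart m) (hm' : IsCocart m') (h : m' ≫ s = θ ≫ m) (hs : IsCart s) :
    BC θ f f' g := by
  intro L₁ L₁' m₁ m₁' s₁ hf₁ hf₁' hg₁ hm₁ hm₁' h₁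
  obtain ⟨i, hi⟩ := hm.exists_iso hm₁ (hf.trans hf₁.symm)
  obtain ⟨i', hi'⟩ := hm'.exists_iso hm₁' (hf'.trans hf₁'.symm)
  have e : ver i'.hom ≫ s₁ = s ≫ ver i.hom := by
    refine hm'.uniq ?_ ?_
    · simp [hg, hg₁]
    · rw [reassoc_of% hi', h₁, reassoc_of% h, hi]
  have h1 : IsCart (s ≫ ver i.hom) := hs.comp ((isCart_ver_iff _).2 inferInstance)
  rw [← e] at h1
  have h2 : IsCart (ver (P := P) i'.inv) := (isCart_ver_iff _).2 inferInstance
  have h3 : ver (P := P) i'.inv ≫ ver i'.hom ≫ s₁ = s₁ := by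
    rw [← Category.assoc, ver_comp_ver, Iso.hom_inv_id, ver_id, Category.id_comp]
  rw [← h3]
  exact h2.comp h1

/-- Transport of base change along isomorphisms. -/
lemma BC.congr {A A' A₁ A₁' : Tot P} {θ : A' ⟶ A} {θ₁ : A₁' ⟶ A₁} (a : A₁ ⟶ A) (a' : A₁' ⟶ A')
    [IsIso a] [IsIso a'] (e : a' ≫ θ = θ₁ ≫ a) {S S' : 𝒮} {f : A.base ⟶ S} {f' : A'.base ⟶ S'}
    {g : S' ⟶ S} (h : BC θ f f' g) : BC θ₁ (a.base ≫ f) (a'.base ≫ f') g := by
  intro L L' m m' s hf hf' hg hm hm' hs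
  refine h L L' (inv a ≫ m) (inv a' ≫ m') s ?_ ?_ hg ((isCocart_of_isIso _).comp hm)
    ((isCocart_of_isIso _).comp hm') ?_
  · rw [comp_base, hf, ← Category.assoc, ← comp_base, IsIso.inv_hom_id]
    simp
  · rw [comp_base, hf', ← Category.assoc, ← comp_base, IsIso.inv_hom_id]
    simp
  · rw [Category.assoc, hs, IsIso.inv_comp_eq, reassoc_of% e, IsIso.hom_inv_id_assoc]

lemma BC.congr_base {A A' : Tot P} {θ : A' ⟶ A} {S S' : 𝒮} {f f₁ : A.base ⟶ S}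
    {f' f₁' : A'.base ⟶ S'} {g g₁ : S' ⟶ S} (h : BC θ f f' g) (e : f = f₁) (e' : f' = f₁')
    (eg : g = g₁) : BC θ f₁ f₁' g₁ := by
  subst e e' eg; exact h

/-- Change of fibre representatives, in the same fibres. -/
lemma BC.congr_fib {X X' : 𝒮} {K K₁ : D X} {K' K₁' : D X'} {θ : (⟨X', K'⟩ : Tot P) ⟶ ⟨X, K⟩}
    {θ₁ : (⟨X', K₁'⟩ : Tot P) ⟶ ⟨X, K₁⟩} (i : K ≅ K₁) (i' : K' ≅ K₁')
    (e : ver i'.hom ≫ θ = θ₁ ≫ ver i.hom) {S S' : 𝒮} {f : X ⟶ S} {f' : X' ⟶ S'}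
    {g : S' ⟶ S} (h : BC θ f f' g) : BC θ₁ f f' g := by
  have := isIso_ver (P := P) i.hom
  have := isIso_ver (P := P) i'.hom
  exact (BC.congr (ver i.hom) (ver i'.hom) e h).congr_base (by simp) (by simp) rfl

/-- Base change for a composition with a cocartesian arrow. -/
lemma BC.comp_iff {A A' : Tot P} {X₁ X₁' : 𝒮} {K₁ : D X₁} {K₁' : D X₁'} {θ : A' ⟶ A}
    {θ₁ : (⟨X₁', K₁'⟩ : Tot P) ⟶ ⟨X₁, K₁⟩}
    (n : A ⟶ ⟨X₁, K₁⟩) (n' : A' ⟶ ⟨X₁', K₁'⟩) (hn : IsCocart n) (hn' : IsCocart n')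
    (e : n' ≫ θ₁ = θ ≫ n) (hP : ∀ {X Y : 𝒮} (f : X ⟶ Y), (P.pull f).IsLeftAdjoint)
    {S S' : 𝒮} {f : X₁ ⟶ S} {f' : X₁' ⟶ S'} {g : S' ⟶ S} (hg : f' ≫ g = θ₁.base ≫ f) :
    BC θ₁ f f' g ↔ BC θ (n.base ≫ f) (n'.base ≫ f') g := by
  obtain ⟨L, m, hf, hm⟩ := exists_cocart hP (⟨X₁, K₁⟩ : Tot P) f
  obtain ⟨L', m', hf', hm'⟩ := exists_cocart hP (⟨X₁', K₁'⟩ : Tot P) f'
  obtain ⟨s, hs, hs'⟩ := hm'.desc (θ₁ ≫ m) g (by rw [hf', comp_base, hf, hg])
  have e1 : (n' ≫ m') ≫ s = θ ≫ n ≫ m := by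
    rw [Category.assoc, hs', reassoc_of% e]
  constructor
  · intro h
    refine BC.of_exists θ (n ≫ m) (n' ≫ m') s (by rw [comp_base, hf]) (by rw [comp_base, hf']) hs
      (hn.comp hm) (hn'.comp hm') e1 ?_
    exact h L L' m m' s hf hf' hs hm hm' hs'
  · intro h
    refine BC.of_exists θ₁ m m' s hf hf' hs hm hm' hs' ?_
    exact h L L' (n ≫ m) (n' ≫ m') s (by rw [comp_base, hf]) (by rw [comp_base, hf']) hs
      (hn.comp hm) (hn'.comp hm') e1

/-- Restriction of a cocartesian arrow, when base change holds for the restriction. -/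
lemma IsCocart.restrict {A B A₀ B₀ : Tot P} {m : A ⟶ B} (hm : IsCocart m) {a : A₀ ⟶ A}
    {b : B₀ ⟶ B} (hb : IsCart b) {m₀ : A₀ ⟶ B₀} (e : m₀ ≫ b = a ≫ m)
    (hP : ∀ {X Y : 𝒮} (f : X ⟶ Y), (P.pull f).IsLeftAdjoint)
    (h : BC a m.base m₀.base b.base) : IsCocart m₀ := by
  obtain ⟨L, m₁, hf, hm₁⟩ := exists_cocart hP A₀ m₀.base
  have e0 := congrArg Hom.base e
  obtain ⟨s, hs, hs'⟩ := hm₁.desc (a ≫ m) b.base (by rw [hf, ← comp_base, e])
  have h1 : IsCart s := h B.fib L m m₁ s rfl hf hs hm hm₁ hs'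
  obtain ⟨i, hi⟩ := h1.exists_iso (m₁ := b) hb hs
  have h2 : m₀ ≫ ver i.hom = m₁ := by
    refine h1.uniq ?_ ?_
    · rw [comp_base, hf]; simp
    · rw [Category.assoc, hi, hs', e]
  have := isIso_ver (P := P) i.inv
  have h3 : m₀ = m₁ ≫ ver i.inv := by
    rw [← h2, Category.assoc, ver_comp_ver, Iso.inv_hom_id, ver_id]
    exact (Category.comp_id _).symm
  rw [h3]
  exact hm₁.comp (isCocart_of_isIso _)

/-- Localisation of base change. -/
lemma isIso_pull_of_BC {A A' : Tot P} {S S' : 𝒮} {L : D S} {L' : D S'} {θ : A' ⟶ A}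
    {m : A ⟶ (⟨S, L⟩ : Tot P)} {m' : A' ⟶ (⟨S', L'⟩ : Tot P)} (hm : IsCocart m) (hm' : IsCocart m')
    {s : (⟨S', L'⟩ : Tot P) ⟶ (⟨S, L⟩ : Tot P)} (hs : m' ≫ s = θ ≫ m)
    (hP : ∀ {X Y : 𝒮} (f : X ⟶ Y), (P.pull f).IsLeftAdjoint)
    {S₀ S₀' : 𝒮} {i : S₀ ⟶ S} {i' : S₀' ⟶ S'} {g₀ : S₀' ⟶ S₀} (hg₀ : g₀ ≫ i = i' ≫ s.base)
    {A₀ A₀' : Tot P} {a : A₀ ⟶ A} {a' : A₀' ⟶ A'} {θ₀ : A₀' ⟶ A₀} (hθ₀ : θ₀ ≫ a = a' ≫ θ)
    {f₀ : A₀.base ⟶ S₀} {f₀' : A₀'.base ⟶ S₀'} (hf₀ : f₀ ≫ i = a.base ≫ m.base)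
    (hf₀' : f₀' ≫ i' = a'.base ≫ m'.base) (hg₀' : f₀' ≫ g₀ = θ₀.base ≫ f₀)
    (hC : BC a m.base f₀ i) (hC' : BC a' m'.base f₀' i') (H : BC θ₀ f₀ f₀' g₀) :
    IsIso ((P.pull i').map s.fib) := by
  obtain ⟨L₀, m₀, hm₀f, hm₀⟩ := exists_cocart hP A₀ f₀
  obtain ⟨L₀', m₀', hm₀f', hm₀'⟩ := exists_cocart hP A₀' f₀'
  obtain ⟨b, hb, hb'⟩ := hm₀.desc (a ≫ m) i (by rw [hm₀f, hf₀]; rfl)
  obtain ⟨b₁, hb₁, hb₁'⟩ := hm₀'.desc (a' ≫ m') i' (by rw [hm₀f', hf₀']; rfl)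
  obtain ⟨s₀, hs₀, hs₀'⟩ := hm₀'.desc (θ₀ ≫ m₀) g₀ (by rw [hm₀f', hg₀', comp_base, hm₀f])
  have c1 : IsCart b := hC L L₀ m m₀ b rfl hm₀f hb hm hm₀ hb'
  have c2 : IsCart b₁ := hC' L' L₀' m' m₀' b₁ rfl hm₀f' hb₁ hm' hm₀' hb₁'
  have c3 : IsCart s₀ := H L₀ L₀' m₀ m₀' s₀ hm₀f hm₀f' hs₀ hm₀ hm₀' hs₀'
  have e : s₀ ≫ b = b₁ ≫ s := by
    refine hm₀'.uniq ?_ ?_
    · rw [comp_base, comp_base, hs₀, hb, hb₁, hg₀]
    · rw [reassoc_of% hs₀', hb', reassoc_of% hθ₀, ← hs, reassoc_of% hb₁']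
  have c4 : IsCart (b₁ ≫ s) := by rw [← e]; exact c3.comp c1
  unfold IsCart at c4 c2
  rw [comp_fib] at c4
  subst hb₁
  have c5 : IsIso ((P.pull b₁.base).map s.fib ≫ b₁.fib) :=
    IsIso.of_isIso_comp_left ((P.compI b₁.base s.base).inv.app L) _
  exact IsIso.of_isIso_comp_right _ b₁.fib

end Tot

end Defs

/-! ### Morphisms of pseudofunctors -/

section Map

variable {𝒮 : Type u₁} [Category.{v₁} 𝒮] {C : 𝒮 → Type u₃} [∀ X, Category.{v₃} (C X)]
  {D : 𝒮 → Type u₂} [∀ X, Category.{v₂} (D X)]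

/-- A lax morphism of contravariant pseudofunctors. -/
structure PullMap (P : PullData C) (P' : PullData D) where
  Q (X : 𝒮) : C X ⥤ D X
  lam {X Y : 𝒮} (f : X ⟶ Y) : Q Y ⋙ P'.pull f ⟶ P.pull f ⋙ Q X
  lam_id (X : 𝒮) (K : C X) : (lam (𝟙 X)).app K ≫ (Q X).map ((P.idI X).hom.app K) =
    (P'.idI X).hom.app ((Q X).obj K)
  lam_comp {X Y Z : 𝒮} (f : X ⟶ Y) (g : Y ⟶ Z) (K : C Z) :
    (P'.compI f g).inv.app ((Q Z).obj K) ≫ (P'.pull f).map ((lam g).app K) ≫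
      (lam f).app ((P.pull g).obj K) = (lam (f ≫ g)).app K ≫ (Q X).map ((P.compI f g).inv.app K)

variable {P : PullData C} {P' : PullData D} (Φ : PullMap P P')

namespace PullMap

/-- The functor induced on total categories. -/
def tot : Tot P ⥤ Tot P' where
  obj A := ⟨A.base, (Φ.Q A.base).obj A.fib⟩
  map {A B} m := ⟨m.base, (Φ.lam m.base).app B.fib ≫ (Φ.Q A.base).map m.fib⟩
  map_id A := by
    refine Tot.hom_ext rfl ?_
    simp only [Tot.id_base, Tot.id_fib, eqToHom_refl, Category.id_comp]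
    exact Φ.lam_id _ _
  map_comp {A B E} m n := by
    refine Tot.hom_ext rfl ?_
    simp only [eqToHom_refl, Category.id_comp]
    rw [Tot.comp_fib]
    have h1 := (Φ.lam m.base).naturality n.fib
    simp only [Functor.comp_map] at h1
    rw [Tot.comp_fib, Functor.map_comp, Functor.map_comp, Functor.map_comp, Category.assoc,
      reassoc_of% h1]
    erw [reassoc_of% (Φ.lam_comp m.base n.base E.fib)]
    rfl

@[simp] lemma tot_obj_base (A : Tot P) : (Φ.tot.obj A).base = A.base := rfl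
@[simp] lemma tot_obj_fib (A : Tot P) : (Φ.tot.obj A).fib = (Φ.Q _).obj A.fib := rfl
@[simp] lemma tot_map_base {A B : Tot P} (m : A ⟶ B) : (Φ.tot.map m).base = m.base := rfl
@[simp] lemma tot_map_fib {A B : Tot P} (m : A ⟶ B) : (Φ.tot.map m).fib =
    (Φ.lam m.base).app B.fib ≫ (Φ.Q A.base).map m.fib := rfl

lemma tot_map_ver {X : 𝒮} {K L : C X} (φ : K ⟶ L) :
    Φ.tot.map (Tot.ver φ) = Tot.ver ((Φ.Q X).map φ) := by
  refine Tot.hom_ext rfl ?_
  simp only [Tot.ver, tot_map_fib, Functor.map_comp]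
  rw [reassoc_of% (Φ.lam_id X K)]
  exact (Category.id_comp _).symm

lemma isCart_map {A B : Tot P} {m : A ⟶ B} (hm : Tot.IsCart m)
    (h : IsIso ((Φ.lam m.base).app B.fib)) : Tot.IsCart (Φ.tot.map m) := by
  have : IsIso m.fib := hm
  unfold Tot.IsCart
  rw [tot_map_fib]
  exact IsIso.comp_isIso' h (Functor.map_isIso _ _)

end PullMap

end Map

end Groth.Agent.PerfB.BCTot
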