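import Groth.Agent.PerfB.BCTot
import Mathlib.CategoryTheory.Triangulated.Adjunction

/-!
# Formal base change, III: triangulated structure and two-out-of-three
-/

set_option autoImplicit false

universe v₁ u₁ v₂ u₂ v₃ u₃

open CategoryTheory CategoryTheory.Limits Pretriangulated

namespace Groth.Agent.PerfB.BCTri

open Groth.Agent.PerfB.BCTot

variable {𝒮 : Type u₁} [Category.{v₁} 𝒮]
  {D : 𝒮 → Type u₂} [∀ X, Category.{v₂} (D X)] [∀ X, Preadditive (D X)] [∀ X, HasZeroObject (D X)]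
  [∀ X, HasShift (D X) ℤ] [∀ (X : 𝒮) (n : ℤ), (shiftFunctor (D X) n).Additive]
  [∀ X, Pretriangulated (D X)]

/-- Triangulated structure on a contravariant pseudofunctor. -/
class TriData (P : PullData D) where
  commShift {X Y : 𝒮} (f : X ⟶ Y) : (P.pull f).CommShift ℤ
  isTriangulated {X Y : 𝒮} (f : X ⟶ Y) : (P.pull f).IsTriangulated
  comp_commShift {X Y Z : 𝒮} (f : X ⟶ Y) (g : Y ⟶ Z) : NatTrans.CommShift (P.compI f g).hom ℤ
  isLeftAdjoint {X Y : 𝒮} (f : X ⟶ Y) : (P.pull f).IsLeftAdjoint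

attribute [instance_reducible] TriData.commShift
attribute [instance] TriData.commShift TriData.isTriangulated TriData.comp_commShift
  TriData.isLeftAdjoint

variable (P : PullData D) [TriData P]

/-- The right adjoint of `f^*`. -/
noncomputable def R {X Y : 𝒮} (f : X ⟶ Y) : D X ⥤ D Y := (P.pull f).rightAdjoint

/-- The adjunction. -/
noncomputable def adj {X Y : 𝒮} (f : X ⟶ Y) : P.pull f ⊣ R P f :=
  Adjunction.ofIsLeftAdjoint (P.pull f)

noncomputable instance commShiftR {X Y : 𝒮} (f : X ⟶ Y) : (R P f).CommShift ℤ :=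
  (adj P f).rightAdjointCommShift ℤ

instance adj_commShift {X Y : 𝒮} (f : X ⟶ Y) : (adj P f).CommShift ℤ :=
  (adj P f).commShift_of_leftAdjoint ℤ

instance isTriangulatedR {X Y : 𝒮} (f : X ⟶ Y) : (R P f).IsTriangulated :=
  (adj P f).isTriangulated_rightAdjoint

omit [∀ X, Preadditive (D X)] [∀ X, HasZeroObject (D X)]
  [∀ X, HasShift (D X) ℤ] [∀ (X : 𝒮) (n : ℤ), (shiftFunctor (D X) n).Additive]
  [∀ X, Pretriangulated (D X)] [TriData P] in
/-- The exchange isomorphism `f'^* g^* ≅ g'^* f^*` of a commutative square. -/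
noncomputable def exch {X S X' S' : 𝒮} {f : X ⟶ S} {g : S' ⟶ S} {g' : X' ⟶ X} {f' : X' ⟶ S'}
    (e : g' ≫ f = f' ≫ g) : P.pull g ⋙ P.pull f' ⟶ P.pull f ⋙ P.pull g' :=
  (P.compI f' g).hom ≫ eqToHom (by rw [e]) ≫ (P.compI g' f).inv

instance eqToHom_commShift {X Y : 𝒮} {f g : X ⟶ Y} (e : f = g) :
    NatTrans.CommShift (eqToHom (congrArg P.pull e)) ℤ := by
  subst e
  exact inferInstanceAs (NatTrans.CommShift (𝟙 _) ℤ)

section

variable {X S X' S' : 𝒮} {f : X ⟶ S} {g : S' ⟶ S} {g' : X' ⟶ X} {f' : X' ⟶ S'}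
    (e : g' ≫ f = f' ≫ g)

instance exch_commShift : NatTrans.CommShift (exch P e) ℤ := by
  unfold exch
  have h3 := eqToHom_commShift P (f := f' ≫ g) (g := g' ≫ f) e.symm
  infer_instance

/-- The base change transformation `g^* f_* ⟶ f'_* g'^*`. -/
noncomputable def bcT : R P f ⋙ P.pull g ⟶ P.pull g' ⋙ R P f' :=
  (Functor.rightUnitor _).inv ≫ Functor.whiskerLeft (R P f ⋙ P.pull g) (adj P f').unit ≫
    (Functor.associator (R P f) (P.pull g) (P.pull f' ⋙ R P f')).hom ≫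
    Functor.whiskerLeft (R P f) ((Functor.associator (P.pull g) (P.pull f') (R P f')).inv ≫
      Functor.whiskerRight (exch P e) (R P f') ≫
        (Functor.associator (P.pull f) (P.pull g') (R P f')).hom) ≫
    (Functor.associator (R P f) (P.pull f) (P.pull g' ⋙ R P f')).inv ≫
    Functor.whiskerRight (adj P f).counit (P.pull g' ⋙ R P f') ≫ (Functor.leftUnitor _).hom

lemma bcT_app (K : D X) : (bcT P e).app K =
    (adj P f').unit.app ((P.pull g).obj ((R P f).obj K)) ≫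
      (R P f').map ((exch P e).app ((R P f).obj K)) ≫
      (R P f').map ((P.pull g').map ((adj P f).counit.app K)) := by
  simp [bcT]

instance bcT_commShift : NatTrans.CommShift (bcT P e) ℤ := by
  unfold bcT
  infer_instance

lemma bcT_comp_counit (K : D X) : (P.pull f').map ((bcT P e).app K) ≫
    (adj P f').counit.app ((P.pull g').obj K) =
      (exch P e).app ((R P f).obj K) ≫ (P.pull g').map ((adj P f).counit.app K) := by
  have h1 := (adj P f').counit.naturality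
    ((exch P e).app ((R P f).obj K) ≫ (P.pull g').map ((adj P f).counit.app K))
  have h2 : (P.pull f').map ((bcT P e).app K) =
      (P.pull f').map ((adj P f').unit.app ((P.pull g).obj ((R P f).obj K))) ≫
        (R P f' ⋙ P.pull f').map ((exch P e).app ((R P f).obj K) ≫
          (P.pull g').map ((adj P f).counit.app K)) := by
    rw [bcT_app]
    simp
  rw [h2, Category.assoc]
  refine (congrArg (fun t =>
    (P.pull f').map ((adj P f').unit.app ((P.pull g).obj ((R P f).obj K))) ≫ t) h1).trans ?_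
  simp

/-- The arrow of base change in the total category. -/
lemma cocart_comp_bcT {K : D X} {K' : D X'} (φ : (P.pull g').obj K ⟶ K') :
    Tot.cocartLift f' (adj P f') K' ≫
      (⟨g, (bcT P e).app K ≫ (R P f').map φ⟩ : (⟨S', (R P f').obj K'⟩ : Tot P) ⟶ ⟨S, (R P f).obj K⟩) =
    (⟨g', φ⟩ : (⟨X', K'⟩ : Tot P) ⟶ ⟨X, K⟩) ≫ Tot.cocartLift f (adj P f) K := by
  refine Tot.hom_ext e.symm ?_
  rw [Tot.comp_fib, Tot.comp_fib]
  simp only [Tot.cocartLift, Functor.map_comp, Category.assoc]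
  have h1 := (adj P f').counit.naturality φ
  simp only [Functor.comp_map, Functor.id_map, Functor.comp_obj] at h1
  rw [h1, reassoc_of% (bcT_comp_counit P e K)]
  simp [exch, eqToHom_app]

/-- Base change in terms of the base change transformation. -/
lemma bc_iff {K : D X} {K' : D X'} (φ : (P.pull g').obj K ⟶ K') :
    Tot.BC (⟨g', φ⟩ : (⟨X', K'⟩ : Tot P) ⟶ ⟨X, K⟩) f f' g ↔
      IsIso ((bcT P e).app K ≫ (R P f').map φ) := by
  constructor
  · intro h
    exact h _ _ (Tot.cocartLift f (adj P f) K) (Tot.cocartLift f' (adj P f') K')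
      ⟨g, (bcT P e).app K ≫ (R P f').map φ⟩ rfl rfl rfl (Tot.isCocart_cocartLift _ _ _)
      (Tot.isCocart_cocartLift _ _ _) (cocart_comp_bcT P e φ)
  · intro h
    exact Tot.BC.of_exists _ (Tot.cocartLift f (adj P f) K) (Tot.cocartLift f' (adj P f') K')
      ⟨g, (bcT P e).app K ≫ (R P f').map φ⟩ rfl rfl rfl (Tot.isCocart_cocartLift _ _ _)
      (Tot.isCocart_cocartLift _ _ _) (cocart_comp_bcT P e φ) h

end

section TwoOfThree

omit [∀ X, Preadditive (D X)] [∀ X, HasZeroObject (D X)] [∀ (X : 𝒮) (n : ℤ), (shiftFunctor (D X) n).Additive]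
  [∀ X, Pretriangulated (D X)] [TriData P] in
set_option backward.defeqAttrib.useBackward true in
set_option backward.isDefEq.respectTransparency false in
/-- The morphism of triangles induced by a natural transformation commuting with the shift. -/
def natTri {X Y : 𝒮} {F G : D X ⥤ D Y} [F.CommShift ℤ] [G.CommShift ℤ] (α : F ⟶ G)
    [NatTrans.CommShift α ℤ] (T : Triangle (D X)) : F.mapTriangle.obj T ⟶ G.mapTriangle.obj T :=
  Triangle.homMk _ _ (α.app T.obj₁) (α.app T.obj₂) (α.app T.obj₃) (by simp) (by simp) (by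
    dsimp
    simp only [Category.assoc, NatTrans.shift_app_comm α (1 : ℤ) T.obj₁, NatTrans.naturality_assoc])

variable {X S X' S' : 𝒮} {f : X ⟶ S} {g : S' ⟶ S} {g' : X' ⟶ X} {f' : X' ⟶ S'}
    (e : g' ≫ f = f' ≫ g)
variable {T : Triangle (D X)} (hT : T ∈ distTriang (D X)) {T' : Triangle (D X')}
  (hT' : T' ∈ distTriang (D X')) (Θ : (P.pull g').mapTriangle.obj T ⟶ T')

/-- The morphism of triangles induced by base change. -/
noncomputable def bcTri : (R P f ⋙ P.pull g).mapTriangle.obj T ⟶ (R P f').mapTriangle.obj T' :=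
  natTri (bcT P e) T ≫ (Functor.mapTriangleCompIso (P.pull g') (R P f')).hom.app T ≫
    (R P f').mapTriangle.map Θ

lemma bcTri_hom₁ : (bcTri P e Θ).hom₁ = (bcT P e).app T.obj₁ ≫ (R P f').map Θ.hom₁ := by
  change (bcT P e).app T.obj₁ ≫ 𝟙 _ ≫ (R P f').map Θ.hom₁ = _
  rw [Category.id_comp]

lemma bcTri_hom₂ : (bcTri P e Θ).hom₂ = (bcT P e).app T.obj₂ ≫ (R P f').map Θ.hom₂ := by
  change (bcT P e).app T.obj₂ ≫ 𝟙 _ ≫ (R P f').map Θ.hom₂ = _
  rw [Category.id_comp]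

lemma bcTri_hom₃ : (bcTri P e Θ).hom₃ = (bcT P e).app T.obj₃ ≫ (R P f').map Θ.hom₃ := by
  change (bcT P e).app T.obj₃ ≫ 𝟙 _ ≫ (R P f').map Θ.hom₃ = _
  rw [Category.id_comp]

include hT hT' e

lemma bc₁ (h₂ : Tot.BC (⟨g', Θ.hom₂⟩ : (⟨X', T'.obj₂⟩ : Tot P) ⟶ ⟨X, T.obj₂⟩) f f' g)
    (h₃ : Tot.BC (⟨g', Θ.hom₃⟩ : (⟨X', T'.obj₃⟩ : Tot P) ⟶ ⟨X, T.obj₃⟩) f f' g) :
    Tot.BC (⟨g', Θ.hom₁⟩ : (⟨X', T'.obj₁⟩ : Tot P) ⟶ ⟨X, T.obj₁⟩) f f' g := by
  rw [bc_iff P e] at h₂ h₃ ⊢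
  have h := isIso₁_of_isIso₂₃ (bcTri P e Θ) (Functor.map_distinguished _ _ hT)
    (Functor.map_distinguished _ _ hT') (by rw [bcTri_hom₂]; exact h₂) (by rw [bcTri_hom₃]; exact h₃)
  rw [bcTri_hom₁] at h
  exact h

lemma bc₂ (h₁ : Tot.BC (⟨g', Θ.hom₁⟩ : (⟨X', T'.obj₁⟩ : Tot P) ⟶ ⟨X, T.obj₁⟩) f f' g)
    (h₃ : Tot.BC (⟨g', Θ.hom₃⟩ : (⟨X', T'.obj₃⟩ : Tot P) ⟶ ⟨X, T.obj₃⟩) f f' g) :
    Tot.BC (⟨g', Θ.hom₂⟩ : (⟨X', T'.obj₂⟩ : Tot P) ⟶ ⟨X, T.obj₂⟩) f f' g := by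
  rw [bc_iff P e] at h₁ h₃ ⊢
  have h := isIso₂_of_isIso₁₃ (bcTri P e Θ) (Functor.map_distinguished _ _ hT)
    (Functor.map_distinguished _ _ hT') (by rw [bcTri_hom₁]; exact h₁) (by rw [bcTri_hom₃]; exact h₃)
  rw [bcTri_hom₂] at h
  exact h

lemma bc₃ (h₁ : Tot.BC (⟨g', Θ.hom₁⟩ : (⟨X', T'.obj₁⟩ : Tot P) ⟶ ⟨X, T.obj₁⟩) f f' g)
    (h₂ : Tot.BC (⟨g', Θ.hom₂⟩ : (⟨X', T'.obj₂⟩ : Tot P) ⟶ ⟨X, T.obj₂⟩) f f' g) :
    Tot.BC (⟨g', Θ.hom₃⟩ : (⟨X', T'.obj₃⟩ : Tot P) ⟶ ⟨X, T.obj₃⟩) f f' g := by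
  rw [bc_iff P e] at h₁ h₂ ⊢
  have h := isIso₃_of_isIso₁₂ (bcTri P e Θ) (Functor.map_distinguished _ _ hT)
    (Functor.map_distinguished _ _ hT') (by rw [bcTri_hom₁]; exact h₁) (by rw [bcTri_hom₂]; exact h₂)
  rw [bcTri_hom₃] at h
  exact h

end TwoOfThree

end Groth.Agent.PerfB.BCTri
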