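import Groth.Prelude.Def_FlatMod2
import Groth.Agent.Fga.UnitRestrict

/-!
# Endomorphisms of the structure sheaf as an O_X-module

`a : O_X ⟶ O_X` is multiplication by `sec a = a(1)`; it is invertible over the open where `sec a` is invertible,
and `g^* a = 0` whenever `g^# (sec a) = 0`.
-/

universe u

open CategoryTheory CategoryTheory.Limits AlgebraicGeometry Opposite TopologicalSpace

namespace Groth.Agent.PerfB.UnitEnd

open Groth.Agent.Fga.UnitRestrict

variable {X : Scheme.{u}}

/-- `a.app U` as a map of functions. -/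
noncomputable def fn (a : Coh.structureModule X ⟶ Coh.structureModule X) (U : X.Opens)
    (t : Γ(X, U)) : Γ(X, U) :=
  (Scheme.Modules.Hom.app a U : Γ(Coh.structureModule X, U) ⟶ Γ(Coh.structureModule X, U)) t

/-- the function `a(1)`. -/
noncomputable def sec (a : Coh.structureModule X ⟶ Coh.structureModule X) : Γ(X, ⊤) := fn a ⊤ 1

lemma fn_mul (a : Coh.structureModule X ⟶ Coh.structureModule X) (U : X.Opens) (t s : Γ(X, U)) :
    fn a U (t * s) = t * fn a U s :=
  Scheme.Modules.Hom.app_smul (M := Coh.structureModule X) (N := Coh.structureModule X) a t s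

lemma fn_map (a : Coh.structureModule X ⟶ Coh.structureModule X) {U V : X.Opens} (i : U ⟶ V)
    (t : Γ(X, V)) : fn a U (X.presheaf.map i.op t) = X.presheaf.map i.op (fn a V t) := by
  have h := NatTrans.naturality (Scheme.Modules.Hom.mapPresheaf a) i.op
  exact ConcreteCategory.congr_hom h t

lemma fn_eq (a : Coh.structureModule X ⟶ Coh.structureModule X) (U : X.Opens) (t : Γ(X, U)) :
    fn a U t = t * X.presheaf.map (homOfLE le_top : U ⟶ ⊤).op (sec a) := by
  rw [sec, ← fn_map, map_one, ← fn_mul, mul_one]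

/-- `a` restricted to an open immersion `j` is invertible as soon as `j^# (sec a)` is a unit. -/
lemma isIso_restrict (a : Coh.structureModule X ⟶ Coh.structureModule X) {U : Scheme.{u}}
    (j : U ⟶ X) [IsOpenImmersion j] (h : IsUnit (j.appTop (sec a))) :
    IsIso ((Scheme.Modules.restrictFunctor j).map a) := by
  rw [Scheme.Modules.Hom.isIso_iff_isIso_app]
  intro W
  have hu : IsUnit (X.presheaf.map (homOfLE le_top : j ''ᵁ W ⟶ ⊤).op (sec a)) := by
    have h1 : IsUnit (U.presheaf.map (homOfLE le_top : W ⟶ ⊤).op (j.appTop (sec a))) :=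
      h.map (U.presheaf.map (homOfLE le_top : W ⟶ ⊤).op).hom
    have h2 : U.presheaf.map (homOfLE le_top : W ⟶ ⊤).op (j.appTop (sec a)) =
        (j.appIso W).hom (X.presheaf.map (homOfLE le_top : j ''ᵁ W ⟶ ⊤).op (sec a)) := by
      have e1 : j.appTop ≫ U.presheaf.map (homOfLE le_top : W ⟶ ⊤).op =
        X.presheaf.map (homOfLE le_top : j ''ᵁ W ⟶ ⊤).op ≫ (j.appIso W).hom := by
        rw [Scheme.Hom.appIso_hom', Scheme.Hom.map_appLE]
        rfl
      exact ConcreteCategory.congr_hom e1 (sec a)
    rw [h2] at h1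
    exact (isUnit_map_iff (j.appIso W).commRingCatIsoToRingEquiv _).1 h1
  obtain ⟨v, hv⟩ := hu
  have hb : Function.Bijective (fn a (j ''ᵁ W)) := by
    have e : fn a (j ''ᵁ W) = fun t => t * (v : Γ(X, j ''ᵁ W)) := by
      funext t
      rw [fn_eq, hv]
    rw [e]
    exact Units.mulRight_bijective v
  exact (ConcreteCategory.isIso_iff_bijective _).2 hb

lemma comp_unitToPush_eq_zero (a : Coh.structureModule X ⟶ Coh.structureModule X) {T : Scheme.{u}}
    (g : T ⟶ X) (h : g.appTop (sec a) = 0) : a ≫ unitToPush g = 0 := by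
  apply Scheme.Modules.hom_ext
  intro U
  ext t
  change g.app U (fn a U t) = 0
  rw [fn_eq, map_mul]
  have e1 : X.presheaf.map (homOfLE le_top : U ⟶ ⊤).op ≫ g.app U =
      g.appTop ≫ T.presheaf.map (homOfLE le_top : g ⁻¹ᵁ U ⟶ ⊤).op :=
    g.naturality (homOfLE le_top : U ⟶ ⊤).op
  have e2 := ConcreteCategory.congr_hom e1 (sec a)
  have e3 : g.app U (X.presheaf.map (homOfLE le_top : U ⟶ ⊤).op (sec a)) =
      T.presheaf.map (homOfLE le_top : g ⁻¹ᵁ U ⟶ ⊤).op (g.appTop (sec a)) := e2
  rw [e3, h, map_zero, mul_zero]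

lemma pullback_map_eq_zero (a : Coh.structureModule X ⟶ Coh.structureModule X) {T : Scheme.{u}}
    (g : T ⟶ X) (h : g.appTop (sec a) = 0) : (Scheme.Modules.pullback g).map a = 0 := by
  have e : (Scheme.Modules.pullback g).map a ≫ pullbackUnitHom g = 0 := by
    apply ((Scheme.Modules.pullbackPushforwardAdjunction g).homEquiv _ _).injective
    rw [Adjunction.homEquiv_naturality_left, Adjunction.homEquiv_unit, unit_pullbackUnitHom,
      comp_unitToPush_eq_zero a g h, Adjunction.homEquiv_unit]
    simp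
  rw [← cancel_mono (pullbackUnitHom g), e, zero_comp]

end Groth.Agent.PerfB.UnitEnd
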