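import Groth.Agent.PerfB.Elim
import Groth.Agent.PerfB.UnitEnd
import Groth.Agent.Dcoh.LocalD
import Mathlib.Order.Interval.Finset.Basic
import Mathlib.Data.Int.Interval
import Mathlib.Algebra.Order.BigOperators.Group.Finset

/-!
# Minimal models of bounded complexes of finite free modules near a point

`exists_minModel`: near a point `x₀` a bounded complex `E` of finite free `O_X`-modules is quasi-isomorphic
(through a chain map `E|_U ⟶ M`) to a complex `M` of finite free modules, of ranks at most those of `E`, whose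
differentials vanish after pull back to the residue field at `x₀`.
-/

universe u

open CategoryTheory CategoryTheory.Limits AlgebraicGeometry Opposite TopologicalSpace

attribute [local instance] HasDerivedCategory.standard

namespace Groth.Agent.PerfB.MinModel

open Groth.Agent.PerfB.Elim Groth.Agent.PerfB.UnitEnd Groth.Agent.Fga.UnitRestrict

/-- A function whose value at `x₀` is nonzero is invertible near `x₀`. -/
lemma mem_basicOpen_of_ne_zero {X : Scheme.{u}} (x₀ : X) (s : Γ(X, ⊤))
    (h : (X.fromSpecResidueField x₀).appTop s ≠ 0) : x₀ ∈ X.basicOpen s := by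
  have hf := isField_of_isIntegral_of_subsingleton (Spec (X.residueField x₀))
  let := hf.toField
  have hu : IsUnit ((X.fromSpecResidueField x₀).appTop s) := isUnit_iff_ne_zero.2 h
  have e : (X.fromSpecResidueField x₀) ⁻¹ᵁ X.basicOpen s = ⊤ := by
    rw [Scheme.preimage_basicOpen]
    exact Scheme.basicOpen_of_isUnit _ hu
  let z : Spec (X.residueField x₀) := Classical.arbitrary _
  have hz : z ∈ (X.fromSpecResidueField x₀) ⁻¹ᵁ X.basicOpen s := by rw [e]; trivial
  have hz' : X.fromSpecResidueField x₀ z ∈ X.basicOpen s := hz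
  rwa [Scheme.fromSpecResidueField_apply] at hz'

lemma isUnit_appTop_basicOpen {X : Scheme.{u}} (s : Γ(X, ⊤)) :
    IsUnit ((X.basicOpen s).ι.appTop s) := by
  have h : IsUnit (X.presheaf.map (homOfLE (X.basicOpen_le s)).op s) :=
    X.toRingedSpace.isUnit_res_basicOpen s
  have hle : (X.basicOpen s).ι ''ᵁ ⊤ ≤ X.basicOpen s := (X.basicOpen s).ι_image_le ⊤
  have h2 := h.map (X.presheaf.map (homOfLE hle).op).hom
  have e : X.presheaf.map (homOfLE (X.basicOpen_le s)).op ≫ X.presheaf.map (homOfLE hle).op =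
      (X.basicOpen s).ι.appTop := by
    rw [← Functor.map_comp]
    rfl
  have e2 := congrArg
    (fun (φ : Γ(X, ⊤) ⟶ Γ((X.basicOpen s : Scheme.{u}), ⊤)) => IsUnit (φ s)) e
  exact e2.mp h2

/-- The free rank data of a complex of finite free modules. -/
abbrev TermsFree {X : Scheme.{u}} (E : CochainComplex X.Modules ℤ) (n : ℤ → ℕ) : Prop :=
  ∀ i, Nonempty (E.X i ≅ FlatMod.freeMod X (n i))

/-- The differentials of `E` vanish at `x₀`: their pullbacks to `Spec κ(x₀)` are zero. -/
abbrev MinimalAt {X : Scheme.{u}} (x₀ : X) (E : CochainComplex X.Modules ℤ) : Prop :=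
  ∀ i, (Scheme.Modules.pullback (X.fromSpecResidueField x₀)).map (E.d i (i + 1)) = 0

/-- One elimination step. -/
lemma exists_step {X : Scheme.{u}} (x₀ : X) (E : CochainComplex X.Modules ℤ) (n : ℤ → ℕ)
    (hE : TermsFree E n) (h : ¬ MinimalAt x₀ E) :
    ∃ (U : X.Opens) (_ : x₀ ∈ U) (M : CochainComplex (U : Scheme.{u}).Modules ℤ)
      (_φ : ((Scheme.Modules.restrictFunctor U.ι).mapHomologicalComplex
        (ComplexShape.up ℤ)).obj E ⟶ M) (n' : ℤ → ℕ) (i : ℤ), QuasiIso _φ ∧ TermsFree M n' ∧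
        n' i + 1 = n i ∧ n' (i + 1) + 1 = n (i + 1) ∧ ∀ j, j ≠ i → j ≠ i + 1 → n' j = n j := by
  have e : ∀ i, E.X i ≅ FlatMod.freeMod X (n i) := fun i => (hE i).some
  dsimp only [MinimalAt] at h
  push Not at h
  obtain ⟨i, hi⟩ := h
  let O := Coh.structureModule X
  let d : free O (n i) ⟶ free O (n (i + 1)) := (e i).inv ≫ E.d i (i + 1) ≫ (e (i + 1)).hom
  let G := Scheme.Modules.pullback (X.fromSpecResidueField x₀)
  have hd : G.map d ≠ 0 := by
    intro h0
    apply hi
    have e1 : E.d i (i + 1) = (e i).hom ≫ d ≫ (e (i + 1)).inv := by simp [d]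
    rw [e1, Functor.map_comp, Functor.map_comp]
    change G.map _ ≫ G.map d ≫ G.map _ = 0
    rw [h0, zero_comp, comp_zero]
  have hex : ∃ (p : Fin (n i)) (q : Fin (n (i + 1))), G.map (Sigma.ι (fun _ : Fin (n i) => O) p ≫ d ≫
      Sigma.π (fun _ : Fin (n (i + 1)) => O) q) ≠ 0 := by
    by_contra hcon
    push Not at hcon
    exact hd (map_eq_zero_of_entries G d hcon)
  obtain ⟨p, q, hpq⟩ := hex
  let a : O ⟶ O := Sigma.ι (fun _ : Fin (n i) => O) p ≫ d ≫ Sigma.π (fun _ : Fin (n (i + 1)) => O) q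
  have hs : (X.fromSpecResidueField x₀).appTop (sec a) ≠ 0 :=
    fun h0 => hpq (pullback_map_eq_zero a _ h0)
  let U := X.basicOpen (sec a)
  have hU : x₀ ∈ U := mem_basicOpen_of_ne_zero x₀ _ hs
  have hiso : IsIso ((Scheme.Modules.restrictFunctor U.ι).map a) :=
    isIso_restrict a U.ι (isUnit_appTop_basicOpen (sec a))
  obtain ⟨M, φ, n', h1, h2, h3, h4, h5⟩ := elim_map (Scheme.Modules.restrictFunctor U.ι)
    (Groth.Agent.Dcoh.LocalD.structureRestrict U.ι) E n e i p q (by
      have e2 : Sigma.ι (fun _ : Fin (n i) => O) p ≫ (e i).inv ≫ E.d i (i + 1) ≫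
        (e (i + 1)).hom ≫ Sigma.π (fun _ : Fin (n (i + 1)) => O) q = a := by
        simp [a, d]
      rw [e2]
      exact hiso)
  exact ⟨U, hU, M, φ, n', i, h1, h2, h3, h4, h5⟩

/-- The complex `E` restricted along a composition of open immersions. -/
noncomputable def restrictCompCx {U V X : Scheme.{u}} (j : V ⟶ U) (k : U ⟶ X) [IsOpenImmersion j]
    [IsOpenImmersion k] (E : CochainComplex X.Modules ℤ) :
    ((Scheme.Modules.restrictFunctor (j ≫ k)).mapHomologicalComplex (ComplexShape.up ℤ)).obj E ≅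
      ((Scheme.Modules.restrictFunctor j).mapHomologicalComplex (ComplexShape.up ℤ)).obj
        (((Scheme.Modules.restrictFunctor k).mapHomologicalComplex (ComplexShape.up ℤ)).obj E) :=
  (NatIso.mapHomologicalComplex (Scheme.Modules.restrictFunctorComp j k)
    (ComplexShape.up ℤ)).app E

lemma exists_minModel_aux (N : ℕ) : ∀ {X : Scheme.{u}} (x₀ : X) (E : CochainComplex X.Modules ℤ)
    (n : ℤ → ℕ) (a b : ℤ) (_ : ∀ i, i < a ∨ b < i → n i = 0) (_ : TermsFree E n)
    (_ : ∑ i ∈ Finset.Icc a b, n i = N),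
    ∃ (U : Scheme.{u}) (j : U ⟶ X) (_ : IsOpenImmersion j) (u₀ : U) (_ : j u₀ = x₀)
      (M : CochainComplex U.Modules ℤ)
      (φ : ((Scheme.Modules.restrictFunctor j).mapHomologicalComplex
        (ComplexShape.up ℤ)).obj E ⟶ M) (m : ℤ → ℕ), QuasiIso φ ∧ TermsFree M m ∧
        (∀ i, m i ≤ n i) ∧ MinimalAt u₀ M := by
  induction N using Nat.strong_induction_on with
  | _ N ih =>
    intro X x₀ E n a b hn hE hN
    by_cases h : MinimalAt x₀ E
    · refine ⟨X, 𝟙 X, inferInstance, x₀, rfl, E, ((NatIso.mapHomologicalComplex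
        (Scheme.Modules.restrictFunctorId (X := X)) (ComplexShape.up ℤ)).app E).hom ≫
          ((Functor.mapHomologicalComplexIdIso X.Modules (ComplexShape.up ℤ)).app E).hom, n, ?_,
          hE, fun i => le_rfl, h⟩
      infer_instance
    · obtain ⟨U, hxU, M₁, φ₁, n', i, hφ₁, hM₁, hi, hi', hne⟩ := exists_step x₀ E n hE h
      have hle : ∀ j, n' j ≤ n j := by
        intro j
        by_cases h1 : j = i
        · subst h1; lia
        · by_cases h2 : j = i + 1
          · subst h2; lia
          · exact (hne j h1 h2).le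
      have hn' : ∀ j, j < a ∨ b < j → n' j = 0 := fun j hj => by
        have := hn j hj
        have := hle j
        lia
      have hi2 : i ∈ Finset.Icc a b := by
        rw [Finset.mem_Icc]
        by_contra hcon
        have := hn i (by lia)
        lia
      have hlt : ∑ j ∈ Finset.Icc a b, n' j < N := by
        rw [← hN]
        exact Finset.sum_lt_sum (fun j _ => hle j) ⟨i, hi2, by lia⟩
      obtain ⟨W, j, hj, w₀, hw₀, M, φ₂, m, hφ₂, hM, hm, hmin⟩ :=
        ih _ hlt (⟨x₀, hxU⟩ : (U : Scheme.{u})) M₁ n' a b hn' hM₁ rfl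
      refine ⟨W, j ≫ U.ι, inferInstance, w₀, ?_, M, (restrictCompCx j U.ι E).hom ≫
        ((Scheme.Modules.restrictFunctor j).mapHomologicalComplex (ComplexShape.up ℤ)).map φ₁ ≫ φ₂,
        m, ?_, hM, fun k => (hm k).trans (hle k), hmin⟩
      · rw [Scheme.Hom.comp_apply, hw₀]
        rfl
      · have : QuasiIso (((Scheme.Modules.restrictFunctor j).mapHomologicalComplex
          (ComplexShape.up ℤ)).map φ₁) := inferInstance
        infer_instance

/-- Near a point `x₀`, a bounded complex `E` of finite free modules is quasi-isomorphic to a complex of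
finite free modules whose differentials vanish at `x₀`. -/
theorem exists_minModel {X : Scheme.{u}} (x₀ : X) (E : CochainComplex X.Modules ℤ)
    (n : ℤ → ℕ) (a b : ℤ) (hn : ∀ i, i < a ∨ b < i → n i = 0) (hE : TermsFree E n) :
    ∃ (U : Scheme.{u}) (j : U ⟶ X) (_ : IsOpenImmersion j) (u₀ : U) (_ : j u₀ = x₀)
      (M : CochainComplex U.Modules ℤ)
      (φ : ((Scheme.Modules.restrictFunctor j).mapHomologicalComplex
        (ComplexShape.up ℤ)).obj E ⟶ M) (m : ℤ → ℕ), QuasiIso φ ∧ TermsFree M m ∧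
        (∀ i, m i ≤ n i) ∧ MinimalAt u₀ M :=
  exists_minModel_aux _ x₀ E n a b hn hE rfl

lemma isZero_freeMod_zero (X : Scheme.{u}) : IsZero (FlatMod.freeMod X 0) := by
  rw [IsZero.iff_id_eq_zero]
  apply Sigma.hom_ext
  intro p
  exact p.elim0

/-- A module which is free on `V` is free on smaller opens. -/
lemma free_restrict_of_le {X : Scheme.{u}} {M : X.Modules} {V W : X.Opens} (h : W ≤ V) {n : ℕ}
    (e : M.restrict V.ι ≅ FlatMod.freeMod V n) : Nonempty (M.restrict W.ι ≅ FlatMod.freeMod W n) :=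
  ⟨(Scheme.Modules.restrictFunctorCongr (X.homOfLE_ι h).symm).app M ≪≫
    (Scheme.Modules.restrictFunctorComp (X.homOfLE h) V.ι).app M ≪≫
    (Scheme.Modules.restrictFunctor (X.homOfLE h)).mapIso e ≪≫
    Groth.Agent.Dcoh.LocalD.freeModRestrict (X.homOfLE h) n⟩

/-- Near a point the terms of a strictly perfect complex are free. -/
lemma exists_termsFree {X : Scheme.{u}} (x₀ : X) (E : CochainComplex X.Modules ℤ)
    (hE : DCoh.IsStrictlyPerfect E) :
    ∃ (U : X.Opens) (_ : x₀ ∈ U) (n : ℤ → ℕ) (a b : ℤ), (∀ i, i < a ∨ b < i → n i = 0) ∧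
      TermsFree (((Scheme.Modules.restrictFunctor U.ι).mapHomologicalComplex
        (ComplexShape.up ℤ)).obj E) n := by
  obtain ⟨⟨a, b, hab⟩, hfree⟩ := hE
  choose V n hV hn using fun i => hfree i x₀
  let U : X.Opens := (Finset.Icc a b).inf V
  have hxU : x₀ ∈ U := by
    have : ∀ s : Finset ℤ, x₀ ∈ s.inf V := by
      intro s
      induction s using Finset.induction_on with
      | empty => simp
      | insert i s _ ih => rw [Finset.inf_insert]; exact ⟨hV i, ih⟩
    exact this _
  refine ⟨U, hxU, fun i => if i < a ∨ b < i then 0 else n i, a, b, fun i hi => if_pos hi, fun i => ?_⟩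
  by_cases hi : i < a ∨ b < i
  · beta_reduce
    rw [if_pos hi]
    exact ⟨IsZero.iso ((Scheme.Modules.restrictFunctor U.ι).map_isZero (hab i hi))
      (isZero_freeMod_zero _)⟩
  · beta_reduce
    rw [if_neg hi]
    push Not at hi
    exact free_restrict_of_le (Finset.inf_le (Finset.mem_Icc.2 hi)) (hn i).some

/-- Minimal model of a strictly perfect complex near a point. -/
theorem exists_minModel_of_isStrictlyPerfect {X : Scheme.{u}} (x₀ : X)
    (E : CochainComplex X.Modules ℤ) (hE : DCoh.IsStrictlyPerfect E) :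
    ∃ (U : Scheme.{u}) (j : U ⟶ X) (_ : IsOpenImmersion j) (u₀ : U) (_ : j u₀ = x₀)
      (M : CochainComplex U.Modules ℤ)
      (φ : ((Scheme.Modules.restrictFunctor j).mapHomologicalComplex
        (ComplexShape.up ℤ)).obj E ⟶ M) (m : ℤ → ℕ) (a b : ℤ), QuasiIso φ ∧ TermsFree M m ∧
        (∀ i, i < a ∨ b < i → m i = 0) ∧ MinimalAt u₀ M := by
  obtain ⟨V, hV, n, a, b, hn, hfree⟩ := exists_termsFree x₀ E hE
  obtain ⟨U, j, hj, u₀, hu, M, φ, m, hφ, hM, hm, hmin⟩ :=
    exists_minModel (⟨x₀, hV⟩ : (V : Scheme.{u})) _ n a b hn hfree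
  refine ⟨U, j ≫ V.ι, inferInstance, u₀, ?_, M, (restrictCompCx j V.ι E).hom ≫ φ, m, a, b, ?_, hM,
    fun i hi => ?_, hmin⟩
  · rw [Scheme.Hom.comp_apply, hu]
    rfl
  · infer_instance
  · have := hm i
    have := hn i hi
    lia

lemma isFinLocFree_freeMod (X : Scheme.{u}) (n : ℕ) : FlatMod.IsFinLocFree (FlatMod.freeMod X n) :=
  fun _ => ⟨⊤, n, trivial, ⟨Groth.Agent.Dcoh.LocalD.freeModRestrict _ n⟩⟩

/-- A bounded complex with free terms is strictly perfect. -/
lemma isStrictlyPerfect_of_termsFree {X : Scheme.{u}} {M : CochainComplex X.Modules ℤ} {m : ℤ → ℕ}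
    {a b : ℤ} (hm : ∀ i, i < a ∨ b < i → m i = 0) (hM : TermsFree M m) :
    DCoh.IsStrictlyPerfect M := by
  refine ⟨⟨a, b, fun i hi => ?_⟩, fun i => ?_⟩
  · have e := (hM i).some
    rw [hm i hi] at e
    exact (isZero_freeMod_zero X).of_iso e
  · exact Groth.Agent.Dcoh.LocalD.isFinLocFree_of_iso (hM i).some.symm (isFinLocFree_freeMod X _)

end Groth.Agent.PerfB.MinModel
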