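import Groth.Prelude.Def_PerfD
import Groth.Agent.Dcoh.Restrict
import Groth.Agent.PerfB.MinModel
import Mathlib.Algebra.Category.ModuleCat.Products
import Mathlib.Algebra.Homology.ShortComplex.ModuleCat
import Mathlib.LinearAlgebra.FiniteDimensional.Lemmas
import Mathlib.Order.Interval.Finset.Basic
import Mathlib.Data.Int.Interval

/-!
Dimensions of the cohomology of complexes of vector spaces, and of complexes of free modules on a
one-point scheme whose ring of functions is a field.
-/

set_option autoImplicit false

universe u v w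

attribute [local instance] HasDerivedCategory.standard

open CategoryTheory CategoryTheory.Limits AlgebraicGeometry Opposite

namespace Groth.Agent.PerfB.FibreDim

section Linear

variable {K : Type v} [Field K]

lemma finrank_homology (S : ShortComplex (ModuleCat.{w} K)) [FiniteDimensional K S.X₂] :
    Module.finrank K S.homology + Module.finrank K (LinearMap.range S.f.hom) +
      Module.finrank K (LinearMap.range S.g.hom) = Module.finrank K S.X₂ := by
  have e : S.homology ≃ₗ[K] (LinearMap.ker S.g.hom ⧸ LinearMap.range S.moduleCatToCycles) :=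
    S.moduleCatHomologyIso.toLinearEquiv
  rw [e.finrank_eq]
  have h1 : Module.finrank K (LinearMap.ker S.g.hom ⧸ LinearMap.range S.moduleCatToCycles) +
      Module.finrank K (LinearMap.range S.moduleCatToCycles) =
        Module.finrank K (LinearMap.ker S.g.hom) :=
    Submodule.finrank_quotient_add_finrank _
  have h2 := LinearMap.finrank_range_add_finrank_ker S.g.hom
  have h3 : Module.finrank K (LinearMap.range S.moduleCatToCycles) =
      Module.finrank K (LinearMap.range S.f.hom) := by
    have : LinearMap.range S.f.hom =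
        (LinearMap.range S.moduleCatToCycles).map (LinearMap.ker S.g.hom).subtype := by
      rw [← LinearMap.range_comp]
      rfl
    rw [this]
    exact (LinearEquiv.finrank_eq (Submodule.equivMapOfInjective _
      (Submodule.subtype_injective _) _))
  omega

variable (N : CochainComplex (ModuleCat.{w} K) ℤ)

/-- the rank of the differential -/
noncomputable def rk (i : ℤ) : ℕ := Module.finrank K (LinearMap.range (N.d i (i + 1)).hom)

lemma finrank_homology_cx (i : ℤ) [FiniteDimensional K (N.X i)] :
    Module.finrank K (N.homology i) + rk N (i - 1) + rk N i = Module.finrank K (N.X i) := by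
  let e : (N.sc' (i - 1) i (i + 1)).homology ≃ₗ[K] N.homology i :=
    (N.homologyIsoSc' (i - 1) i (i + 1) (by simp) (by simp)).symm.toLinearEquiv
  rw [← e.finrank_eq]
  have : FiniteDimensional K (N.sc' (i - 1) i (i + 1)).X₂ := inferInstanceAs (FiniteDimensional K (N.X i))
  have h := finrank_homology (N.sc' (i - 1) i (i + 1))
  have h2 : rk N (i - 1) = Module.finrank K (LinearMap.range (N.d (i - 1) i).hom) := by
    have : ∀ j, j = i → Module.finrank K (LinearMap.range (N.d (i - 1) j).hom) =
        Module.finrank K (LinearMap.range (N.d (i - 1) i).hom) := by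
      rintro j rfl; rfl
    exact this _ (by omega)
  rw [h2]
  exact h

lemma finrank_homology_le (i : ℤ) [FiniteDimensional K (N.X i)] :
    Module.finrank K (N.homology i) ≤ Module.finrank K (N.X i) := by
  have := finrank_homology_cx N i
  omega

lemma finrank_homology_eq (i : ℤ) [FiniteDimensional K (N.X i)]
    (h : ∀ j, N.d j (j + 1) = 0) :
    Module.finrank K (N.homology i) = Module.finrank K (N.X i) := by
  have := finrank_homology_cx N i
  have h1 : ∀ j, rk N j = 0 := by
    intro j
    rw [rk, h]
    rw [ModuleCat.hom_zero, LinearMap.range_zero]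
    exact finrank_bot K _
  rw [h1, h1] at this
  omega

lemma eulerChar_eq [∀ i, FiniteDimensional K (N.X i)] (a b : ℤ)
    (hN : ∀ i, i < a ∨ b < i → Module.finrank K (N.X i) = 0) :
    (finsum fun i : ℤ => (i.negOnePow : ℤ) * (Module.finrank K (N.homology i) : ℤ)) =
      finsum fun i : ℤ => (i.negOnePow : ℤ) * (Module.finrank K (N.X i) : ℤ) := by
  have hfin : ∀ g : ℤ → ℕ, (∀ i, i < a - 1 ∨ b + 1 < i → g i = 0) →
      (Function.support (fun i : ℤ => (i.negOnePow : ℤ) * (g i : ℤ))).Finite := by
    intro g hg
    refine (Set.finite_Icc (a - 1) (b + 1)).subset ?_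
    intro i hi
    by_contra h
    apply hi
    simp only [Set.mem_Icc, not_and_or, not_le] at h
    simp [hg i h]
  have h0 : ∀ i, i < a ∨ b < i → rk N i = 0 := by
    intro i hi
    have := finrank_homology_cx N i
    rw [hN i hi] at this
    omega
  have h1 : (finsum fun i : ℤ => (i.negOnePow : ℤ) * (rk N (i - 1) : ℤ)) =
      - finsum fun i : ℤ => (i.negOnePow : ℤ) * (rk N i : ℤ) := by
    have : (finsum fun i : ℤ => (i.negOnePow : ℤ) * (rk N i : ℤ)) =
        finsum fun i : ℤ => ((i - 1).negOnePow : ℤ) * (rk N (i - 1) : ℤ) :=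
      (finsum_comp_equiv (Equiv.subRight (1 : ℤ))
        (f := fun i : ℤ => (i.negOnePow : ℤ) * (rk N i : ℤ))).symm
    rw [this, ← finsum_neg_distrib]
    congr 1
    ext i
    rw [Int.negOnePow_sub]
    simp
  have h2 : ∀ i, Module.finrank K (N.X i) =
      Module.finrank K (N.homology i) + rk N (i - 1) + rk N i := fun i =>
    (finrank_homology_cx N i).symm
  have h3 : ∀ i, (i.negOnePow : ℤ) * (Module.finrank K (N.X i) : ℤ) =
      ((i.negOnePow : ℤ) * (Module.finrank K (N.homology i) : ℤ) +
        (i.negOnePow : ℤ) * (rk N (i - 1) : ℤ)) + (i.negOnePow : ℤ) * (rk N i : ℤ) := by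
    intro i
    rw [h2 i]
    push_cast
    ring
  have f1 := hfin (fun i => Module.finrank K (N.homology i)) (fun i hi => by
    have := h2 i
    rw [hN i (by omega)] at this
    show Module.finrank K (N.homology i) = 0
    omega)
  have f2 := hfin (fun i => rk N (i - 1)) (fun i hi => h0 _ (by omega))
  have f3 := hfin (fun i => rk N i) (fun i hi => h0 _ (by omega))
  rw [finsum_congr h3, finsum_add_distrib (f1.union f2 |>.subset ?_) f3,
    finsum_add_distrib f1 f2, h1]
  · ring
  · intro i hi
    by_contra h
    apply hi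
    simp only [Set.mem_union, Function.mem_support, not_or, not_not] at h
    simp only [h.1, h.2, add_zero]

end Linear

section FreeCat

variable {R : Type u} [Ring R]

/-- finite direct sums are finite products -/
noncomputable def freeEquiv (M : ModuleCat.{u} R) (n : ℕ)
    (h : Nonempty (M ≅ ∐ fun _ : Fin n => ModuleCat.of R R)) : M ≃ₗ[R] (Fin n → R) :=
  (h.some ≪≫ ModuleCat.coprodIsoDirectSum (fun _ : Fin n => ModuleCat.of R R)).toLinearEquiv.trans
    (DirectSum.linearEquivFunOnFintype R (Fin n) (fun _ => R))

lemma finite_of_iso_free (M : ModuleCat.{u} R) (n : ℕ)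
    (h : Nonempty (M ≅ ∐ fun _ : Fin n => ModuleCat.of R R)) : Module.Finite R M :=
  Module.Finite.equiv (freeEquiv M n h).symm

lemma finrank_of_iso_free (hR : IsField R) (M : ModuleCat.{u} R) (n : ℕ)
    (h : Nonempty (M ≅ ∐ fun _ : Fin n => ModuleCat.of R R)) : Module.finrank R M = n := by
  rw [(freeEquiv M n h).finrank_eq]
  let _ : Field R := hR.toField
  exact Module.finrank_fin_fun R

section IsField

variable (hR : IsField R) (N : CochainComplex (ModuleCat.{w} R) ℤ)

include hR

lemma finrank_homology_le' (i : ℤ) (hf : Module.Finite R (N.X i)) :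
    Module.finrank R (N.homology i) ≤ Module.finrank R (N.X i) := by
  let _ : Field R := hR.toField
  exact finrank_homology_le (K := R) N i

lemma finrank_homology_eq' (i : ℤ) (hf : Module.Finite R (N.X i)) (h : ∀ j, N.d j (j + 1) = 0) :
    Module.finrank R (N.homology i) = Module.finrank R (N.X i) := by
  let _ : Field R := hR.toField
  exact finrank_homology_eq (K := R) N i h

lemma eulerChar_eq' (hf : ∀ i, Module.Finite R (N.X i)) (a b : ℤ)
    (hN : ∀ i, i < a ∨ b < i → Module.finrank R (N.X i) = 0) :
    (finsum fun i : ℤ => (i.negOnePow : ℤ) * (Module.finrank R (N.homology i) : ℤ)) =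
      finsum fun i : ℤ => (i.negOnePow : ℤ) * (Module.finrank R (N.X i) : ℤ) := by
  let _ : Field R := hR.toField
  exact eulerChar_eq (K := R) N a b hN

end IsField

end FreeCat

section OnePoint

/-- Global sections as a module over the ring of global functions. -/
noncomputable def Γf (X : Scheme.{u}) : X.Modules ⥤ ModuleCat.{u} (Coh.Γtop X) :=
  Scheme.Modules.toPresheafOfModules X ⋙ PresheafOfModules.evaluation _ (op ⊤)

lemma Γf_obj (X : Scheme.{u}) (M : X.Modules) : (Γf X).obj M = M.val.obj (op ⊤) := rfl

variable (X : Scheme.{u})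

noncomputable instance : PreservesLimits (Scheme.Modules.toPresheafOfModules X) := inferInstance

noncomputable instance preservesFiniteLimits_Γf : PreservesFiniteLimits (Γf X) := by
  have : PreservesFiniteLimits (Scheme.Modules.toPresheafOfModules X) := inferInstance
  have : PreservesFiniteLimits (PresheafOfModules.evaluation.{u} X.ringCatSheaf.obj (op ⊤)) :=
    inferInstance
  exact comp_preservesFiniteLimits _ _

instance additive_Γf : (Γf X).Additive := Functor.additive_of_preserves_binary_products _

instance preservesEpi_Γf [Subsingleton X] [Nonempty X] : (Γf X).PreservesEpimorphisms where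
  preserves {M N} p hp := by
    rw [ModuleCat.epi_iff_surjective]
    intro s
    obtain ⟨x⟩ := (inferInstance : Nonempty X)
    obtain ⟨V, hVU, t, hxV, ht⟩ := Groth.Agent.Dcoh.Restrict.exists_local_preimage p ⊤ s x trivial
    obtain rfl : V = ⊤ := by
      ext y
      simp only [SetLike.mem_coe, TopologicalSpace.Opens.coe_top, Set.mem_univ, iff_true]
      rwa [Subsingleton.elim y x]
    refine ⟨t, ht.trans ?_⟩
    exact congrArg (fun g => g s) (congrArg (fun g => (ConcreteCategory.hom g : _ → _)) (N.presheaf.map_id (op ⊤)))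

instance preservesHomology_Γf [Subsingleton X] [Nonempty X] : (Γf X).PreservesHomology :=
  Functor.preservesHomology_of_preservesEpis_and_kernels _

/-- `Γ(X, O_X)` as a module over itself. -/
noncomputable def ΓfUnit : (Γf X).obj (Coh.structureModule X) ≅ ModuleCat.of (Coh.Γtop X) (Coh.Γtop X) :=
  Iso.refl _

/-- `Γ(X, O_X^n)`. -/
noncomputable def ΓfFree (n : ℕ) : (Γf X).obj (FlatMod.freeMod X n) ≅
    ∐ fun _ : Fin n => ModuleCat.of (Coh.Γtop X) (Coh.Γtop X) :=
  Groth.Agent.PerfB.Elim.mapFree (Γf X) (ΓfUnit X) n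

variable {X}

lemma finite_Γf_of_iso (M : X.Modules) (n : ℕ) (h : Nonempty (M ≅ FlatMod.freeMod X n)) :
    Module.Finite (Coh.Γtop X) ((Γf X).obj M) :=
  finite_of_iso_free _ n ⟨(Γf X).mapIso h.some ≪≫ ΓfFree X n⟩

lemma finrank_Γf_of_iso (hX : IsField (Coh.Γtop X)) (M : X.Modules) (n : ℕ)
    (h : Nonempty (M ≅ FlatMod.freeMod X n)) :
    Module.finrank (Coh.Γtop X) ((Γf X).obj M) = n :=
  finrank_of_iso_free hX _ n ⟨(Γf X).mapIso h.some ≪≫ ΓfFree X n⟩

section Homology

variable [Subsingleton X] [Nonempty X]

/-- `H^i(Γ(N)) = Γ(H^i(N))`. -/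
noncomputable def homologyΓ (N : CochainComplex X.Modules ℤ) (i : ℤ) :
    (((Γf X).mapHomologicalComplex (ComplexShape.up ℤ)).obj N).homology i ≅
      (Γf X).obj (N.homology i) :=
  (N.sc i).mapHomologyIso (Γf X)

variable (hX : IsField (Coh.Γtop X)) (N : CochainComplex X.Modules ℤ) {n : ℤ → ℕ}
  (hN : MinModel.TermsFree N n)

include hX hN

theorem finrank_le (i : ℤ) :
    Module.finrank (Coh.Γtop X) ((Γf X).obj (N.homology i)) ≤ n i :=
  (homologyΓ N i).toLinearEquiv.finrank_eq.symm.le.trans
    ((finrank_homology_le' hX _ i (finite_Γf_of_iso _ _ (hN i))).trans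
      (finrank_Γf_of_iso hX _ _ (hN i)).le)

theorem finrank_eq (h : ∀ j, N.d j (j + 1) = 0) (i : ℤ) :
    Module.finrank (Coh.Γtop X) ((Γf X).obj (N.homology i)) = n i :=
  (homologyΓ N i).toLinearEquiv.finrank_eq.symm.trans
    ((finrank_homology_eq' hX _ i (finite_Γf_of_iso _ _ (hN i)) (fun j => by
      change (Γf X).map (N.d j (j + 1)) = 0
      rw [h j, Functor.map_zero])).trans
      (finrank_Γf_of_iso hX _ _ (hN i)))

theorem finsum_eq (a b : ℤ) (h : ∀ i, i < a ∨ b < i → n i = 0) :
    (finsum fun i : ℤ => (i.negOnePow : ℤ) *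
      (Module.finrank (Coh.Γtop X) ((Γf X).obj (N.homology i)) : ℤ)) =
      finsum fun i : ℤ => (i.negOnePow : ℤ) * (n i : ℤ) := by
  refine (finsum_congr fun i => ?_).trans ((eulerChar_eq' hX
    (((Γf X).mapHomologicalComplex (ComplexShape.up ℤ)).obj N)
    (fun i => finite_Γf_of_iso _ _ (hN i)) a b
    (fun i hi => (finrank_Γf_of_iso hX _ _ (hN i)).trans (h i hi))).trans
    (finsum_congr fun i => ?_))
  · exact congrArg (fun m : ℕ => (i.negOnePow : ℤ) * (m : ℤ))
      (homologyΓ N i).toLinearEquiv.finrank_eq.symm
  · exact congrArg (fun m : ℕ => (i.negOnePow : ℤ) * (m : ℤ)) (finrank_Γf_of_iso hX _ _ (hN i))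

end Homology

section Spec

lemma isField_Γtop_residueField (X : Scheme.{u}) (x : X) :
    IsField (Coh.Γtop (Spec (X.residueField x))) :=
  MulEquiv.isField (Field.toIsField (X.residueField x))
    (Scheme.ΓSpecIso (X.residueField x)).commRingCatIsoToRingEquiv.toMulEquiv

instance (X : Scheme.{u}) (x : X) : Subsingleton (Spec (X.residueField x)) :=
  inferInstanceAs (Subsingleton (PrimeSpectrum (X.residueField x)))

instance (X : Scheme.{u}) (x : X) : Nonempty (Spec (X.residueField x)) :=
  inferInstanceAs (Nonempty (PrimeSpectrum (X.residueField x)))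

end Spec

end OnePoint

end Groth.Agent.PerfB.FibreDim
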