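import Groth.Agent.PerfB.PullData
import Groth.Agent.PerfB.FibreDim
import Groth.Agent.PerfC.LpullPC
import Groth.Agent.Dcoh.Spread
import Groth.Agent.PerfB.FlatPull
import Mathlib.Topology.LocallyConstant.Basic

/-!
# Fibre dimensions of pseudo-coherent and perfect complexes (conditional on S0911, S0959)

* `exists_model_pc`, `exists_model_perf`: minimal models near a point;
* `betti_le`, `betti_eq`, `eulerChar_eq`: fibre dimensions in terms of the ranks of a model.
-/

set_option autoImplicit false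
universe u
open CategoryTheory CategoryTheory.Limits AlgebraicGeometry Opposite
attribute [local instance] HasDerivedCategory.standard

namespace Groth.Agent.PerfB.Betti

open Groth.Agent.PerfB.MinModel Groth.Agent.PerfB.FibreDim Groth.Agent.Dcoh.LocalD
  Groth.Agent.PerfC.RelFlatLpull Groth.Agent.PerfB.PullData DerivedCategory

variable {X : Scheme.{u}}

section Model

/-- A pseudo-coherent complex has a minimal model near every point. -/
theorem exists_model_pc (m : ℤ) (E : DCoh.D X) (hE : DCoh.IsPseudoCoherentD m E) (x₀ : X) :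
    ∃ (U : Scheme.{u}) (j : U ⟶ X) (_ : IsOpenImmersion j) (u₀ : U) (_ : j u₀ = x₀)
      (M : CochainComplex U.Modules ℤ) (n : ℤ → ℕ) (a b : ℤ)
      (α : Q.obj M ⟶ (DCoh.restrictD j).obj E),
      TermsFree M n ∧ (∀ i, i < a ∨ b < i → n i = 0) ∧ MinimalAt u₀ M ∧
        (∀ i : ℤ, m < i → IsIso ((homologyFunctor _ i).map α)) ∧
        Epi ((homologyFunctor _ m).map α) := by
  rw [isPseudoCoherentD_iff_locally] at hE
  obtain ⟨V, hx, E', α, hE', h1, h2⟩ := hE x₀
  obtain ⟨U, j, hj, u₀, hu₀, M, φ, n, a, b, hφ, hM, hn, hmin⟩ :=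
    exists_minModel_of_isStrictlyPerfect (X := V) ⟨x₀, hx⟩ E' hE'
  have hφ' : IsIso (Q.map φ) := inferInstance
  refine ⟨U, j ≫ V.ι, inferInstance, u₀, ?_, M, n, a, b,
    inv (Q.map φ) ≫ (QRestrict j E').inv ≫ (DCoh.restrictD j).map α ≫
      (restrictComp j V.ι).hom.app E, hM, hn, hmin, ?_, ?_⟩
  · rw [Scheme.Hom.comp_apply, hu₀]
    rfl
  · intro i hi
    have := Groth.Agent.Dcoh.MapDer.isIso_homology_map (Scheme.Modules.restrictFunctor j) α i (h1 i hi)
    simp only [Functor.map_comp]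
    infer_instance
  · have := Groth.Agent.Dcoh.MapDer.epi_homology_map (Scheme.Modules.restrictFunctor j) α m h2
    have h3 : Epi ((homologyFunctor U.Modules m).map ((DCoh.restrictD j).map α)) := this
    simp only [Functor.map_comp]
    infer_instance

/-- A perfect complex has a minimal model near every point. -/
theorem exists_model_perf (E : DCoh.D X) (hE : DCoh.IsPerfect E) (x₀ : X) :
    ∃ (U : Scheme.{u}) (j : U ⟶ X) (_ : IsOpenImmersion j) (u₀ : U) (_ : j u₀ = x₀)
      (M : CochainComplex U.Modules ℤ) (n : ℤ → ℕ) (a b : ℤ)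
      (_ : Q.obj M ≅ (DCoh.restrictD j).obj E),
      TermsFree M n ∧ (∀ i, i < a ∨ b < i → n i = 0) ∧ MinimalAt u₀ M := by
  rw [isPerfect_iff_locally] at hE
  obtain ⟨V, hx, E', hE', ⟨α⟩⟩ := hE x₀
  obtain ⟨U, j, hj, u₀, hu₀, M, φ, n, a, b, hφ, hM, hn, hmin⟩ :=
    exists_minModel_of_isStrictlyPerfect (X := V) ⟨x₀, hx⟩ E' hE'
  have hφ' : IsIso (Q.map φ) := inferInstance
  refine ⟨U, j ≫ V.ι, inferInstance, u₀, ?_, M, n, a, b,
    (asIso (Q.map φ)).symm ≪≫ (QRestrict j E').symm ≪≫ (DCoh.restrictD j).mapIso α.symm ≪≫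
      (restrictComp j V.ι).app E, hM, hn, hmin⟩
  rw [Scheme.Hom.comp_apply, hu₀]
  rfl

end Model

section Fibre

variable (x : X) {U : Scheme.{u}} (j : U ⟶ X) [IsOpenImmersion j]

/-- The point `Spec κ(x) ⟶ X` factors through every open containing `x`. -/
noncomputable def lift (hx : x ∈ Set.range j) : Spec (X.residueField x) ⟶ U :=
  IsOpenImmersion.lift j (X.fromSpecResidueField x) (by
    rw [Scheme.range_fromSpecResidueField]; simpa using hx)

lemma lift_fac (hx : x ∈ Set.range j) : lift x j hx ≫ j = X.fromSpecResidueField x :=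
  IsOpenImmersion.lift_fac _ _ _

theorem lpullLift (hx : x ∈ Set.range j) (E : DCoh.D X) [DCoh.HasLpull (X.fromSpecResidueField x)]
    [DCoh.HasLpull (lift x j hx)] :
    Nonempty ((DCoh.Lpull (X.fromSpecResidueField x)).obj E ≅
      (DCoh.Lpull (lift x j hx)).obj ((DCoh.restrictD j).obj E)) := by
  obtain ⟨e⟩ := Groth.Agent.PerfC.LpullRestrict.nonempty_restrict_lpull
    (g := X.fromSpecResidueField x) (g' := lift x j hx) j (𝟙 _)
    (by rw [lift_fac, Category.id_comp]) E
  exact ⟨((restrictIdIso _).app _).symm ≪≫ e⟩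

/-- The differentials of a complex which is minimal at `u₀` vanish after pullback along
`Spec κ(x) ⟶ U`, `x` the image of `u₀`. -/
theorem pullback_d_eq_zero (u₀ : U) (hu : j u₀ = x) (hx : x ∈ Set.range j)
    {M : CochainComplex U.Modules ℤ} (hM : MinimalAt u₀ M) (i : ℤ) :
    (Scheme.Modules.pullback (lift x j hx)).map (M.d i (i + 1)) = 0 := by
  subst hu
  have h1 : lift (j u₀) j hx =
      Spec.map (inv (j.residueFieldMap u₀)) ≫ U.fromSpecResidueField u₀ := by
    rw [← cancel_mono j, lift_fac, Category.assoc, ← Scheme.Hom.SpecMap_residueFieldMap_fromSpecResidueField,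
      ← Spec.map_comp_assoc, IsIso.hom_inv_id, Spec.map_id, Category.id_comp]
  rw [h1]
  have h2 := (Scheme.Modules.pullbackComp (Spec.map (inv (j.residueFieldMap u₀)))
    (U.fromSpecResidueField u₀)).hom.naturality (M.d i (i + 1))
  have h3 : (Scheme.Modules.pullback (U.fromSpecResidueField u₀) ⋙
      Scheme.Modules.pullback (Spec.map (inv (j.residueFieldMap u₀)))).map (M.d i (i + 1)) = 0 := by
    rw [Functor.comp_map, hM i, Functor.map_zero]
  rw [h3, zero_comp] at h2
  rw [← cancel_epi ((Scheme.Modules.pullbackComp (Spec.map (inv (j.residueFieldMap u₀)))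
    (U.fromSpecResidueField u₀)).hom.app (M.X i)), ← h2, comp_zero]

section Formula

variable {M : CochainComplex U.Modules ℤ} {n : ℤ → ℕ} (hM : TermsFree M n) {a b : ℤ}
  (hn : ∀ i, i < a ∨ b < i → n i = 0) (hx : x ∈ Set.range j)

/-- The pullback of the model to the point. -/
noncomputable abbrev fib (M : CochainComplex U.Modules ℤ) (hx : x ∈ Set.range j) :
    CochainComplex (Spec (X.residueField x)).Modules ℤ :=
  ((Scheme.Modules.pullback (lift x j hx)).mapHomologicalComplex (ComplexShape.up ℤ)).obj M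

include hM in
lemma termsFree_fib : TermsFree (fib x j M hx) n := fun i =>
  ⟨(Scheme.Modules.pullback (lift x j hx)).mapIso (hM i).some ≪≫
    Groth.Agent.PerfB.FlatPull.pullbackFreeMod _ _⟩

include hM in
lemma isFlat_of_termsFree (i : ℤ) : FlatMod.IsFlat (M.X i) :=
  Groth.Agent.Dcoh.FlatRes.isFlat_of_iso (hM i).some.symm
    (Groth.Agent.Dcoh.Spread.isFlat_of_isFinLocFree (isFinLocFree_freeMod U (n i)))

include hM hn in
lemma isZero_of_termsFree (i : ℤ) (hi : b < i) : IsZero (M.X i) := by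
  have h := (hM i).some
  rw [hn i (Or.inr hi)] at h
  exact (isZero_freeMod_zero U).of_iso h

/-- `L k^* (Q M) = Q (k^* M)`. -/
noncomputable def lpullFib [DCoh.HasLpull (lift x j hx)] :
    (DCoh.Lpull (lift x j hx)).obj (Q.obj M) ≅ Q.obj (fib x j M hx) :=
  lpullIso (pullData _) M b (isZero_of_termsFree hM hn) (isFlat_of_termsFree hM)

variable (E : DCoh.D X) [DCoh.HasLpull (X.fromSpecResidueField x)]

include hM hn in
/-- The fibre cohomology is computed by the model. -/
theorem betti_eq_finrank (m : ℤ) (α : Q.obj M ⟶ (DCoh.restrictD j).obj E)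
    (h1 : ∀ i : ℤ, m < i → IsIso ((homologyFunctor _ i).map α))
    (h2 : Epi ((homologyFunctor _ m).map α)) (i : ℤ) (hi : m < i) :
    PerfD.betti E x i = Module.finrank (Coh.Γtop (Spec (X.residueField x)))
      ((Γf (Spec (X.residueField x))).obj ((fib x j M hx).homology i)) := by
  have hL := hasLpull (lift x j hx)
  obtain ⟨e⟩ := lpullLift x j hx E
  have h3 := (Groth.Agent.PerfC.LpullPC.homology_lpull_map (pullData (lift x j hx)) α m h1 h2).1 i hi
  let e1 : (homologyFunctor _ i).obj ((DCoh.Lpull (X.fromSpecResidueField x)).obj E) ≅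
      (fib x j M hx).homology i :=
    (homologyFunctor _ i).mapIso e ≪≫ (asIso ((homologyFunctor _ i).map
      ((DCoh.Lpull (lift x j hx)).map α))).symm ≪≫
      (homologyFunctor _ i).mapIso (lpullFib x j hM hn hx) ≪≫
      (homologyFunctorFactors _ i).app (fib x j M hx)
  exact ((Γf _).mapIso e1).toLinearEquiv.finrank_eq

include hM hn in
theorem betti_le (m : ℤ) (α : Q.obj M ⟶ (DCoh.restrictD j).obj E)
    (h1 : ∀ i : ℤ, m < i → IsIso ((homologyFunctor _ i).map α))
    (h2 : Epi ((homologyFunctor _ m).map α)) (i : ℤ) (hi : m < i) (hx : x ∈ Set.range j) :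
    PerfD.betti E x i ≤ n i := by
  rw [betti_eq_finrank x j hM hn hx E m α h1 h2 i hi]
  exact finrank_le (isField_Γtop_residueField X x) _ (termsFree_fib x j hM hx) i

include hM hn in
theorem betti_eq (m : ℤ) (α : Q.obj M ⟶ (DCoh.restrictD j).obj E)
    (h1 : ∀ i : ℤ, m < i → IsIso ((homologyFunctor _ i).map α))
    (h2 : Epi ((homologyFunctor _ m).map α)) (i : ℤ) (hi : m < i) (u₀ : U) (hu : j u₀ = x)
    (hmin : MinimalAt u₀ M) :
    PerfD.betti E x i = n i := by
  have hx : x ∈ Set.range j := ⟨u₀, hu⟩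
  rw [betti_eq_finrank x j hM hn hx E m α h1 h2 i hi]
  exact finrank_eq (isField_Γtop_residueField X x) _ (termsFree_fib x j hM hx)
    (fun i => pullback_d_eq_zero x j u₀ hu hx hmin i) i

include hM hn in
theorem eulerChar_eq (α : Q.obj M ≅ (DCoh.restrictD j).obj E) (hx : x ∈ Set.range j) :
    PerfD.eulerChar E x = finsum fun i : ℤ => (i.negOnePow : ℤ) * (n i : ℤ) := by
  rw [← finsum_eq (isField_Γtop_residueField X x) _ (termsFree_fib x j hM hx) a b hn]
  refine finsum_congr fun i => ?_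
  exact congrArg (fun m : ℕ => (i.negOnePow : ℤ) * (m : ℤ))
    (betti_eq_finrank x j hM hn hx E (i - 1) α.hom (fun _ _ => inferInstance) inferInstance i
      (by omega))

end Formula

end Fibre

/-- Stacks 0BDI (2). -/
theorem isOpen_betti_lt [∀ x : X, DCoh.HasLpull (X.fromSpecResidueField x)]
    (E : DCoh.D X) (hE : ∀ m : ℤ, DCoh.IsPseudoCoherentD m E) (i : ℤ) (n : ℕ) :
    IsOpen {x : X | PerfD.betti E x i < n} := by
  rw [isOpen_iff_forall_mem_open]
  intro x₀ hx₀
  obtain ⟨U, j, hj, u₀, hu₀, M, r, a, b, α, hM, hr, hmin, h1, h2⟩ :=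
    exists_model_pc (i - 1) E (hE _) x₀
  refine ⟨Set.range j, ?_, j.isOpenEmbedding.isOpen_range, ⟨u₀, hu₀⟩⟩
  intro y hy
  have e1 := betti_eq x₀ j hM hr E (i - 1) α h1 h2 i (by omega) u₀ hu₀ hmin
  have e2 := betti_le y j hM hr E (i - 1) α h1 h2 i (by omega) hy
  have e3 : PerfD.betti E x₀ i < n := hx₀
  change PerfD.betti E y i < n
  omega

/-- Stacks 0BDJ. -/
theorem isLocallyConstant_eulerChar [∀ x : X, DCoh.HasLpull (X.fromSpecResidueField x)]
    (E : DCoh.D X) (hE : DCoh.IsPerfect E) :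
    IsLocallyConstant (fun x : X => PerfD.eulerChar E x) := by
  rw [IsLocallyConstant.iff_exists_open]
  intro x₀
  obtain ⟨U, j, hj, u₀, hu₀, M, r, a, b, α, hM, hr, hmin⟩ := exists_model_perf E hE x₀
  refine ⟨Set.range j, j.isOpenEmbedding.isOpen_range, ⟨u₀, hu₀⟩, fun y hy => ?_⟩
  rw [eulerChar_eq y j hM hr E α hy, eulerChar_eq x₀ j hM hr E α ⟨u₀, hu₀⟩]

end Groth.Agent.PerfB.Betti
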