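import Mathlib.Algebra.Homology.BifunctorShift
import Mathlib.CategoryTheory.Limits.Preserves.Shapes.Products

/-!
# Total complexes of bifunctors and functors preserving coproducts

Given bifunctors `T : C₁ ⥤ C₂ ⥤ D`, `T' : C₁' ⥤ C₂' ⥤ D'`, functors `G₁ G₂ H` and natural isomorphisms
`H(T(M, N)) ≅ T'(G₁ M, G₂ N)`, with `H` preserving countable coproducts, one gets an isomorphism of
cochain complexes `H(T(K, L)) ≅ T'(G₁ K, G₂ L)`.
-/

set_option autoImplicit false
set_option linter.unusedSectionVars false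
set_option backward.defeqAttrib.useBackward true
set_option backward.isDefEq.respectTransparency false

universe v₁ v₂ v₃ v₁' v₂' v₃' u₁ u₂ u₃ u₁' u₂' u₃'

open CategoryTheory Category Limits HomologicalComplex

namespace Groth.Agent.PerfB.BifCompare

variable {C₁ : Type u₁} {C₂ : Type u₂} {D : Type u₃} [Category.{v₁} C₁] [Category.{v₂} C₂]
  [Category.{v₃} D] [Preadditive C₁] [Preadditive C₂] [Preadditive D]
  {C₁' : Type u₁'} {C₂' : Type u₂'} {D' : Type u₃'} [Category.{v₁'} C₁'] [Category.{v₂'} C₂']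
  [Category.{v₃'} D'] [Preadditive C₁'] [Preadditive C₂'] [Preadditive D']
  (T : C₁ ⥤ C₂ ⥤ D) (T' : C₁' ⥤ C₂' ⥤ D') (G₁ : C₁ ⥤ C₁') (G₂ : C₂ ⥤ C₂') (H : D ⥤ D')

/-- Natural isomorphisms `H(T(M, N)) ≅ T'(G₁ M, G₂ N)`. -/
structure Data where
  /-- the isomorphisms -/
  e (M : C₁) (N : C₂) : H.obj ((T.obj M).obj N) ≅ (T'.obj (G₁.obj M)).obj (G₂.obj N)
  nat₁ {M M' : C₁} (f : M ⟶ M') (N : C₂) :
    H.map ((T.map f).app N) ≫ (e M' N).hom = (e M N).hom ≫ (T'.map (G₁.map f)).app (G₂.obj N)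
  nat₂ (M : C₁) {N N' : C₂} (g : N ⟶ N') :
    H.map ((T.obj M).map g) ≫ (e M N').hom = (e M N).hom ≫ (T'.obj (G₁.obj M)).map (G₂.map g)

variable {T T' G₁ G₂ H} (c : Data T T' G₁ G₂ H)

namespace Data

@[reassoc]
lemma inv₁ {M M' : C₁} (f : M ⟶ M') (N : C₂) :
    (T'.map (G₁.map f)).app (G₂.obj N) ≫ (c.e M' N).inv = (c.e M N).inv ≫ H.map ((T.map f).app N) := by
  rw [Iso.comp_inv_eq, assoc, Iso.eq_inv_comp]
  exact (c.nat₁ f N).symm

@[reassoc]
lemma inv₂ (M : C₁) {N N' : C₂} (g : N ⟶ N') :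
    (T'.obj (G₁.obj M)).map (G₂.map g) ≫ (c.e M N').inv = (c.e M N).inv ≫ H.map ((T.obj M).map g) := by
  rw [Iso.comp_inv_eq, assoc, Iso.eq_inv_comp]
  exact (c.nat₂ M g).symm

end Data

variable [G₁.Additive] [G₂.Additive] [H.Additive]
  [T.Additive] [∀ (X₁ : C₁), (T.obj X₁).Additive] [T'.Additive] [∀ (X₁ : C₁'), (T'.obj X₁).Additive]
  (K : CochainComplex C₁ ℤ) (L : CochainComplex C₂ ℤ)
  [CochainComplex.HasMapBifunctor K L T]
  [CochainComplex.HasMapBifunctor ((G₁.mapHomologicalComplex (ComplexShape.up ℤ)).obj K)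
    ((G₂.mapHomologicalComplex (ComplexShape.up ℤ)).obj L) T']

/-- The comparison map in degree `n`. -/
noncomputable def comp (n : ℤ) :
    (mapBifunctor ((G₁.mapHomologicalComplex (ComplexShape.up ℤ)).obj K)
      ((G₂.mapHomologicalComplex (ComplexShape.up ℤ)).obj L) T' (ComplexShape.up ℤ)).X n ⟶
    H.obj ((mapBifunctor K L T (ComplexShape.up ℤ)).X n) :=
  mapBifunctorDesc (fun p q h => (c.e (K.X p) (L.X q)).inv ≫
    H.map (ιMapBifunctor K L T (ComplexShape.up ℤ) p q n h))

@[reassoc]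
lemma ι_comp (p q n : ℤ) (h : p + q = n) :
    ιMapBifunctor ((G₁.mapHomologicalComplex (ComplexShape.up ℤ)).obj K)
      ((G₂.mapHomologicalComplex (ComplexShape.up ℤ)).obj L) T' (ComplexShape.up ℤ) p q n h ≫
        comp c K L n =
      (c.e (K.X p) (L.X q)).inv ≫ H.map (ιMapBifunctor K L T (ComplexShape.up ℤ) p q n h) :=
  ι_mapBifunctorDesc _ _ _ _

lemma comp_comm (n m : ℤ) (hnm : n + 1 = m) :
    comp c K L n ≫ H.map ((mapBifunctor K L T (ComplexShape.up ℤ)).d n m) =
    (mapBifunctor ((G₁.mapHomologicalComplex (ComplexShape.up ℤ)).obj K)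
      ((G₂.mapHomologicalComplex (ComplexShape.up ℤ)).obj L) T' (ComplexShape.up ℤ)).d n m ≫
      comp c K L m := by
  subst hnm
  apply mapBifunctor.hom_ext
  intro p q h
  have h' : p + q = n := h
  rw [ι_comp_assoc, ← H.map_comp, mapBifunctor.d_eq, mapBifunctor.d_eq, Preadditive.comp_add,
    mapBifunctor.ι_D₁, mapBifunctor.ι_D₂, Preadditive.add_comp, Preadditive.comp_add,
    mapBifunctor.ι_D₁_assoc, mapBifunctor.ι_D₂_assoc]
  rw [mapBifunctor.d₁_eq K L T (ComplexShape.up ℤ) (show (ComplexShape.up ℤ).Rel p (p + 1) from rfl) q (n + 1)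
      (by change p + 1 + q = n + 1; lia),
    mapBifunctor.d₂_eq K L T (ComplexShape.up ℤ) p (show (ComplexShape.up ℤ).Rel q (q + 1) from rfl) (n + 1)
      (by change p + (q + 1) = n + 1; lia),
    mapBifunctor.d₁_eq _ _ T' (ComplexShape.up ℤ) (show (ComplexShape.up ℤ).Rel p (p + 1) from rfl) q (n + 1)
      (by change p + 1 + q = n + 1; lia),
    mapBifunctor.d₂_eq _ _ T' (ComplexShape.up ℤ) p (show (ComplexShape.up ℤ).Rel q (q + 1) from rfl) (n + 1)
      (by change p + (q + 1) = n + 1; lia)]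
  rw [H.map_add, Preadditive.comp_add, Linear.units_smul_comp, Linear.units_smul_comp,
    Functor.map_units_smul, Functor.map_units_smul, Linear.comp_units_smul, Linear.comp_units_smul]
  rw [assoc, assoc, ι_comp, ι_comp, H.map_comp, H.map_comp]
  congr 2
  · exact (c.inv₁_assoc (K.d p (p + 1)) (L.X q) _).symm
  · exact (c.inv₂_assoc (K.X p) (L.d q (q + 1)) _).symm

/-- The index set of the summands in degree `n`. -/
abbrev Idx (n : ℤ) : Type :=
  {i : ℤ × ℤ // ComplexShape.π (ComplexShape.up ℤ) (ComplexShape.up ℤ) (ComplexShape.up ℤ) i = n}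

/-- The degree `n` term of the total complex is a coproduct. -/
noncomputable def isColimitTotal (n : ℤ) :
    IsColimit (Cofan.mk ((mapBifunctor K L T (ComplexShape.up ℤ)).X n)
      (fun i : Idx n => ιMapBifunctor K L T (ComplexShape.up ℤ) i.1.1 i.1.2 n i.2)) :=
  GradedObject.isColimitCofanMapObj
      (((T.mapBifunctorHomologicalComplex (ComplexShape.up ℤ) (ComplexShape.up ℤ)).obj K).obj L).toGradedObject
      (ComplexShape.π (ComplexShape.up ℤ) (ComplexShape.up ℤ) (ComplexShape.up ℤ)) n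

variable (H) in
/-- `H` preserves the coproduct. -/
noncomputable def isColimitMap [PreservesColimitsOfSize.{0, 0} H] (n : ℤ) :
    IsColimit (Cofan.mk (H.obj ((mapBifunctor K L T (ComplexShape.up ℤ)).X n))
      (fun i : Idx n => H.map (ιMapBifunctor K L T (ComplexShape.up ℤ) i.1.1 i.1.2 n i.2))) :=
  isColimitCofanMkObjOfIsColimit H _ _ (isColimitTotal K L n)

/-- The inverse of the comparison map in degree `n`. -/
noncomputable def compInv [PreservesColimitsOfSize.{0, 0} H] (n : ℤ) :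
    H.obj ((mapBifunctor K L T (ComplexShape.up ℤ)).X n) ⟶
    (mapBifunctor ((G₁.mapHomologicalComplex (ComplexShape.up ℤ)).obj K)
      ((G₂.mapHomologicalComplex (ComplexShape.up ℤ)).obj L) T' (ComplexShape.up ℤ)).X n :=
  Cofan.IsColimit.desc (isColimitMap H K L n)
    (fun i => (c.e (K.X i.1.1) (L.X i.1.2)).hom ≫
      ιMapBifunctor ((G₁.mapHomologicalComplex (ComplexShape.up ℤ)).obj K)
        ((G₂.mapHomologicalComplex (ComplexShape.up ℤ)).obj L) T' (ComplexShape.up ℤ) i.1.1 i.1.2 n i.2)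

@[reassoc]
lemma ι_compInv [PreservesColimitsOfSize.{0, 0} H] (p q n : ℤ) (h : p + q = n) :
    H.map (ιMapBifunctor K L T (ComplexShape.up ℤ) p q n h) ≫ compInv c K L n =
      (c.e (K.X p) (L.X q)).hom ≫
      ιMapBifunctor ((G₁.mapHomologicalComplex (ComplexShape.up ℤ)).obj K)
        ((G₂.mapHomologicalComplex (ComplexShape.up ℤ)).obj L) T' (ComplexShape.up ℤ) p q n h :=
  Cofan.IsColimit.fac (isColimitMap H K L n) _ ⟨⟨p, q⟩, h⟩

variable {K L} in
lemma hom_ext_map [PreservesColimitsOfSize.{0, 0} H] {n : ℤ} {A : D'}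
    {f g : H.obj ((mapBifunctor K L T (ComplexShape.up ℤ)).X n) ⟶ A}
    (h : ∀ (p q : ℤ) (h : p + q = n), H.map (ιMapBifunctor K L T (ComplexShape.up ℤ) p q n h) ≫ f =
      H.map (ιMapBifunctor K L T (ComplexShape.up ℤ) p q n h) ≫ g) : f = g :=
  Cofan.IsColimit.hom_ext (isColimitMap H K L n) _ _ (fun i => h i.1.1 i.1.2 i.2)

/-- `T'(G₁ K, G₂ L) ≅ H(T(K, L))` as complexes. -/
noncomputable def iso [PreservesColimitsOfSize.{0, 0} H] :
    mapBifunctor ((G₁.mapHomologicalComplex (ComplexShape.up ℤ)).obj K)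
      ((G₂.mapHomologicalComplex (ComplexShape.up ℤ)).obj L) T' (ComplexShape.up ℤ) ≅
    (H.mapHomologicalComplex (ComplexShape.up ℤ)).obj (mapBifunctor K L T (ComplexShape.up ℤ)) :=
  HomologicalComplex.Hom.isoOfComponents
    (fun n =>
      { hom := comp c K L n
        inv := compInv c K L n
        hom_inv_id := by
          apply mapBifunctor.hom_ext
          intro p q h
          rw [ι_comp_assoc, ι_compInv, Iso.inv_hom_id_assoc, comp_id]
        inv_hom_id := by
          apply hom_ext_map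
          intro p q h
          rw [ι_compInv_assoc, ι_comp, Iso.hom_inv_id_assoc]
          exact (comp_id _).symm })
    (fun n m hnm => comp_comm c K L n m hnm)

@[simp]
lemma iso_hom_f [PreservesColimitsOfSize.{0, 0} H] (n : ℤ) :
    (iso c K L).hom.f n = comp c K L n := rfl

section Naturality

variable {K L} {K' : CochainComplex C₁ ℤ} {L' : CochainComplex C₂ ℤ} (f : K ⟶ K') (g : L ⟶ L')
  [CochainComplex.HasMapBifunctor K' L' T]
  [CochainComplex.HasMapBifunctor ((G₁.mapHomologicalComplex (ComplexShape.up ℤ)).obj K')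
    ((G₂.mapHomologicalComplex (ComplexShape.up ℤ)).obj L') T']

lemma comp_naturality (n : ℤ) :
    (mapBifunctorMap ((G₁.mapHomologicalComplex (ComplexShape.up ℤ)).map f)
      ((G₂.mapHomologicalComplex (ComplexShape.up ℤ)).map g) T' (ComplexShape.up ℤ)).f n ≫
        comp c K' L' n =
      comp c K L n ≫ H.map ((mapBifunctorMap f g T (ComplexShape.up ℤ)).f n) := by
  apply mapBifunctor.hom_ext
  intro p q h
  rw [ι_comp_assoc, ← H.map_comp, ι_mapBifunctorMap, ι_mapBifunctorMap_assoc, H.map_comp, H.map_comp]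
  refine Eq.trans ?_ (c.inv₁_assoc (f.f p) (L.X q) _)
  congr 1
  refine Eq.trans ?_ (c.inv₂_assoc (K'.X p) (g.f q) _)
  congr 1
  exact ι_comp c K' L' p q n h

/-- Naturality of `iso`. -/
lemma iso_naturality [PreservesColimitsOfSize.{0, 0} H] :
    mapBifunctorMap ((G₁.mapHomologicalComplex (ComplexShape.up ℤ)).map f)
      ((G₂.mapHomologicalComplex (ComplexShape.up ℤ)).map g) T' (ComplexShape.up ℤ) ≫
        (iso c K' L').hom =
      (iso c K L).hom ≫ (H.mapHomologicalComplex (ComplexShape.up ℤ)).map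
        (mapBifunctorMap f g T (ComplexShape.up ℤ)) := by
  refine HomologicalComplex.hom_ext _ _ (fun n => ?_)
  exact comp_naturality c f g n

end Naturality

end Groth.Agent.PerfB.BifCompare
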