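import Mathlib.Algebra.Homology.Functor
import Mathlib.Algebra.Homology.HomologicalComplexLimits
import Mathlib.Algebra.Homology.QuasiIso
import Mathlib.CategoryTheory.Abelian.GrothendieckAxioms.Basic
import Mathlib.CategoryTheory.MorphismProperty.Limits

/-!
# Homology commutes with exact colimits

Let `C` be an abelian category with exact colimits of shape `J`.  Then homology of complexes in `C`
commutes with colimits of shape `J`, and quasi-isomorphisms are stable under colimits of shape `J`.
-/

set_option autoImplicit false
universe w' w v u t

open CategoryTheory CategoryTheory.Limits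

namespace Groth.Agent.PerfB.ColimHomology

variable {C : Type u} [Category.{v} C] [Abelian C] {J : Type w} [Category.{w'} J]
  {ι : Type t} {c : ComplexShape ι}

/-- A diagram of complexes, as a complex in the functor category. -/
@[simps]
def famCx (F : J ⥤ HomologicalComplex C c) : HomologicalComplex (J ⥤ C) c where
  X n := F ⋙ HomologicalComplex.eval C c n
  d n m :=
    { app := fun j => (F.obj j).d n m
      naturality := fun i j f => (F.map f).comm n m }
  shape n m h := by
    ext j
    exact (F.obj j).shape n m h
  d_comp_d' n m k _ _ := by
    ext j
    exact (F.obj j).d_comp_d n m k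

/-- A natural transformation between diagrams of complexes, as a morphism of complexes in the functor
category. -/
@[simps]
def famMap {F G : J ⥤ HomologicalComplex C c} (α : F ⟶ G) : famCx F ⟶ famCx G where
  f n := Functor.whiskerRight α (HomologicalComplex.eval C c n)
  comm' n m _ := by
    ext j
    exact (α.app j).comm n m

/-- The homology of `famCx F` is computed objectwise. -/
noncomputable def famHomologyIso (F : J ⥤ HomologicalComplex C c) (i : ι) :
    (famCx F).homology i ≅ F ⋙ HomologicalComplex.homologyFunctor C c i :=
  NatIso.ofComponents (fun j =>
    (((famCx F).sc i).mapHomologyIso ((evaluation J C).obj j)).symm) (by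
      intro j k f
      have h := NatTrans.app_homology ((evaluation J C).map f) ((famCx F).sc i)
      refine (congrArg (fun φ => φ ≫ (((famCx F).sc i).mapHomologyIso
        ((evaluation J C).obj k)).inv) h).trans ?_
      refine (Category.assoc _ _ _).trans (congrArg _ ?_)
      refine (Category.assoc _ _ _).trans ?_
      rw [Iso.hom_inv_id]
      exact Category.comp_id _)

variable [HasColimitsOfShape J C]

/-- The termwise colimit of a diagram of complexes. -/
noncomputable abbrev colimCx (F : J ⥤ HomologicalComplex C c) : HomologicalComplex C c :=
  ((colim (J := J) (C := C)).mapHomologicalComplex c).obj (famCx F)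

/-- The cocone with point the termwise colimit. -/
noncomputable def colimCxCocone (F : J ⥤ HomologicalComplex C c) : Cocone F where
  pt := colimCx F
  ι :=
    { app := fun j => { f := fun n => colimit.ι (F ⋙ HomologicalComplex.eval C c n) j
                        comm' := fun n m _ =>
                          (HomologicalComplex.coconeOfHasColimitEval F).ι.app j |>.comm n m }
      naturality := fun _ _ φ => (HomologicalComplex.coconeOfHasColimitEval F).ι.naturality φ }

/-- The termwise colimit of a diagram of complexes is a colimit. -/
noncomputable def isColimitColimCxCocone (F : J ⥤ HomologicalComplex C c) :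
    IsColimit (colimCxCocone F) :=
  HomologicalComplex.isColimitOfEval _ _ (fun _ => colimit.isColimit _)

/-- The termwise colimit of a diagram of complexes is a colimit. -/
noncomputable def colimCxIso (F : J ⥤ HomologicalComplex C c) : colimit F ≅ colimCx F :=
  (colimit.isColimit F).coconePointUniqueUpToIso (isColimitColimCxCocone F)

variable [HasExactColimitsOfShape J C]

instance additive_colim : (colim (J := J) (C := C)).Additive := by
  have := preservesBinaryBiproducts_of_preservesBinaryProducts (colim (J := J) (C := C))
  exact Functor.additive_of_preservesBinaryBiproducts _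

/-- Homology commutes with exact colimits. -/
noncomputable def homologyColimitIso (F : J ⥤ HomologicalComplex C c) (i : ι) :
    (colimit F).homology i ≅ colimit (F ⋙ HomologicalComplex.homologyFunctor C c i) :=
  (HomologicalComplex.homologyFunctor C c i).mapIso (colimCxIso F) ≪≫
    ((famCx F).sc i).mapHomologyIso (colim (J := J) (C := C)) ≪≫
    colim.mapIso (famHomologyIso F i)

/-- The morphism on termwise colimits induced by an objectwise quasi-isomorphism is a quasi-isomorphism. -/
theorem quasiIso_colim_map {F G : J ⥤ HomologicalComplex C c} (α : F ⟶ G)
    (hα : ∀ j, QuasiIso (α.app j)) :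
    QuasiIso (((colim (J := J) (C := C)).mapHomologicalComplex c).map (famMap α)) := by
  have h : QuasiIso (famMap α) := by
    rw [HomologicalComplex.quasiIso_iff_evaluation]
    exact hα
  infer_instance

/-- Quasi-isomorphisms are stable under exact colimits. -/
instance isStableUnderColimitsOfShape_quasiIso :
    (HomologicalComplex.quasiIso C c).IsStableUnderColimitsOfShape J where
  condition F G c₁ c₂ h₁ h₂ α hα φ hφ := by
    have h := quasiIso_colim_map α hα
    let e₁ := h₁.coconePointUniqueUpToIso (isColimitColimCxCocone F)
    let e₂ := h₂.coconePointUniqueUpToIso (isColimitColimCxCocone G)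
    let ψ : (colimCxCocone F).pt ⟶ (colimCxCocone G).pt :=
      ((colim (J := J) (C := C)).mapHomologicalComplex c).map (famMap α)
    have hψ : QuasiIso ψ := h
    have hsq : φ ≫ e₂.hom = e₁.hom ≫ ψ := by
      apply h₁.hom_ext
      intro j
      have a₂ : c₂.ι.app j ≫ e₂.hom = (colimCxCocone G).ι.app j :=
        h₂.comp_coconePointUniqueUpToIso_hom _ j
      have a₁ : c₁.ι.app j ≫ e₁.hom = (colimCxCocone F).ι.app j :=
        h₁.comp_coconePointUniqueUpToIso_hom _ j
      rw [reassoc_of% (hφ j), a₂, reassoc_of% a₁]
      ext n
      exact (ι_colimMap (Functor.whiskerRight α (HomologicalComplex.eval C c n)) j).symm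
    have : φ = e₁.hom ≫ ψ ≫ e₂.inv := by
      rw [← Category.assoc, ← hsq, Category.assoc, Iso.hom_inv_id, Category.comp_id]
    rw [HomologicalComplex.mem_quasiIso_iff, this]
    infer_instance

end Groth.Agent.PerfB.ColimHomology
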