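import Groth.Agent.PerfB.DQAdj
import Groth.Agent.PerfA.PostHom
import Groth.Agent.PerfA.ExactD

/-!
# A criterion for a complex to be adapted to a right adjoint

`R ⊣ S : A ⇄ B` abelian categories, `R` exact, counit invertible.  Suppose `A` and `B` have classes
of acyclic test objects (in the sense of `PostHom.Acyc`) preserved by `R`.  If `L` is a complex in
`B` such that `L` and `S L` have cohomology in the good classes and the unit is invertible on
the cohomology of `S L`, then `S` preserves the quasi-isomorphisms from `L` to a K-injective complex.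
-/

universe w₁ w₂ v₁ v₂ u₁ u₂

set_option linter.unusedSectionVars false

namespace Groth.Agent.PerfB.DQAdapt

open CategoryTheory CategoryTheory.Limits DerivedCategory Pretriangulated
open Groth.Agent.PerfB.DQAdj Groth.Agent.PerfA.PostAbs Groth.Agent.PerfA.PostHom
open Groth.Agent.PerfA.ExactD

variable {A : Type u₁} [Category.{v₁} A] [Abelian A] [HasDerivedCategory.{w₁} A]
  {B : Type u₂} [Category.{v₂} B] [Abelian B] [HasDerivedCategory.{w₂} B]

/-- An object of `D(A)` with no maps from the shifts of a detecting class is zero. -/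
lemma isZero_of_detects {P : ObjectProperty A} (hP : Detects P) (K : DerivedCategory A)
    (h : ∀ (G : A), P G → ∀ (m : ℤ) (φ : (singleFunctor A m).obj G ⟶ K), φ = 0) : IsZero K := by
  rw [Groth.Agent.PerfA.ExactD.isZero_iff]
  intro m
  by_contra hz
  have hm : ¬ Mono ((homologyFunctor A m).map (0 : K ⟶ K)) := by
    intro hm
    rw [Functor.map_zero] at hm
    exact hz ((IsZero.iff_id_eq_zero _).2 (by
      rw [← cancel_mono (0 : (homologyFunctor A m).obj K ⟶ (homologyFunctor A m).obj K)]
      simp))
  obtain ⟨G, hG, φ, hφ, -⟩ := exists_single_of_not_mono hP (0 : K ⟶ K) m hm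
  exact hφ (by rw [h G hG m φ, Functor.map_zero])

/-- Isomorphisms of `D(A)` are detected by the shifts of a detecting class. -/
lemma isIso_of_detects {P : ObjectProperty A} (hP : Detects P) {K L : DerivedCategory A}
    (f : K ⟶ L) (h : ∀ (G : A), P G → ∀ m : ℤ,
      Function.Bijective (fun φ : (singleFunctor A m).obj G ⟶ K => φ ≫ f)) : IsIso f := by
  obtain ⟨C, g, δ, hT⟩ := distinguished_cocone_triangle f
  have hC : IsZero C := by
    refine isZero_of_detects hP C fun G hG m φ => ?_
    have h1 : φ ≫ δ = 0 := by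
      let e : ((singleFunctor A (m + 1)).obj G)⟦(1 : ℤ)⟧ ≅ (singleFunctor A m).obj G :=
        ((singleFunctors A).shiftIso 1 m (m + 1) (by lia)).app G
      obtain ⟨χ, hχ⟩ := (shiftFunctor (DerivedCategory A) (1 : ℤ)).map_surjective
        (e.hom ≫ φ ≫ δ)
      have h2 : χ ≫ f = 0 := by
        apply (shiftFunctor (DerivedCategory A) (1 : ℤ)).map_injective
        have h3 : δ ≫ f⟦(1 : ℤ)⟧' = 0 := comp_distTriang_mor_zero₃₁ _ hT
        rw [Functor.map_comp, hχ, Functor.map_zero, Category.assoc, Category.assoc, h3,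
          comp_zero, comp_zero]
      have h4 : χ = 0 := (h G hG (m + 1)).1 (by simp [h2])
      rw [← cancel_epi e.hom, ← hχ, h4, Functor.map_zero, comp_zero]
    obtain ⟨ψ, hψ⟩ : ∃ ψ : (singleFunctor A m).obj G ⟶ L, φ = ψ ≫ g :=
      Triangle.coyoneda_exact₃ _ hT φ h1
    obtain ⟨χ, hχ⟩ := (h G hG m).2 ψ
    have h5 : f ≫ g = 0 := comp_distTriang_mor_zero₁₂ _ hT
    dsimp only at hχ
    rw [hψ, ← hχ, Category.assoc, h5, comp_zero]
  exact (Triangle.isZero₃_iff_isIso₁ _ hT).1 hC

variable {R : A ⥤ B} {S : B ⥤ A} (adj : R ⊣ S) [R.Additive] [S.Additive]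
  [PreservesFiniteLimits R] [PreservesFiniteColimits R]

lemma bijective_map_of_isIso_unit (M M' : A) [IsIso (adj.unit.app M')] :
    Function.Bijective (fun g : M ⟶ M' => R.map g) := by
  have h : (fun g : M ⟶ M' => R.map g) = (adj.homEquiv M (R.obj M')).symm ∘
      (fun g : M ⟶ M' => g ≫ adj.unit.app M') := by
    funext g
    simp [Adjunction.homEquiv_counit]
  rw [h]
  exact (adj.homEquiv M (R.obj M')).symm.bijective.comp
    (Iso.homToEquiv (asIso (adj.unit.app M'))).bijective

/-- The comparison `theta` is bijective on acyclic test objects. -/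
theorem bijective_theta_single [IsIso adj.counit]
    {P Qc : ObjectProperty A} {P' Qc' : ObjectProperty B} (hA : Acyc P Qc) (hB : Acyc P' Qc')
    [HasProductsOfShape ℕ (DerivedCategory A)] [HasProductsOfShape ℕ (DerivedCategory B)]
    (L : CochainComplex B ℤ) (hL : CohIn Qc' (Q.obj L)) (hSL : CohIn Qc (Q.obj ((mapCx S).obj L)))
    (hunit : ∀ m, IsIso (adj.unit.app ((homologyFunctor A m).obj (Q.obj ((mapCx S).obj L)))))
    (G : A) (hG : P G) (hG' : P' (R.obj G)) (m : ℤ) :
    Function.Bijective (theta adj ((singleFunctor A m).obj G) L) := by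
  have h1 := hA.bijective_homology hSL hG m
  have h2 := bijective_map_of_isIso_unit adj
    ((homologyFunctor A m).obj ((singleFunctor A m).obj G))
    ((homologyFunctor A m).obj (Q.obj ((mapCx S).obj L)))
  let e : R.mapDerivedCategory.obj ((singleFunctor A m).obj G) ≅
      (singleFunctor B m).obj (R.obj G) := (R.mapDerivedCategorySingleFunctor m).app G
  have h3 : Function.Bijective (fun φ : R.mapDerivedCategory.obj ((singleFunctor A m).obj G) ⟶
      Q.obj L => (homologyFunctor B m).map φ) := by
    have h4 := hB.bijective_homology hL hG' m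
    have h5 : (fun φ : R.mapDerivedCategory.obj ((singleFunctor A m).obj G) ⟶
      Q.obj L => (homologyFunctor B m).map φ) = (fun f => (homologyFunctor B m).map e.hom ≫ f) ∘
        (fun φ => (homologyFunctor B m).map φ) ∘ (fun φ => e.inv ≫ φ) := by
      funext φ
      simp
    rw [h5]
    exact (Iso.homFromEquiv ((homologyFunctor B m).mapIso e).symm).bijective.comp
      (h4.comp (Iso.homFromEquiv e).bijective)
  let ε := (mapHomology R m).app ((singleFunctor A m).obj G)
  let ε' := (mapHomology R m).app (Q.obj ((mapCx S).obj L))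
  have h6 : (fun φ : (singleFunctor A m).obj G ⟶ Q.obj ((mapCx S).obj L) =>
      (homologyFunctor B m).map (theta adj _ L φ)) =
      (fun f => ε.hom ≫ f) ∘ (fun f => f ≫ ε'.inv ≫ (homologyFunctor B m).map (cmap adj L)) ∘
        (fun f => R.map f) ∘ (fun φ => (homologyFunctor A m).map φ) := by
    funext φ
    have h7 := (mapHomology R m).hom.naturality φ
    dsimp only [theta, Function.comp]
    rw [Functor.map_comp]
    change (R.mapDerivedCategory ⋙ homologyFunctor B m).map φ ≫ _ = _
    have h8 : (R.mapDerivedCategory ⋙ homologyFunctor B m).map φ =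
        ε.hom ≫ R.map ((homologyFunctor A m).map φ) ≫ ε'.inv := by
      rw [← Category.assoc, Iso.eq_comp_inv]
      exact h7
    rw [h8, Category.assoc, Category.assoc]
  have h9 : Function.Bijective (fun φ : (singleFunctor A m).obj G ⟶ Q.obj ((mapCx S).obj L) =>
      (homologyFunctor B m).map (theta adj _ L φ)) := by
    rw [h6]
    exact (Iso.homFromEquiv ε.symm).bijective.comp
      ((Iso.homToEquiv (ε'.symm ≪≫ asIso ((homologyFunctor B m).map (cmap adj L)))).bijective.comp
        (h2.comp h1))
  exact (Function.Bijective.of_comp_iff' h3 _).1 h9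

/-- `S` preserves a quasi-isomorphism from `L` to a K-injective complex. -/
theorem quasiIso_map [IsIso adj.counit]
    {P Qc : ObjectProperty A} {P' Qc' : ObjectProperty B} (hA : Acyc P Qc) (hB : Acyc P' Qc')
    [HasProductsOfShape ℕ (DerivedCategory A)] [HasProductsOfShape ℕ (DerivedCategory B)]
    (L : CochainComplex B ℤ) (hL : CohIn Qc' (Q.obj L)) (hSL : CohIn Qc (Q.obj ((mapCx S).obj L)))
    (hunit : ∀ m, IsIso (adj.unit.app ((homologyFunctor A m).obj (Q.obj ((mapCx S).obj L)))))
    (hR : ∀ G, P G → P' (R.obj G)) (I : CochainComplex B ℤ) [I.IsKInjective] (s : L ⟶ I)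
    [QuasiIso s] : QuasiIso ((mapCx S).map s) := by
  rw [← isIso_Q_map_iff_quasiIso]
  refine isIso_of_detects hA.detects _ fun G hG m => ?_
  have h1 := bijective_theta_single adj hA hB L hL hSL hunit G hG (hR G hG) m
  have h2 := bijective_theta_of_isKInjective adj ((singleFunctor A m).obj G) I
  have h3 : theta adj ((singleFunctor A m).obj G) I ∘
      (fun φ : (singleFunctor A m).obj G ⟶ Q.obj ((mapCx S).obj L) =>
        φ ≫ Q.map ((mapCx S).map s)) =
      (fun ψ => ψ ≫ Q.map s) ∘ theta adj ((singleFunctor A m).obj G) L := by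
    funext φ
    dsimp only [theta, Function.comp]
    rw [Functor.map_comp, Category.assoc, cmap_naturality, Category.assoc]
  have h4 : Function.Bijective (theta adj ((singleFunctor A m).obj G) I ∘
      (fun φ : (singleFunctor A m).obj G ⟶ Q.obj ((mapCx S).obj L) =>
        φ ≫ Q.map ((mapCx S).map s))) := by
    rw [h3]
    exact (Iso.homToEquiv (asIso (Q.map s))).bijective.comp h1
  exact (Function.Bijective.of_comp_iff' h2 _).1 h4

/-- The adaptedness criterion. -/
theorem adapted_of_acyc [IsIso adj.counit]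
    {P Qc : ObjectProperty A} {P' Qc' : ObjectProperty B} (hA : Acyc P Qc) (hB : Acyc P' Qc')
    [HasProductsOfShape ℕ (DerivedCategory A)] [HasProductsOfShape ℕ (DerivedCategory B)]
    (L : CochainComplex B ℤ) (hL : CohIn Qc' (Q.obj L)) (hSL : CohIn Qc (Q.obj ((mapCx S).obj L)))
    (hunit : ∀ m, IsIso (adj.unit.app ((homologyFunctor A m).obj (Q.obj ((mapCx S).obj L)))))
    (hR : ∀ G, P G → P' (R.obj G))
    (h : ∃ (I : CochainComplex B ℤ) (s : L ⟶ I), I.IsKInjective ∧ QuasiIso s) :
    Adapted S L := by
  obtain ⟨I, s, hI, hs⟩ := h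
  exact ⟨I, s, hI, hs, quasiIso_map adj hA hB L hL hSL hunit hR I s⟩

end Groth.Agent.PerfB.DQAdapt
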