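import Groth.Agent.PerfB.DQGeom
import Groth.Agent.PerfB.DQAdapt
import Groth.Agent.PerfA.QCohAcyc
import Groth.Agent.PerfA.QCohRes
import Groth.Agent.Ega1.QcqsPush
import Groth.Agent.CohqB.QC5

/-!
# Adapted representatives for direct images from an affine open, affine diagonal case
-/

set_option autoImplicit false
universe u
open CategoryTheory CategoryTheory.Limits AlgebraicGeometry Opposite TopologicalSpace
attribute [local instance] HasDerivedCategory.standard

namespace Groth.Agent.PerfB.DQAffDiag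

open AlgebraicGeometry.Scheme.Modules DerivedCategory
open Groth.Agent.PerfB.DQAdj Groth.Agent.PerfB.DQTri Groth.Agent.PerfB.DQSub
open Groth.Agent.PerfA.Restrict Groth.Agent.PerfA.ExactD Groth.Agent.PerfA.QCohSerre
open Groth.Agent.PerfA.ExtZero Groth.Agent.PerfA.QCohAcyc Groth.Agent.PerfA.PostHom

variable {X Y : Scheme.{u}} (j : Y ⟶ X) [IsOpenImmersion j]

/-- `(j_!O_W)|_Y ≅ j_!O_{j⁻¹ W}` as functors corepresented. -/
noncomputable def coyoIso (W : X.Opens) :
    coyoneda.obj (op ((restrictFunctor j).obj (OU W))) ≅ coyoneda.obj (op (OU (j ⁻¹ᵁ W))) :=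
  NatIso.ofComponents
    (fun M => Equiv.toIso ((((restrictAdjunction j).homEquiv (OU W) M).trans
      (homEquiv W ((pushforward j).obj M)).toEquiv).trans
        (homEquiv (j ⁻¹ᵁ W) M).toEquiv.symm))
    (fun {M N} f => by
      ext g
      apply (homEquiv (j ⁻¹ᵁ W) N).injective
      have h1 : (homEquiv (j ⁻¹ᵁ W) N) ((homEquiv (j ⁻¹ᵁ W) N).symm
          (homEquiv W ((pushforward j).obj N) (((restrictAdjunction j).homEquiv (OU W) N) (g ≫ f)))) =
        (homEquiv (j ⁻¹ᵁ W) N) (((homEquiv (j ⁻¹ᵁ W) M).symm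
          (homEquiv W ((pushforward j).obj M) (((restrictAdjunction j).homEquiv (OU W) M) g))) ≫ f) := by
        rw [AddEquiv.apply_symm_apply, homEquiv_comp, AddEquiv.apply_symm_apply,
          Adjunction.homEquiv_naturality_right, homEquiv_comp]
        rfl
      exact h1)

/-- `(j_!O_W)|_Y ≅ j_!O_{j⁻¹ W}`. -/
noncomputable def restrictOU (W : X.Opens) :
    (restrictFunctor j).obj (OU W) ≅ OU (j ⁻¹ᵁ W) :=
  (coyoneda.preimageIso (coyoIso j W)).unop.symm

/-- Preimages of affine opens under open immersions with affine source. -/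
lemma isAffineOpen_preimage (hdiag : ∀ U V : X.Opens, IsAffineOpen U → IsAffineOpen V →
    IsAffineOpen (U ⊓ V)) [IsAffine Y] {W : X.Opens} (hW : IsAffineOpen W) :
    IsAffineOpen (j ⁻¹ᵁ W) := by
  rw [← j.isAffineOpen_iff_of_isOpenImmersion, j.image_preimage_eq_opensRange_inf]
  exact hdiag _ _ (isAffineOpen_opensRange j) hW

lemma quasiCompact (hdiag : ∀ U V : X.Opens, IsAffineOpen U → IsAffineOpen V →
    IsAffineOpen (U ⊓ V)) [IsAffine Y] : QuasiCompact j := by
  rw [quasiCompact_iff_forall_isAffineOpen]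
  intro U hU
  exact (isAffineOpen_preimage j hdiag hU).isCompact

lemma epi_push (hdiag : ∀ U V : X.Opens, IsAffineOpen U → IsAffineOpen V →
    IsAffineOpen (U ⊓ V)) [IsAffine Y] {M N : Y.Modules} (φ : M ⟶ N) [Epi φ] (hM : Coh.IsQCoh M)
    (hN : Coh.IsQCoh N) : Epi ((pushforward j).map φ) := by
  refine Groth.Agent.PerfB.ModExact.epi_of_locally_surjective _ fun U y x hx => ?_
  obtain ⟨V, hV, hxV, hVU⟩ := Opens.isBasis_iff_nbhd.1 X.isBasis_affineOpens hx
  obtain ⟨z, hz⟩ := Groth.Agent.CohqB.QC5.app_surjective_of_epi φ hM hN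
    (isAffineOpen_preimage j hdiag hV)
    (((pushforward j).obj N).presheaf.map (homOfLE hVU).op y)
  exact ⟨V, hVU, hxV, z, hz⟩

variable {A : CommRingCat.{u}} (i : Spec A ⟶ X) [IsOpenImmersion i]

instance preservesFiniteLimits_comp :
    PreservesFiniteLimits (tilde.functor A ⋙ pushforward i) :=
  comp_preservesFiniteLimits _ _

instance additive_comp : (tilde.functor A ⋙ pushforward i).Additive := inferInstance

lemma preservesFiniteColimits_comp (hdiag : ∀ U V : X.Opens, IsAffineOpen U → IsAffineOpen V →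
    IsAffineOpen (U ⊓ V)) : PreservesFiniteColimits (tilde.functor A ⋙ pushforward i) := by
  rw [Functor.preservesFiniteColimits_iff_forall_exact_map_and_epi]
  intro S hS
  refine ⟨((Functor.preservesFiniteLimits_iff_forall_exact_map_and_mono
    (tilde.functor A ⋙ pushforward i)).1 inferInstance S hS).1, ?_⟩
  have h1 := hS.epi_g
  have h2 : (tilde.functor A).PreservesEpimorphisms :=
    (tilde.functor A).preservesEpimorphisms_of_adjunction tilde.adjunction
  have h3 : Epi ((tilde.functor A).map S.g) := (tilde.functor A).map_epi S.g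
  exact epi_push i hdiag ((tilde.functor A).map S.g)
    (inferInstanceAs (((tilde.functor A).obj S.X₂).IsQuasicoherent))
    (inferInstanceAs (((tilde.functor A).obj S.X₃).IsQuasicoherent))

/-- `j_* N~` is quasi-coherent. -/
lemma isQCoh_push (hdiag : ∀ U V : X.Opens, IsAffineOpen U → IsAffineOpen V →
    IsAffineOpen (U ⊓ V)) (N : ModuleCat.{u} A) :
    Coh.IsQCoh ((pushforward i).obj ((tilde.functor A).obj N)) :=
  haveI := quasiCompact i hdiag
  Groth.Agent.Ega1.QcqsPush.isQCoh_pushforward i _
    (inferInstanceAs (((tilde.functor A).obj N).IsQuasicoherent))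

lemma cohIn_tilde (L : CochainComplex (ModuleCat.{u} A) ℤ) :
    CohIn (qc (Spec A)) (Q.obj ((mapCx (tilde.functor A)).obj L)) :=
  Groth.Agent.PerfB.DQGeom.isQCohD_Q_of_terms _ fun n =>
    (inferInstanceAs (((tilde.functor A).obj (L.X n)).IsQuasicoherent))

lemma cohIn_push (hdiag : ∀ U V : X.Opens, IsAffineOpen U → IsAffineOpen V →
    IsAffineOpen (U ⊓ V)) (L : CochainComplex (ModuleCat.{u} A) ℤ) :
    CohIn (qc X) (Q.obj ((mapCx (pushforward i)).obj ((mapCx (tilde.functor A)).obj L))) :=
  Groth.Agent.PerfB.DQGeom.isQCohD_Q_of_terms _ fun n => isQCoh_push i hdiag (L.X n)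

/-- The cohomology of `j_* L~` is `j_* H^m(L)~`. -/
lemma exists_homologyIso (hdiag : ∀ U V : X.Opens, IsAffineOpen U → IsAffineOpen V →
    IsAffineOpen (U ⊓ V)) (L : CochainComplex (ModuleCat.{u} A) ℤ) (m : ℤ) :
    Nonempty ((homologyFunctor X.Modules m).obj
      (Q.obj ((mapCx (pushforward i)).obj ((mapCx (tilde.functor A)).obj L))) ≅
        (pushforward i).obj ((tilde.functor A).obj (L.homology m))) := by
  have := preservesFiniteColimits_comp i hdiag
  exact ⟨(homologyFunctorFactors X.Modules m).app _ ≪≫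
    (mapCxHomology (tilde.functor A ⋙ pushforward i) (ComplexShape.up ℤ) m).app L⟩

lemma affOU_restrict (hdiag : ∀ U V : X.Opens, IsAffineOpen U → IsAffineOpen V →
    IsAffineOpen (U ⊓ V)) [IsAffine Y] (G : X.Modules) (hG : affOU X G) :
    affOU Y ((restrictFunctor j).obj G) := by
  obtain ⟨W, hW, ⟨e⟩⟩ := hG
  exact ⟨j ⁻¹ᵁ W, isAffineOpen_preimage j hdiag hW,
    ⟨(restrictFunctor j).mapIso e ≪≫ restrictOU j W⟩⟩

/-- `L~` is adapted to `j_*` for every complex `L` of modules. -/
theorem adapted_tilde (hdiag : ∀ U V : X.Opens, IsAffineOpen U → IsAffineOpen V →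
    IsAffineOpen (U ⊓ V)) (L : CochainComplex (ModuleCat.{u} A) ℤ) :
    Adapted (pushforward i) ((mapCx (tilde.functor A)).obj L) := by
  have hff : (pushforward i).FullyFaithful := (restrictAdjunction i).fullyFaithfulROfIsIsoCounit
  have := hff.full
  have := hff.faithful
  refine Groth.Agent.PerfB.DQAdapt.adapted_of_acyc (restrictAdjunction i) (acyc (X := X))
    (acyc (X := Spec A)) _ (cohIn_tilde L) (cohIn_push i hdiag L) (fun m => ?_)
    (affOU_restrict i hdiag) (Groth.Agent.PerfA.QCohRes.exists_resolution _ _)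
  obtain ⟨e⟩ := exists_homologyIso i hdiag L m
  exact (restrictAdjunction i).isIso_unit_app_of_iso e

/-- Every complex is adapted to `N ↦ j_* N~`, as a functor to quasi-coherent modules. -/
theorem adapted_sFun [(qcoh X).ContainsZero] [(qcoh X).IsClosedUnderKernels]
    [(qcoh X).IsClosedUnderCokernels] [(qcoh X).IsClosedUnderFiniteProducts]
    [PreservesFiniteLimits (qcoh X).ι] [PreservesFiniteColimits (qcoh X).ι]
    (hdiag : ∀ U V : X.Opens, IsAffineOpen U → IsAffineOpen V → IsAffineOpen (U ⊓ V))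
    (h₂ : ∀ N : ModuleCat.{u} A, Coh.IsQCoh ((pushforward i).obj ((tilde.functor A).obj N)))
    (L : CochainComplex (ModuleCat.{u} A) ℤ) :
    Adapted (sFun (qcoh X) (tilde.functor A) (pushforward i) h₂) L := by
  have h1 := preservesFiniteColimits_comp i hdiag
  have h2 : PreservesFiniteLimits (sFun (qcoh X) (tilde.functor A) (pushforward i) h₂) :=
    ⟨fun J _ _ => by
      have := (preservesFiniteLimits_comp i).preservesFiniteLimits J
      have : PreservesLimitsOfShape J
          (sFun (qcoh X) (tilde.functor A) (pushforward i) h₂ ⋙ (qcoh X).ι) :=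
        preservesLimitsOfShape_of_natIso (beta (qcoh X) h₂).symm
      exact preservesLimitsOfShape_of_reflects_of_preserves _ (qcoh X).ι⟩
  have h3 : PreservesFiniteColimits (sFun (qcoh X) (tilde.functor A) (pushforward i) h₂) :=
    ⟨fun J _ _ => by
      have := h1.preservesFiniteColimits J
      have : PreservesColimitsOfShape J
          (sFun (qcoh X) (tilde.functor A) (pushforward i) h₂ ⋙ (qcoh X).ι) :=
        preservesColimitsOfShape_of_natIso (beta (qcoh X) h₂).symm
      exact preservesColimitsOfShape_of_reflects_of_preserves _ (qcoh X).ι⟩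
  exact adapted_of_exact L (Groth.Agent.PerfA.QCohRes.exists_resolution_mod _ L)

end Groth.Agent.PerfB.DQAffDiag
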