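import Mathlib.CategoryTheory.Triangulated.Subcategory
import Mathlib.CategoryTheory.Triangulated.Functor
import Mathlib.CategoryTheory.Triangulated.Yoneda

/-!
# Objects on which a triangulated functor is bijective on Hom sets

For a triangulated functor `F : C ⥤ D`, the objects `Y` such that
`F.map : (X ⟶ Y) → (F.obj X ⟶ F.obj Y)` is bijective for all `X` form a triangulated
subcategory of `C`.
-/

namespace Groth.Agent.PerfB.DQTri

open CategoryTheory CategoryTheory.Limits CategoryTheory.Pretriangulated

variable {C D : Type*} [Category* C] [Category* D] (F : C ⥤ D)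

/-- The objects `Y` such that `F` is bijective on all `Hom(X, Y)`. -/
def homBij : ObjectProperty C :=
  fun Y => ∀ X : C, Function.Bijective (fun f : X ⟶ Y => F.map f)

lemma bijective_map_of_iso {X X' Y Y' : C} (e : X ≅ X') (e' : Y ≅ Y')
    (h : Function.Bijective (fun f : X ⟶ Y => F.map f)) :
    Function.Bijective (fun f : X' ⟶ Y' => F.map f) := by
  constructor
  · intro f g hfg
    have h1 : e.hom ≫ f ≫ e'.inv = e.hom ≫ g ≫ e'.inv := by
      apply h.1
      simp only [Functor.map_comp]
      dsimp only at hfg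
      rw [hfg]
    simpa using h1
  · intro g
    obtain ⟨f, hf⟩ := h.2 (F.map e.hom ≫ g ≫ F.map e'.inv)
    refine ⟨e.inv ≫ f ≫ e'.hom, ?_⟩
    dsimp only at hf ⊢
    simp only [Functor.map_comp, hf, Category.assoc]
    rw [← F.map_comp_assoc, e.inv_hom_id, F.map_id, Category.id_comp,
      ← F.map_comp, e'.inv_hom_id, F.map_id, Category.comp_id]

instance : (homBij F).IsClosedUnderIsomorphisms where
  of_iso e h X := bijective_map_of_iso F (Iso.refl X) e (h X)

section

variable [HasShift C ℤ] [HasShift D ℤ] [F.CommShift ℤ]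

lemma bijective_map_shift {X Y : C} (n : ℤ)
    (h : Function.Bijective (fun f : X ⟶ Y => F.map f)) :
    Function.Bijective (fun f : X⟦n⟧ ⟶ Y⟦n⟧ => F.map f) := by
  constructor
  · intro f g hfg
    obtain ⟨f, rfl⟩ := (shiftFunctor C n).map_surjective f
    obtain ⟨g, rfl⟩ := (shiftFunctor C n).map_surjective g
    congr 1
    apply h.1
    dsimp only
    apply (shiftFunctor D n).map_injective
    have h1 := F.commShiftIso_hom_naturality f n
    have h2 := F.commShiftIso_hom_naturality g n
    dsimp only at hfg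
    rw [hfg, h2] at h1
    rw [← cancel_epi ((F.commShiftIso n).hom.app X)]
    exact h1.symm
  · intro g
    obtain ⟨g', hg'⟩ := (shiftFunctor D n).map_surjective
      ((F.commShiftIso n).inv.app X ≫ g ≫ (F.commShiftIso n).hom.app Y)
    obtain ⟨f, hf⟩ := h.2 g'
    refine ⟨f⟦n⟧', ?_⟩
    dsimp only at hf ⊢
    rw [← cancel_mono ((F.commShiftIso n).hom.app Y), F.commShiftIso_hom_naturality, hf, hg']
    simp

instance : (homBij F).IsStableUnderShift ℤ where
  isStableUnderShiftBy n :=
    { le_shift := by
        intro Y hY X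
        have e : (X⟦-n⟧)⟦n⟧ ≅ X := (shiftEquiv C n).counitIso.app X
        exact bijective_map_of_iso F e (Iso.refl _) (bijective_map_shift F n (hY _)) }

variable [HasZeroObject C] [HasZeroObject D] [Preadditive C] [Preadditive D]
  [∀ (n : ℤ), (shiftFunctor C n).Additive] [∀ (n : ℤ), (shiftFunctor D n).Additive]
  [Pretriangulated C] [Pretriangulated D] [F.IsTriangulated]

lemma homBij_of_isZero {Y : C} (hY : IsZero Y) : homBij F Y := by
  intro X
  have : IsZero (F.obj Y) := F.map_isZero hY
  refine ⟨fun f g _ => hY.eq_of_tgt _ _, fun g => ⟨0, this.eq_of_tgt _ _⟩⟩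

set_option backward.isDefEq.respectTransparency false in
instance : (homBij F).IsTriangulatedClosed₂ :=
  .mk' (by
    intro T hT h₁ h₃ X
    have hFT := F.map_distinguished T hT
    have hinv := inv_rot_of_distTriang _ hT
    have h₃' : homBij F (T.obj₃⟦(-1 : ℤ)⟧) := (homBij F).le_shift (-1 : ℤ) _ h₃
    have h₁' : homBij F (T.obj₁⟦(1 : ℤ)⟧) := (homBij F).le_shift (1 : ℤ) _ h₁
    constructor
    · suffices h : ∀ f : X ⟶ T.obj₂, F.map f = 0 → f = 0 by
        intro f g hfg
        rw [← sub_eq_zero]
        apply h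
        rw [F.map_sub, sub_eq_zero]
        exact hfg
      intro f hf
      have hfz : f ≫ T.mor₂ = 0 := by
        apply (h₃ X).1
        dsimp only
        rw [F.map_comp, hf, zero_comp, F.map_zero]
      obtain ⟨g, rfl⟩ := Triangle.coyoneda_exact₂ _ hT f hfz
      rw [F.map_comp] at hf
      have hFinv := F.map_distinguished _ hinv
      obtain ⟨w, hw⟩ := Triangle.coyoneda_exact₂ _ hFinv (F.map g) hf
      obtain ⟨w', rfl⟩ := (h₃' X).2 w
      have : g = w' ≫ T.invRotate.mor₁ := by
        apply (h₁ X).1
        dsimp only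
        rw [F.map_comp]
        exact hw
      rw [this, Category.assoc]
      have hz := comp_distTriang_mor_zero₁₂ _ hinv
      change w' ≫ T.invRotate.mor₁ ≫ T.invRotate.mor₂ = 0
      rw [hz, comp_zero]
    · intro g
      obtain ⟨h, hh⟩ := (h₃ X).2 (g ≫ F.map T.mor₂)
      dsimp only at hh
      have hz : h ≫ T.mor₃ = 0 := by
        apply (h₁' X).1
        dsimp only
        rw [F.map_comp, hh, F.map_zero, Category.assoc]
        have h23 := comp_distTriang_mor_zero₂₃ _ hT
        rw [← F.map_comp, h23, F.map_zero, comp_zero]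
      obtain ⟨k, rfl⟩ := Triangle.coyoneda_exact₃ _ hT h hz
      have hz' : (g - F.map k) ≫ F.map T.mor₂ = 0 := by
        rw [Preadditive.sub_comp, ← F.map_comp, hh, sub_self]
      obtain ⟨m, hm⟩ := Triangle.coyoneda_exact₂ _ hFT _ hz'
      obtain ⟨m', rfl⟩ := (h₁ X).2 m
      refine ⟨k + m' ≫ T.mor₁, ?_⟩
      dsimp only at hm ⊢
      rw [F.map_add, F.map_comp]
      have : F.map m' ≫ F.map T.mor₁ = g - F.map k := hm.symm
      rw [this]
      abel)

instance : (homBij F).IsTriangulated where
  exists_zero := ⟨_, isZero_zero C, homBij_of_isZero F (isZero_zero C)⟩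

end

end Groth.Agent.PerfB.DQTri
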