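import Groth.Agent.PerfB.DQAdj
import Groth.Agent.PerfB.DQTri
import Mathlib.Algebra.Homology.Additive

/-!
# Comparing derived categories along a square of adjunctions

Given exact functors `ι : A ⥤ B`, `ι' : A' ⥤ B'`, adjunctions `r ⊣ s : A ⇄ A'`,
`R ⊣ S : B ⇄ B'` with `r`, `R` exact, and compatible isomorphisms `ι ⋙ R ≅ r ⋙ ι'`,
`s ⋙ ι ≅ ι' ⋙ S`, if `D(ι')` is fully faithful then `D(ι)` is bijective on all Hom sets
towards the objects `Q (s L)`, with `L` adapted.
-/

universe w₁ w₂ w₃ w₄ v₁ v₂ v₃ v₄ u₁ u₂ u₃ u₄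

set_option linter.unusedSectionVars false

namespace Groth.Agent.PerfB.DQCompare

open CategoryTheory CategoryTheory.Limits DerivedCategory Groth.Agent.PerfB.DQAdj
open Groth.Agent.PerfB.DQTri

section NatIso

variable {A : Type u₁} {B : Type u₂} {A' : Type u₃} {B' : Type u₄}
  [Category.{v₁} A] [Category.{v₂} B] [Category.{v₃} A'] [Category.{v₄} B']
  [Abelian A] [Abelian B] [Abelian A'] [Abelian B']
  [HasDerivedCategory.{w₁} A] [HasDerivedCategory.{w₂} B]
  [HasDerivedCategory.{w₃} A'] [HasDerivedCategory.{w₄} B']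
  {ι : A ⥤ B} {ι' : A' ⥤ B'} {r : A ⥤ A'} {R : B ⥤ B'} (α : ι ⋙ R ≅ r ⋙ ι')
  [ι.Additive] [PreservesFiniteLimits ι] [PreservesFiniteColimits ι]
  [ι'.Additive] [PreservesFiniteLimits ι'] [PreservesFiniteColimits ι']
  [r.Additive] [PreservesFiniteLimits r] [PreservesFiniteColimits r]
  [R.Additive] [PreservesFiniteLimits R] [PreservesFiniteColimits R]

/-- The square isomorphism on cochain complexes. -/
@[simps!]
noncomputable def sqCx : mapCx ι ⋙ mapCx R ≅ mapCx r ⋙ mapCx ι' :=
  NatIso.ofComponents (fun K => HomologicalComplex.Hom.isoOfComponents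
    (fun i => α.app (K.X i)) (fun i j _ => (α.hom.naturality (K.d i j)).symm))
    (fun f => by ext i; exact α.hom.naturality (f.f i))

variable (ι R) in
/-- The composition of two derived exact functors on complexes. -/
noncomputable def factorsComp :
    Q ⋙ ι.mapDerivedCategory ⋙ R.mapDerivedCategory ≅ (mapCx ι ⋙ mapCx R) ⋙ Q :=
  (Functor.associator _ _ _).symm ≪≫
    Functor.isoWhiskerRight ι.mapDerivedCategoryFactors R.mapDerivedCategory ≪≫
    Functor.associator _ _ _ ≪≫
    Functor.isoWhiskerLeft (mapCx ι) R.mapDerivedCategoryFactors ≪≫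
    (Functor.associator _ _ _).symm

lemma factorsComp_hom_app (K : CochainComplex A ℤ) :
    (factorsComp ι R).hom.app K =
      R.mapDerivedCategory.map (ι.mapDerivedCategoryFactors.hom.app K) ≫
        R.mapDerivedCategoryFactors.hom.app ((mapCx ι).obj K) := by
  simp [factorsComp]

lemma factorsComp_inv_app (K : CochainComplex A ℤ) :
    (factorsComp ι R).inv.app K =
        R.mapDerivedCategoryFactors.inv.app ((mapCx ι).obj K) ≫
      R.mapDerivedCategory.map (ι.mapDerivedCategoryFactors.inv.app K) := by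
  simp [factorsComp]

/-- The square isomorphism on derived categories. -/
noncomputable def sqD : ι.mapDerivedCategory ⋙ R.mapDerivedCategory ≅
    r.mapDerivedCategory ⋙ ι'.mapDerivedCategory :=
  letI : Localization.Lifting Q (HomologicalComplex.quasiIso A (ComplexShape.up ℤ))
      ((mapCx ι ⋙ mapCx R) ⋙ Q) (ι.mapDerivedCategory ⋙ R.mapDerivedCategory) :=
    ⟨factorsComp ι R⟩
  letI : Localization.Lifting Q (HomologicalComplex.quasiIso A (ComplexShape.up ℤ))
      ((mapCx r ⋙ mapCx ι') ⋙ Q) (r.mapDerivedCategory ⋙ ι'.mapDerivedCategory) :=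
    ⟨factorsComp r ι'⟩
  Localization.liftNatIso Q (HomologicalComplex.quasiIso A (ComplexShape.up ℤ))
    ((mapCx ι ⋙ mapCx R) ⋙ Q) ((mapCx r ⋙ mapCx ι') ⋙ Q) _ _
    (Functor.isoWhiskerRight (sqCx α) Q)

lemma sqD_hom_app (K : CochainComplex A ℤ) :
    (sqD α).hom.app (Q.obj K) = (factorsComp ι R).hom.app K ≫ Q.map ((sqCx α).hom.app K) ≫
      (factorsComp r ι').inv.app K := by
  dsimp only [sqD, Localization.liftNatIso]
  rw [Localization.liftNatTrans_app]
  rfl

end NatIso

variable {A : Type u₁} {B : Type u₂} {A' : Type u₃} {B' : Type u₄}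
  [Category.{v₁} A] [Category.{v₂} B] [Category.{v₃} A'] [Category.{v₄} B']
  [Abelian A] [Abelian B] [Abelian A'] [Abelian B']
  [HasDerivedCategory.{w₁} A] [HasDerivedCategory.{w₂} B]
  [HasDerivedCategory.{w₃} A'] [HasDerivedCategory.{w₄} B']
  {ι : A ⥤ B} {ι' : A' ⥤ B'} {r : A ⥤ A'} {s : A' ⥤ A} {R : B ⥤ B'} {S : B' ⥤ B}
  (adj : r ⊣ s) (Adj : R ⊣ S) (α : ι ⋙ R ≅ r ⋙ ι') (β : s ⋙ ι ≅ ι' ⋙ S)
  [ι.Additive] [PreservesFiniteLimits ι] [PreservesFiniteColimits ι]
  [ι'.Additive] [PreservesFiniteLimits ι'] [PreservesFiniteColimits ι']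
  [r.Additive] [PreservesFiniteLimits r] [PreservesFiniteColimits r]
  [R.Additive] [PreservesFiniteLimits R] [PreservesFiniteColimits R]
  [s.Additive] [S.Additive]

/-- Compatibility of the two isomorphisms with the counits. -/
def Compat : Prop := ∀ N : A', R.map (β.hom.app N) ≫ Adj.counit.app (ι'.obj N) =
  α.hom.app (s.obj N) ≫ ι'.map (adj.counit.app N)

/-- `s ⋙ ι ≅ ι' ⋙ S` on complexes. -/
@[simps!]
noncomputable def betaCx (L : CochainComplex A' ℤ) :
    (mapCx ι).obj ((mapCx s).obj L) ≅ (mapCx S).obj ((mapCx ι').obj L) :=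
  HomologicalComplex.Hom.isoOfComponents
    (fun i => β.app (L.X i)) (fun i j _ => (β.hom.naturality (L.d i j)).symm)

variable {adj Adj α β}

lemma compatCx (h : Compat adj Adj α β) (L : CochainComplex A' ℤ) :
    (mapCx R).map (betaCx β L).hom ≫ counitCx Adj ((mapCx ι').obj L) =
      (sqCx α).hom.app ((mapCx s).obj L) ≫ (mapCx ι').map (counitCx adj L) := by
  ext i
  exact h (L.X i)

/-- The comparison of `cmap` for the two adjunctions. -/
lemma compatD (h : Compat adj Adj α β) (L : CochainComplex A' ℤ) :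
    R.mapDerivedCategory.map (ι.mapDerivedCategoryFactors.hom.app ((mapCx s).obj L) ≫
        Q.map (betaCx β L).hom) ≫ cmap Adj ((mapCx ι').obj L) =
    (sqD α).hom.app (Q.obj ((mapCx s).obj L)) ≫
      ι'.mapDerivedCategory.map (cmap adj L) ≫ ι'.mapDerivedCategoryFactors.hom.app L := by
  rw [sqD_hom_app]
  dsimp only [cmap]
  rw [Functor.map_comp, Functor.map_comp, factorsComp_hom_app, factorsComp_inv_app]
  simp only [Category.assoc]
  congr 1
  rw [Functor.mapDerivedCategoryFactors_hom_naturality_assoc, ← Functor.map_comp,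
    compatCx h L, Functor.map_comp]
  congr 1
  congr 1
  rw [← Functor.map_comp_assoc, Iso.inv_hom_id_app]
  erw [CategoryTheory.Functor.map_id, Category.id_comp]
  rw [Functor.mapDerivedCategoryFactors_hom_naturality, ← Category.assoc]
  erw [Iso.inv_hom_id_app, Category.id_comp]

/-- Main comparison result. -/
theorem homBij_of_adapted (h : Compat adj Adj α β)
    [ι'.mapDerivedCategory.Full] [ι'.mapDerivedCategory.Faithful]
    {L : CochainComplex A' ℤ} (hL : Adapted s L) (hL' : Adapted S ((mapCx ι').obj L)) :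
    homBij ι.mapDerivedCategory (Q.obj ((mapCx s).obj L)) := by
  intro X
  have h1 := bijective_theta adj X hL
  have h2 := bijective_theta Adj (ι.mapDerivedCategory.obj X) hL'
  let e : ι.mapDerivedCategory.obj (Q.obj ((mapCx s).obj L)) ≅
      Q.obj ((mapCx S).obj ((mapCx ι').obj L)) :=
    ι.mapDerivedCategoryFactors.app ((mapCx s).obj L) ≪≫ Q.mapIso (betaCx β L)
  have key : ∀ φ : X ⟶ Q.obj ((mapCx s).obj L),
      theta Adj _ _ (ι.mapDerivedCategory.map φ ≫ e.hom) =
        (sqD α).hom.app X ≫ ι'.mapDerivedCategory.map (theta adj _ _ φ) ≫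
          ι'.mapDerivedCategoryFactors.hom.app L := by
    intro φ
    dsimp only [theta]
    rw [Functor.map_comp, Category.assoc]
    dsimp only [e, Iso.trans_hom, Iso.app_hom, Functor.mapIso_hom]
    rw [compatD h L, Functor.map_comp, Category.assoc]
    exact ((sqD α).hom.naturality_assoc φ _)
  constructor
  · intro φ φ' hφ
    apply h1.1
    apply ι'.mapDerivedCategory.map_injective
    rw [← cancel_epi ((sqD α).hom.app X),
      ← cancel_mono (ι'.mapDerivedCategoryFactors.hom.app L)]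
    simp only [Category.assoc]
    rw [← key, ← key]
    dsimp only at hφ
    rw [hφ]
  · intro ψ
    obtain ⟨χ, hχ⟩ := ι'.mapDerivedCategory.map_surjective
      ((sqD α).inv.app X ≫ theta Adj _ _ (ψ ≫ e.hom) ≫ ι'.mapDerivedCategoryFactors.inv.app L)
    obtain ⟨φ, rfl⟩ := h1.2 χ
    refine ⟨φ, ?_⟩
    rw [← cancel_mono e.hom]
    apply h2.1
    dsimp only
    rw [key, hχ]
    simp

open Pretriangulated in
/-- The devissage step: the triangle `K₁ ⟶ K ⟶ D(ι)(Q (s L)) ⟶ K₁⟦1⟧` attached to an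
isomorphism `R K ≅ Q (ι' L)`. -/
theorem step_of_iso (h : Compat adj Adj α β) [IsIso Adj.counit]
    [ι'.mapDerivedCategory.Full] [ι'.mapDerivedCategory.Faithful]
    {L : CochainComplex A' ℤ} (hL : Adapted s L) (hL' : Adapted S ((mapCx ι').obj L))
    (K : DerivedCategory B) (e : R.mapDerivedCategory.obj K ≅ Q.obj ((mapCx ι').obj L)) :
    ∃ (N : DerivedCategory A) (K₁ : DerivedCategory B) (a : K₁ ⟶ K)
      (b : K ⟶ ι.mapDerivedCategory.obj N) (c : ι.mapDerivedCategory.obj N ⟶ K₁⟦(1 : ℤ)⟧),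
      Triangle.mk a b c ∈ distTriang (DerivedCategory B) ∧
      homBij ι.mapDerivedCategory N ∧ IsZero (R.mapDerivedCategory.obj K₁) ∧
      ∃ I : CochainComplex B' ℤ, I.IsKInjective ∧
        Nonempty (Q.obj I ≅ R.mapDerivedCategory.obj K) ∧
        Nonempty (ι.mapDerivedCategory.obj N ≅ Q.obj ((mapCx S).obj I)) := by
  obtain ⟨κ, hκ⟩ := (bijective_theta Adj K hL').2 e.hom
  have hκ' : IsIso (R.mapDerivedCategory.map κ) := by
    have : IsIso (R.mapDerivedCategory.map κ ≫ cmap Adj ((mapCx ι').obj L)) := by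
      dsimp only [theta] at hκ
      rw [hκ]
      infer_instance
    exact IsIso.of_isIso_comp_right _ (cmap Adj ((mapCx ι').obj L))
  let e' : ι.mapDerivedCategory.obj (Q.obj ((mapCx s).obj L)) ≅
      Q.obj ((mapCx S).obj ((mapCx ι').obj L)) :=
    ι.mapDerivedCategoryFactors.app ((mapCx s).obj L) ≪≫ Q.mapIso (betaCx β L)
  obtain ⟨K₁, a, c, hT⟩ := distinguished_cocone_triangle₁ (κ ≫ e'.inv)
  refine ⟨_, K₁, a, κ ≫ e'.inv, c, hT, homBij_of_adapted h hL hL', ?_, ?_⟩
  · refine Triangle.isZero₁_of_isIso₂ _ (R.mapDerivedCategory.map_distinguished _ hT) ?_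
    change IsIso (R.mapDerivedCategory.map (κ ≫ e'.inv))
    rw [Functor.map_comp]
    infer_instance
  · obtain ⟨I, s, hI, hs, hs'⟩ := hL'
    exact ⟨I, hI, ⟨(asIso (Q.map s)).symm ≪≫ e.symm⟩, ⟨e' ≪≫ asIso (Q.map ((mapCx S).map s))⟩⟩

end Groth.Agent.PerfB.DQCompare
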