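import Groth.Agent.PerfB.DQTri

/-!
# A devissage criterion for full faithfulness and essential image

`F : C ⥤ D` triangulated, `P` a triangulated subcategory of `D` containing the image of `F`,
`Z i` (`i` in a finite set) triangulated subcategories of `D` with `P ⊓ ⨅ Z i = 0`.  If for every
`i` and every `K` in `P` there is a triangle `K₁ ⟶ K ⟶ F N ⟶ K₁⟦1⟧` with `K₁` in `Z i`, such that
`F` is bijective on `Hom(-, N)` and `F N` lies in all the `Z i'` containing `K`,
then `F` is fully faithful with essential image `P`.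
-/

set_option linter.unusedSectionVars false

namespace Groth.Agent.PerfB.DQMain

open CategoryTheory CategoryTheory.Limits CategoryTheory.Pretriangulated ZeroObject
open Groth.Agent.PerfB.DQTri

variable {C D : Type*} [Category* C] [Category* D] (F : C ⥤ D)
  [HasShift C ℤ] [HasShift D ℤ] [F.CommShift ℤ]
  [HasZeroObject C] [HasZeroObject D] [Preadditive C] [Preadditive D]
  [∀ (n : ℤ), (shiftFunctor C n).Additive] [∀ (n : ℤ), (shiftFunctor D n).Additive]
  [Pretriangulated C] [Pretriangulated D] [F.IsTriangulated]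

lemma full_of_homBij (h : ∀ Y, homBij F Y) : F.Full where
  map_surjective := fun {X Y} => (h Y X).2

lemma faithful_of_homBij (h : ∀ Y, homBij F Y) : F.Faithful where
  map_injective := fun {X Y} _ _ hf => (h Y X).1 hf

/-- If two distinguished triangles have isomorphic maps `obj₂ ⟶ obj₃`, then a property
stable under isomorphisms and shifts holds for one `obj₁` when it holds for the other. -/
lemma prop_obj₁_of_iso (Z : ObjectProperty D) [Z.IsTriangulated] [Z.IsClosedUnderIsomorphisms]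
    {T T' : Triangle D} (hT : T ∈ distTriang D) (hT' : T' ∈ distTriang D)
    (e₂ : T.obj₂ ≅ T'.obj₂) (e₃ : T.obj₃ ≅ T'.obj₃) (comm : T.mor₂ ≫ e₃.hom = e₂.hom ≫ T'.mor₂)
    (h : Z T.obj₁) : Z T'.obj₁ := by
  have e := isoTriangleOfIso₁₂ _ _ (rot_of_distTriang _ hT) (rot_of_distTriang _ hT') e₂ e₃ comm
  have e' : T.obj₁⟦(1 : ℤ)⟧ ≅ T'.obj₁⟦(1 : ℤ)⟧ := Triangle.π₃.mapIso e
  have h1 : Z (T'.obj₁⟦(1 : ℤ)⟧) := Z.prop_of_iso e' (Z.le_shift (1 : ℤ) _ h)
  have h2 : Z ((T'.obj₁⟦(1 : ℤ)⟧)⟦(-1 : ℤ)⟧) := Z.le_shift (-1 : ℤ) _ h1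
  exact Z.prop_of_iso ((shiftEquiv D (1 : ℤ)).unitIso.symm.app T'.obj₁) h2

variable {J : Type*} [Finite J] (P : ObjectProperty D) [P.IsTriangulated]
  [P.IsClosedUnderIsomorphisms] (Z : J → ObjectProperty D) [∀ i, (Z i).IsTriangulated]
  [∀ i, (Z i).IsClosedUnderIsomorphisms]

/-- The devissage step. -/
def Step : Prop :=
  ∀ (i : J) (K : D), P K → ∃ (N : C) (K₁ : D) (a : K₁ ⟶ K) (b : K ⟶ F.obj N)
    (c : F.obj N ⟶ K₁⟦(1 : ℤ)⟧), Triangle.mk a b c ∈ distTriang D ∧ homBij F N ∧ Z i K₁ ∧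
      ∀ i', Z i' K → Z i' (F.obj N)

include F in
theorem homBij_all (hP : ∀ X, P (F.obj X)) (hcons : ∀ X : C, IsZero (F.obj X) → IsZero X)
    (hZ : ∀ K, P K → (∀ i, Z i K) → IsZero K) (step : Step F P Z) (M : C) : homBij F M := by
  classical
  have := Fintype.ofFinite J
  suffices h : ∀ (S : Finset J) (M : C), (∀ i, i ∉ S → Z i (F.obj M)) → homBij F M from
    h Finset.univ M (by simp)
  intro S
  induction S using Finset.induction_on with
  | empty =>
    intro M hM
    exact homBij_of_isZero F (hcons M (hZ _ (hP M) (fun i => hM i (by simp))))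
  | insert i S hi IH =>
    intro M hM
    obtain ⟨N, K₁, a, b, c, hT, hN, hK₁, hi'⟩ := step i (F.obj M) (hP M)
    obtain ⟨f, rfl⟩ := (hN M).2 b
    obtain ⟨M₁, g, h, hT'⟩ := distinguished_cocone_triangle₁ f
    have hFT' := F.map_distinguished _ hT'
    have hM₁ : ∀ j, j ∉ S → Z j (F.obj M₁) := by
      intro j hj
      by_cases hij : j = i
      · subst hij
        exact prop_obj₁_of_iso (Z j) hT hFT' (Iso.refl _) (Iso.refl _)
          ((Category.comp_id _).trans (Category.id_comp _).symm) hK₁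
      · have h1 : Z j (F.obj M) := hM j (by simp [hij, hj])
        exact (Z j).ext_of_isTriangulatedClosed₁ _ hFT' h1 (hi' j h1)
    exact (homBij F).ext_of_isTriangulatedClosed₂ _ hT' (IH M₁ hM₁) hN

include F in
theorem essImage_all (hP : ∀ X, P (F.obj X)) [F.Full]
    (hZ : ∀ K, P K → (∀ i, Z i K) → IsZero K) (step : Step F P Z) (K : D) (hK : P K) :
    F.essImage K := by
  classical
  have := Fintype.ofFinite J
  suffices h : ∀ (S : Finset J) (K : D), P K → (∀ i, i ∉ S → Z i K) → F.essImage K from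
    h Finset.univ K hK (by simp)
  intro S
  induction S using Finset.induction_on with
  | empty =>
    intro K hK h
    have hK0 := hZ K hK (fun i => h i (by simp))
    exact ⟨0, ⟨(F.map_isZero (isZero_zero C)).iso hK0⟩⟩
  | insert i S hi IH =>
    intro K hK hM
    obtain ⟨N, K₁, a, b, c, hT, hN, hK₁, hi'⟩ := step i K hK
    have hPK₁ : P K₁ := P.ext_of_isTriangulatedClosed₁ _ hT hK (hP N)
    have hM₁ : ∀ j, j ∉ S → Z j K₁ := by
      intro j hj
      by_cases hij : j = i
      · subst hij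
        exact hK₁
      · have h1 : Z j K := hM j (by simp [hij, hj])
        exact (Z j).ext_of_isTriangulatedClosed₁ _ hT h1 (hi' j h1)
    exact F.essImage.ext_of_isTriangulatedClosed₂ _ hT (IH K₁ hPK₁ hM₁) (F.obj_mem_essImage N)

/-- The devissage theorem. -/
theorem main (hP : ∀ X, P (F.obj X)) (hcons : ∀ X : C, IsZero (F.obj X) → IsZero X)
    (hZ : ∀ K, P K → (∀ i, Z i K) → IsZero K) (step : Step F P Z) :
    F.Full ∧ F.Faithful ∧ ∀ K, P K ↔ ∃ M, Nonempty (F.obj M ≅ K) := by
  have h := homBij_all F P Z hP hcons hZ step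
  have hfull := full_of_homBij F h
  refine ⟨hfull, faithful_of_homBij F h, fun K => ⟨fun hK => ?_, ?_⟩⟩
  · exact essImage_all F P Z hP hZ step K hK
  · rintro ⟨M, ⟨e⟩⟩
    exact P.prop_of_iso e (hP M)

end Groth.Agent.PerfB.DQMain
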