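import Groth.Agent.Dcoh.LocalD
import Groth.Agent.PerfA.Restrict
import Groth.Agent.PerfB.TensUnit
import Groth.Agent.PerfB.FlatPull
import Groth.Agent.PerfB.FreeRank
import Mathlib.Algebra.Homology.DerivedCategory.FullyFaithful

/-!
# Objects of `D(O_X)` which are locally `O^r[-i]`
-/

set_option autoImplicit false
universe u
open CategoryTheory CategoryTheory.Limits AlgebraicGeometry
attribute [local instance] HasDerivedCategory.standard

namespace Groth.Agent.PerfB.DegLoc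

open Groth.Agent.Dcoh Groth.Agent.Dcoh.LocalD

variable {X Y : Scheme.{u}}

/-- `M[-i]` -/
noncomputable abbrev sg (i : ℤ) (M : X.Modules) : DCoh.D X :=
  (DerivedCategory.singleFunctor X.Modules i).obj M

/-- The complex `M[-i]` -/
noncomputable abbrev cx (i : ℤ) (M : X.Modules) : CochainComplex X.Modules ℤ :=
  (HomologicalComplex.single X.Modules (ComplexShape.up ℤ) i).obj M

noncomputable def sgQ (i : ℤ) (M : X.Modules) : sg i M ≅ DerivedCategory.Q.obj (cx i M) :=
  (DerivedCategory.singleFunctorIsoCompQ X.Modules i).app M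

/-- `(inD M)[-i] ≅ M[-i]`. -/
noncomputable def sgShift (i : ℤ) (M : X.Modules) : (DCoh.inD X M)⟦-i⟧ ≅ sg i M :=
  ((DerivedCategory.singleFunctors X.Modules).shiftIso (-i) i 0 (by simp)).app M

/-- an additive functor applied to `M[-i]`. -/
noncomputable def mapCx (F : X.Modules ⥤ Y.Modules) [F.Additive] (i : ℤ) (M : X.Modules) :
    (F.mapHomologicalComplex (ComplexShape.up ℤ)).obj (cx i M) ≅ cx i (F.obj M) :=
  (HomologicalComplex.singleMapHomologicalComplex F (ComplexShape.up ℤ) i).app M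

/-- Restriction of `M[-i]`. -/
noncomputable def restrictSg (f : X ⟶ Y) [IsOpenImmersion f] (i : ℤ) (M : Y.Modules) :
    (DCoh.restrictD f).obj (sg i M) ≅ sg i (M.restrict f) :=
  (DCoh.restrictD f).mapIso (sgQ i M) ≪≫ QRestrict f _ ≪≫
    DerivedCategory.Q.mapIso (mapCx (Scheme.Modules.restrictFunctor f) i M) ≪≫ (sgQ i _).symm

noncomputable def HDsg (i : ℤ) (M : X.Modules) : DCoh.HD (sg i M) i ≅ M :=
  (DerivedCategory.singleFunctorCompHomologyFunctorIso X.Modules i).app M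

lemma isZero_HDsg (i j : ℤ) (h : j ≠ i) (M : X.Modules) : IsZero (DCoh.HD (sg i M) j) := by
  rcases lt_or_gt_of_ne h with h | h
  · exact DerivedCategory.isZero_of_isGE _ i j h
  · exact DerivedCategory.isZero_of_isLE _ i j h

/-- `K ≅ O^r[-i]`. -/
def Conc (i : ℤ) (r : ℕ) : PropD.{u} := fun U K => Nonempty (K ≅ sg i (FlatMod.freeMod U r))

lemma isStable_conc (i : ℤ) (r : ℕ) : IsStable (Conc.{u} i r) where
  iso e := fun ⟨a⟩ => ⟨e.symm ≪≫ a⟩
  restrict f _ _ := fun ⟨a⟩ => ⟨(DCoh.restrictD f).mapIso a ≪≫ restrictSg f i _ ≪≫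
    (DerivedCategory.singleFunctor _ i).mapIso (freeModRestrict f r)⟩

/-- An object locally isomorphic to `O^r[-i]` is `W[-i]` with `W` locally free of rank `r`. -/
theorem exists_of_locally (i : ℤ) (r : ℕ) (K : DCoh.D X) (h : Locally (Conc i r) X K) :
    ∃ W : X.Modules, FlatMod.IsFinLocFreeOfRank r W ∧ Nonempty (K ≅ sg i W) := by
  have hz : ∀ j : ℤ, j ≠ i → IsZero (DCoh.HD K j) := by
    intro j hj
    apply PerfA.Restrict.isZero_of_restrict_opens
    intro x
    obtain ⟨V, hx, ⟨a⟩⟩ := h x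
    refine ⟨V, hx, ?_⟩
    exact (isZero_HDsg i j hj _).of_iso ((HDRestrict V.ι K j).symm ≪≫
      (DerivedCategory.homologyFunctor _ j).mapIso a)
  have h1 : K.IsGE i := (DerivedCategory.isGE_iff _ _).2 fun j hj => hz j hj.ne
  have h2 : K.IsLE i := (DerivedCategory.isLE_iff _ _).2 fun j hj => hz j hj.ne'
  obtain ⟨W, ⟨e⟩⟩ := K.exists_iso_singleFunctor_obj_of_isGE_of_isLE i
  refine ⟨W, fun x => ?_, ⟨e⟩⟩
  obtain ⟨V, hx, ⟨a⟩⟩ := h x
  exact ⟨V, hx, ⟨(HDsg i _).symm ≪≫ (DerivedCategory.homologyFunctor _ i).mapIso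
    ((restrictSg V.ι i W).symm ≪≫ (DCoh.restrictD V.ι).mapIso e.symm ≪≫ a) ≪≫ HDsg i _⟩⟩

end Groth.Agent.PerfB.DegLoc
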