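import Groth.Agent.PerfB.FlatPull
import Groth.Agent.Fdesc.FinStalk
import Groth.Agent.Fdesc.StalkExt
import Groth.Agent.VarietyA.StalkCrit
import Groth.Agent.CohqB.FiniteType
import Groth.Agent.Dcoh.FinLocFree

/-!
# Flat descent of finite type for arbitrary modules (helper342)

`f : X ⟶ Y` flat, surjective, submersive (e.g. moreover quasi-compact, or universally open),
`M : Y.Modules` arbitrary: `M` is of finite type as soon as `f^* M` is.
-/

set_option autoImplicit false
universe u

open CategoryTheory CategoryTheory.Limits AlgebraicGeometry TopologicalSpace Opposite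

namespace Groth.Agent.PerfB.DescFT

open Groth.Agent.PerfB.FlatPull Groth.Agent.CycB.StalkExact Groth.Agent.VarietyA.StalkCrit
open Groth.Agent.Fdesc Groth.Agent.Dcoh.FinLocFree
open AlgebraicGeometry.Scheme.Modules

variable {X Y : Scheme.{u}}

/-! ### Spreading out generators of a stalk -/

/-- A finitely generated stalk is spanned by germs of finitely many sections over one open. -/
theorem exists_sections_span (M : X.Modules) (x : X)
    (h : Module.Finite (X.presheaf.stalk x) (M.presheaf.stalk x)) :
    ∃ (V : X.Opens) (hx : x ∈ V) (n : ℕ) (s : Fin n → Γ(M, V)),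
      Submodule.span (X.presheaf.stalk x)
        (Set.range fun i => M.presheaf.germ V x hx (s i)) = ⊤ := by
  obtain ⟨n, g, hg⟩ := Module.Finite.exists_fin (R := X.presheaf.stalk x)
    (M := M.presheaf.stalk x)
  choose W hW s hs using fun i => TopCat.Presheaf.exists_germ_eq M.presheaf (g i)
  let V : X.Opens := ⟨⋂ i, (W i : Set X), isOpen_iInter_of_finite fun i => (W i).isOpen⟩
  have hx : x ∈ V := Set.mem_iInter.mpr hW
  have hle : ∀ i, V ≤ W i := fun i => Set.iInter_subset (fun i => (W i : Set X)) i
  refine ⟨V, hx, n, fun i => M.presheaf.map (homOfLE (hle i)).op (s i), ?_⟩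
  have : (fun i => M.presheaf.germ V x hx (M.presheaf.map (homOfLE (hle i)).op (s i))) = g := by
    funext i
    rw [← hs i]
    exact TopCat.Presheaf.germ_res_apply _ _ _ _ _
  rw [this, hg]

/-- If germs of global sections span a stalk, the corresponding map from a free module is
surjective on the stalk. -/
theorem stalkLin_freeDesc_surjective {M : X.Modules} {n : ℕ} (s : Fin n → Γ(M, ⊤)) (x : X)
    (h : Submodule.span (X.presheaf.stalk x)
      (Set.range fun i => M.presheaf.germ ⊤ x trivial (s i)) = ⊤) :
    Function.Surjective (stalkLin (freeDesc s) x) := by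
  rw [← LinearMap.range_eq_top, ← top_le_iff, ← h, Submodule.span_le]
  rintro _ ⟨i, rfl⟩
  refine ⟨(FlatMod.freeMod X n).presheaf.germ ⊤ x trivial (freeSec (𝟙 _) i), ?_⟩
  rw [stalkLin_germ, ← freeSec_comp, Category.id_comp, freeSec_freeDesc]

/-- The image under `canAdd` of a spanning family spans the stalk of the pullback. -/
theorem span_canAdd (f : X ⟶ Y) (M : Y.Modules) (x : X) {n : ℕ}
    (g : Fin n → M.presheaf.stalk (f.base x))
    (hg : Submodule.span (Y.presheaf.stalk (f.base x)) (Set.range g) = ⊤) :
    Submodule.span (X.presheaf.stalk x)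
      (Set.range fun i => PullbackStalk.canAdd f M x (g i)) = ⊤ := by
  rw [← top_le_iff, ← PullbackStalk.span_range_canAdd f M x, Submodule.span_le]
  rintro _ ⟨t, rfl⟩
  have ht : t ∈ Submodule.span (Y.presheaf.stalk (f.base x)) (Set.range g) := by
    rw [hg]; trivial
  induction ht using Submodule.span_induction with
  | mem t ht =>
    obtain ⟨i, rfl⟩ := ht
    exact Submodule.subset_span ⟨i, rfl⟩
  | zero =>
    rw [map_zero]; exact Submodule.zero_mem _
  | add a b _ _ ha hb =>
    rw [map_add]; exact Submodule.add_mem _ ha hb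
  | smul r a _ ha =>
    rw [SetLike.mem_coe, PullbackStalk.canAdd_smul]
    exact Submodule.smul_mem _ _ ha

/-- A finitely generated stalk is reached by a map from a finite free module near the point. -/
theorem exists_stalkLin_surjective (M : X.Modules) (x : X)
    (h : Module.Finite (X.presheaf.stalk x) (M.presheaf.stalk x)) :
    ∃ (V : X.Opens) (hx : x ∈ V) (n : ℕ)
      (φ : FlatMod.freeMod V.toScheme n ⟶ (Scheme.Modules.pullback V.ι).obj M),
      Function.Surjective (stalkLin φ (⟨x, hx⟩ : V)) := by
  obtain ⟨V, hx, n, s, hs⟩ := exists_sections_span M x h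
  let x' : V := ⟨x, hx⟩
  let N := (Scheme.Modules.pullback V.ι).obj M
  have hV : (⊤ : V.toScheme.Opens) ≤ V.ι ⁻¹ᵁ V := by simp
  let s' : Fin n → Γ(N, ⊤) := fun i => N.presheaf.map (homOfLE hV).op
    (((Scheme.Modules.pullbackPushforwardAdjunction V.ι).unit.app M).app V (s i))
  refine ⟨V, hx, n, freeDesc s', stalkLin_freeDesc_surjective s' x' ?_⟩
  have h1 := span_canAdd V.ι M x' _ hs
  rw [← h1]
  congr 2
  funext i
  refine (TopCat.Presheaf.germ_res_apply N.presheaf (homOfLE hV) x' trivial _).trans ?_
  exact (PullbackStalk.canAdd_germ V.ι M x' V hx (s i)).symm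

/-! ### The main theorem -/

/-- If `f^* C` is of finite type, the vanishing locus of `C` is open. -/
theorem isOpen_subsingleton_stalk (f : X ⟶ Y) [Flat f] [Surjective f]
    (hq : Topology.IsQuotientMap f.base) (C : Y.Modules)
    (h : CohB1.IsFT ((Scheme.Modules.pullback f).obj C)) :
    IsOpen {y : Y | Subsingleton (C.presheaf.stalk y)} := by
  rw [← hq.isOpen_preimage]
  convert CohqA.FTStalk.isOpen_setOf_subsingleton_stalk _ h using 1
  ext x
  exact ⟨fun h' => by
    have : Subsingleton (C.presheaf.stalk (f x)) := h'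
    exact subsingleton_stalk_pullback f C x, fun h' => by
    have : Subsingleton (((Scheme.Modules.pullback f).obj C).presheaf.stalk x) := h'
    exact subsingleton_stalk_of_pullback f C x⟩

theorem hasFinGen_of_free {M : X.Modules} (I : Type u) [Finite I]
    (π : @Quiver.Hom X.Modules _ (SheafOfModules.free (R := X.ringCatSheaf) I) M) (hπ : Epi π) :
    CohqB.FiniteType.HasFinGen M := by
  refine ⟨{ I := I, s := SheafOfModules.freeHomEquiv M π, epi := ?_ }, ⟨‹Finite I›⟩⟩
  rw [Equiv.symm_apply_apply]
  exact hπ

theorem hasFinGen_freeMod (X : Scheme.{u}) (n : ℕ) :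
    CohqB.FiniteType.HasFinGen (FlatMod.freeMod X n) := by
  let e : (∐ fun _ : ULift.{u} (Fin n) => Coh.structureModule X) ≅ FlatMod.freeMod X n :=
    Sigma.whiskerEquiv (f := fun _ : ULift.{u} (Fin n) => Coh.structureModule X)
      (g := fun _ : Fin n => Coh.structureModule X) Equiv.ulift (fun _ => Iso.refl _)
  exact hasFinGen_of_free (ULift.{u} (Fin n)) e.hom inferInstance

/-- `M` is generated near `y` if the stalk of the cokernel vanishes in a neighbourhood. -/
theorem hasFinGen_restrict_of_stalk {F M : X.Modules} (hF : CohqB.FiniteType.HasFinGen F)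
    (φ : F ⟶ M) (W : X.Opens) (hW : ∀ x ∈ W, Function.Surjective (stalkLin φ x)) :
    CohqB.FiniteType.HasFinGen (M.restrict W.ι) := by
  have h1 : IsZero ((restrictFunctor W.ι).obj (cokernel φ)) := by
    refine isZero_of_stalks _ fun x => ?_
    refine (CohqA.FTStalk.subsingleton_stalk_restrict_iff W.ι (cokernel φ) x).mpr ?_
    exact (subsingleton_cokernel_stalk_iff φ _).mpr (hW _ x.2)
  have h2 : Epi ((restrictFunctor W.ι).map φ) := by
    refine Preadditive.epi_of_isZero_cokernel _ (h1.of_iso ?_)
    exact (PreservesCokernel.iso (restrictFunctor W.ι) φ).symm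
  exact (hF.restrict W.ι).of_epi ((restrictFunctor W.ι).map φ)

theorem isFT_of_pullback (f : X ⟶ Y) [Flat f] [Surjective f]
    (hq : Topology.IsQuotientMap f.base) (M : Y.Modules)
    (h : CohB1.IsFT ((Scheme.Modules.pullback f).obj M)) : CohB1.IsFT M := by
  refine CohqB.FiniteType.isFT_of_cover fun y => ?_
  obtain ⟨x, rfl⟩ := f.surjective y
  have hff : (f.stalkMap x).hom.FaithfullyFlat := by
    exact StalkExt.faithfullyFlat_stalkMap f x
  have hfin := FinStalk.finite_stalk_of_pullback f M x hff
    (FinStalk.finite_stalk_of_isFiniteType _ h x)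
  obtain ⟨V, hx, n, φ, hφ⟩ := exists_stalkLin_surjective M (f.base x) hfin
  let C := cokernel φ
  let g : (f ⁻¹ᵁ V).toScheme ⟶ V.toScheme := f ∣_ V
  have hqg : Topology.IsQuotientMap g.base := by
    have h1 := hq.restrictPreimage_isOpen V.isOpen
    have h2 : ⇑(f ∣_ V) = (V : Set Y).restrictPreimage f := morphismRestrict_base f V
    rw [← h2] at h1
    exact h1
  have : Surjective g := IsZariskiLocalAtTarget.restrict ‹Surjective f› V
  have hC : CohB1.IsFT ((Scheme.Modules.pullback g).obj C) := by
    have h1 : CohB1.IsFT (((Scheme.Modules.pullback f).obj M).restrict (f ⁻¹ᵁ V).ι) :=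
      CohqB.FiniteType.IsFT.restrict h _
    have h2 : CohB1.IsFT ((Scheme.Modules.pullback g).obj ((Scheme.Modules.pullback V.ι).obj M)) :=
      CohqB.FiniteType.IsFT.of_iso h1 ((pullbackRestrict f V).app M ≪≫
        (Scheme.Modules.pullback g).mapIso ((restrictFunctorIsoPullback V.ι).app M))
    exact CohqB.FiniteType.IsFT.of_epi h2 ((Scheme.Modules.pullback g).map (cokernel.π φ))
  have hop := isOpen_subsingleton_stalk g hqg C hC
  let W : V.toScheme.Opens := ⟨_, hop⟩
  have hW : CohqB.FiniteType.HasFinGen (((Scheme.Modules.pullback V.ι).obj M).restrict W.ι) :=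
    hasFinGen_restrict_of_stalk (hasFinGen_freeMod _ n) φ W fun y hy =>
      (subsingleton_cokernel_stalk_iff φ y).mp hy
  refine ⟨W.toScheme, W.ι ≫ V.ι, inferInstance, ?_, ?_⟩
  · have hyW : (⟨f.base x, hx⟩ : V) ∈ W :=
      (subsingleton_cokernel_stalk_iff φ _).mpr hφ
    exact ⟨⟨⟨f.base x, hx⟩, hyW⟩, rfl⟩
  · refine CohqB.FiniteType.IsFT.of_iso hW.isFT ?_
    exact (restrictFunctor W.ι).mapIso ((restrictFunctorIsoPullback V.ι).symm.app M) ≪≫
      (restrictFunctorComp W.ι V.ι).symm.app M

/-- The version for flat surjective quasi-compact morphisms. -/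
theorem isFT_of_pullback_of_quasiCompact (f : X ⟶ Y) [Flat f] [Surjective f] [QuasiCompact f]
    (M : Y.Modules) (h : CohB1.IsFT ((Scheme.Modules.pullback f).obj M)) : CohB1.IsFT M :=
  isFT_of_pullback f (Flat.isQuotientMap_of_surjective f) M h

/-- The version for flat surjective open maps (e.g. flat, locally of finite presentation). -/
theorem isFT_of_pullback_of_isOpenMap (f : X ⟶ Y) [Flat f] [Surjective f]
    (hf : IsOpenMap f.base) (M : Y.Modules)
    (h : CohB1.IsFT ((Scheme.Modules.pullback f).obj M)) : CohB1.IsFT M :=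
  isFT_of_pullback f (hf.isQuotientMap f.continuous f.surjective) M h

end Groth.Agent.PerfB.DescFT
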