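import Groth.Agent.PerfB.FFFamily
import Mathlib.RingTheory.Flat.Stability

/-!
# Jointly faithfully flat finite families of ring maps: flatness of modules descends
-/

set_option autoImplicit false
universe u v w
open CategoryTheory CategoryTheory.Limits TensorProduct

namespace Groth.Agent.PerfB.FFFlat

section Algebra

variable (A : Type u) [CommRing A] {ι : Type v} [Finite ι] (B : ι → Type w) [∀ j, CommRing (B j)]
  [∀ j, Algebra A (B j)]

theorem injective_of_forall [Module.FaithfullyFlat A (∀ j, B j)] [∀ j, Module.Flat A (B j)]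
    {M N : Type*} [AddCommGroup M] [Module A M]
    [AddCommGroup N] [Module A N] (f : M →ₗ[A] N) (h : ∀ j, Function.Injective (f.lTensor (B j))) :
    Function.Injective f := by
  rw [← LinearMap.ker_eq_bot, ← Submodule.subsingleton_iff_eq_bot]
  apply FFFamily.subsingleton_of_forall A B
  intro j
  have h1 : Function.Injective (LinearMap.lTensor (B j) (LinearMap.ker f).subtype) :=
    Module.Flat.lTensor_preserves_injective_linearMap _ (LinearMap.ker f).injective_subtype
  have h2 : f ∘ₗ (LinearMap.ker f).subtype = 0 := by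
    ext x
    exact x.2
  have h3 : LinearMap.lTensor (B j) (LinearMap.ker f).subtype = 0 := by
    rw [← LinearMap.cancel_left (h j), ← LinearMap.lTensor_comp, h2]
    simp
  rw [h3] at h1
  exact ⟨fun a b => h1 rfl⟩

theorem flat_of_forall [Module.FaithfullyFlat A (∀ j, B j)] [∀ j, Module.Flat A (B j)] (M : Type*) [AddCommGroup M]
    [Module A M] (h : ∀ j, Module.Flat (B j) (B j ⊗[A] M)) : Module.Flat A M := by
  rw [Module.Flat.iff_lTensor_preserves_injective_linearMap]
  intro N N' _ _ _ _ f hf
  apply injective_of_forall A B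
  intro j
  have h1 : Module.Flat A (B j ⊗[A] M) := Module.Flat.trans A (B j) (B j ⊗[A] M)
  have h2 : Function.Injective (LinearMap.lTensor (B j ⊗[A] M) f) :=
    Module.Flat.lTensor_preserves_injective_linearMap _ hf
  have h3 : (TensorProduct.assoc A (B j) M N').toLinearMap ∘ₗ LinearMap.lTensor (B j ⊗[A] M) f =
      LinearMap.lTensor (B j) (LinearMap.lTensor M f) ∘ₗ (TensorProduct.assoc A (B j) M N).toLinearMap := by
    ext
    simp
  have h4 : Function.Injective (LinearMap.lTensor (B j) (LinearMap.lTensor M f) ∘ₗ
      (TensorProduct.assoc A (B j) M N).toLinearMap) := by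
    rw [← h3]
    exact (TensorProduct.assoc A (B j) M N').injective.comp h2
  intro x y hxy
  obtain ⟨x', rfl⟩ := (TensorProduct.assoc A (B j) M N).surjective x
  obtain ⟨y', rfl⟩ := (TensorProduct.assoc A (B j) M N).surjective y
  exact congrArg _ (h4 hxy)

end Algebra

section Category

variable {A : Type u} [CommRing A] {ι : Type v} [Finite ι] (B : ι → Type u) [∀ j, CommRing (B j)] (φ : ∀ j, A →+* B j)

theorem flat_module_of_forall (hφ : ∀ j, (φ j).Flat)
    (h : ∀ p : PrimeSpectrum A, ∃ j, ∃ q : PrimeSpectrum (B j), PrimeSpectrum.comap (φ j) q = p)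
    (M : ModuleCat.{u} A) (hM : ∀ j, Module.Flat (B j) ((ModuleCat.extendScalars.{u, u, u} (φ j)).obj M)) :
    Module.Flat A M := by
  let : ∀ j, Algebra A (B j) := fun j => (φ j).toAlgebra
  have : ∀ j, Module.Flat A (B j) := fun j => hφ j
  have := FFFamily.faithfullyFlat_pi (A := A) B h
  exact flat_of_forall A B M hM

end Category

end Groth.Agent.PerfB.FFFlat
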