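import Groth.Agent.PerfB.DescRing
import Groth.Agent.S2066
import Mathlib.Algebra.Homology.DerivedCategory.KProjective
import Mathlib.Algebra.Homology.Embedding.CochainComplex
import Groth.Agent.PerfB.FFFlat
import Mathlib.RingTheory.Flat.Stability
import Mathlib.RingTheory.Flat.EquationalCriterion

/-!
# Descent of perfectness along faithfully flat families of ring maps
-/

set_option autoImplicit false
universe u v w
open CategoryTheory CategoryTheory.Limits ZeroObject
attribute [local instance] HasDerivedCategory.standard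

namespace Groth.Agent.PerfB.DescPerf

section General

variable {C : Type u} [Category.{v} C] [Abelian C]

/-- If the identity of `K` is homotopic to an endomorphism which vanishes in degree `i`, the object
`coker (K.X (i - 1) ⟶ K.X i)` is a retract of `K.X i`. -/
lemma retract_opcycles (K : CochainComplex C ℤ) (g : K ⟶ K) (h : Homotopy g (𝟙 K)) (i : ℤ) (hg : g.f i = 0) :
    ∃ s : K.opcycles i ⟶ K.X i, s ≫ K.pOpcycles i = 𝟙 _ := by
  have h1 := h.comm i
  rw [hg, dNext_eq h.hom (show (ComplexShape.up ℤ).Rel i (i + 1) by simp),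
    prevD_eq h.hom (show (ComplexShape.up ℤ).Rel (i - 1) i by simp)] at h1
  have h2 : K.d (i - 1) i ≫ (-(K.d i (i + 1) ≫ h.hom (i + 1) i)) = 0 := by simp
  refine ⟨K.descOpcycles (-(K.d i (i + 1) ≫ h.hom (i + 1) i)) (i - 1) (by simp) h2, ?_⟩
  rw [← cancel_epi (K.pOpcycles i), HomologicalComplex.p_descOpcycles_assoc]
  have h3 : -(K.d i (i + 1) ≫ h.hom (i + 1) i) = h.hom i (i - 1) ≫ K.d (i - 1) i + 𝟙 _ := by
    rw [neg_eq_iff_add_eq_zero]
    rw [HomologicalComplex.id_f] at h1
    rw [h1]
    abel
  rw [h3, Preadditive.add_comp, Category.assoc, HomologicalComplex.d_pOpcycles]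
  simp

/-- Isomorphic K-projective objects of the derived category are homotopy equivalent. -/
lemma exists_homotopyEquiv [HasDerivedCategory.{w} C] (K L : CochainComplex C ℤ) [K.IsKProjective] [L.IsKProjective]
    (e : DerivedCategory.Q.obj K ≅ DerivedCategory.Q.obj L) :
    ∃ (f : K ⟶ L) (g : L ⟶ K), Nonempty (Homotopy (f ≫ g) (𝟙 K)) := by
  let e' : DerivedCategory.Qh.obj ((HomotopyCategory.quotient _ _).obj K) ≅
      DerivedCategory.Qh.obj ((HomotopyCategory.quotient _ _).obj L) :=
    (DerivedCategory.quotientCompQhIso C).app K ≪≫ e ≪≫ ((DerivedCategory.quotientCompQhIso C).app L).symm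
  obtain ⟨u, hu⟩ := (CochainComplex.IsKProjective.Qh_map_bijective K
    ((HomotopyCategory.quotient _ _).obj L)).2 e'.hom
  obtain ⟨v, hv⟩ := (CochainComplex.IsKProjective.Qh_map_bijective L
    ((HomotopyCategory.quotient _ _).obj K)).2 e'.inv
  obtain ⟨f, rfl⟩ := (HomotopyCategory.quotient _ _).map_surjective u
  obtain ⟨g, rfl⟩ := (HomotopyCategory.quotient _ _).map_surjective v
  refine ⟨f, g, ⟨HomotopyCategory.homotopyOfEq _ _ ?_⟩⟩
  apply (CochainComplex.IsKProjective.Qh_map_bijective K ((HomotopyCategory.quotient _ _).obj K)).1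
  rw [Functor.map_comp, Functor.map_comp, hu, hv, Iso.hom_inv_id]
  simp

/-- If a bounded above complex `F` of projectives is isomorphic in the derived category to a bounded above complex of
projectives `E` vanishing below degree `a`, then `coker (F.X (i - 1) ⟶ F.X i)` is a direct summand of `F.X i` for
`i < a`. -/
lemma exists_section_pOpcycles [HasDerivedCategory.{w} C] (F E : CochainComplex C ℤ) (b b' a : ℤ)
    [F.IsStrictlyLE b] [E.IsStrictlyLE b'] [∀ n, Projective (F.X n)] [∀ n, Projective (E.X n)]
    (hE : ∀ i : ℤ, i < a → IsZero (E.X i)) (e : DerivedCategory.Q.obj F ≅ DerivedCategory.Q.obj E) (i : ℤ) (hi : i < a) :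
    ∃ s : F.opcycles i ⟶ F.X i, s ≫ F.pOpcycles i = 𝟙 _ := by
  have := CochainComplex.isKProjective_of_projective F b
  have := CochainComplex.isKProjective_of_projective E b'
  obtain ⟨f, g, ⟨h⟩⟩ := exists_homotopyEquiv F E e
  refine retract_opcycles F (f ≫ g) h i ?_
  rw [HomologicalComplex.comp_f, (hE i hi).eq_of_tgt (f.f i) 0, zero_comp]

end General

section Ring

variable {A : Type u} [CommRing A]

lemma finiteProjective_ext {B : Type u} [CommRing B] (φ : A →+* B) (M : ModuleCat.{u} A)
    (h : Module.Finite A M ∧ Module.Projective A M) :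
    Module.Finite B ((ModuleCat.extendScalars.{u, u, u} φ).obj M) ∧
      Module.Projective B ((ModuleCat.extendScalars.{u, u, u} φ).obj M) := by
  obtain ⟨h1, h2⟩ := h
  algebraize [φ]
  exact ⟨inferInstanceAs (Module.Finite B (TensorProduct A B M)),
    inferInstanceAs (Module.Projective B (TensorProduct A B M))⟩

/-- Flat base change of a perfect object is perfect. -/
lemma perfect_baseChange {B : Type u} [CommRing B] (φ : A →+* B)
    [PreservesFiniteLimits (ModuleCat.extendScalars.{u, u, u} φ)] {K : Dual.D A} (hK : DRing.IsPerfect A K) :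
    DRing.IsPerfect B ((ModuleCat.extendScalars.{u, u, u} φ).mapDerivedCategory.obj K) := by
  obtain ⟨E, a, b, h1, h2, ⟨e⟩⟩ := hK
  exact ⟨(DescRing.bcCx φ).obj E, a, b,
    fun i hi => Functor.map_isZero (ModuleCat.extendScalars.{u, u, u} φ) (h1 i hi),
    fun i => finiteProjective_ext φ _ (h2 i),
    ⟨((ModuleCat.extendScalars.{u, u, u} φ).mapDerivedCategoryFactors.app E).symm ≪≫
      (ModuleCat.extendScalars.{u, u, u} φ).mapDerivedCategory.mapIso e⟩⟩

lemma perfect_of_iso {K L : Dual.D A} (e : K ≅ L) (hK : DRing.IsPerfect A K) : DRing.IsPerfect A L := by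
  obtain ⟨E, a, b, h1, h2, ⟨e'⟩⟩ := hK
  exact ⟨E, a, b, h1, h2, ⟨e' ≪≫ e⟩⟩

/-- The cokernel of a map of finite free modules is finitely presented. -/
lemma finitePresentation_opcycles (F : DRing.Cx A) (hF : DRing.TermwiseFiniteFree F) (i : ℤ) :
    Module.FinitePresentation A (F.opcycles i) := by
  have hfi : Module.Finite A (F.X i) := (hF i).1
  have hfr : Module.Free A (F.X i) := (hF i).2
  have hfi' : Module.Finite A (F.X (i - 1)) := (hF (i - 1)).1
  have hfp : Module.FinitePresentation A (F.X i) := Module.finitePresentation_of_projective A (F.X i)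
  have hsurj : Function.Surjective (F.pOpcycles i).hom := (ModuleCat.epi_iff_surjective _).1 inferInstance
  refine Module.finitePresentation_of_surjective (F.pOpcycles i).hom hsurj ?_
  have hex : (ShortComplex.mk (F.d (i - 1) i) (F.pOpcycles i) (by simp)).Exact :=
    ShortComplex.exact_of_g_is_cokernel _ (F.opcyclesIsCokernel (i - 1) i (by simp))
  have hker : LinearMap.range (F.d (i - 1) i).hom = LinearMap.ker (F.pOpcycles i).hom := hex.moduleCat_range_eq_ker
  rw [← hker]
  exact Submodule.FG.of_finite

lemma isZero_homology_of_vanishesOutside (E : DRing.Cx A) {a b : ℤ} (h : DRing.VanishesOutside E a b) (i : ℤ)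
    (hi : i < a) : IsZero ((DerivedCategory.homologyFunctor (ModuleCat.{u} A) i).obj (DRing.toD E)) := by
  have hE : E.IsStrictlyGE a := (CochainComplex.isStrictlyGE_iff _ _).2 fun i hi => h i (Or.inl hi)
  exact (DRing.toD E).isZero_of_isGE a i hi

/-- A bounded above complex of finite free modules with cohomology in degrees `≥ a` and such that
`coker (F^{a-1} ⟶ F^a)` is projective is perfect. -/
lemma perfect_of_opcycles (F : DRing.Cx A) (b a : ℤ) (hF : DRing.VanishesAbove F b) (hF' : DRing.TermwiseFiniteFree F)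
    (h0 : ∀ i : ℤ, i < a → IsZero ((DerivedCategory.homologyFunctor (ModuleCat.{u} A) i).obj (DRing.toD F)))
    (hp : Module.Projective A (F.opcycles a)) : DRing.IsPerfect A (DRing.toD F) := by
  have hGE : F.IsGE a := by
    have h1 : (DRing.toD F).IsGE a := by
      rw [DerivedCategory.isGE_iff]
      exact h0
    rwa [DerivedCategory.isGE_Q_obj_iff] at h1
  have hq : QuasiIso (F.πTruncGE a) := (F.quasiIso_πTruncGE_iff a).2 hGE
  refine ⟨F.truncGE a, a, max a b, ?_, ?_, ⟨(asIso (DerivedCategory.Q.map (F.πTruncGE a))).symm⟩⟩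
  · intro i hi
    rcases hi with hi | hi
    · exact (F.truncGE a).isZero_of_isStrictlyGE a i hi
    · exact (hF i (lt_of_le_of_lt (le_max_right _ _) hi)).of_iso
        (F.truncGEXIso a i (lt_of_le_of_lt (le_max_left _ _) hi))
  · intro i
    rcases lt_trichotomy i a with hi | rfl | hi
    · have := ModuleCat.subsingleton_of_isZero ((F.truncGE a).isZero_of_isStrictlyGE a i hi)
      exact ⟨inferInstance, inferInstance⟩
    · have hfp := finitePresentation_opcycles F hF' i
      exact ⟨Module.Finite.equiv (F.truncGEXIsoOpcycles i).symm.toLinearEquiv,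
        Module.Projective.of_equiv (F.truncGEXIsoOpcycles i).symm.toLinearEquiv⟩
    · have h1 := (hF' i).1
      have h2 := (hF' i).2
      exact ⟨Module.Finite.equiv (F.truncGEXIso a i hi).symm.toLinearEquiv,
        Module.Projective.of_equiv (F.truncGEXIso a i hi).symm.toLinearEquiv⟩

/-- **Descent of perfectness** along a finite family of flat ring maps which is jointly surjective on spectra. -/
theorem perfect_descent_family {ι : Type w} [Finite ι] (B : ι → Type u) [∀ j, CommRing (B j)] (φ : ∀ j, A →+* B j)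
    (hφ : ∀ j, (φ j).Flat)
    (h : ∀ p : PrimeSpectrum A, ∃ j, ∃ q : PrimeSpectrum (B j), PrimeSpectrum.comap (φ j) q = p)
    [∀ j, PreservesFiniteLimits (ModuleCat.extendScalars.{u, u, u} (φ j))] (K : Dual.D A)
    (hK : ∀ j, DRing.IsPerfect (B j) ((ModuleCat.extendScalars.{u, u, u} (φ j)).mapDerivedCategory.obj K)) :
    DRing.IsPerfect A K := by
  have hpc : ∀ m : ℤ, DRing.IsPseudoCoherent A m K := by
    intro m
    refine DescRing.pc_descent_family B φ hφ h m K fun j => ?_
    obtain ⟨E, a, b, h1, h2, ⟨e⟩⟩ := hK j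
    exact (S2066.result _).2.2 ⟨E, b, fun i hi => h1 i (Or.inr hi), h2, ⟨e⟩⟩ m
  obtain ⟨F, b, hF1, hF2, ⟨eF⟩⟩ := (S2066.result K).1.1 hpc
  choose E a b' hE1 hE2 hE3 using hK
  obtain ⟨a', ha'⟩ := (Set.finite_range a).bddBelow
  have ha'' : ∀ j, a' - 1 < a j := fun j => lt_of_lt_of_le (by omega) (ha' ⟨j, rfl⟩)
  refine perfect_of_iso eF (perfect_of_opcycles F b (a' - 1) hF1 hF2 (fun i hi => ?_) ?_)
  · refine FFFamily.isZero_of_forall B φ hφ h _ fun j => ?_
    refine (DescRing.isZero_map_homology (φ j) ?_)
    obtain ⟨e⟩ := hE3 j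
    refine (isZero_homology_of_vanishesOutside (E j) (hE1 j) i (by have := ha'' j; omega)).of_iso ?_
    exact (DerivedCategory.homologyFunctor _ i).mapIso
      ((ModuleCat.extendScalars.{u, u, u} (φ j)).mapDerivedCategory.mapIso eF ≪≫ e.symm)
  · have hfp := finitePresentation_opcycles F hF2 (a' - 1)
    have hflat : Module.Flat A (F.opcycles (a' - 1)) := by
      refine FFFlat.flat_module_of_forall B φ hφ h _ fun j => ?_
      obtain ⟨e⟩ := hE3 j
      let F' := (DescRing.bcCx (φ j)).obj F
      have hFle : F'.IsStrictlyLE b := (CochainComplex.isStrictlyLE_iff _ _).2 fun i hi =>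
        Functor.map_isZero (ModuleCat.extendScalars.{u, u, u} (φ j)) (hF1 i hi)
      have hEle : (E j).IsStrictlyLE (b' j) := (CochainComplex.isStrictlyLE_iff _ _).2 fun i hi =>
        hE1 j i (Or.inr hi)
      have hF'f : ∀ n, Module.Free (B j) (F'.X n) := fun n => (DescRing.finiteFree_ext (φ j) _ (hF2 n)).2
      have hF'p' : ∀ n, Module.Projective (B j) (F'.X n) := fun n => Module.Projective.of_free
      have hF'p : ∀ n, Projective (F'.X n) := fun n =>
        ModuleCat.projective_of_categoryTheory_projective (F'.X n)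
      have hEp' : ∀ n, Module.Projective (B j) ((E j).X n) := fun n => (hE2 j n).2
      have hEp : ∀ n, Projective ((E j).X n) := fun n =>
        ModuleCat.projective_of_categoryTheory_projective ((E j).X n)
      obtain ⟨s, hs⟩ := exists_section_pOpcycles F' (E j) b (b' j) (a j) (fun i hi => hE1 j i (Or.inl hi))
        (((ModuleCat.extendScalars.{u, u, u} (φ j)).mapDerivedCategoryFactors.app F).symm ≪≫
          (ModuleCat.extendScalars.{u, u, u} (φ j)).mapDerivedCategory.mapIso eF ≪≫ e.symm) (a' - 1) (ha'' j)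
      have hproj : Module.Projective (B j) (F'.opcycles (a' - 1)) := by
        have := hF'p' (a' - 1)
        refine Module.Projective.of_split s.hom (F'.pOpcycles (a' - 1)).hom ?_
        rw [← ModuleCat.hom_comp, hs]
        rfl
      let e1 : F'.opcycles (a' - 1) ≅ (ModuleCat.extendScalars.{u, u, u} (φ j)).obj (F.opcycles (a' - 1)) :=
        ShortComplex.mapOpcyclesIso (F.sc (a' - 1)) (ModuleCat.extendScalars.{u, u, u} (φ j))
      have : Module.Projective (B j) ((ModuleCat.extendScalars.{u, u, u} (φ j)).obj (F.opcycles (a' - 1))) :=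
        Module.Projective.of_equiv e1.toLinearEquiv
      infer_instance
    exact Module.Flat.projective_of_finitePresentation

end Ring

end Groth.Agent.PerfB.DescPerf
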