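import Mathlib.Algebra.Homology.Double
import Mathlib.Algebra.Homology.HomologySequenceLemmas
import Mathlib.CategoryTheory.Abelian.Basic
import Mathlib.Algebra.Homology.HomologicalComplexLimits
import Mathlib.Algebra.Homology.HomologicalComplexAbelian

/-!
# Gaussian elimination in complexes of free objects

`C` abelian, `O : C`; `free O n = ∐ (Fin n) O`.  If in a cochain complex `E` with terms
`E.X j ≅ free O (n j)` some matrix entry of the differential `E.X i ⟶ E.X (i+1)` is an isomorphism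
`O ⟶ O`, then `E` has a quotient complex `E'`, with `E ⟶ E'` a quasi-isomorphism, whose terms are free of
ranks `n j - 1` for `j = i, i + 1` and `n j` otherwise.
-/

universe v u

open CategoryTheory CategoryTheory.Limits

namespace Groth.Agent.PerfB.Elim

variable {C : Type u} [Category.{v} C] [Abelian C] (O : C)

/-- the sum of `n` copies of `O`. -/
noncomputable abbrev free (n : ℕ) : C := ∐ fun _ : Fin n => O

variable {O}

/-- the inclusion of the summands other than `q`. -/
noncomputable def skipIn {m : ℕ} (q : Fin (m + 1)) : free O m ⟶ free O (m + 1) :=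
  Sigma.desc fun j => Sigma.ι (fun _ : Fin (m + 1) => O) (q.succAbove j)

/-- the projection to the summands other than `q`. -/
noncomputable def skipOut {m : ℕ} (q : Fin (m + 1)) : free O (m + 1) ⟶ free O m :=
  Sigma.desc fun j => if h : ∃ k, q.succAbove k = j then Sigma.ι (fun _ : Fin m => O) h.choose else 0

lemma ι_skipOut_self {m : ℕ} (q : Fin (m + 1)) :
    Sigma.ι (fun _ : Fin (m + 1) => O) q ≫ skipOut q = 0 := by
  rw [skipOut, Sigma.ι_desc, dif_neg]
  rintro ⟨k, hk⟩
  exact Fin.succAbove_ne q k hk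

lemma ι_skipOut_succAbove {m : ℕ} (q : Fin (m + 1)) (j : Fin m) :
    Sigma.ι (fun _ : Fin (m + 1) => O) (q.succAbove j) ≫ skipOut q = Sigma.ι (fun _ : Fin m => O) j := by
  rw [skipOut, Sigma.ι_desc, dif_pos ⟨j, rfl⟩]
  congr 1
  have h : ∃ k, q.succAbove k = q.succAbove j := ⟨j, rfl⟩
  exact Fin.succAbove_right_injective h.choose_spec

lemma skipIn_skipOut {m : ℕ} (q : Fin (m + 1)) :
    skipIn (O := O) q ≫ skipOut q = 𝟙 _ := by
  apply Sigma.hom_ext
  intro j
  rw [skipIn, Sigma.ι_desc_assoc, ι_skipOut_succAbove, Category.comp_id]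

lemma skipIn_π {m : ℕ} (q : Fin (m + 1)) :
    skipIn (O := O) q ≫ Sigma.π (fun _ : Fin (m + 1) => O) q = 0 := by
  apply Sigma.hom_ext
  intro j
  rw [skipIn, Sigma.ι_desc_assoc, Sigma.ι_π_of_ne _ (Fin.succAbove_ne q j), comp_zero]

lemma skipOut_skipIn_add {m : ℕ} (q : Fin (m + 1)) :
    skipOut (O := O) q ≫ skipIn q +
      Sigma.π (fun _ : Fin (m + 1) => O) q ≫ Sigma.ι (fun _ : Fin (m + 1) => O) q = 𝟙 _ := by
  apply Sigma.hom_ext
  intro j
  rw [Preadditive.comp_add, Category.comp_id]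
  by_cases h : j = q
  · subst h
    rw [← Category.assoc, ι_skipOut_self, zero_comp, zero_add, ← Category.assoc,
      Sigma.ι_π_eq_id, Category.id_comp]
  · obtain ⟨k, rfl⟩ := Fin.exists_succAbove_eq h
    rw [← Category.assoc, ι_skipOut_succAbove, skipIn, Sigma.ι_desc, ← Category.assoc (g :=
      Sigma.π (fun _ : Fin (m + 1) => O) q), Sigma.ι_π_of_ne _ (Fin.succAbove_ne q k),
      zero_comp, add_zero]

/-- If `s : O ⟶ O^{m+1}` has an invertible component then its cokernel is `O^m`. -/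
noncomputable def cokerIso {m : ℕ} (s : O ⟶ free O (m + 1)) (q : Fin (m + 1))
    [IsIso (s ≫ Sigma.π (fun _ : Fin (m + 1) => O) q)] : cokernel s ≅ free O m where
  hom := cokernel.desc s ((𝟙 _ - Sigma.π (fun _ : Fin (m + 1) => O) q ≫
      inv (s ≫ Sigma.π (fun _ : Fin (m + 1) => O) q) ≫ s) ≫ skipOut q) (by
    rw [Preadditive.sub_comp, Preadditive.comp_sub, Category.id_comp]
    simp only [Category.assoc]
    rw [← Category.assoc s, IsIso.hom_inv_id_assoc, sub_self])
  inv := skipIn q ≫ cokernel.π s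
  hom_inv_id := by
    apply coequalizer.hom_ext
    rw [cokernel.π_desc_assoc, Category.comp_id]
    have e1 : skipOut (O := O) q ≫ skipIn q = 𝟙 _ -
      Sigma.π (fun _ : Fin (m + 1) => O) q ≫ Sigma.ι (fun _ : Fin (m + 1) => O) q := by
      rw [← skipOut_skipIn_add q]; abel
    simp only [Preadditive.sub_comp, Category.id_comp, Category.assoc, reassoc_of% e1,
      Preadditive.comp_sub, cokernel.condition, comp_zero]
    rw [← Category.assoc s, IsIso.inv_hom_id_assoc, zero_sub, sub_neg_eq_add, sub_add_cancel]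
  inv_hom_id := by
    simp only [Category.assoc, cokernel.π_desc]
    rw [Preadditive.sub_comp, Preadditive.comp_sub, Category.id_comp, skipIn_skipOut]
    simp only [Category.assoc]
    rw [← Category.assoc (skipIn q), skipIn_π, zero_comp, sub_zero]

section Complex

open HomologicalComplex

variable (E : CochainComplex C ℤ) (i : ℤ) (s : O ⟶ E.X i)

lemma rel_succ (i : ℤ) : (ComplexShape.up ℤ).Rel i (i + 1) := rfl

lemma ne_succ (i : ℤ) : i ≠ i + 1 := by lia

/-- the contractible complex `O = O` in degrees `i, i + 1`. -/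
noncomputable abbrev disc (O : C) (i : ℤ) : CochainComplex C ℤ := double (𝟙 O) (rel_succ i)

/-- the map of complexes attached to `s : O ⟶ E.X i`. -/
noncomputable def discMap : disc O i ⟶ E :=
  mkHomFromDouble (rel_succ i) (ne_succ i) s (s ≫ E.d i (i + 1)) (by simp) (by simp)

lemma discMap_f₀ : (discMap E i s).f i = (doubleXIso₀ (𝟙 O) (rel_succ i)).hom ≫ s := by
  simp [discMap]

lemma discMap_f₁ : (discMap E i s).f (i + 1) =
    (doubleXIso₁ (𝟙 O) (rel_succ i) (ne_succ i)).hom ≫ s ≫ E.d i (i + 1) := by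
  simp [discMap]

lemma mono_discMap_f (r : E.X (i + 1) ⟶ O) [IsIso (s ≫ E.d i (i + 1) ≫ r)] (j : ℤ) :
    Mono ((discMap E i s).f j) := by
  have h0 : Mono s := by
    have : Mono (s ≫ E.d i (i + 1) ≫ r) := inferInstance
    exact mono_of_mono s (E.d i (i + 1) ≫ r)
  have h1 : Mono (s ≫ E.d i (i + 1)) := by
    have : Mono ((s ≫ E.d i (i + 1)) ≫ r) := by rw [Category.assoc]; infer_instance
    exact mono_of_mono (s ≫ E.d i (i + 1)) r
  by_cases hj : j = i
  · subst hj
    rw [discMap_f₀]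
    exact mono_comp _ _
  · by_cases hj' : j = i + 1
    · subst hj'
      rw [discMap_f₁]
      exact mono_comp _ _
    · have hz := isZero_double_X (𝟙 O) (rel_succ i) j hj hj'
      exact ⟨fun a b _ => hz.eq_of_tgt _ _⟩

/-- the disc is acyclic. -/
lemma disc_acyclic (O : C) (i : ℤ) : (disc O i).Acyclic := by
  intro j
  rw [HomologicalComplex.exactAt_iff' _ (j - 1) j (j + 1) (by simp) (by simp)]
  by_cases hj : j = i
  · subst hj
    have h0 : ((disc O j).sc' (j - 1) j (j + 1)).f = 0 :=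
      (isZero_double_X (𝟙 O) (rel_succ j) (j - 1) (by lia) (by lia)).eq_of_src _ _
    rw [ShortComplex.exact_iff_mono _ h0]
    change Mono ((disc O j).d j (j + 1))
    rw [double_d _ _ (ne_succ j)]
    infer_instance
  · by_cases hj' : j = i + 1
    · subst hj'
      have h0 : ((disc O i).sc' (i + 1 - 1) (i + 1) (i + 1 + 1)).g = 0 :=
        (isZero_double_X (𝟙 O) (rel_succ i) (i + 1 + 1) (by lia) (by lia)).eq_of_tgt _ _
      rw [ShortComplex.exact_iff_epi _ h0]
      have key : Epi ((disc O i).d i (i + 1)) := by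
        rw [double_d _ _ (ne_succ i)]
        infer_instance
      have e : i + 1 - 1 = i := by lia
      change Epi ((disc O i).d (i + 1 - 1) (i + 1))
      rw [e]
      exact key
    · exact ShortComplex.exact_of_isZero_X₂ _ (isZero_double_X (𝟙 O) (rel_succ i) j hj hj')

/-- the quotient complex. -/
noncomputable def quot : CochainComplex C ℤ := cokernel (discMap E i s)

/-- the quotient map. -/
noncomputable def quotMap : E ⟶ quot E i s := cokernel.π (discMap E i s)

lemma quasiIso_quotMap (r : E.X (i + 1) ⟶ O) [IsIso (s ≫ E.d i (i + 1) ≫ r)] :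
    QuasiIso (quotMap E i s) := by
  have : ∀ j, Mono ((discMap E i s).f j) := mono_discMap_f E i s r
  have hm : Mono (discMap E i s) := HomologicalComplex.mono_of_mono_f _ this
  let S : ShortComplex (CochainComplex C ℤ) := ShortComplex.mk (discMap E i s) (quotMap E i s)
    (cokernel.condition _)
  have hS : S.ShortExact := 
    { exact := ShortComplex.exact_of_g_is_cokernel _ (cokernelIsCokernel _)
      mono_f := hm
      epi_g := inferInstanceAs (Epi (cokernel.π (discMap E i s))) }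
  have hz : ∀ n, IsZero (S.X₁.homology n) := fun n => (disc_acyclic O i n).isZero_homology
  rw [quasiIso_iff]
  intro n
  rw [quasiIsoAt_iff_isIso_homologyMap]
  have h2 := hS.homology_exact₂ n
  have h3 := hS.homology_exact₃ n (n + 1) rfl
  have hmono : Mono (homologyMap (quotMap E i s) n) :=
    (ShortComplex.exact_iff_mono _ ((hz n).eq_of_src _ _)).1 h2
  have hepi : Epi (homologyMap (quotMap E i s) n) :=
    (ShortComplex.exact_iff_epi _ ((hz (n + 1)).eq_of_tgt _ _)).1 h3
  exact isIso_of_mono_of_epi _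

/-- terms of the quotient. -/
noncomputable def quotX (j : ℤ) : (quot E i s).X j ≅ cokernel ((discMap E i s).f j) :=
  PreservesCokernel.iso (HomologicalComplex.eval C (ComplexShape.up ℤ) j) (discMap E i s)

omit [Abelian C] in
lemma exists_cokerIso [Abelian C] {N : ℕ} {B : C} (e : B ≅ free O N) (t : O ⟶ B) (q : Fin N)
    (h : IsIso (t ≫ e.hom ≫ Sigma.π (fun _ : Fin N => O) q)) :
    ∃ m, m + 1 = N ∧ Nonempty (cokernel t ≅ free O m) := by
  obtain _ | m := N
  · exact q.elim0
  · refine ⟨m, rfl, ⟨?_⟩⟩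
    have : IsIso ((t ≫ e.hom) ≫ Sigma.π (fun _ : Fin (m + 1) => O) q) := by
      rw [Category.assoc]; exact h
    exact cokernel.mapIso t (t ≫ e.hom) (Iso.refl _) e (by simp) ≪≫ cokerIso (t ≫ e.hom) q

/-- Gaussian elimination: split off a unit entry of a differential. -/
theorem elim (E : CochainComplex C ℤ) (n : ℤ → ℕ) (e : ∀ j, E.X j ≅ free O (n j)) (i : ℤ)
    (p : Fin (n i)) (q : Fin (n (i + 1)))
    (h : IsIso (Sigma.ι (fun _ : Fin (n i) => O) p ≫ (e i).inv ≫ E.d i (i + 1) ≫
      (e (i + 1)).hom ≫ Sigma.π (fun _ : Fin (n (i + 1)) => O) q)) :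
    ∃ (E' : CochainComplex C ℤ) (φ : E ⟶ E') (n' : ℤ → ℕ), QuasiIso φ ∧
      (∀ j, Nonempty (E'.X j ≅ free O (n' j))) ∧ n' i + 1 = n i ∧ n' (i + 1) + 1 = n (i + 1) ∧
      ∀ j, j ≠ i → j ≠ i + 1 → n' j = n j := by
  let s : O ⟶ E.X i := Sigma.ι (fun _ : Fin (n i) => O) p ≫ (e i).inv
  let r : E.X (i + 1) ⟶ O := (e (i + 1)).hom ≫ Sigma.π (fun _ : Fin (n (i + 1)) => O) q
  have hi : IsIso (s ≫ E.d i (i + 1) ≫ r) := by
    simpa only [s, r, Category.assoc] using h
  obtain ⟨m₀, hm₀, ⟨e₀⟩⟩ := exists_cokerIso (e i) s p (by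
    simp only [s, Category.assoc, Iso.inv_hom_id_assoc, Sigma.ι_π_eq_id]
    infer_instance)
  obtain ⟨m₁, hm₁, ⟨e₁⟩⟩ := exists_cokerIso (e (i + 1)) (s ≫ E.d i (i + 1)) q (by
    rw [Category.assoc]; exact hi)
  refine ⟨quot E i s, quotMap E i s,
    fun j => if j = i then m₀ else if j = i + 1 then m₁ else n j,
    quasiIso_quotMap E i s r, fun j => ?_, by simpa using hm₀, by simpa using hm₁, ?_⟩
  · refine ⟨quotX E i s j ≪≫ ?_⟩
    beta_reduce
    by_cases hj : j = i
    · subst hj
      rw [if_pos rfl]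
      exact cokernel.mapIso _ s (doubleXIso₀ (𝟙 O) (rel_succ j)) (Iso.refl _)
        (by rw [discMap_f₀]; simp) ≪≫ e₀
    · by_cases hj' : j = i + 1
      · subst hj'
        rw [if_neg hj, if_pos rfl]
        exact cokernel.mapIso _ (s ≫ E.d i (i + 1))
          (doubleXIso₁ (𝟙 O) (rel_succ i) (ne_succ i)) (Iso.refl _)
          (by rw [discMap_f₁]; simp) ≪≫ e₁
      · rw [if_neg hj, if_neg hj']
        have hz := isZero_double_X (𝟙 O) (rel_succ i) j hj hj'
        have h0 : (discMap E i s).f j = 0 := hz.eq_of_src _ _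
        exact cokernelIsoOfEq h0 ≪≫ cokernelZeroIsoTarget ≪≫ e j
  · intro j hj hj'
    simp only [if_neg hj, if_neg hj']

end Complex

section Functor

variable {C' : Type*} [Category* C'] [Abelian C'] (G : C ⥤ C') [G.Additive] {O' : C'}
  (θ : G.obj O ≅ O')

lemma sum_π_ι (n : ℕ) : ∑ q : Fin n, Sigma.π (fun _ : Fin n => O) q ≫
    Sigma.ι (fun _ : Fin n => O) q = 𝟙 (free O n) := by
  classical
  apply Sigma.hom_ext
  intro p
  rw [Preadditive.comp_sum, Category.comp_id, Finset.sum_eq_single p]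
  · rw [← Category.assoc, Sigma.ι_π_eq_id, Category.id_comp]
  · intro q _ hq
    rw [← Category.assoc, Sigma.ι_π_of_ne _ hq.symm, zero_comp]
  · intro h
    exact absurd (Finset.mem_univ p) h

/-- Additive functors preserve free objects. -/
noncomputable def mapFree (n : ℕ) : G.obj (free O n) ≅ free O' n where
  hom := ∑ q : Fin n, G.map (Sigma.π (fun _ : Fin n => O) q) ≫ θ.hom ≫
    Sigma.ι (fun _ : Fin n => O') q
  inv := Sigma.desc fun p => θ.inv ≫ G.map (Sigma.ι (fun _ : Fin n => O) p)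
  hom_inv_id := by
    rw [Preadditive.sum_comp]
    simp only [Category.assoc, Sigma.ι_desc, Iso.hom_inv_id_assoc]
    simp only [← G.map_comp]
    rw [← Functor.map_sum, sum_π_ι, G.map_id]
  inv_hom_id := by
    classical
    apply Sigma.hom_ext
    intro p
    rw [Sigma.ι_desc_assoc, Preadditive.comp_sum, Category.comp_id, Finset.sum_eq_single p]
    · simp only [Category.assoc]
      rw [← G.map_comp_assoc, Sigma.ι_π_eq_id, G.map_id, Category.id_comp, Iso.inv_hom_id_assoc]
    · intro q _ hq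
      simp only [Category.assoc]
      rw [← G.map_comp_assoc, Sigma.ι_π_of_ne _ hq.symm, G.map_zero, zero_comp, comp_zero]
    · intro h
      exact absurd (Finset.mem_univ p) h

@[reassoc]
lemma ι_mapFree_inv (n : ℕ) (p : Fin n) : Sigma.ι (fun _ : Fin n => O') p ≫ (mapFree G θ n).inv =
    θ.inv ≫ G.map (Sigma.ι (fun _ : Fin n => O) p) := by
  simp [mapFree]

@[reassoc]
lemma mapFree_hom_π (n : ℕ) (q : Fin n) : (mapFree G θ n).hom ≫ Sigma.π (fun _ : Fin n => O') q =
    G.map (Sigma.π (fun _ : Fin n => O) q) ≫ θ.hom := by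
  classical
  dsimp only [mapFree]
  rw [Preadditive.sum_comp, Finset.sum_eq_single q]
  · simp
  · intro p _ hp
    simp only [Category.assoc]
    rw [Sigma.ι_π_of_ne _ hp, comp_zero, comp_zero]
  · intro h
    exact absurd (Finset.mem_univ q) h

/-- A morphism between free objects is killed by `G` if its entries are. -/
lemma map_eq_zero_of_entries {m n : ℕ} (d : free O m ⟶ free O n)
    (h : ∀ (p : Fin m) (q : Fin n), G.map (Sigma.ι (fun _ : Fin m => O) p ≫ d ≫
      Sigma.π (fun _ : Fin n => O) q) = 0) : G.map d = 0 := by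
  have e : d = ∑ p : Fin m, ∑ q : Fin n, Sigma.π (fun _ : Fin m => O) p ≫
      (Sigma.ι (fun _ : Fin m => O) p ≫ d ≫ Sigma.π (fun _ : Fin n => O) q) ≫
        Sigma.ι (fun _ : Fin n => O) q := by
    have e1 : ∀ p : Fin m, ∑ q : Fin n, Sigma.π (fun _ : Fin m => O) p ≫
      (Sigma.ι (fun _ : Fin m => O) p ≫ d ≫ Sigma.π (fun _ : Fin n => O) q) ≫
        Sigma.ι (fun _ : Fin n => O) q = (Sigma.π (fun _ : Fin m => O) p ≫
        Sigma.ι (fun _ : Fin m => O) p) ≫ d := by
      intro p
      calc _ = ∑ q : Fin n, (Sigma.π (fun _ : Fin m => O) p ≫ Sigma.ι (fun _ : Fin m => O) p ≫ d) ≫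
            (Sigma.π (fun _ : Fin n => O) q ≫ Sigma.ι (fun _ : Fin n => O) q) := by
              simp only [Category.assoc]
        _ = _ := by rw [← Preadditive.comp_sum, sum_π_ι, Category.comp_id, Category.assoc]
    rw [Finset.sum_congr rfl (fun p _ => e1 p), ← Preadditive.sum_comp, sum_π_ι, Category.id_comp]
  rw [e, Functor.map_sum]
  refine Finset.sum_eq_zero fun p _ => ?_
  rw [Functor.map_sum]
  refine Finset.sum_eq_zero fun q _ => ?_
  rw [G.map_comp, G.map_comp, h p q, zero_comp, comp_zero]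

include θ in
/-- Elimination after applying an additive functor. -/
theorem elim_map (E : CochainComplex C ℤ) (n : ℤ → ℕ) (e : ∀ j, E.X j ≅ free O (n j)) (i : ℤ)
    (p : Fin (n i)) (q : Fin (n (i + 1)))
    (h : IsIso (G.map (Sigma.ι (fun _ : Fin (n i) => O) p ≫ (e i).inv ≫ E.d i (i + 1) ≫
      (e (i + 1)).hom ≫ Sigma.π (fun _ : Fin (n (i + 1)) => O) q))) :
    ∃ (E' : CochainComplex C' ℤ) (φ : (G.mapHomologicalComplex (ComplexShape.up ℤ)).obj E ⟶ E')
      (n' : ℤ → ℕ), QuasiIso φ ∧
      (∀ j, Nonempty (E'.X j ≅ free O' (n' j))) ∧ n' i + 1 = n i ∧ n' (i + 1) + 1 = n (i + 1) ∧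
      ∀ j, j ≠ i → j ≠ i + 1 → n' j = n j := by
  refine elim (O := O') ((G.mapHomologicalComplex (ComplexShape.up ℤ)).obj E) n
    (fun j => G.mapIso (e j) ≪≫ mapFree G θ (n j)) i p q ?_
  have key : Sigma.ι (fun _ : Fin (n i) => O') p ≫ ((mapFree G θ (n i)).inv ≫ G.map (e i).inv) ≫
      G.map (E.d i (i + 1)) ≫ (G.map (e (i + 1)).hom ≫ (mapFree G θ (n (i + 1))).hom) ≫
        Sigma.π (fun _ : Fin (n (i + 1)) => O') q =
      θ.inv ≫ G.map (Sigma.ι (fun _ : Fin (n i) => O) p ≫ (e i).inv ≫ E.d i (i + 1) ≫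
      (e (i + 1)).hom ≫ Sigma.π (fun _ : Fin (n (i + 1)) => O) q) ≫ θ.hom := by
    simp only [Category.assoc, ι_mapFree_inv_assoc, mapFree_hom_π, Functor.map_comp]
  have h2 : IsIso (Sigma.ι (fun _ : Fin (n i) => O') p ≫
      ((mapFree G θ (n i)).inv ≫ G.map (e i).inv) ≫
      G.map (E.d i (i + 1)) ≫ (G.map (e (i + 1)).hom ≫ (mapFree G θ (n (i + 1))).hom) ≫
        Sigma.π (fun _ : Fin (n (i + 1)) => O') q) := by
    rw [key]
    infer_instance
  exact h2

end Functor

end Groth.Agent.PerfB.Elim
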