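import Mathlib.Algebra.Homology.DerivedCategory.SingleTriangle
import Mathlib.Algebra.Homology.ShortComplex.Exact
import Mathlib.Algebra.Homology.ShortComplex.HomologicalComplex
import Mathlib.CategoryTheory.Triangulated.Subcategory
import Mathlib.Tactic.Ring

/-!
# Dévissage along a bounded exact complex

For a triangulated subcategory `P` of `D(C)` and a bounded exact complex `K` all of whose terms but one
(placed in degree `0`) lie in `P`, the remaining term lies in `P`.
-/

set_option autoImplicit false

universe w v u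

open CategoryTheory CategoryTheory.Limits DerivedCategory Pretriangulated

namespace Groth.Agent.PerfB.ExactDevissage

variable {C : Type u} [Category.{v} C] [Abelian C] [HasDerivedCategory.{w} C]
variable (P : ObjectProperty (DerivedCategory C)) [P.IsTriangulated] [P.IsClosedUnderIsomorphisms]

/-- `X[0]` lies in `P`. -/
abbrev Sg (X : C) : Prop := P ((singleFunctor C 0).obj X)

variable {P}

lemma sg_iso {X Y : C} (e : X ≅ Y) (h : Sg P X) : Sg P Y :=
  P.prop_of_iso ((singleFunctor C 0).mapIso e) h

lemma sg_of_isZero {X : C} (h : IsZero X) : Sg P X :=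
  P.prop_of_iso ((isZero_zero _).iso ((singleFunctor C 0).map_isZero h)) P.prop_zero

lemma sg₁ {S : ShortComplex C} (hS : S.ShortExact) (h₂ : Sg P S.X₂) (h₃ : Sg P S.X₃) : Sg P S.X₁ :=
  P.ext_of_isTriangulatedClosed₁ _ hS.singleTriangle_distinguished h₂ h₃

lemma sg₂ {S : ShortComplex C} (hS : S.ShortExact) (h₁ : Sg P S.X₁) (h₃ : Sg P S.X₃) : Sg P S.X₂ :=
  P.ext_of_isTriangulatedClosed₂ _ hS.singleTriangle_distinguished h₁ h₃

lemma sg₃ {S : ShortComplex C} (hS : S.ShortExact) (h₁ : Sg P S.X₁) (h₂ : Sg P S.X₂) : Sg P S.X₃ :=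
  P.ext_of_isTriangulatedClosed₃ _ hS.singleTriangle_distinguished h₁ h₂

/-- finite direct sums. -/
lemma sg_biproduct {J : Type} [Fintype J] (f : J → C) [HasBiproduct f] (h : ∀ j, Sg P (f j)) :
    Sg P (⨁ f) := by
  have : HasFiniteBiproducts (DerivedCategory C) := HasFiniteBiproducts.of_hasFiniteProducts
  have : HasFiniteBiproducts C := HasFiniteBiproducts.of_hasFiniteProducts
  have e : (singleFunctor C 0).obj (⨁ f) ≅ ∏ᶜ fun j => (singleFunctor C 0).obj (f j) :=
    (singleFunctor C 0).mapBiproduct f ≪≫ biproduct.isoProduct _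
  exact P.prop_of_iso e.symm (P.prop_product h)

variable (K : CochainComplex C ℤ)

/-- The short exact sequence `0 → Z^i → K^i → Z^(i+1) → 0` for a complex exact in degree `i + 1`. -/
lemma cycles_shortExact (i : ℤ) (h : K.ExactAt (i + 1)) :
    (ShortComplex.mk (K.iCycles i) (K.toCycles i (i + 1)) (by
      rw [← cancel_mono (K.iCycles (i + 1))]; simp)).ShortExact where
  exact := by
    apply ShortComplex.exact_of_f_is_kernel
    refine KernelFork.IsLimit.ofι _ _ (fun {W} a ha => K.liftCycles a (i + 1) (by simp) ?_) ?_ ?_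
    · rw [← K.toCycles_i, ← Category.assoc, ha, zero_comp]
    · intro W a ha; simp
    · intro W a ha b hb
      rw [← cancel_mono (K.iCycles i)]
      simpa using hb
  epi_g := by
    have h2 : Epi ((K.sc (i+1)).toCycles) := by
      rwa [← ShortComplex.exact_iff_epi_toCycles]
    have h4 : Epi (K.toCycles ((ComplexShape.up ℤ).prev (i+1)) (i+1)) := h2
    have h3 : (ComplexShape.up ℤ).prev (i+1) = i := by simp
    rw [h3] at h4
    exact h4

variable {K}

lemma isZero_cycles_of_isZero (i : ℤ) (h : IsZero (K.X i)) : IsZero (K.cycles i) :=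
  IsZero.of_mono (K.iCycles i) h

lemma sg_cycles_below (hK : ∀ i, K.ExactAt i) (a : ℤ) (ha : IsZero (K.X a)) (n : ℕ)
    (h : ∀ i, a ≤ i → i < a + n → Sg P (K.X i)) : Sg P (K.cycles (a + n)) := by
  induction n with
  | zero => simpa using sg_of_isZero (isZero_cycles_of_isZero a ha)
  | succ n ih =>
    have h1 := sg₃ (cycles_shortExact K (a + n) (hK _))
      (ih fun i hi hi' => h i hi (by push_cast; omega)) (h _ (by omega) (by push_cast; omega))
    have : a + ((n + 1 : ℕ) : ℤ) = a + n + 1 := by push_cast; ring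
    rw [this]
    exact h1

lemma sg_cycles_above (hK : ∀ i, K.ExactAt i) (b : ℤ) (hb : IsZero (K.X b)) (n : ℕ)
    (h : ∀ i, i < b → b - n ≤ i → Sg P (K.X i)) : Sg P (K.cycles (b - n)) := by
  induction n with
  | zero => simpa using sg_of_isZero (isZero_cycles_of_isZero b hb)
  | succ n ih =>
    have e : b - (n : ℤ) = (b - ((n + 1 : ℕ) : ℤ)) + 1 := by push_cast; ring
    have h1 := ih fun i hi hi' => h i hi (by push_cast; omega)
    rw [e] at h1
    exact sg₁ (cycles_shortExact K (b - ((n + 1 : ℕ) : ℤ)) (hK _))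
      (h _ (by push_cast; omega) (by push_cast; omega)) h1

/-- Dévissage: in a bounded exact complex, if all the terms except possibly the one in degree `m` are in `P`
(placed in degree `0`) then so is the remaining one. -/
theorem sg_of_others (hK : ∀ i, K.ExactAt i) (a b : ℤ) (h0 : ∀ i, i < a ∨ b < i → IsZero (K.X i)) (m : ℤ)
    (h : ∀ i, i ≠ m → Sg P (K.X i)) : Sg P (K.X m) := by
  have h1 : Sg P (K.cycles m) := by
    rcases le_or_gt a m with hm | hm
    · obtain ⟨n, hn⟩ := Int.le.dest (show a - 1 ≤ m by omega)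
      rw [← hn]
      exact sg_cycles_below hK (a - 1) (h0 _ (Or.inl (by omega))) n
        fun i _ hi => h i (by omega)
    · exact sg_of_isZero (isZero_cycles_of_isZero _ (h0 _ (Or.inl hm)))
  have h2 : Sg P (K.cycles (m + 1)) := by
    rcases le_or_gt m b with hm | hm
    · obtain ⟨n, hn⟩ := Int.le.dest (show m + 1 ≤ b + 1 by omega)
      have : m + 1 = (b + 1) - n := by omega
      rw [this]
      exact sg_cycles_above hK (b + 1) (h0 _ (Or.inr (by omega))) n
        fun i _ hi => h i (by omega)
    · exact sg_of_isZero (isZero_cycles_of_isZero _ (h0 _ (Or.inr (by omega))))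
  exact sg₂ (cycles_shortExact K m (hK _)) h1 h2

end Groth.Agent.PerfB.ExactDevissage
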