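import Groth.Agent.PerfA.SumShift
import Groth.Agent.PerfA.PushD
import Groth.Agent.PerfC.Supp

/-!
# `F ⊞ F⟦1⟧` extends with support condition (Stacks 08EK)

`X` affine, `T ⊆ X` closed with quasi-compact complement, `U` a quasi-compact open, `F` perfect on `U`
supported on `T ∩ U`: `F ⊞ F⟦1⟧` extends to a perfect object of `D(O_X)` supported on `T`.

Proof: push `F` forward to `U ∪ (X - T)` (extension by zero), then apply the version without supports.
-/

set_option autoImplicit false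
universe u
open CategoryTheory CategoryTheory.Limits CategoryTheory.Pretriangulated AlgebraicGeometry
attribute [local instance] HasDerivedCategory.standard

namespace Groth.Agent.PerfB.ExtSupp
open AlgebraicGeometry.Scheme.Modules Groth.Agent.PerfA.Restrict Groth.Agent.PerfA.PerfLocal
open Groth.Agent.PerfA Groth.Agent.PerfC.Supp

/-- Objects whose cohomology sheaves have empty support are zero. -/
lemma isZero_of_supp {X : Scheme.{u}} {K : DCoh.D X} (h : ∀ i, supp K i = ∅) : IsZero K := by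
  rw [ExactD.isZero_iff]
  exact fun i => (supp_eq_empty_iff K i).1 (h i)

/-- Restricting in two steps. -/
noncomputable def restrictTwo {X Y Z : Scheme.{u}} (f : X ⟶ Y) (g : Y ⟶ Z) (h : X ⟶ Z)
    [IsOpenImmersion f] [IsOpenImmersion g] [IsOpenImmersion h] (w : f ≫ g = h) (K : DCoh.D Z) :
    (restrictD f).obj ((restrictD g).obj K) ≅ (restrictD h).obj K :=
  (restrictDComp f g).app K ≪≫ (restrictDCongr w).app K

/-- For open immersions `i : U ⟶ W`, `k : V ⟶ W` and `F` on `U` vanishing on `U ×_W V`, the object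
`Ri_* F` vanishes on `V`. -/
lemma isZero_restrictD_rpush {U V W : Scheme.{u}} (i : U ⟶ W) (k : V ⟶ W) [IsOpenImmersion i]
    [IsOpenImmersion k] [DCoh.HasRpush i] (F : DCoh.D U)
    (hF : IsZero ((restrictD (pullback.fst i k)).obj F)) :
    IsZero ((restrictD k).obj ((DCoh.Rpush i).obj F)) := by
  have : DCoh.HasRpush (pullback.snd i k) := LoccohB.RpushTri.hasRpush _
  obtain ⟨e⟩ := Dcoh.DerSch.exists_rpushRestrictIso i (pullback.snd i k) (pullback.fst i k) k
    (IsPullback.of_hasPullback i k)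
  exact ((DCoh.Rpush (pullback.snd i k)).map_isZero hF).of_iso (e.app F)

/-- Restriction of `F ⊞ F⟦1⟧`. -/
noncomputable def restrictSumShift {X Y : Scheme.{u}} (f : X ⟶ Y) [IsOpenImmersion f]
    (F : DCoh.D Y) : (restrictD f).obj (F ⊞ F⟦(1 : ℤ)⟧) ≅
      (restrictD f).obj F ⊞ ((restrictD f).obj F)⟦(1 : ℤ)⟧ :=
  haveI := preservesBinaryBiproducts_of_preservesBiproducts (restrictD f)
  (restrictD f).mapBiprod F (F⟦(1 : ℤ)⟧) ≪≫ biprod.mapIso (Iso.refl _) (restrictDShift f F 1)

/-- Stacks 08EK in `D(O_X)`. -/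
theorem exists_sum_shift_supp (X : Scheme.{u}) [IsAffine X] (T : Set X) (hT : IsClosed T)
    (hTc : IsCompact Tᶜ) (U : X.Opens) (hU : IsCompact (U : Set X))
    (F : DCoh.D (U : Scheme.{u})) (hF : DCoh.IsPerfect F)
    (hFT : ∀ i : ℤ, supp F i ⊆ U.ι ⁻¹' T) :
    ∃ C : DCoh.D X, DCoh.IsPerfect C ∧ (∀ i, supp C i ⊆ T) ∧
      Nonempty ((restrictD U.ι).obj C ≅ F ⊞ F⟦(1 : ℤ)⟧) := by
  let V : X.Opens := ⟨Tᶜ, hT.isOpen_compl⟩
  let W : X.Opens := U ⊔ V
  have hW : IsCompact (W : Set X) := hU.union hTc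
  let i : (U : Scheme.{u}) ⟶ W := X.homOfLE le_sup_left
  let k : (V : Scheme.{u}) ⟶ W := X.homOfLE le_sup_right
  have hi : i ≫ W.ι = U.ι := by simp [i]
  have hk : k ≫ W.ι = V.ι := by simp [k]
  have : DCoh.HasRpush i := LoccohB.RpushTri.hasRpush i
  let F' : DCoh.D (W : Scheme.{u}) := (DCoh.Rpush i).obj F
  let e₁ : (restrictD i).obj F' ≅ F :=
    asIso ((OpenPush.restrictRpushAdj i).counit.app F)
  have h0 : IsZero ((restrictD k).obj F') := by
    refine isZero_restrictD_rpush i k F (isZero_of_supp fun n => ?_)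
    rw [supp_restrictD]
    refine Set.eq_empty_of_forall_notMem fun p hp => ?_
    have h1 : U.ι (pullback.fst i k p) ∈ T := hFT n hp
    have h2 : pullback.fst i k ≫ U.ι = pullback.snd i k ≫ V.ι := by
      rw [← hi, ← hk, pullback.condition_assoc]
    have h3 : U.ι (pullback.fst i k p) = V.ι (pullback.snd i k p) := by
      rw [← Scheme.Hom.comp_apply, h2, Scheme.Hom.comp_apply]
    rw [h3] at h1
    exact (pullback.snd i k p).2 h1
  have hF' : DCoh.IsPerfect F' := by
    refine isPerfect_of_restrictD F' fun x => ?_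
    rcases x.2 with hx | hx
    · refine ⟨U, i, inferInstance, ⟨x.1, hx⟩, ?_, isPerfect_of_iso e₁.symm hF⟩
      apply W.ι.isOpenEmbedding.injective
      rw [← Scheme.Hom.comp_apply, hi]
      rfl
    · refine ⟨V, k, inferInstance, ⟨x.1, hx⟩, ?_, isPerfect_of_isZero h0⟩
      apply W.ι.isOpenEmbedding.injective
      rw [← Scheme.Hom.comp_apply, hk]
      rfl
  obtain ⟨C, hC, ⟨e⟩⟩ := SumShift.exists_sum_shift X W hW F' hF'
  have h1 : IsZero ((restrictD V.ι).obj C) := by
    refine IsZero.of_iso ?_ (restrictTwo k W.ι V.ι hk C).symm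
    refine IsZero.of_iso ?_ ((restrictD k).mapIso e)
    refine IsZero.of_iso ?_ (restrictSumShift k F')
    exact (biprod_isZero_iff _ _).2 ⟨h0, (shiftFunctor _ (1 : ℤ)).map_isZero h0⟩
  refine ⟨C, hC, fun n x hx => ?_, ⟨(restrictTwo i W.ι U.ι hi C).symm ≪≫ (restrictD i).mapIso e ≪≫
    restrictSumShift i F' ≪≫ biprod.mapIso e₁ ((shiftFunctor _ (1 : ℤ)).mapIso e₁)⟩⟩
  by_contra hxT
  have h2 : supp ((restrictD V.ι).obj C) n = ∅ := supp_zero h1 n
  rw [supp_restrictD] at h2
  exact Set.notMem_empty (⟨x, hxT⟩ : V) (h2 ▸ hx)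

end Groth.Agent.PerfB.ExtSupp
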