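import Groth.Agent.PerfB.SecExtend

/-!
# Extending classes over the nonvanishing locus of a section; cohomology sheaves
-/

set_option autoImplicit false

universe u

open CategoryTheory CategoryTheory.Limits AlgebraicGeometry Opposite TopologicalSpace Pretriangulated

attribute [local instance] HasDerivedCategory.standard

namespace Groth.Agent.PerfB.ExtendTop

open Groth.Agent.PerfA Groth.Agent.PerfA.ExtZero Groth.Agent.PerfA.Hyp0 Groth.Agent.PerfA.Hyp1
open Groth.Agent.Fdesc.LocGen Groth.Agent.PerfB.SecTwist TensExact TensD SecExtend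

variable {X : Scheme.{u}}

/-- `iotaM` of an isomorphism followed by the transition maps is injective over `Z`. -/
lemma app_eq_zero {L : ℕ ⥤ X.Modules} {Z : X.Opens} (hZ : Dat L Z Z)
    (u : Coh.structureModule X ≅ L.obj 0) (m : ℕ) (T : X.Modules) (s : Γ(T, Z))
    (hs : ((iotaM (u.hom ≫ L.map (homOfLE (Nat.zero_le m)))).app T).app Z s = 0) : s = 0 := by
  obtain ⟨-, f, e, he, hf⟩ := hZ
  have hfu : IsUnit f := by
    have h1 : Z = X.basicOpen f := (inf_idem Z).symm.trans hf
    have h2 := X.toLocallyRingedSpace.toRingedSpace.isUnit_res_basicOpen f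
    have : ∀ (V : X.Opens) (hV : V ≤ Z), V = X.basicOpen f → IsUnit (ores hV f) := by
      rintro V hV rfl
      exact h2
    have h3 := this Z le_rfl h1
    have h4 : ores (le_refl Z) f = f := by
      have : X.presheaf.map (homOfLE (le_refl Z)).op = 𝟙 _ := X.presheaf.map_id _
      change (X.presheaf.map (homOfLE (le_refl Z)).op) f = f
      rw [this]
      rfl
    rwa [h4] at h3
  have h1 : (iotaM (u.hom ≫ L.map (homOfLE (Nat.zero_le m)))).app T =
      (iotaM u.hom).app T ≫ (tensorRightModMap (L.map (homOfLE (Nat.zero_le m)))).app T := by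
    rw [iotaM_comp]
    rfl
  rw [h1, Scheme.Modules.Hom.comp_app, ConcreteCategory.comp_apply] at hs
  have h2 : ((iotaM u.hom).app T).app Z s = 0 := he.injective (M := T) hfu (Nat.zero_le m) _ hs
  have h3 : iotaM u.hom ≫ tensorRightModMap u.inv = iotaM (𝟙 _) := by
    rw [← iotaM_comp, u.hom_inv_id]
  have h4 : ((iotaM (𝟙 (Coh.structureModule X))).app T).app Z s = 0 := by
    rw [← h3, NatTrans.comp_app, Scheme.Modules.Hom.comp_app, ConcreteCategory.comp_apply, h2, map_zero]
  have h5 : iotaM (𝟙 (Coh.structureModule X)) ≫ tensorRightModUnit.hom = 𝟙 _ := by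
    rw [iotaM, tensorRightModMap_id, Category.comp_id, Iso.inv_hom_id]
  have h6 : ((iotaM (𝟙 (Coh.structureModule X)) ≫ tensorRightModUnit.hom).app T).app Z s = 0 := by
    rw [NatTrans.comp_app, Scheme.Modules.Hom.comp_app, ConcreteCategory.comp_apply, h4, map_zero]
  rw [h5] at h6
  exact h6

/-- `homI` with the right codomain. -/
noncomputable def hI (E : CochainComplex X.Modules ℤ) (q : ℤ) (N : X.Modules)
    [PreservesFiniteLimits (DCoh.tensorRightMod N)] :
    (DerivedCategory.homologyFunctor X.Modules q).obj (DerivedCategory.Q.obj ((tcx E).obj N)) ⟶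
      (DCoh.tensorRightMod N).obj (E.homology q) := (homI E q N).hom

lemma hI_iota (E : CochainComplex X.Modules ℤ) (q : ℤ) {N : X.Modules}
    [PreservesFiniteLimits (DCoh.tensorRightMod N)] (σ : Coh.structureModule X ⟶ N) :
    (DerivedCategory.homologyFunctor X.Modules q).map (DerivedCategory.Q.map (iotaE E σ)) ≫ hI E q N =
      (DerivedCategory.homologyFunctorFactors X.Modules q).hom.app E ≫
        (iotaM σ).app (E.homology q) := homI_iota E q σ

lemma hI_eq (E : CochainComplex X.Modules ℤ) (q : ℤ) {N : X.Modules}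
    [PreservesFiniteLimits (DCoh.tensorRightMod N)] :
    (DerivedCategory.homologyFunctor X.Modules q).map
        ((DCoh.tensorRightMod N).mapDerivedCategoryFactors.hom.app E) ≫ hI E q N =
      (ExactD.mapHomology (DCoh.tensorRightMod N) q).hom.app (DerivedCategory.Q.obj E) ≫
        (DCoh.tensorRightMod N).map ((DerivedCategory.homologyFunctorFactors X.Modules q).hom.app E) :=
  homI_eq E q

/-- A class over `Z` extends, after twisting, to a class whose image in the cohomology sheaf controls the given one. -/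
theorem exists_ext_top [CompactSpace X] [QuasiSeparatedSpace X] {L : ℕ ⥤ X.Modules}
    (hL : ∀ n, PicF.IsInvertible (L.obj n)) {Z : X.Opens}
    (hdat : ∀ x : X, ∃ W : X.Opens, x ∈ W ∧ Dat L Z W) (hZ : Dat L Z Z)
    (u : Coh.structureModule X ≅ L.obj 0)
    {E : CochainComplex X.Modules ℤ} (hE : DCoh.IsQCohD (DerivedCategory.Q.obj E)) (b : ℤ)
    (φ : P b Z ⟶ DerivedCategory.Q.obj E) :
    ∃ (m : ℕ) (ψ : P b ⊤ ⟶ DerivedCategory.Q.obj ((tcx E).obj (L.obj m))),
      ∀ [PreservesFiniteLimits (DCoh.tensorRightMod (L.obj m))] (T : X.Modules)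
        (t : DCoh.HD (DerivedCategory.Q.obj E) b ⟶ T),
        (DerivedCategory.homologyFunctor X.Modules b).map ψ ≫ hI E b (L.obj m) ≫
          (DCoh.tensorRightMod (L.obj m)).map
            ((DerivedCategory.homologyFunctorFactors X.Modules b).inv.app E ≫ t) = 0 →
        toH φ ≫ t = 0 := by
  let i₀ : DerivedCategory.Q.obj E ⟶ (seq E L).obj 0 := DerivedCategory.Q.map (iotaE E u.hom)
  obtain ⟨m, ψ₀, hψ⟩ := exists_extend hL hdat hE b (φ ≫ i₀)
  let ψ : P b ⊤ ⟶ DerivedCategory.Q.obj ((tcx E).obj (L.obj m)) := ψ₀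
  let σ : Coh.structureModule X ⟶ L.obj m := u.hom ≫ L.map (homOfLE (Nat.zero_le m))
  have hψ' : φ ≫ DerivedCategory.Q.map (iotaE E σ) = Hyp1.res le_top ψ := by
    have h1 : iotaE E σ = iotaE E u.hom ≫ (tcx E).map (L.map (homOfLE (Nat.zero_le m))) := iotaE_comp E _ _
    rw [h1, Functor.map_comp, ← Category.assoc]
    exact hψ
  refine ⟨m, ψ, ?_⟩
  intro hfl T t ht
  let Hb := DerivedCategory.homologyFunctor X.Modules b
  let c : DCoh.HD (DerivedCategory.Q.obj E) b ⟶ E.homology b :=
    (DerivedCategory.homologyFunctorFactors X.Modules b).hom.app E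
  let c' : E.homology b ⟶ DCoh.HD (DerivedCategory.Q.obj E) b :=
    (DerivedCategory.homologyFunctorFactors X.Modules b).inv.app E
  have hcc : c ≫ c' = 𝟙 _ := Iso.hom_inv_id_app _ _
  have h1 : toH φ ≫ Hb.map (DerivedCategory.Q.map (iotaE E σ)) ≫ hI E b (L.obj m) ≫
      (DCoh.tensorRightMod (L.obj m)).map (c' ≫ t) = 0 := by
    rw [← Category.assoc, ← toH_comp, hψ', Hyp1.res, toH_map_comp, Category.assoc, toH, Category.assoc]
    have : Hb.map ψ ≫ hI E b (L.obj m) ≫
      (DCoh.tensorRightMod (L.obj m)).map (c' ≫ t) = 0 := ht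
    rw [this, comp_zero, comp_zero]
  have h2 : Hb.map (DerivedCategory.Q.map (iotaE E σ)) ≫ hI E b (L.obj m) ≫
      (DCoh.tensorRightMod (L.obj m)).map (c' ≫ t) = t ≫ (iotaM σ).app T := by
    have h3 := hI_iota E b σ
    have h4 := (iotaM σ).naturality (c' ≫ t)
    rw [← Category.assoc]
    have h5 : Hb.map (DerivedCategory.Q.map (iotaE E σ)) ≫ hI E b (L.obj m) =
      c ≫ (iotaM σ).app (E.homology b) := h3
    rw [h5, Category.assoc]
    have h6 : (iotaM σ).app (E.homology b) ≫ (DCoh.tensorRightMod (L.obj m)).map (c' ≫ t) =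
      (c' ≫ t) ≫ (iotaM σ).app T := h4.symm
    rw [h6, Category.assoc, reassoc_of% hcc]
  rw [h2] at h1
  have h7 : (toH φ ≫ t).app Z (gen Z) = 0 := by
    refine app_eq_zero hZ u m T _ ?_
    have h8 := congrArg (fun g => g.app Z (gen Z)) h1
    exact h8
  exact ExtZero.hom_ext h7

end Groth.Agent.PerfB.ExtendTop
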