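import Groth.Prelude.Def_Coh
import Groth.Prelude.Def_PerfAux

/-!
# Functoriality of the cohomology groups `Coh.HH` in the module (linear form)
-/

set_option autoImplicit false
universe u

open CategoryTheory CategoryTheory.Limits AlgebraicGeometry Opposite TensorProduct

namespace Groth.Agent.PerfB.FiberBC

/-- underlying map of abelian sheaves -/
noncomputable def abMap {X : Scheme.{u}} {M N : X.Modules} (φ : M ⟶ N) : Coh.toAb M ⟶ Coh.toAb N :=
  (SheafOfModules.toSheaf X.ringCatSheaf).map φ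

lemma abMap_id {X : Scheme.{u}} (M : X.Modules) : abMap (𝟙 M) = 𝟙 _ :=
  (SheafOfModules.toSheaf X.ringCatSheaf).map_id M

lemma abMap_comp {X : Scheme.{u}} {M N P : X.Modules} (φ : M ⟶ N) (ψ : N ⟶ P) :
    abMap (φ ≫ ψ) = abMap φ ≫ abMap ψ :=
  (SheafOfModules.toSheaf X.ringCatSheaf).map_comp φ ψ

lemma smulAb_abMap {X : Scheme.{u}} {M N : X.Modules} (φ : M ⟶ N) (r : Coh.Γtop X) :
    Coh.smulAb M r ≫ abMap φ = abMap φ ≫ Coh.smulAb N r := by
  ext U m
  exact (φ.val.app U).hom.map_smul (Coh.resTop X U r) m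

/-- functoriality of `H^n(X, M)` in `M`, linear over the global functions -/
noncomputable def mapΓ {X : Scheme.{u}} {M N : X.Modules} (φ : M ⟶ N) (n : ℕ) :
    Coh.HH X M n →ₗ[Coh.Γtop X] Coh.HH X N n where
  toFun x := Sheaf.H.map (abMap φ) n x
  map_add' x y := map_add _ _ _
  map_smul' r x := by
    change Sheaf.H.map _ n (Sheaf.H.map (Coh.smulAb M r) n x) =
      Sheaf.H.map (Coh.smulAb N r) n (Sheaf.H.map _ n x)
    rw [← Sheaf.H.map_comp_apply, ← Sheaf.H.map_comp_apply, smulAb_abMap]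

/-- an isomorphism of modules induces a linear isomorphism on cohomology -/
noncomputable def isoΓ {X : Scheme.{u}} {M N : X.Modules} (e : M ≅ N) (n : ℕ) :
    Coh.HH X M n ≃ₗ[Coh.Γtop X] Coh.HH X N n :=
  { mapΓ e.hom n with
    invFun := mapΓ e.inv n
    left_inv := fun x => by
      change Sheaf.H.map _ n (Sheaf.H.map _ n x) = x
      rw [← Sheaf.H.map_comp_apply, ← abMap_comp, e.hom_inv_id, abMap_id, Sheaf.H.map_id_apply]
    right_inv := fun x => by
      change Sheaf.H.map _ n (Sheaf.H.map _ n x) = x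
      rw [← Sheaf.H.map_comp_apply, ← abMap_comp, e.inv_hom_id, abMap_id, Sheaf.H.map_id_apply] }

/-- the same over a base ring -/
noncomputable def isoOver (A : Type u) [CommRing A] {X : Scheme.{u}}
    [X.Over (Spec (CommRingCat.of A))] {M N : X.Modules} (e : M ≅ N) (n : ℕ) :
    Coh.HH X M n ≃ₗ[A] Coh.HH X N n :=
  { isoΓ e n with
    map_smul' := fun a x => (isoΓ e n).map_smul (Coh.toGlobal (X ↘ Spec (CommRingCat.of A)) a) x }

end Groth.Agent.PerfB.FiberBC
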