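import Groth.Agent.PerfB.FiberBC
import Groth.Agent.S0034
import Mathlib.AlgebraicGeometry.Fiber

/-!
# Fibre cohomology is invariant under base change

`PerfAux.betti f' F' t i = PerfAux.betti f F (g t) i` for a cartesian square with `F'` the pullback of `F`.
-/

set_option autoImplicit false
universe u

open CategoryTheory CategoryTheory.Limits AlgebraicGeometry Opposite TensorProduct

namespace Groth.Agent.PerfB.FiberBC

/-- The dimension of the fibre cohomology does not change under base change. -/
theorem betti_eq {X' X T S : Scheme.{u}} {g' : X' ⟶ X} {f' : X' ⟶ T} {f : X ⟶ S} {g : T ⟶ S}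
    (h : IsPullback g' f' f g) [QuasiCompact f] [QuasiSeparated f] (F : X.Modules) [Coh.IsQCoh F]
    (F' : X'.Modules) (e : (Scheme.Modules.pullback g').obj F ≅ F') (t : T) (i : ℕ)
    (hqc : Coh.IsQCoh ((Scheme.Modules.pullback (f.fiberι (g t))).obj F)) :
    PerfAux.betti f' F' t i = PerfAux.betti f F (g t) i := by
  let : (f.fiber (g t)).Over (Spec (CommRingCat.of (S.residueField (g t)))) :=
    ⟨f.fiberToSpecResidueField (g t)⟩
  let : (f'.fiber t).Over (Spec (CommRingCat.of (T.residueField t))) :=
    ⟨f'.fiberToSpecResidueField t⟩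
  let : Algebra (S.residueField (g t)) (T.residueField t) := (g.residueFieldMap t).hom.toAlgebra
  let g'' : f'.fiber t ⟶ f.fiber (g t) :=
    pullback.map _ _ _ _ g' (Spec.map (g.residueFieldMap t)) g h.w.symm (by simp)
  have hpb : IsPullback g'' (f'.fiber t ↘ Spec (CommRingCat.of (T.residueField t)))
      (f.fiber (g t) ↘ Spec (CommRingCat.of (S.residueField (g t))))
      (Spec.map (CommRingCat.ofHom (algebraMap (S.residueField (g t)) (T.residueField t)))) :=
    isPullback_fiberToSpecResidueField_of_isPullback h t
  have : QuasiSeparatedSpace (f.fiber (g t)) := by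
    have : QuasiSeparated (f.fiberToSpecResidueField (g t)) :=
      inferInstanceAs (QuasiSeparated (pullback.snd f (S.fromSpecResidueField (g t))))
    exact quasiSeparatedSpace_of_quasiSeparated (f.fiberToSpecResidueField (g t))
  obtain ⟨e₁⟩ := Groth.Agent.S0034.result (S.residueField (g t)) (T.residueField t)
    (f.fiber (g t)) (f'.fiber t) g'' hpb ((Scheme.Modules.pullback (f.fiberι (g t))).obj F) i
  have hw : g'' ≫ f.fiberι (g t) = f'.fiberι t ≫ g' := pullback.lift_fst _ _ _
  let e₂ : (Scheme.Modules.pullback g'').obj ((Scheme.Modules.pullback (f.fiberι (g t))).obj F) ≅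
      (Scheme.Modules.pullback (f'.fiberι t)).obj F' :=
    (Scheme.Modules.pullbackComp g'' (f.fiberι (g t))).app F ≪≫
      (Scheme.Modules.pullbackCongr hw).app F ≪≫
      ((Scheme.Modules.pullbackComp (f'.fiberι t) g').symm).app F ≪≫
      (Scheme.Modules.pullback (f'.fiberι t)).mapIso e
  have h1 := (e₁.trans (isoOver (T.residueField t) e₂ i)).finrank_eq
  rw [Module.finrank_baseChange] at h1
  exact h1.symm

end Groth.Agent.PerfB.FiberBC
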