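import Groth.Agent.PerfB.UnitMono
import Mathlib.AlgebraicGeometry.Fiber

/-!
# `O_Y ⟶ f_* O_X` over a one-point base; surjectivity from `Γ(X_s, O) = κ(s)`
-/

set_option autoImplicit false
universe u
open CategoryTheory CategoryTheory.Limits AlgebraicGeometry

namespace Groth.Agent.PerfB.FiberUnit

open Groth.Agent.PerfB.UnitMono

variable {X Y : Scheme.{u}} (f : X ⟶ Y)

lemma isIso_unitMap_app {U : Y.Opens} (h : Function.Bijective (f.app U)) : IsIso ((unitMap f).app U) := by
  rw [ConcreteCategory.isIso_iff_bijective]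
  exact h

theorem isIso_unitMap_of_subsingleton [Subsingleton Y] (h : IsIso f.appTop) : IsIso (unitMap f) := by
  rw [Scheme.Modules.Hom.isIso_iff_isIso_app]
  intro U
  apply isIso_unitMap_app
  by_cases hU : ∃ y : Y, y ∈ U
  · have hU' : U = ⊤ := by
      obtain ⟨y, hy⟩ := hU
      ext z
      simp [Subsingleton.elim z y, hy]
    subst hU'
    exact (ConcreteCategory.isIso_iff_bijective f.appTop).mp h
  · have hU' : U = ⊥ := by
      ext z
      simp only [TopologicalSpace.Opens.coe_bot, Set.mem_empty_iff_false, iff_false]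
      exact fun hz => hU ⟨z, hz⟩
    subst hU'
    have h1 : Subsingleton Γ(Y, ⊥) := inferInstance
    have h2 : Subsingleton Γ(X, f ⁻¹ᵁ ⊥) := by
      change Subsingleton Γ(X, ⊥)
      infer_instance
    exact ⟨fun a b _ => Subsingleton.elim _ _, fun b => ⟨0, Subsingleton.elim _ _⟩⟩

/-- Over a one point base with `Γ(X, O) = Γ(Y, O)`, `f_* O_X ≅ O_Y`. -/
noncomputable def unitIso [Subsingleton Y] (h : IsIso f.appTop) :
    Coh.structureModule Y ≅ (Scheme.Modules.pushforward f).obj (Coh.structureModule X) :=
  have := isIso_unitMap_of_subsingleton f h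
  asIso (unitMap f)

theorem surjective_of_fiber (h : ∀ s : Y, IsIso (f.fiberToSpecResidueField s).appTop) : Surjective f := by
  constructor
  intro s
  have h1 := h s
  have hne : Nonempty (f.fiber s) := by
    by_contra hE
    rw [not_nonempty_iff] at hE
    have h2 : Subsingleton Γ(f.fiber s, ⊤) := by
      have : (⊤ : (f.fiber s).Opens) = ⊥ := by
        ext z
        exact hE.elim z
      rw [this]
      infer_instance
    have hb := (ConcreteCategory.isIso_iff_bijective (f.fiberToSpecResidueField s).appTop).mp h1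
    have h3 : Subsingleton Γ(Spec (Y.residueField s), ⊤) := hb.1.subsingleton
    have h4 : Nontrivial Γ(Spec (Y.residueField s), ⊤) := by
      have e := (Scheme.ΓSpecIso (Y.residueField s)).commRingCatIsoToRingEquiv
      exact e.toEquiv.nontrivial
    exact not_subsingleton _ h3
  obtain ⟨x⟩ := hne
  refine ⟨f.fiberι s x, ?_⟩
  have h5 : f (f.fiberι s x) ∈ Set.range (Y.fromSpecResidueField s) := by
    rw [← Scheme.Hom.comp_apply, Scheme.Hom.fiber_fac, Scheme.Hom.comp_apply]
    exact ⟨_, rfl⟩
  rw [Scheme.range_fromSpecResidueField] at h5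
  exact h5

end Groth.Agent.PerfB.FiberUnit
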