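import Groth.Agent.Dcoh.DerPull2
import Groth.Agent.Dcoh.Spread
import Groth.Agent.S0953

/-!
# `Lg^*` on strictly perfect complexes, composition, restriction (object level)
-/

set_option autoImplicit false
universe u
open CategoryTheory CategoryTheory.Limits AlgebraicGeometry
attribute [local instance] HasDerivedCategory.standard

namespace Groth.Agent.PerfB.LpullKit

open Groth.Agent.Dcoh Groth.Agent.Dcoh.LocalD

/-- Strictly perfect complexes are K-flat. -/
theorem isKFlat_of_isStrictlyPerfect {X : Scheme.{u}} {E : CochainComplex X.Modules ℤ}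
    (hE : DCoh.IsStrictlyPerfect E) : DCoh.IsKFlat E := by
  obtain ⟨⟨a, b, hab⟩, h⟩ := hE
  exact S0953.result E b ((CochainComplex.isStrictlyLE_iff E b).2 (fun j hj => hab j (Or.inr hj)))
    fun i => Spread.isFlat_of_isFinLocFree (h i)

/-- `Lg^*` exists. -/
theorem hasLpull {T S : Scheme.{u}} (g : T ⟶ S) : DCoh.HasLpull g := DerPull.hasLpull g

/-- `L(g ≫ k)^* E ≅ Lg^* Lk^* E`. -/
noncomputable def lpullComp {T U S : Scheme.{u}} (g : T ⟶ U) (k : U ⟶ S)
    [DCoh.HasLpull g] [DCoh.HasLpull k] [DCoh.HasLpull (g ≫ k)] (E : DCoh.D S) :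
    (DCoh.Lpull (g ≫ k)).obj E ≅ (DCoh.Lpull g).obj ((DCoh.Lpull k).obj E) :=
  (DerPull.lpullCompIso g k).symm.app E

/-- `L(g ≫ k)^* E ≅ Lg^* (E|_U)` for an open immersion `k`. -/
noncomputable def lpullRestrict {T U S : Scheme.{u}} (g : T ⟶ U) (k : U ⟶ S) [IsOpenImmersion k]
    [DCoh.HasLpull g] [DCoh.HasLpull (g ≫ k)] (E : DCoh.D S) :
    (DCoh.Lpull (g ≫ k)).obj E ≅ (DCoh.Lpull g).obj ((DCoh.restrictD k).obj E) :=
  haveI := hasLpull k
  lpullComp g k E ≪≫ (DCoh.Lpull g).mapIso ((DerPull.lpullOpenIso k).app E)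

/-- `Lg^*` on strictly perfect complexes is `g^*` termwise. -/
noncomputable def lpullQ {T U : Scheme.{u}} (g : T ⟶ U) [DCoh.HasLpull g]
    (M : CochainComplex U.Modules ℤ) (hM : DCoh.IsStrictlyPerfect M) :
    (DCoh.Lpull g).obj (DerivedCategory.Q.obj M) ≅
      DerivedCategory.Q.obj (((Scheme.Modules.pullback g).mapHomologicalComplex (ComplexShape.up ℤ)).obj M) :=
  DerPull.lpullIso g M (isKFlat_of_isStrictlyPerfect hM)

end Groth.Agent.PerfB.LpullKit
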