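import Groth.Agent.PerfB.DegLoc
import Groth.Agent.PerfB.MinModel
import Groth.Agent.PerfB.LpullKit

/-!
# An object whose fibre at `x` is `κ^r[-i]` is `O^r[-i]` near `x`
-/

set_option autoImplicit false
universe u
open CategoryTheory CategoryTheory.Limits AlgebraicGeometry
attribute [local instance] HasDerivedCategory.standard

namespace Groth.Agent.PerfB.FibreConc

open Groth.Agent.Dcoh Groth.Agent.Dcoh.LocalD Groth.Agent.PerfB.MinModel Groth.Agent.PerfB.DegLoc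
  Groth.Agent.PerfB.LpullKit

variable {X Y : Scheme.{u}}

/-- `Lg^*(W[-i]) ≅ (g^* W)[-i]` for `W` finite locally free. -/
noncomputable def lpullSg {T : Scheme.{u}} (g : T ⟶ X) [DCoh.HasLpull g] (i : ℤ) {W : X.Modules}
    (hW : FlatMod.IsFinLocFree W) : (DCoh.Lpull g).obj (sg i W) ≅ sg i ((Scheme.Modules.pullback g).obj W) :=
  (DCoh.Lpull g).mapIso (sgQ i W) ≪≫
    lpullQ g _ ⟨⟨i, i, fun j hj => HomologicalComplex.isZero_single_obj_X _ _ _ _ (by lia)⟩, fun j => by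
      by_cases h : j = i
      · subst h
        exact isFinLocFree_of_iso (HomologicalComplex.singleObjXSelf (ComplexShape.up ℤ) _ W).symm hW
      · exact FinLocFree.isFinLocFree_of_isZero (HomologicalComplex.isZero_single_obj_X _ _ _ _ h)⟩ ≪≫
    DerivedCategory.Q.mapIso (mapCx (Scheme.Modules.pullback g) i W) ≪≫ (sgQ i _).symm

lemma isFinLocFree_of_rank {W : X.Modules} {r : ℕ} (h : FlatMod.IsFinLocFreeOfRank r W) :
    FlatMod.IsFinLocFree W := fun x => by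
  obtain ⟨V, hx, e⟩ := h x
  exact ⟨V, r, hx, e⟩

theorem isFinLocFreeOfRank_pullback {r : ℕ} (f : X ⟶ Y) {M : Y.Modules}
    (hM : FlatMod.IsFinLocFreeOfRank r M) :
    FlatMod.IsFinLocFreeOfRank r ((Scheme.Modules.pullback f).obj M) := by
  intro x
  obtain ⟨V, hV, ⟨e⟩⟩ := hM (f x)
  exact ⟨f ⁻¹ᵁ V, hV, ⟨(FlatPull.pullbackRestrict f V).app M ≪≫
    (Scheme.Modules.pullback (f ∣_ V)).mapIso e ≪≫ FlatPull.pullbackFreeMod _ r⟩⟩

/-- On a one-point scheme finite locally free modules are free. -/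
theorem free_of_subsingleton [Subsingleton X] (x : X) {r : ℕ} {M : X.Modules}
    (hM : FlatMod.IsFinLocFreeOfRank r M) : Nonempty (M ≅ FlatMod.freeMod X r) := by
  obtain ⟨V, hV, ⟨e⟩⟩ := hM x
  have hV' : V = ⊤ := by
    ext z
    simp [Subsingleton.elim z x, hV]
  subst hV'
  let t : X ⟶ ((⊤ : X.Opens) : Scheme.{u}) := X.topIso.inv
  have ht : t ≫ (⊤ : X.Opens).ι = 𝟙 X := X.topIso.inv_hom_id
  exact ⟨(Scheme.Modules.restrictFunctorId (X := X)).symm.app M ≪≫
    (Scheme.Modules.restrictFunctorCongr ht.symm).app M ≪≫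
    (Scheme.Modules.restrictFunctorComp t (⊤ : X.Opens).ι).app M ≪≫
    (Scheme.Modules.restrictFunctor t).mapIso e ≪≫ freeModRestrict t r⟩

/-- Computation of a minimal model from the fibre. -/
theorem conc_of_minimal (E : DCoh.D X) (i : ℤ) (r : ℕ) {U : Scheme.{u}} (k : U ⟶ X) [IsOpenImmersion k]
    (u₀ : U) (x : X) (hku : k u₀ = x) (M : CochainComplex U.Modules ℤ) (hMp : DCoh.IsStrictlyPerfect M)
    (m : ℤ → ℕ) (hM : TermsFree M m) (hmin : MinimalAt u₀ M)
    (eM : (DCoh.restrictD k).obj E ≅ DerivedCategory.Q.obj M) {T : Scheme.{u}}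
    (t : T) (a : T ⟶ Spec (X.residueField x)) [DCoh.HasLpull (a ≫ X.fromSpecResidueField x)]
    (h : Conc i r T ((DCoh.Lpull (a ≫ X.fromSpecResidueField x)).obj E)) :
    Conc i r U ((DCoh.restrictD k).obj E) := by
  subst hku
  let g₀ := U.fromSpecResidueField u₀
  let b : T ⟶ Spec (U.residueField u₀) := a ≫ inv (Spec.map (k.residueFieldMap u₀))
  have hb : a ≫ X.fromSpecResidueField (k u₀) = (b ≫ g₀) ≫ k := by
    simp only [b, g₀, Category.assoc]
    rw [← Scheme.Hom.SpecMap_residueFieldMap_fromSpecResidueField, IsIso.inv_hom_id_assoc]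
  have i1 : DCoh.HasLpull ((b ≫ g₀) ≫ k) := hasLpull _
  have i2 : DCoh.HasLpull (b ≫ g₀) := hasLpull _
  have h' : Conc i r T ((DCoh.Lpull ((b ≫ g₀) ≫ k)).obj E) := by
    revert i1
    rw [← hb]
    intro _
    exact h
  obtain ⟨e⟩ := h'
  let N := ((Scheme.Modules.pullback (b ≫ g₀)).mapHomologicalComplex (ComplexShape.up ℤ)).obj M
  let eN : DerivedCategory.Q.obj N ≅ sg i (FlatMod.freeMod T r) :=
    (lpullQ (b ≫ g₀) M hMp).symm ≪≫
      (DCoh.Lpull (b ≫ g₀)).mapIso eM.symm ≪≫ (lpullRestrict (b ≫ g₀) k E).symm ≪≫ e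
  have hN : ∀ n, N.d n (n + 1) = 0 := by
    intro n
    change (Scheme.Modules.pullback (b ≫ g₀)).map (M.d n (n + 1)) = 0
    have h1 : (Scheme.Modules.pullback b).map ((Scheme.Modules.pullback g₀).map (M.d n (n + 1))) = 0 := by
      rw [hmin n, Functor.map_zero]
    have h2 := NatIso.naturality_1 (Scheme.Modules.pullbackComp b g₀) (M.d n (n + 1))
    rw [← h2]
    change _ ≫ (Scheme.Modules.pullback b).map ((Scheme.Modules.pullback g₀).map (M.d n (n + 1))) ≫ _ = 0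
    rw [h1, zero_comp, comp_zero]
  have eH : ∀ n, FlatMod.freeMod T (m n) ≅ DCoh.HD (sg i (FlatMod.freeMod T r)) n := fun n =>
    (FlatPull.pullbackFreeMod (b ≫ g₀) (m n)).symm ≪≫
      (Scheme.Modules.pullback (b ≫ g₀)).mapIso (hM n).some.symm ≪≫
      (FreeRank.homologyIsoOfZero N n hN).symm ≪≫
      ((DerivedCategory.homologyFunctorFactors _ n).app N).symm ≪≫
      (DerivedCategory.homologyFunctor _ n).mapIso eN
  have hmi : m i = r := FreeRank.rank_eq t (eH i ≪≫ HDsg i _)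
  have hmj : ∀ n, n ≠ i → m n = 0 := fun n hn =>
    FreeRank.rank_eq_zero t ((isZero_HDsg i n hn _).of_iso (eH n))
  have hz : ∀ n, n ≠ i → IsZero (M.X n) := fun n hn => by
    have e1 := (hM n).some
    rw [hmj n hn] at e1
    exact (MinModel.isZero_freeMod_zero _).of_iso e1
  have hge : M.IsStrictlyGE i := (CochainComplex.isStrictlyGE_iff _ _).2 fun n hn => hz n hn.ne
  have hle : M.IsStrictlyLE i := (CochainComplex.isStrictlyLE_iff _ _).2 fun n hn => hz n hn.ne'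
  obtain ⟨W, ⟨eW⟩⟩ := CochainComplex.exists_iso_single M i
  have eW' : W ≅ FlatMod.freeMod U r := by
    have e1 := (hM i).some
    rw [hmi] at e1
    exact (HomologicalComplex.singleObjXSelf (ComplexShape.up ℤ) i W).symm ≪≫
      (HomologicalComplex.eval _ _ i).mapIso eW.symm ≪≫ e1
  exact ⟨eM ≪≫ DerivedCategory.Q.mapIso eW ≪≫ (sgQ i W).symm ≪≫
      (DerivedCategory.singleFunctor _ i).mapIso eW'⟩

/-- If the fibre of the perfect object `E` at `x`, possibly after pull back to a nonempty scheme `T`, is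
`O^r[-i]`, then `E` is `O^r[-i]` near `x`. -/
theorem conc_of_fibre (E : DCoh.D X) (hE : DCoh.IsPerfect E) (i : ℤ) (r : ℕ) (x : X) {T : Scheme.{u}}
    (t : T) (a : T ⟶ Spec (X.residueField x)) [DCoh.HasLpull (a ≫ X.fromSpecResidueField x)]
    (h : Conc i r T ((DCoh.Lpull (a ≫ X.fromSpecResidueField x)).obj E)) :
    ∃ V : X.Opens, x ∈ V ∧ Conc i r V ((DCoh.restrictD V.ι).obj E) := by
  obtain ⟨V₀, hs₀, E₀, hE₀, ⟨a₀⟩⟩ := (isPerfect_iff_locally E).1 hE x
  obtain ⟨U, j, hj, u₀, hu₀, M, φ, m, c, d, hφ, hM, hm, hmin⟩ :=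
    exists_minModel_of_isStrictlyPerfect (⟨x, hs₀⟩ : (V₀ : Scheme.{u})) E₀ hE₀
  let k : U ⟶ X := j ≫ V₀.ι
  have hku : k u₀ = x := by
    change (j ≫ V₀.ι) u₀ = x
    rw [Scheme.Hom.comp_apply, hu₀]
    rfl
  have hQφ : IsIso (DerivedCategory.Q.map φ) := inferInstance
  let eM : (DCoh.restrictD k).obj E ≅ DerivedCategory.Q.obj M :=
    ((restrictComp j V₀.ι).app E).symm ≪≫ (DCoh.restrictD j).mapIso a₀ ≪≫ QRestrict j E₀ ≪≫
      asIso (DerivedCategory.Q.map φ)
  have hconc := conc_of_minimal E i r k u₀ x hku M (isStrictlyPerfect_of_termsFree hm hM) m hM hmin eM t a h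
  refine ⟨k.opensRange, ⟨u₀, hku⟩, (isStable_conc i r).of_range_le k k.opensRange.ι ?_ hconc⟩
  rw [Scheme.Opens.range_ι]
  exact le_rfl

/-- S1064. -/
theorem main (E : DCoh.D X) (hE : DCoh.IsPerfect E) (i : ℤ) (r : ℕ) :
    ∃ U : X.Opens, ∀ (Y : Scheme.{u}) (f : Y ⟶ X) [DCoh.HasLpull f],
      Set.range f.base ⊆ (U : Set X) ↔
        ∃ V : Y.Modules, FlatMod.IsFinLocFreeOfRank r V ∧
          Nonempty ((DCoh.Lpull f).obj E ≅ (DCoh.inD Y V)⟦-i⟧) := by
  let U : X.Opens := sSup {V : X.Opens | Conc i r V ((DCoh.restrictD V.ι).obj E)}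
  have hmem : ∀ x : X, x ∈ U ↔ ∃ V : X.Opens, x ∈ V ∧ Conc i r V ((DCoh.restrictD V.ι).obj E) := by
    intro x
    rw [TopologicalSpace.Opens.mem_sSup]
    exact ⟨fun ⟨V, h1, h2⟩ => ⟨V, h2, h1⟩, fun ⟨V, h1, h2⟩ => ⟨V, h2, h1⟩⟩
  refine ⟨U, fun Y f _ => ⟨fun h => ?_, ?_⟩⟩
  · have hloc : Locally (Conc i r) U ((DCoh.restrictD U.ι).obj E) := by
      rw [locally_iff (isStable_conc i r)]
      intro x
      obtain ⟨V, hxV, hV⟩ := (hmem x.1).1 x.2
      have hVU : V ≤ U := fun z hz => (hmem z).2 ⟨V, hz, hV⟩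
      refine ⟨V, X.homOfLE hVU, inferInstance, ⟨⟨x.1, hxV⟩, ?_⟩, ?_⟩
      · apply U.ι.isOpenEmbedding.injective
        exact congrArg (fun (g : (V : Scheme.{u}) ⟶ X) => g.base ⟨x.1, hxV⟩) (X.homOfLE_ι hVU)
      · exact (isStable_conc i r).iso ((restrictCompEq (X.homOfLE_ι hVU)).app E).symm hV
    obtain ⟨W, hW, ⟨e⟩⟩ := exists_of_locally i r _ hloc
    obtain ⟨f', rfl⟩ : ∃ f' : Y ⟶ (U : Scheme.{u}), f' ≫ U.ι = f :=
      ⟨IsOpenImmersion.lift U.ι f (by rw [Scheme.Opens.range_ι]; exact h), IsOpenImmersion.lift_fac _ _ _⟩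
    have := hasLpull f'
    exact ⟨(Scheme.Modules.pullback f').obj W, isFinLocFreeOfRank_pullback f' hW,
      ⟨lpullRestrict f' U.ι E ≪≫ (DCoh.Lpull f').mapIso e ≪≫ lpullSg f' i (isFinLocFree_of_rank hW) ≪≫
        (sgShift i _).symm⟩⟩
  · rintro ⟨W, hW, ⟨e⟩⟩ _ ⟨y, rfl⟩
    refine (hmem _).2 ?_
    let z := Y.fromSpecResidueField y
    have i1 : DCoh.HasLpull (Spec.map (f.residueFieldMap y) ≫ X.fromSpecResidueField (f y)) := hasLpull _
    refine conc_of_fibre E hE i r (f y) (Classical.arbitrary (Spec (Y.residueField y)))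
      (Spec.map (f.residueFieldMap y)) ?_
    have i2 : DCoh.HasLpull z := hasLpull _
    have i3 : DCoh.HasLpull (z ≫ f) := hasLpull _
    have key : Conc i r _ ((DCoh.Lpull (z ≫ f)).obj E) := by
      obtain ⟨e3⟩ := free_of_subsingleton (Classical.arbitrary (Spec (Y.residueField y)))
        (isFinLocFreeOfRank_pullback z hW)
      exact ⟨lpullComp z f E ≪≫ (DCoh.Lpull z).mapIso (e ≪≫ sgShift i W) ≪≫
        lpullSg z i (isFinLocFree_of_rank hW) ≪≫ (DerivedCategory.singleFunctor _ i).mapIso e3⟩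
    revert i1
    rw [Scheme.Hom.SpecMap_residueFieldMap_fromSpecResidueField]
    intro _
    exact key

end Groth.Agent.PerfB.FibreConc
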