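import Groth.Agent.PerfB.FiberUnit
import Groth.Agent.PerfB.RDerZero
import Groth.Agent.PerfB.TensExact
import Groth.Agent.Dcoh.DerSch
import Groth.Agent.Dcoh.LocalD
import Groth.Agent.PerfA.PerfLocal

/-!
# `H^0(Rf_* M) = f_* M`, restriction of `Rf_* M` to opens of the base, fibres
-/

set_option autoImplicit false
universe u
open CategoryTheory CategoryTheory.Limits AlgebraicGeometry
attribute [local instance] HasDerivedCategory.standard

namespace Groth.Agent.PerfB.H0Fibre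

open Groth.Agent.Dcoh Groth.Agent.Dcoh.LocalD

variable {X S : Scheme.{u}} (f : X ⟶ S)

section

variable [DCoh.HasRpush f] (M : X.Modules)

/-- `H^0(Rf_* M) ≅ f_* M`. -/
noncomputable def HDzero :
    DCoh.HD ((DCoh.Rpush f).obj (DCoh.inD X M)) 0 ≅ (Scheme.Modules.pushforward f).obj M :=
  haveI := DerSch.enoughInjectives X
  RDerZero.homologySingle (Scheme.Modules.pushforward f) (DCoh.Rpush f) (DerSch.rpushUnit f)
    (DerSch.hasKInj X) M

theorem isGE_Rpush_inD : ((DCoh.Rpush f).obj (DCoh.inD X M)).IsGE 0 :=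
  haveI := DerSch.enoughInjectives X
  RDerZero.isGE_single (Scheme.Modules.pushforward f) (DCoh.Rpush f) (DerSch.rpushUnit f)
    (DerSch.hasKInj X) M

theorem isZero_HD_neg (n : ℤ) (hn : n < 0) :
    IsZero (DCoh.HD ((DCoh.Rpush f).obj (DCoh.inD X M)) n) := by
  have := isGE_Rpush_inD f M
  exact DerivedCategory.isZero_of_isGE _ 0 n hn

end

/-- Restriction of `Rf_* M` to an open of the base. -/
theorem nonempty_restrict_Rpush_inD [DCoh.HasRpush f] (V : S.Opens) [DCoh.HasRpush (f ∣_ V)] (M : X.Modules) :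
    Nonempty ((DCoh.restrictD V.ι).obj ((DCoh.Rpush f).obj (DCoh.inD X M)) ≅
      (DCoh.Rpush (f ∣_ V)).obj (DCoh.inD (f ⁻¹ᵁ V : Scheme.{u}) (M.restrict (f ⁻¹ᵁ V).ι))) := by
  obtain ⟨e⟩ := DerSch.exists_rpushRestrictIso f (f ∣_ V) (f ⁻¹ᵁ V).ι V.ι
    (isPullback_morphismRestrict f V).flip
  exact ⟨e.app (DCoh.inD X M) ≪≫ (DCoh.Rpush (f ∣_ V)).mapIso
    (PerfA.PerfLocal.restrictInD (f ⁻¹ᵁ V).ι M)⟩

section Fibre

lemma isIso_appTop {A B : Scheme.{u}} (a : A ⟶ B) [IsIso a] : IsIso a.appTop :=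
  inferInstanceAs (IsIso (a.app ⊤))

lemma isIso_appTop_of_comp_left {A B C : Scheme.{u}} (a : A ⟶ B) (b : B ⟶ C) [IsIso b]
    (h : IsIso (a ≫ b).appTop) : IsIso a.appTop := by
  rw [Scheme.Hom.comp_appTop] at h
  have := isIso_appTop b
  exact IsIso.of_isIso_comp_left b.appTop a.appTop

theorem isIso_appTop_snd_comp {Z Z' : Scheme.{u}} (g : Z ⟶ S) (e : Z' ⟶ Z) [IsIso e]
    (h : IsIso (pullback.snd f g).appTop) : IsIso (pullback.snd f (e ≫ g)).appTop := by
  let p : pullback f (e ≫ g) ⟶ pullback f g :=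
    pullback.map f (e ≫ g) f g (𝟙 X) e (𝟙 S) (by simp) (by simp)
  have hp : IsIso p := inferInstance
  have hc : p ≫ pullback.snd f g = pullback.snd f (e ≫ g) ≫ e := pullback.lift_snd _ _ _
  have h1 := isIso_appTop p
  apply isIso_appTop_of_comp_left _ e
  rw [← hc, Scheme.Hom.comp_appTop]
  exact IsIso.comp_isIso' h h1

theorem isIso_appTop_snd {U : Scheme.{u}} (k : U ⟶ S) [IsOpenImmersion k] (u₀ : U)
    (h : IsIso (f.fiberToSpecResidueField (k u₀)).appTop) :
    IsIso (pullback.snd f (U.fromSpecResidueField u₀ ≫ k)).appTop := by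
  rw [← Scheme.Hom.SpecMap_residueFieldMap_fromSpecResidueField]
  exact isIso_appTop_snd_comp f _ _ h

end Fibre

/-- The fibre of `Rf_* O_X`: `H^0(R f'_* O_{X_s}) ≅ O` where `f' : X_s ⟶ Spec κ(u₀)`. -/
noncomputable def fibreHDzero {U : Scheme.{u}} (k : U ⟶ S) [IsOpenImmersion k] (u₀ : U)
    (h : IsIso (f.fiberToSpecResidueField (k u₀)).appTop)
    [DCoh.HasRpush (pullback.snd f (U.fromSpecResidueField u₀ ≫ k))] :
    DCoh.HD ((DCoh.Rpush (pullback.snd f (U.fromSpecResidueField u₀ ≫ k))).obj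
      (DCoh.inD _ (Coh.structureModule _))) 0 ≅ Coh.structureModule (Spec (U.residueField u₀)) :=
  HDzero _ _ ≪≫ (FiberUnit.unitIso _ (isIso_appTop_snd f k u₀ h)).symm

end Groth.Agent.PerfB.H0Fibre
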