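import Groth.Agent.PerfB.Betti
import Groth.Agent.PerfB.FibreConc
import Groth.Agent.PerfB.StructFlat
import Groth.Agent.PerfB.H0Fibre
import Groth.Agent.PerfC.RpushSingle
import Groth.Agent.Dcoh.LTMod
import Groth.Agent.PerfC.RelFlatLpull

/-!
# A perfect module whose derived fibres are concentrated in degree zero is finite locally free
-/

set_option autoImplicit false
universe u
open CategoryTheory CategoryTheory.Limits AlgebraicGeometry Opposite
attribute [local instance] HasDerivedCategory.standard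

namespace Groth.Agent.PerfB.FibreZero

open Groth.Agent.Dcoh Groth.Agent.Dcoh.LocalD Groth.Agent.PerfB.MinModel Groth.Agent.PerfB.DegLoc
  Groth.Agent.PerfB.Betti Groth.Agent.PerfB.FibreDim DerivedCategory

variable {X : Scheme.{u}}

lemma betti_eq_zero (E : DCoh.D X) (x : X) [DCoh.HasLpull (X.fromSpecResidueField x)] (i : ℤ)
    (h : IsZero (DCoh.HD ((DCoh.Lpull (X.fromSpecResidueField x)).obj E) i)) :
    PerfD.betti E x i = 0 := by
  have h1 : IsZero ((Γf (Spec (X.residueField x))).obj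
      (DCoh.HD ((DCoh.Lpull (X.fromSpecResidueField x)).obj E) i)) := Functor.map_isZero _ h
  have h2 : Subsingleton ((Γf (Spec (X.residueField x))).obj
      (DCoh.HD ((DCoh.Lpull (X.fromSpecResidueField x)).obj E) i)) :=
    ModuleCat.isZero_iff_subsingleton.1 h1
  have h3 : Nontrivial (Coh.Γtop (Spec (X.residueField x))) :=
    (isField_Γtop_residueField X x).nontrivial
  exact Module.finrank_zero_of_subsingleton (M := (Γf (Spec (X.residueField x))).obj
      (DCoh.HD ((DCoh.Lpull (X.fromSpecResidueField x)).obj E) i))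

/-- A module `M` such that `M[0]` is perfect with derived fibres concentrated in degree `0` is finite
locally free. -/
theorem isFinLocFree_of_betti (M : X.Modules) (hM : DCoh.IsPerfect (DCoh.inD X M))
    [∀ x : X, DCoh.HasLpull (X.fromSpecResidueField x)]
    (h : ∀ (x : X) (j : ℤ), j ≠ 0 → PerfD.betti (DCoh.inD X M) x j = 0) :
    FlatMod.IsFinLocFree M := by
  rw [isFinLocFree_iff]
  intro x
  obtain ⟨U, j, hj, u₀, hu₀, K, n, a, b, α, hK, hn, hmin⟩ := exists_model_perf _ hM x
  have hn0 : ∀ i : ℤ, i ≠ 0 → n i = 0 := by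
    intro i hi
    rw [← h x i hi]
    exact (betti_eq x j hK hn (DCoh.inD X M) (i - 1) α.hom (fun _ _ => inferInstance) inferInstance i
      (by omega) u₀ hu₀ hmin).symm
  have hz : ∀ i : ℤ, i ≠ 0 → IsZero (K.X i) := fun i hi => by
    have e1 := (hK i).some
    rw [hn0 i hi] at e1
    exact (MinModel.isZero_freeMod_zero _).of_iso e1
  have hd : ∀ i, K.d i (i + 1) = 0 := by
    intro i
    by_cases hi : i = 0
    · exact (hz (i + 1) (by omega)).eq_zero_of_tgt _
    · exact (hz i hi).eq_zero_of_src _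
  refine ⟨U, j, hj, n 0, ⟨u₀, hu₀⟩, ⟨?_⟩⟩
  exact (HDsg 0 (M.restrict j)).symm ≪≫
    (DerivedCategory.homologyFunctor _ 0).mapIso ((restrictSg j 0 M).symm ≪≫ α.symm) ≪≫
    (homologyFunctorFactors _ 0).app K ≪≫ FreeRank.homologyIsoOfZero K 0 hd ≪≫ (hK 0).some

/-- the complex `M[-i]` is strictly perfect for `M` finite locally free. -/
lemma isStrictlyPerfect_cx (i : ℤ) {W : X.Modules} (hW : FlatMod.IsFinLocFree W) :
    DCoh.IsStrictlyPerfect (cx i W) :=
  ⟨⟨i, i, fun j hj => HomologicalComplex.isZero_single_obj_X _ _ _ _ (by lia)⟩, fun j => by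
    by_cases h : j = i
    · subst h
      exact isFinLocFree_of_iso (HomologicalComplex.singleObjXSelf (ComplexShape.up ℤ) _ W).symm hW
    · exact FinLocFree.isFinLocFree_of_isZero (HomologicalComplex.isZero_single_obj_X _ _ _ _ h)⟩

/-- `O_X ⊗^L G ≅ G`. -/
noncomputable def structureLTensor (G : X.Modules) [DCoh.HasLTensorMod G] :
    (DCoh.LTensorMod G).obj (DCoh.inD X (Coh.structureModule X)) ≅ DCoh.inD X G :=
  (DCoh.LTensorMod G).mapIso (sgQ 0 _) ≪≫
    LTMod.isoQ G (LpullKit.isKFlat_of_isStrictlyPerfect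
      (isStrictlyPerfect_cx 0 StructFlat.isFinLocFree_structure)) ≪≫
    Q.mapIso (mapCx (DCoh.tensorRightMod G) 0 _) ≪≫ (sgQ 0 _).symm ≪≫
    (singleFunctor X.Modules 0).mapIso (TensUnit.unitTensor G)

/-- `Lg^* O_X ≅ O_T`. -/
noncomputable def lpullStructure {T : Scheme.{u}} (g : T ⟶ X) [DCoh.HasLpull g] :
    (DCoh.Lpull g).obj (DCoh.inD X (Coh.structureModule X)) ≅ DCoh.inD T (Coh.structureModule T) :=
  FibreConc.lpullSg g 0 StructFlat.isFinLocFree_structure ≪≫
    (singleFunctor T.Modules 0).mapIso (TensUnit.pullbackUnit g)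

section Push

variable {S : Scheme.{u}} (f : X ⟶ S)

/-- If `R^i f_* F = 0` for `i > 0`, then `Rf_* F = f_* F [0]`. -/
theorem nonempty_Rpush_inD [DCoh.HasRpush f] [HasInjectiveResolutions X.Modules] (F : X.Modules)
    (hvan : ∀ i : ℕ, 0 < i → IsZero ((Coh.Rpush f i).obj F)) :
    Nonempty ((DCoh.Rpush f).obj (DCoh.inD X F) ≅ DCoh.inD S ((Coh.push f).obj F)) := by
  have h1 := H0Fibre.isGE_Rpush_inD f F
  have h2 : ((DCoh.Rpush f).obj (DCoh.inD X F)).IsLE 0 := by
    rw [DerivedCategory.isLE_iff]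
    intro i hi
    lift i to ℕ using hi.le
    exact (hvan i (by omega)).of_iso (PerfC.RpushSingle.iso f i F)
  obtain ⟨W, ⟨e⟩⟩ := ((DCoh.Rpush f).obj (DCoh.inD X F)).exists_iso_singleFunctor_obj_of_isGE_of_isLE 0
  exact ⟨e ≪≫ (singleFunctor S.Modules 0).mapIso ((HDsg 0 W).symm ≪≫
    (homologyFunctor _ 0).mapIso e.symm ≪≫ H0Fibre.HDzero f F)⟩

end Push

end Groth.Agent.PerfB.FibreZero
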