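import Groth.Agent.PerfB.FiltSec
import Groth.Agent.CohqB.HomSheafMap
import Groth.Agent.CohqB.HomSheafQCoh
import Groth.Agent.CohqA.FinSec
import Groth.Agent.Desc.FPSections
import Groth.Agent.Models2.FPCoh

/-!
# Homs out of a finitely presented module into an elementwise filtered colimit of modules

`T : J ⥤ X.Modules`, `c : Cocone T` elementwise colimit over affine opens, `G` finitely presented,
`X` qcqs: `Hom(G, c.pt)` is the elementwise colimit of the `Hom(G, T_j)`.
-/

set_option autoImplicit false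
universe u v w
open CategoryTheory CategoryTheory.Limits AlgebraicGeometry Opposite TopologicalSpace
open Groth.Agent.Ega1.QCohLoc Groth.Agent.CohqB.HomSheaf

namespace Groth.Agent.PerfB.FiltSec

variable {J : Type v} [Category.{w} J] [IsFiltered J]
variable {X : Scheme.{u}} {T : J ⥤ X.Modules} {c : Cocone T}

theorem exists_linear_zero {V : X.Opens} (hinj : InjAt c V) {M : Type*} [AddCommGroup M]
    [Module Γ(X, V) M] [Module.Finite Γ(X, V) M] (j : J) (t : M →ₗ[Γ(X, V)] Γ(T.obj j, V))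
    (h : ∀ m, (leg c j).app V (t m) = 0) :
    ∃ (k : J) (f : j ⟶ k), ∀ m, (T.map f).app V (t m) = 0 := by
  obtain ⟨n, m, hm⟩ := Module.Finite.exists_fin (R := Γ(X, V)) (M := M)
  choose k f hf using fun i => hinj j (t (m i)) (h _)
  obtain ⟨l, g, a, H⟩ := exists_common' j k f
  refine ⟨l, g, fun x => ?_⟩
  have h1 : (appL (T.map g) V).comp t = 0 := by
    refine LinearMap.ext_on_range hm fun i => ?_
    rw [LinearMap.zero_apply, LinearMap.comp_apply, appL_apply, ← H i, map_comp_app, hf, map_zero]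
  exact congr($h1 x)

theorem exists_linear_lift {V : X.Opens} (hinj : InjAt c V) (hsurj : SurjAt c V) {M : Type*}
    [AddCommGroup M] [Module Γ(X, V) M] [Module.FinitePresentation Γ(X, V) M]
    (s : M →ₗ[Γ(X, V)] Γ(c.pt, V)) :
    ∃ (j : J) (t : M →ₗ[Γ(X, V)] Γ(T.obj j, V)), ∀ m, (leg c j).app V (t m) = s m := by
  classical
  obtain ⟨n, K, e, hK⟩ := Module.FinitePresentation.exists_fin Γ(X, V) M
  -- the generators
  let b : Fin n → M := fun i => e.symm (K.mkQ (Pi.single i 1))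
  choose j₀ t₀ ht₀ using fun i => hsurj (s (b i))
  obtain ⟨j, ⟨f⟩⟩ := exists_above j₀
  let t₁ : Fin n → Γ(T.obj j, V) := fun i => (T.map (f i)).app V (t₀ i)
  have ht₁ : ∀ i, (leg c j).app V (t₁ i) = s (b i) := fun i => by
    rw [w_app, ht₀]
  let τ : (Fin n → Γ(X, V)) →ₗ[Γ(X, V)] Γ(T.obj j, V) := Fintype.linearCombination Γ(X, V) t₁
  have hτ : (appL (leg c j) V).comp τ = s.comp (e.symm.toLinearMap.comp K.mkQ) := by
    refine LinearMap.pi_ext' fun i => LinearMap.ext_ring ?_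
    change (leg c j).app V (τ (Pi.single i 1)) = s (b i)
    rw [← ht₁ i]
    congr 1
    simp [τ]
  have : Module.Finite Γ(X, V) K := Module.Finite.iff_fg.mpr hK
  obtain ⟨k, g, hg⟩ := exists_linear_zero hinj j (τ.comp K.subtype) (fun m => by
    have h1 : (appL (leg c j) V).comp τ m.1 = s.comp (e.symm.toLinearMap.comp K.mkQ) m.1 :=
      congr($hτ m.1)
    refine h1.trans ?_
    change s (e.symm (K.mkQ m.1)) = 0
    rw [(Submodule.Quotient.mk_eq_zero K).mpr m.2 |> (fun h => (show K.mkQ m.1 = 0 from h)), map_zero,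
      map_zero])
  let τ' : ((Fin n → Γ(X, V)) ⧸ K) →ₗ[Γ(X, V)] Γ(T.obj k, V) :=
    K.liftQ ((appL (T.map g) V).comp τ) (fun x hx => hg ⟨x, hx⟩)
  refine ⟨k, τ'.comp e.toLinearMap, fun m => ?_⟩
  obtain ⟨x, hx⟩ := K.mkQ_surjective (e m)
  change (leg c k).app V (τ' (e m)) = s m
  rw [← hx]
  change (leg c k).app V ((T.map g).app V (τ x)) = s m
  rw [w_app]
  have h1 : (appL (leg c j) V).comp τ x = s.comp (e.symm.toLinearMap.comp K.mkQ) x :=
    congr($hτ x)
  refine h1.trans ?_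
  change s (e.symm (K.mkQ x)) = s m
  rw [hx, LinearEquiv.symm_apply_apply]

/-- postcomposition functor of the internal Hom -/
noncomputable def homF (G : X.Modules) : X.Modules ⥤ X.Modules where
  obj N := homSheaf G N
  map φ := homMap G φ
  map_id _ := homMap_id
  map_comp _ _ := homMap_comp _ _

variable (G : X.Modules)

theorem injAt_hom (hG : Coh.IsQCoh G) {V : X.Opens} (hV : IsAffineOpen V)
    [Module.Finite Γ(X, V) Γ(G, V)] (h : InjAt c V) : InjAt ((homF G).mapCocone c) V := by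
  intro j t ht
  obtain ⟨k, f, hf⟩ := exists_linear_zero h j (comp (M := G) (N := T.obj j) t V le_rfl)
    (fun m => congr(comp (M := G) (N := c.pt) $ht V le_rfl m))
  exact ⟨k, f, comp_injective (M := G) (N := T.obj k) hG hV fun m => hf m⟩

theorem surjAt_hom (hG : Coh.IsQCoh G) {V : X.Opens} (hV : IsAffineOpen V)
    [Module.FinitePresentation Γ(X, V) Γ(G, V)] (h : InjAt c V) (h' : SurjAt c V) :
    SurjAt ((homF G).mapCocone c) V := by
  intro s
  obtain ⟨j, t, ht⟩ := exists_linear_lift h h' (comp (M := G) (N := c.pt) s V le_rfl)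
  obtain ⟨t', ht'⟩ := exists_comp_eq (M := G) (N := T.obj j) hG hV t
  refine ⟨j, t', comp_injective (M := G) (N := c.pt) hG hV fun m => ?_⟩
  rw [← ht, ← ht']
  rfl

theorem exists_hom_zero [CompactSpace X] (hG : CohB1.IsFP G)
    (h : ∀ V : X.Opens, IsAffineOpen V → InjAt c V) (j : J) (φ : G ⟶ T.obj j)
    (hφ : φ ≫ leg c j = 0) : ∃ (k : J) (f : j ⟶ k), φ ≫ T.map f = 0 := by
  have hG0 : Coh.IsQCoh G := Models2.FPCoh.isQCoh_of_isFP hG
  obtain ⟨k, f, hf⟩ := injAt_of_isCompact (c := (homF G).mapCocone c) (fun V hV => by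
    have := CohqA.FinSec.finite_sections hV hG0 (Models2.FPCoh.isFT_of_isFP hG)
    exact injAt_hom G hG0 hV (h V hV)) (V := ⊤) isCompact_univ j (ofHom φ ⊤)
    (congr(ofHom $hφ ⊤))
  exact ⟨k, f, (topEquiv G (T.obj k)).symm.injective (hf.trans rfl)⟩

theorem exists_hom_lift [CompactSpace X] [QuasiSeparatedSpace X] (hG : CohB1.IsFP G)
    (h : ∀ V : X.Opens, IsAffineOpen V → InjAt c V) (h' : ∀ V : X.Opens, IsAffineOpen V → SurjAt c V)
    (ψ : G ⟶ c.pt) : ∃ (j : J) (φ : G ⟶ T.obj j), φ ≫ leg c j = ψ := by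
  have hG0 : Coh.IsQCoh G := Models2.FPCoh.isQCoh_of_isFP hG
  obtain ⟨j, t, ht⟩ := surjAt_of_isCompact (c := (homF G).mapCocone c) (fun V hV => by
    have := CohqA.FinSec.finite_sections hV hG0 (Models2.FPCoh.isFT_of_isFP hG)
    exact injAt_hom G hG0 hV (h V hV)) (fun V hV => by
    have := Desc.FPSections.finitePresentation_sections hV hG0 hG
    exact surjAt_hom G hG0 hV (h V hV) (h' V hV)) (V := ⊤) isCompact_univ
    isQuasiSeparated_univ (ofHom ψ ⊤)
  refine ⟨j, topEquiv G (T.obj j) t, (topEquiv G c.pt).symm.injective (Eq.trans ?_ ht)⟩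
  rfl

end Groth.Agent.PerfB.FiltSec
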