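import Groth.Agent.Ega1.QCohLoc
import Mathlib.CategoryTheory.Filtered.Basic
import Mathlib.CategoryTheory.Limits.Shapes.FiniteLimits

/-!
# Elementwise filtered colimits of sections of modules, over quasi-compact opens

`T : J ⥤ X.Modules` with `J` filtered and `c : Cocone T`. `InjAt c V`, `SurjAt c V`: the sections
of `c.pt` over `V` are the colimit of the sections of the `T.obj j`, elementwise. If this holds over affine
opens, it holds over all quasi-compact (quasi-separated) opens.
-/

set_option autoImplicit false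
universe u v w
open CategoryTheory CategoryTheory.Limits AlgebraicGeometry Opposite TopologicalSpace
open Groth.Agent.Ega1.QCohLoc

namespace Groth.Agent.PerfB.FiltSec

variable {J : Type v} [Category.{w} J] [IsFiltered J]

/-- Finitely many morphisms out of `j` in a filtered category become equal after composition. -/
theorem exists_common {ι : Type} [Finite ι] (j : J) (k : ι → J) (f : ∀ i, j ⟶ k i) :
    ∃ (l : J) (g : j ⟶ l) (h : ∀ i, k i ⟶ l), ∀ i, f i ≫ h i = g := by
  classical
  cases nonempty_fintype ι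
  obtain ⟨c⟩ := IsFiltered.cocone_nonempty (WidePushoutShape.wideSpan j k f)
  refine ⟨c.pt, c.ι.app none, fun i => c.ι.app (some i), fun i => ?_⟩
  have := c.w (WidePushoutShape.Hom.init i)
  exact this

/-- Finitely many morphisms out of `j` in a filtered category become equal after composition. -/
theorem exists_common' {ι : Type*} [Finite ι] (j : J) (k : ι → J) (f : ∀ i, j ⟶ k i) :
    ∃ (l : J) (g : j ⟶ l) (h : ∀ i, k i ⟶ l), ∀ i, f i ≫ h i = g := by
  obtain ⟨n, ⟨e⟩⟩ := Finite.exists_equiv_fin ι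
  obtain ⟨l, g, h, H⟩ := exists_common j (k ∘ e.symm) (fun i => f (e.symm i))
  refine ⟨l, g, fun i => eqToHom (by simp) ≫ h (e i), fun i => ?_⟩
  rw [← H (e i)]
  have : ∀ i' (hi : e.symm i' = i), f i ≫ eqToHom (by simp [← hi]) ≫ h i' = f (e.symm i') ≫ h i' := by
    rintro i' rfl
    simp
  exact this (e i) (by simp)

theorem exists_above {ι : Type*} [Finite ι] (k : ι → J) :
    ∃ (l : J), Nonempty (∀ i, k i ⟶ l) := by
  classical
  cases nonempty_fintype ι
  obtain ⟨l, hl⟩ := IsFiltered.sup_objs_exists (Finset.univ.image k)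
  exact ⟨l, ⟨fun i => (hl (Finset.mem_image_of_mem k (Finset.mem_univ i))).some⟩⟩

variable {X : Scheme.{u}} {T : J ⥤ X.Modules} (c : Cocone T)

/-- The maps of the cocone. -/
abbrev leg (j : J) : T.obj j ⟶ c.pt := c.ι.app j

/-- Sections of a stage over `V` vanishing in the limit vanish at some later stage. -/
def InjAt (V : X.Opens) : Prop :=
  ∀ (j : J) (t : Γ(T.obj j, V)), (leg c j).app V t = 0 → ∃ (k : J) (f : j ⟶ k), (T.map f).app V t = 0

/-- Sections of the limit over `V` come from a stage. -/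
def SurjAt (V : X.Opens) : Prop :=
  ∀ s : Γ(c.pt, V), ∃ (j : J) (t : Γ(T.obj j, V)), (leg c j).app V t = s

theorem map_comp_app {i j k : J} (f : i ⟶ j) (g : j ⟶ k) (V : X.Opens) (t : Γ(T.obj i, V)) :
    (T.map (f ≫ g)).app V t = (T.map g).app V ((T.map f).app V t) := by
  rw [T.map_comp]
  rfl

theorem w_app {j k : J} (g : j ⟶ k) (V : X.Opens) (t : Γ(T.obj j, V)) :
    (leg c k).app V ((T.map g).app V t) = (leg c j).app V t := by
  have := c.w g
  exact congr(($this).app V t)

variable {c}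

theorem injAt_of_cover {ι : Type*} [Finite ι] (U : ι → X.Opens) (V : X.Opens) (hle : ∀ i, U i ≤ V)
    (hV : V ≤ iSup U) (h : ∀ i, InjAt c (U i)) : InjAt c V := by
  intro j t ht
  have key : ∀ i, ∃ (k : J) (f : j ⟶ k), (T.map f).app (U i) (res _ (hle i) t) = 0 := fun i =>
    h i j (res _ (hle i) t) (by rw [res_app, ht, map_zero])
  choose k f hf using key
  obtain ⟨l, g, h', H⟩ := exists_common' j k f
  refine ⟨l, g, eq_of_locally_eq _ U V hle hV _ _ fun i => ?_⟩
  rw [map_zero, ← res_app, ← H i, map_comp_app, hf, map_zero]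

theorem surjAt_of_cover {ι : Type*} [Finite ι] (U : ι → X.Opens) (V : X.Opens) (hle : ∀ i, U i ≤ V)
    (hV : V ≤ iSup U) (h : ∀ i, SurjAt c (U i)) (h' : ∀ i j, InjAt c (U i ⊓ U j)) : SurjAt c V := by
  intro s
  choose j₀ t₀ ht₀ using fun i => h i (res _ (hle i) s)
  obtain ⟨j, ⟨f₀⟩⟩ := exists_above j₀
  obtain ⟨t₁, ht₁⟩ : ∃ t₁ : ∀ i, Γ(T.obj j, U i),
      ∀ i, (leg c j).app (U i) (t₁ i) = res _ (hle i) s :=
    ⟨fun i => (T.map (f₀ i)).app (U i) (t₀ i), fun i => by rw [w_app, ht₀]⟩
  have key : ∀ p : ι × ι, ∃ (k : J) (f : j ⟶ k), (T.map f).app (U p.1 ⊓ U p.2)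
      (res _ inf_le_left (t₁ p.1) - res _ inf_le_right (t₁ p.2)) = 0 := fun p =>
    h' p.1 p.2 j _ (by rw [map_sub, res_app, res_app, ht₁, ht₁, res_res, res_res, sub_self])
  choose k f hf using key
  obtain ⟨l, g, a, H⟩ := exists_common' j k f
  have hg : ∀ i i', res _ (inf_le_left : U i ⊓ U i' ≤ U i) ((T.map g).app (U i) (t₁ i)) =
      res _ (inf_le_right : U i ⊓ U i' ≤ U i') ((T.map g).app (U i') (t₁ i')) := by
    intro i i'
    rw [← sub_eq_zero, ← res_app, ← res_app, ← map_sub, ← H (i, i'), map_comp_app, hf, map_zero]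
  obtain ⟨t, ht⟩ := exists_gluing (T.obj l) U V hle hV (fun i => (T.map g).app (U i) (t₁ i)) hg
  refine ⟨l, t, eq_of_locally_eq _ U V hle hV _ _ fun i => ?_⟩
  rw [← res_app, ht, w_app, ht₁]

theorem injAt_of_isCompact (h : ∀ U : X.Opens, IsAffineOpen U → InjAt c U) {V : X.Opens}
    (hV : IsCompact (V : Set X)) : InjAt c V := by
  obtain ⟨S, hS', hS⟩ :=
    isCompact_and_isOpen_iff_finite_and_eq_biUnion_affineOpens.mp ⟨hV, V.2⟩
  have := hS'.to_subtype
  replace hS : V = iSup fun i : S => (i : X.Opens) := by ext1; simpa using hS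
  have hle (i : S) : (i : X.Opens) ≤ V := by
    rw [hS]
    exact le_iSup (fun (i : S) => (i : X.Opens)) i
  exact injAt_of_cover (fun i : S => (i : X.Opens)) V hle hS.le fun i => h _ i.1.2

theorem surjAt_of_isCompact (h : ∀ U : X.Opens, IsAffineOpen U → InjAt c U)
    (h' : ∀ U : X.Opens, IsAffineOpen U → SurjAt c U) {V : X.Opens}
    (hV : IsCompact (V : Set X)) (hV' : IsQuasiSeparated (V : Set X)) : SurjAt c V := by
  obtain ⟨S, hS', hS⟩ :=
    isCompact_and_isOpen_iff_finite_and_eq_biUnion_affineOpens.mp ⟨hV, V.2⟩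
  have := hS'.to_subtype
  replace hS : V = iSup fun i : S => (i : X.Opens) := by ext1; simpa using hS
  have hle (i : S) : (i : X.Opens) ≤ V := by
    rw [hS]
    exact le_iSup (fun (i : S) => (i : X.Opens)) i
  refine surjAt_of_cover (fun i : S => (i : X.Opens)) V hle hS.le (fun i => h' _ i.1.2) fun i j => ?_
  exact injAt_of_isCompact h (hV' _ _ (hle i) i.1.1.2 i.1.2.isCompact (hle j) j.1.1.2 j.1.2.isCompact)

end Groth.Agent.PerfB.FiltSec
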