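import Mathlib.Algebra.Homology.DerivedCategory.KProjective
import Mathlib.Algebra.Homology.DerivedCategory.HomologySequence
import Mathlib.Algebra.Homology.DerivedCategory.TStructure
import Mathlib.Algebra.Homology.DerivedCategory.Fractions

/-!
# Top cohomology of K-projective complexes, and representing morphisms out of K-projective complexes
-/

set_option autoImplicit false

open CategoryTheory CategoryTheory.Limits HomologicalComplex CochainComplex

namespace Groth.Agent.PerfB.KProjTop

universe w v u

variable {C : Type u} [Category.{v} C] [Abelian C]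

section

variable [HasDerivedCategory.{w} C]

/-- A morphism in the derived category from a K-projective complex is represented by a morphism
of complexes. -/
lemma exists_map_eq {F K : CochainComplex C ℤ} [F.IsKProjective]
    (α : DerivedCategory.Q.obj F ⟶ DerivedCategory.Q.obj K) :
    ∃ g : F ⟶ K, DerivedCategory.Q.map g = α := by
  obtain ⟨g', hg'⟩ := (IsKProjective.Qh_map_bijective F
    ((HomotopyCategory.quotient C (ComplexShape.up ℤ)).obj K)).surjective
      ((DerivedCategory.quotientCompQhIso C).hom.app F ≫ α ≫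
        (DerivedCategory.quotientCompQhIso C).inv.app K)
  obtain ⟨g, rfl⟩ := (HomotopyCategory.quotient _ _).map_surjective g'
  refine ⟨g, ?_⟩
  rw [← cancel_epi ((DerivedCategory.quotientCompQhIso C).hom.app F),
    ← cancel_mono ((DerivedCategory.quotientCompQhIso C).inv.app K), Category.assoc,
    Category.assoc, ← hg']
  rw [← DerivedCategory.quotientCompQhIso_hom_naturality_assoc]
  simp

/-- Two morphisms from a K-projective complex which agree in the derived category are homotopic. -/
lemma nonempty_homotopy {F K : CochainComplex C ℤ} [F.IsKProjective]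
    (g₁ g₂ : F ⟶ K) (h : DerivedCategory.Q.map g₁ = DerivedCategory.Q.map g₂) :
    Nonempty (Homotopy g₁ g₂) := by
  refine ⟨HomotopyCategory.homotopyOfEq _ _ ?_⟩
  apply (IsKProjective.Qh_map_bijective F
    ((HomotopyCategory.quotient C (ComplexShape.up ℤ)).obj K)).injective
  rw [← cancel_mono ((DerivedCategory.quotientCompQhIso C).hom.app K),
    DerivedCategory.quotientCompQhIso_hom_naturality,
    DerivedCategory.quotientCompQhIso_hom_naturality, h]

/-- Isomorphism of the cones of two morphisms which are identified in the derived category. -/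
lemma nonempty_iso_mappingCone {F K E : CochainComplex C ℤ} (f : F ⟶ K) (g : F ⟶ E)
    (e : DerivedCategory.Q.obj K ≅ DerivedCategory.Q.obj E)
    (h : DerivedCategory.Q.map f ≫ e.hom = DerivedCategory.Q.map g) :
    Nonempty (DerivedCategory.Q.obj (mappingCone f) ≅ DerivedCategory.Q.obj (mappingCone g)) := by
  have T₁ := DerivedCategory.mappingCone_triangle_distinguished f
  have T₂ := DerivedCategory.mappingCone_triangle_distinguished g
  exact ⟨Pretriangulated.Triangle.π₃.mapIso
    (Pretriangulated.isoTriangleOfIso₁₂ _ _ T₁ T₂ (Iso.refl _) e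
      (h.trans (Category.id_comp _).symm))⟩

end

/-- The key fact about the top cohomology: if `T` is K-projective and exact in degrees `> n`, then
its `n`-th cohomology is a quotient of `T.X n`. -/
lemma exists_epi (T : CochainComplex C ℤ) [T.IsKProjective] (n : ℤ)
    (hT : ∀ i > n, T.ExactAt i) : ∃ p : T.X n ⟶ T.homology n, Epi p := by
  let := HasDerivedCategory.standard C
  have : T.IsLE n := by rw [isLE_iff]; exact fun i hi => hT i hi
  let T' := T.truncLE n
  let ι : T' ⟶ T := T.ιTruncLE n
  have hι : IsIso (DerivedCategory.Q.map ι) := by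
    rw [DerivedCategory.isIso_Q_map_iff_quasiIso]
    infer_instance
  obtain ⟨s, hs⟩ := exists_map_eq (inv (DerivedCategory.Q.map ι))
  have hs' : IsIso (DerivedCategory.Q.map s) := by rw [hs]; infer_instance
  rw [DerivedCategory.isIso_Q_map_iff_quasiIso] at hs'
  have hd : T'.d n (n + 1) = 0 := (T'.isZero_of_isStrictlyLE n (n + 1)).eq_of_tgt _ _
  have hi : IsIso (T'.iCycles n) := T'.isIso_iCycles n (n + 1) (by simp) hd
  have h : T.iCycles n ≫ s.f n ≫ inv (T'.iCycles n) ≫ T'.homologyπ n =
      T.homologyπ n ≫ homologyMap s n := by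
    rw [homologyπ_naturality, ← cyclesMap_i_assoc]
    simp
  have hepi : Epi (T.iCycles n ≫ s.f n ≫ inv (T'.iCycles n) ≫ T'.homologyπ n) := by
    rw [h]; infer_instance
  have : Epi (s.f n ≫ inv (T'.iCycles n) ≫ T'.homologyπ n) := epi_of_epi (T.iCycles n) _
  exact ⟨(s.f n ≫ inv (T'.iCycles n) ≫ T'.homologyπ n) ≫ inv (homologyMap s n), inferInstance⟩

section

variable [HasDerivedCategory.{w} C]

lemma nonempty_homology_iso_of_iso {K L : CochainComplex C ℤ}
    (e : DerivedCategory.Q.obj K ≅ DerivedCategory.Q.obj L) (i : ℤ) :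
    Nonempty (K.homology i ≅ L.homology i) :=
  ⟨((DerivedCategory.homologyFunctorFactors C i).app K).symm ≪≫
    (DerivedCategory.homologyFunctor C i).mapIso e ≪≫
      (DerivedCategory.homologyFunctorFactors C i).app L⟩

lemma exactAt_of_iso {K L : CochainComplex C ℤ}
    (e : DerivedCategory.Q.obj K ≅ DerivedCategory.Q.obj L) (i : ℤ) (hK : K.ExactAt i) :
    L.ExactAt i := by
  rw [exactAt_iff_isZero_homology] at hK ⊢
  obtain ⟨e'⟩ := nonempty_homology_iso_of_iso e i
  exact hK.of_iso e'.symm

instance isStrictlyLE_mappingCone {F K : CochainComplex C ℤ} (f : F ⟶ K) (n : ℤ)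
    [F.IsStrictlyLE n] [K.IsStrictlyLE n] : (mappingCone f).IsStrictlyLE n := by
  rw [isStrictlyLE_iff]
  intro i hi
  rw [mappingCone.isZero_X_iff]
  exact ⟨F.isZero_of_isStrictlyLE n (i + 1), K.isZero_of_isStrictlyLE n i⟩

/-- The terms of the mapping cone. -/
noncomputable def mappingConeXIso {F K : CochainComplex C ℤ} (f : F ⟶ K) (n : ℤ) :
    (mappingCone f).X n ≅ F.X (n + 1) ⊞ K.X n :=
  homotopyCofiber.XIsoBiprod f n (n + 1) rfl

omit [HasDerivedCategory.{w} C] in
lemma projective_mappingCone_X {F K : CochainComplex C ℤ} (f : F ⟶ K) (n : ℤ)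
    [∀ i, Projective (F.X i)] [∀ i, Projective (K.X i)] : Projective ((mappingCone f).X n) :=
  Projective.of_iso (mappingConeXIso f n).symm inferInstance

/-- If `K` is isomorphic in the derived category to `E`, where `E` and `F` are bounded above complexes
with projective terms, if `f : F ⟶ K` has a cone which is exact in degrees `> n`, then the `n`-th
cohomology of the cone is a quotient of `F.X (n + 1) ⊞ E.X n`. -/
theorem exists_epi_mappingCone {F K E : CochainComplex C ℤ} (f : F ⟶ K)
    (e : DerivedCategory.Q.obj K ≅ DerivedCategory.Q.obj E) (b : ℤ)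
    [F.IsStrictlyLE b] [E.IsStrictlyLE b] [∀ i, Projective (F.X i)] [∀ i, Projective (E.X i)]
    (n : ℤ) (hf : ∀ i > n, (mappingCone f).ExactAt i) :
    ∃ p : F.X (n + 1) ⊞ E.X n ⟶ (mappingCone f).homology n, Epi p := by
  have := isKProjective_of_projective F b
  obtain ⟨g, hg⟩ := exists_map_eq (DerivedCategory.Q.map f ≫ e.hom)
  obtain ⟨e'⟩ := nonempty_iso_mappingCone f g e hg.symm
  have (i : ℤ) : Projective ((mappingCone g).X i) := projective_mappingCone_X g i
  have := isKProjective_of_projective (mappingCone g) b
  obtain ⟨p, hp⟩ := exists_epi (mappingCone g) n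
    (fun i hi => exactAt_of_iso e' i (hf i hi))
  obtain ⟨e''⟩ := nonempty_homology_iso_of_iso e' n
  exact ⟨(mappingConeXIso g n).inv ≫ p ≫ e''.inv, inferInstance⟩

end

end Groth.Agent.PerfB.KProjTop
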