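import Groth.Agent.PerfB.LeftRes
import Groth.Agent.PerfB.KProjTop
import Mathlib.Algebra.Category.ModuleCat.Projective
import Mathlib.Algebra.Category.ModuleCat.Abelian
import Mathlib.LinearAlgebra.FreeModule.Basic
import Mathlib.RingTheory.Finiteness.Cardinality
import Mathlib.RingTheory.Finiteness.Prod
import Mathlib.Algebra.Category.ModuleCat.Biproducts
import Mathlib.LinearAlgebra.Basis.Basic

/-!
# Bounded above resolutions by finite free modules (possibly noncommutative rings)
-/

set_option autoImplicit false

open CategoryTheory CategoryTheory.Limits HomologicalComplex CochainComplex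

namespace Groth.Agent.PerfB.FinFreeRes

universe w u

variable (R : Type u) [Ring R]

/-- The property of being a finite free module. -/
def finFree : ObjectProperty (ModuleCat.{u} R) := fun X => Module.Finite R X ∧ Module.Free R X

instance : (finFree R).IsClosedUnderIsomorphisms where
  of_iso e h := by
    obtain ⟨_, _⟩ := h
    exact ⟨Module.Finite.equiv e.toLinearEquiv, Module.Free.of_equiv e.toLinearEquiv⟩

instance : (finFree R).ContainsZero where
  exists_zero := ⟨ModuleCat.of R PUnit, ModuleCat.isZero_of_subsingleton _,
    inferInstanceAs (Module.Finite R PUnit), inferInstanceAs (Module.Free R PUnit)⟩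

variable {R}

lemma projective_of_finFree {X : ModuleCat.{u} R} (hX : finFree R X) : Projective X := by
  have := hX.2
  exact (IsProjective.iff_projective _).1 (Module.Projective.of_free)

/-- A finite module is a quotient of a finite free one. -/
lemma exists_finFree_epi (M : ModuleCat.{u} R) [Module.Finite R M] :
    ∃ (X : ModuleCat.{u} R) (_ : finFree R X) (p : X ⟶ M), Epi p := by
  obtain ⟨n, f, hf⟩ := Module.Finite.exists_fin' R M
  exact ⟨ModuleCat.of R (Fin n → R), ⟨inferInstanceAs (Module.Finite R (Fin n → R)),
    inferInstanceAs (Module.Free R (Fin n → R))⟩, ModuleCat.ofHom f,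
    (ModuleCat.epi_iff_surjective _).2 hf⟩

/-- If the `n`-th cohomology of `T` is a finite module, it is covered by a finite free module mapping
to the cycles. -/
lemma exists_cover (T : CochainComplex (ModuleCat.{u} R) ℤ) (n : ℤ)
    (h : Module.Finite R (T.homology n)) :
    ∃ X, finFree R X ∧ ∃ z : X ⟶ T.cycles n, Epi (z ≫ T.homologyπ n) := by
  obtain ⟨X, hX, p, hp⟩ := exists_finFree_epi (T.homology n)
  have := projective_of_finFree hX
  exact ⟨X, hX, Projective.factorThru p (T.homologyπ n), by
    rw [Projective.factorThru_comp]; exact hp⟩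

lemma finite_of_epi {M N : ModuleCat.{u} R} (p : M ⟶ N) [Epi p] (h : Module.Finite R M) :
    Module.Finite R N :=
  Module.Finite.of_surjective p.hom ((ModuleCat.epi_iff_surjective _).1 inferInstance)

lemma finite_biprod {M N : ModuleCat.{u} R} (h₁ : Module.Finite R M) (h₂ : Module.Finite R N) :
    Module.Finite R (M ⊞ N : ModuleCat.{u} R) := by
  have : Module.Finite R (ModuleCat.of R (M × N)) := inferInstanceAs (Module.Finite R (M × N))
  exact Module.Finite.equiv (ModuleCat.biprodIsoProd M N).symm.toLinearEquiv

section

variable [HasDerivedCategory.{w} (ModuleCat.{u} R)]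

/-- Top cohomology of the cone of a map from a bounded above complex of finite projective modules to
a complex which is quasi-isomorphic to such a complex. -/
theorem finite_homology_mappingCone {F K E : CochainComplex (ModuleCat.{u} R) ℤ} (f : F ⟶ K)
    (e : DerivedCategory.Q.obj K ≅ DerivedCategory.Q.obj E) (b : ℤ)
    (hF : ∀ i > b, IsZero (F.X i)) (hE : ∀ i > b, IsZero (E.X i))
    (hF' : ∀ i, Module.Finite R (F.X i) ∧ Module.Projective R (F.X i))
    (hE' : ∀ i, Module.Finite R (E.X i) ∧ Module.Projective R (E.X i))
    (n : ℤ) (hf : ∀ i > n, (mappingCone f).ExactAt i) :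
    Module.Finite R ((mappingCone f).homology n) := by
  have : F.IsStrictlyLE b := by rw [isStrictlyLE_iff]; exact hF
  have : E.IsStrictlyLE b := by rw [isStrictlyLE_iff]; exact hE
  have (i : ℤ) : Projective (F.X i) := (IsProjective.iff_projective _).1 (hF' i).2
  have (i : ℤ) : Projective (E.X i) := (IsProjective.iff_projective _).1 (hE' i).2
  obtain ⟨p, hp⟩ := KProjTop.exists_epi_mappingCone f e b n hf
  exact finite_of_epi p (finite_biprod (hF' _).1 (hE' _).1)

end

end Groth.Agent.PerfB.FinFreeRes
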