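import Groth.Agent.Dcoh.DerSch
import Groth.Agent.PerfB.FlatPull
import Groth.Agent.PerfB.PcTop
import Groth.Agent.PerfB.DQTri
import Groth.Agent.PerfA.QCohExt

/-!
# The adjunction `Lf^* ⊣ Rf_*` for `f` flat, and detection of isomorphisms over an affine base
-/

set_option autoImplicit false

universe u

open CategoryTheory CategoryTheory.Limits AlgebraicGeometry Opposite TopologicalSpace Pretriangulated
attribute [local instance] HasDerivedCategory.standard

namespace Groth.Agent.PerfB.FlatAdj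

open Groth.Agent.Dcoh.DerAbs Groth.Agent.Dcoh.DerHo Groth.Agent.Dcoh.DerAdj
  Groth.Agent.Dcoh.DerComp Groth.Agent.Dcoh.DerSch
open Groth.Agent.PerfA Groth.Agent.PerfA.ExtZero Groth.Agent.PerfA.Hyp0 Groth.Agent.PerfA.Hyp1
open FlatPull

attribute [local instance] rpushCommShift rpush_isTriangulated

section Affine

variable {X : Scheme.{u}}

/-- A morphism of quasi-coherent modules on an affine scheme which is bijective on global sections is an
isomorphism. -/
theorem isIso_of_app_top [IsAffine X] {M N : X.Modules} (hM : Coh.IsQCoh M) (hN : Coh.IsQCoh N)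
    (φ : M ⟶ N) (h : Function.Bijective (φ.app ⊤)) : IsIso φ := by
  have hmono : Mono φ := by
    have h0 : kernel.ι φ = 0 := by
      refine PcTop.hom_eq_zero (QCohSerre.isQCoh_kernel φ hM hN) (fun _ : Unit => ⊤)
        (fun _ => isAffineOpen_top X) (fun x => ⟨(), trivial⟩) _ fun _ s => ?_
      apply h.1
      rw [map_zero, ← ConcreteCategory.comp_apply, ← Scheme.Modules.Hom.comp_app, kernel.condition]
      rfl
    exact Preadditive.mono_of_kernel_zero h0
  have hepi : Epi φ := by
    rw [Preadditive.epi_iff_cancel_zero]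
    intro T t ht
    refine PcTop.hom_eq_zero hN (fun _ : Unit => ⊤)
        (fun _ => isAffineOpen_top X) (fun x => ⟨(), trivial⟩) _ fun _ s => ?_
    obtain ⟨m, rfl⟩ := h.2 s
    rw [← ConcreteCategory.comp_apply, ← Scheme.Modules.Hom.comp_app, ht]
    rfl
  exact isIso_of_mono_of_epi φ

/-- A quasi-coherent module on an affine scheme without global sections is zero. -/
theorem isZero_of_top [IsAffine X] {M : X.Modules} (hM : Coh.IsQCoh M) (h : ∀ s : Γ(M, ⊤), s = 0) :
    IsZero M := by
  rw [IsZero.iff_id_eq_zero]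
  exact PcTop.hom_eq_zero hM (fun _ : Unit => ⊤) (fun _ => isAffineOpen_top X)
    (fun x => ⟨(), trivial⟩) _ fun _ s => h _

/-- On an affine scheme, objects of `D_QCoh` without hypercohomology are zero. -/
theorem isZero_of_P [IsAffine X] {K : DCoh.D X} (hK : DCoh.IsQCohD K)
    (h : ∀ (m : ℤ) (φ : P m (⊤ : X.Opens) ⟶ K), φ = 0) : IsZero K := by
  rw [ExactD.isZero_iff]
  intro m
  refine isZero_of_top (hK m) fun s => ?_
  obtain ⟨φ, rfl⟩ := (AffHD.toHD_bijective hK (isAffineOpen_top X) m).2 s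
  rw [h m φ, toHD_zero]

/-- On an affine scheme, isomorphisms in `D_QCoh` are detected by hypercohomology. -/
theorem isIso_of_P [IsAffine X] {K L : DCoh.D X} (hK : DCoh.IsQCohD K) (hL : DCoh.IsQCohD L) (u : K ⟶ L)
    (h : ∀ m : ℤ, Function.Bijective (fun φ : P m (⊤ : X.Opens) ⟶ K => φ ≫ u)) : IsIso u := by
  rw [DerivedCategory.isIso_iff]
  intro m
  refine isIso_of_app_top (hK m) (hL m) _ ?_
  have h1 := AffHD.toHD_bijective hK (isAffineOpen_top X) m
  have h2 := AffHD.toHD_bijective hL (isAffineOpen_top X) m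
  have h3 : (((DerivedCategory.homologyFunctor X.Modules m).map u).app ⊤) ∘ toHD =
      toHD ∘ (fun φ : P m (⊤ : X.Opens) ⟶ K => φ ≫ u) := by
    funext φ
    exact (toHD_comp φ u).symm
  have h4 : Function.Bijective ((((DerivedCategory.homologyFunctor X.Modules m).map u).app ⊤) ∘
      (toHD : (P m (⊤ : X.Opens) ⟶ K) → _)) := by
    rw [h3]
    exact h2.comp (h m)
  exact (Function.Bijective.of_comp_iff _ h1).1 h4

end Affine

section Adj

variable {X Y : Scheme.{u}} (f : X ⟶ Y) [Flat f] [DCoh.HasRpush f]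

/-- `Lf^* ⊣ Rf_*` for `f` flat. -/
noncomputable def pullAdj : pullbackD f ⊣ DCoh.Rpush f :=
  haveI := isLeftDerivedFunctor_mapDerivedCategory (Scheme.Modules.pullback f)
  derivedAdj (Scheme.Modules.pullbackPushforwardAdjunction f) (hasKInj X) (leftDataExact _)
    (pullbackD f) (Scheme.Modules.pullback f).mapDerivedCategoryFactorsh.hom
    (DCoh.Rpush f) (rpushUnit f)

/-- `f^*(j_! O_Y) ≅ j_! O_X` for the whole spaces. -/
noncomputable def pullTop : (Scheme.Modules.pullback f).obj (OU (⊤ : Y.Opens)) ≅ OU (⊤ : X.Opens) :=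
  (Scheme.Modules.pullback f).mapIso (UnitOU.unitIsoOU Y).symm ≪≫ pullbackUnit f ≪≫ UnitOU.unitIsoOU X

/-- `Lf^*(O_Y[-m]) ≅ O_X[-m]`. -/
noncomputable def pullP (m : ℤ) : (pullbackD f).obj (P m (⊤ : Y.Opens)) ≅ P m (⊤ : X.Opens) :=
  ((Scheme.Modules.pullback f).mapDerivedCategorySingleFunctor m).app _ ≪≫
    (DerivedCategory.singleFunctor X.Modules m).mapIso (pullTop f)

/-- If the base is affine and `K` has no hypercohomology, then `Rf_* K = 0`. -/
theorem isZero_Rpush [IsAffine Y] {K : DCoh.D X} (hK : DCoh.IsQCohD ((DCoh.Rpush f).obj K))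
    (h : ∀ (m : ℤ) (φ : P m (⊤ : X.Opens) ⟶ K), φ = 0) : IsZero ((DCoh.Rpush f).obj K) := by
  refine isZero_of_P hK fun m φ => ?_
  apply ((pullAdj f).homEquiv _ _).symm.injective
  rw [← cancel_epi (pullP f m).inv]
  exact (h m _).trans (h m _).symm

/-- An object on which `Lf^*` is bijective on all Hom groups has invertible unit. -/
theorem isIso_unit_of_homBij {C : DCoh.D Y} (h : DQTri.homBij (pullbackD f) C) :
    IsIso ((pullAdj f).unit.app C) := by
  refine isIso_of_yoneda_map_bijective _ fun Z => ?_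
  have h1 : (fun x : Z ⟶ C => x ≫ (pullAdj f).unit.app C) =
      ((pullAdj f).homEquiv Z _) ∘ (fun x => (pullbackD f).map x) := by
    funext x
    simp [Adjunction.homEquiv_unit]
  have h2 := ((pullAdj f).homEquiv Z _).bijective.comp (h Z)
  rw [← h1] at h2
  exact h2

theorem homBij_of_isIso_unit {C : DCoh.D Y} (h : IsIso ((pullAdj f).unit.app C)) :
    DQTri.homBij (pullbackD f) C := by
  intro Z
  have h1 : (fun x : Z ⟶ C => (pullbackD f).map x) = ((pullAdj f).homEquiv Z _).symm ∘
      (fun x => x ≫ (pullAdj f).unit.app C) := by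
    funext x
    simp [Adjunction.homEquiv_counit]
  rw [h1]
  refine ((pullAdj f).homEquiv _ _).symm.bijective.comp ⟨fun a b hab => ?_, fun y => ⟨y ≫ inv ((pullAdj f).unit.app C), by simp⟩⟩
  exact (cancel_mono ((pullAdj f).unit.app C)).1 hab

/-- The unit is invertible as soon as `Lf^*` is bijective on maps out of shifts of `O_Y`. -/
theorem isIso_unit_of_P [IsAffine Y] {C : DCoh.D Y} (hC : DCoh.IsQCohD C)
    (hC' : DCoh.IsQCohD ((DCoh.Rpush f).obj ((pullbackD f).obj C)))
    (h : ∀ m : ℤ, Function.Bijective (fun φ : P m (⊤ : Y.Opens) ⟶ C => (pullbackD f).map φ)) :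
    IsIso ((pullAdj f).unit.app C) := by
  refine isIso_of_P hC hC' _ fun m => ?_
  have h1 : (fun x : P m (⊤ : Y.Opens) ⟶ C => x ≫ (pullAdj f).unit.app C) =
      ((pullAdj f).homEquiv _ _) ∘ (fun x => (pullbackD f).map x) := by
    funext x
    simp [Adjunction.homEquiv_unit]
  rw [h1]
  exact ((pullAdj f).homEquiv _ _).bijective.comp (h m)

end Adj

end Groth.Agent.PerfB.FlatAdj
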