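import Groth.Agent.PerfB.TildeBC
import Groth.Agent.PerfB.QCohDesc
import Groth.Agent.PerfA.PerfLocal
import Groth.Agent.PerfA.QCohD
import Groth.Agent.S0997

/-!
# Flat surjective quasi-compact morphisms, locally on the target, through flat families of ring maps

For `f : X' ⟶ X` flat, surjective, quasi-compact and `j : Spec A ⟶ X` an open immersion there are finitely many flat
`φ i : A ⟶ B i`, jointly surjective on spectra, and open immersions `u i : Spec (B i) ⟶ X'` over `j`.
-/

set_option autoImplicit false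
universe u
open CategoryTheory CategoryTheory.Limits AlgebraicGeometry
attribute [local instance] HasDerivedCategory.standard

namespace Groth.Agent.PerfB.FlatCover
open Groth.Agent.PerfA.Restrict Groth.Agent.PerfA.PerfLocal Groth.Agent.PerfB.FlatPull

variable {X' X : Scheme.{u}} (f : X' ⟶ X)

theorem exists_family [Flat f] [Surjective f] [QuasiCompact f] {A : CommRingCat.{u}} (j : Spec A ⟶ X)
    [IsOpenImmersion j] :
    ∃ (ι : Type u) (_ : Finite ι) (B : ι → CommRingCat.{u}) (φ : ∀ i, A ⟶ B i)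
      (v : ∀ i, Spec (B i) ⟶ X') (_ : ∀ i, IsOpenImmersion (v i)),
      (∀ i, Flat (Spec.map (φ i))) ∧ (∀ i, v i ≫ f = Spec.map (φ i) ≫ j) ∧
      ∀ p : PrimeSpectrum A, ∃ i, ∃ q : PrimeSpectrum (B i), PrimeSpectrum.comap (φ i).hom q = p := by
  let P := pullback f j
  have : CompactSpace P := (quasiCompact_iff_compactSpace (pullback.snd f j)).mp inferInstance
  let 𝒰 := P.affineCover.finiteSubcover
  have : ∀ i, IsAffine (𝒰.X i) := fun i => by dsimp [𝒰]; infer_instance
  let g : ∀ i, Spec Γ(𝒰.X i, ⊤) ⟶ P := fun i => (𝒰.X i).isoSpec.inv ≫ 𝒰.f i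
  have hg : ∀ i, IsOpenImmersion (g i) := fun i => by dsimp [g]; infer_instance
  refine ⟨𝒰.I₀, inferInstance, fun i => Γ(𝒰.X i, ⊤), fun i => Spec.preimage (g i ≫ pullback.snd f j),
    fun i => g i ≫ pullback.fst f j, fun i => inferInstance, fun i => ?_, fun i => ?_, fun p => ?_⟩
  · rw [Spec.map_preimage]
    infer_instance
  · rw [Spec.map_preimage]
    simp only [Category.assoc, pullback.condition]
  · obtain ⟨x, hx⟩ := (pullback.snd f j).surjective p
    obtain ⟨y, hy⟩ := 𝒰.covers x
    refine ⟨𝒰.idx x, (𝒰.X (𝒰.idx x)).isoSpec.hom y, ?_⟩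
    change (Spec.map (Spec.preimage (g _ ≫ pullback.snd f j))) _ = p
    rw [Spec.map_preimage, ← Scheme.Hom.comp_apply]
    dsimp only [g]
    rw [Category.assoc, Iso.hom_inv_id_assoc, Scheme.Hom.comp_apply, hy, hx]

/-- The restriction of `f^* E` to `Spec B` is the base change of a model `K` of `E|_{Spec A}`. -/
theorem nonempty_iso_tildeD [Flat f] {A B : CommRingCat.{u}} (j : Spec A ⟶ X) [IsOpenImmersion j]
    (φ : A ⟶ B) (v : Spec B ⟶ X') [IsOpenImmersion v] [Flat (Spec.map φ)]
    [PreservesFiniteLimits (ModuleCat.extendScalars.{u, u, u} φ.hom)]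
    (h : v ≫ f = Spec.map φ ≫ j) (E : DCoh.D X)
    (K : DerivedCategory (ModuleCat.{u} A)) (e : (DCoh.tildeD A).obj K ≅ (restrictD j).obj E) :
    Nonempty ((restrictD v).obj ((pullbackD f).obj E) ≅
      (DCoh.tildeD B).obj ((ModuleCat.extendScalars.{u, u, u} φ.hom).mapDerivedCategory.obj K)) :=
  ⟨(pullbackDSquare h).app E ≪≫ (pullbackD (Spec.map φ)).mapIso e.symm ≪≫
    (TildeBC.tildeDPullback φ).app K⟩

end Groth.Agent.PerfB.FlatCover
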