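import Mathlib.Algebra.Homology.DerivedCategory.Plus
import Mathlib.Algebra.Homology.DerivedCategory.FullyFaithful
import Mathlib.Algebra.Homology.DerivedCategory.HomologySequence
import Mathlib.CategoryTheory.Abelian.SerreClass.Basic
import Mathlib.CategoryTheory.ObjectProperty.Kernels
import Mathlib.CategoryTheory.ObjectProperty.Extensions
import Mathlib.CategoryTheory.Triangulated.TStructure.TruncLEGT

/-!
# Dévissage for left t-exact triangulated functors on bounded below derived categories
-/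

set_option autoImplicit false
universe w w' v v' u u'

open CategoryTheory CategoryTheory.Limits CategoryTheory.Pretriangulated

namespace Groth.Agent.PerfB.TriDev

section Five

variable {C : Type u} [Category.{v} C] [Abelian C]

/-- A class closed under kernels, cokernels and extensions contains the middle term of a five term
exact sequence as soon as it contains the other terms. -/
theorem five (Q : ObjectProperty C) [Q.IsClosedUnderKernels] [Q.IsClosedUnderCokernels]
    [Q.IsClosedUnderExtensions] {X₁ X₂ X₃ X₄ X₅ : C} (f₁ : X₁ ⟶ X₂) (f₂ : X₂ ⟶ X₃) (f₃ : X₃ ⟶ X₄)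
    (f₄ : X₄ ⟶ X₅) (w₁ : f₁ ≫ f₂ = 0) (w₂ : f₂ ≫ f₃ = 0) (w₃ : f₃ ≫ f₄ = 0)
    (e₁ : (ShortComplex.mk f₁ f₂ w₁).Exact) (e₂ : (ShortComplex.mk f₂ f₃ w₂).Exact)
    (e₃ : (ShortComplex.mk f₃ f₄ w₃).Exact) (h₁ : Q X₁) (h₂ : Q X₂) (h₄ : Q X₄) (h₅ : Q X₅) :
    Q X₃ := by
  have hm : Mono (cokernel.desc f₁ f₂ w₁) := e₁.mono_cokernelDesc
  have he : Epi (kernel.lift f₄ f₃ w₃) := e₃.epi_kernelLift
  let S : ShortComplex C := ShortComplex.mk (cokernel.desc f₁ f₂ w₁) (kernel.lift f₄ f₃ w₃) (by
    rw [← cancel_epi (cokernel.π f₁), ← cancel_mono (kernel.ι f₄)]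
    simp [w₂])
  let S' : ShortComplex C := ShortComplex.mk f₂ (kernel.lift f₄ f₃ w₃) (by
    rw [← cancel_mono (kernel.ι f₄)]
    simp [w₂])
  let φ : S' ⟶ S :=
    { τ₁ := cokernel.π f₁
      τ₂ := 𝟙 _
      τ₃ := 𝟙 _
      comm₁₂ := by simp [S, S']
      comm₂₃ := by simp [S, S'] }
  let ψ : S' ⟶ ShortComplex.mk f₂ f₃ w₂ :=
    { τ₁ := 𝟙 _
      τ₂ := 𝟙 _
      τ₃ := kernel.ι f₄
      comm₁₂ := by simp [S']
      comm₂₃ := by simp [S'] }
  have a1 : Epi φ.τ₁ := inferInstanceAs (Epi (cokernel.π f₁))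
  have a2 : IsIso φ.τ₂ := inferInstanceAs (IsIso (𝟙 _))
  have a3 : Mono φ.τ₃ := inferInstanceAs (Mono (𝟙 _))
  have b1 : Epi ψ.τ₁ := inferInstanceAs (Epi (𝟙 _))
  have b2 : IsIso ψ.τ₂ := inferInstanceAs (IsIso (𝟙 _))
  have b3 : Mono ψ.τ₃ := inferInstanceAs (Mono (kernel.ι f₄))
  have hS' : S'.Exact := (ShortComplex.exact_iff_of_epi_of_isIso_of_mono ψ).2 e₂
  have hS : S.Exact := (ShortComplex.exact_iff_of_epi_of_isIso_of_mono φ).1 hS'
  exact Q.prop_X₂_of_shortExact (S := S) { exact := hS, mono_f := hm, epi_g := he }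
    (Q.prop_cokernel f₁ h₁ h₂) (Q.prop_kernel f₄ h₄ h₅)

end Five

section Tri

variable {B : Type u'} [Category.{v'} B] [Abelian B] [HasDerivedCategory.{w'} B]

open DerivedCategory in
/-- The five term argument for the homology sequence of a distinguished triangle. -/
theorem five_tri (Q : ObjectProperty B) [Q.IsClosedUnderKernels] [Q.IsClosedUnderCokernels]
    [Q.IsClosedUnderExtensions] (Tr : Triangle (DerivedCategory B)) (hTr : Tr ∈ distTriang _)
    (m n p : ℤ) (hmn : m + 1 = n) (hnp : n + 1 = p)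
    (h₁ : Q ((homologyFunctor B m).obj Tr.obj₃)) (h₂ : Q ((homologyFunctor B n).obj Tr.obj₁))
    (h₄ : Q ((homologyFunctor B n).obj Tr.obj₃)) (h₅ : Q ((homologyFunctor B p).obj Tr.obj₁)) :
    Q ((homologyFunctor B n).obj Tr.obj₂) :=
  five Q _ _ _ _ _ _ _ (HomologySequence.exact₁ Tr hTr m n hmn) (HomologySequence.exact₂ Tr hTr n)
    (HomologySequence.exact₃ Tr hTr n p hnp) h₁ h₂ h₄ h₅

end Tri

section Dev

variable {A : Type u} [Category.{v} A] [Abelian A] [HasDerivedCategory.{w} A]
  {B : Type u'} [Category.{v'} B] [Abelian B] [HasDerivedCategory.{w'} B]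
  (T : DerivedCategory.Plus A ⥤ DerivedCategory.Plus B) [T.CommShift ℤ] [T.IsTriangulated]

open DerivedCategory in
lemma exists_iso_single (X : Plus A) (n : ℤ) [X.IsGE n] [X.IsLE n] :
    ∃ (Y : A), Nonempty (X ≅ (Plus.singleFunctor A n).obj Y) := by
  obtain ⟨Y, ⟨e⟩⟩ := exists_iso_singleFunctor_obj_of_isGE_of_isLE (Plus.ι.obj X) n
  exact ⟨Y, ⟨Plus.ι.preimageIso e⟩⟩

open DerivedCategory in
/-- Dévissage for a left t-exact triangulated functor `T : D^+(A) ⥤ D^+(B)`. -/
theorem dev (P : ObjectProperty A) [P.IsClosedUnderIsomorphisms] (hP0 : ∀ M : A, IsZero M → P M)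
    (Q : ObjectProperty B) [Q.IsClosedUnderIsomorphisms]
    [Q.IsClosedUnderKernels] [Q.IsClosedUnderCokernels] [Q.IsClosedUnderExtensions]
    (hQ0 : ∀ M : B, IsZero M → Q M)
    (hT : ∀ (X : Plus A) (n : ℤ), X.IsGE n → (T.obj X).IsGE n)
    (hPQ : ∀ M : A, P M → ∀ n : ℤ,
      Q ((Plus.homologyFunctor B n).obj (T.obj ((Plus.singleFunctor A 0).obj M))))
    (X : Plus A) (hX : ∀ i, P ((Plus.homologyFunctor A i).obj X)) (n : ℤ) :
    Q ((Plus.homologyFunctor B n).obj (T.obj X)) := by
  -- single objects in degree `a`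
  have hs : ∀ (M : A) (a : ℤ), P M → ∀ n : ℤ,
      Q ((Plus.homologyFunctor B n).obj (T.obj ((Plus.singleFunctor A a).obj M))) := by
    intro M a hM n
    have e1 : (Plus.singleFunctor A 0).obj M ≅ ((Plus.singleFunctor A a).obj M)⟦a⟧ :=
      (((Plus.singleFunctors A).shiftIso a 0 a (by simp)).app M).symm
    have e2 : T.obj ((Plus.singleFunctor A 0).obj M) ≅ (T.obj ((Plus.singleFunctor A a).obj M))⟦a⟧ :=
      T.mapIso e1 ≪≫ (T.commShiftIso a).app _
    have e3 : (Plus.homologyFunctor B (n - a)).obj (T.obj ((Plus.singleFunctor A 0).obj M)) ≅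
        (Plus.homologyFunctor B n).obj (T.obj ((Plus.singleFunctor A a).obj M)) :=
      (Plus.homologyFunctor B (n - a)).mapIso e2 ≪≫
        ((Plus.homologyFunctor B 0).shiftIso a (n - a) n (by simp)).app _
    exact Q.prop_of_iso e3 (hPQ M hM (n - a))
  have key : ∀ (k : ℕ) (a : ℤ) (X : Plus A), X.IsGE a →
      (∀ i, P ((Plus.homologyFunctor A i).obj X)) → ∀ m : ℤ, m < a + k →
      Q ((Plus.homologyFunctor B m).obj (T.obj X)) := by
    intro k
    induction k with
    | zero =>
      intro a X hXa hX m hm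
      have := hT X a hXa
      exact hQ0 _ (Plus.isZero_homology_of_isGE _ a m (by simpa using hm))
    | succ k ih =>
      intro a X hXa hX m hm
      let t := DerivedCategory.Plus.TStructure.t (C := A)
      have hd := t.triangleLEGE_distinguished a (a + 1) rfl X
      have hd1 : Plus.ι.mapTriangle.obj ((t.triangleLEGE a (a + 1) rfl).obj X) ∈ distTriang _ :=
        Plus.ι.map_distinguished _ hd
      have hd2 : Plus.ι.mapTriangle.obj (T.mapTriangle.obj ((t.triangleLEGE a (a + 1) rfl).obj X)) ∈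
          distTriang _ :=
        Plus.ι.map_distinguished _ (T.map_distinguished _ hd)
      let X₁ : Plus A := (t.truncLE a).obj X
      let X₃ : Plus A := (t.truncGE (a + 1)).obj X
      have i1 : X₁.IsLE a := t.isLE_truncLE_obj X a a
      have i3 : X₃.IsGE (a + 1) := t.isGE_truncGE_obj X (a + 1) (a + 1)
      have z3 : ∀ i, i < a + 1 → IsZero ((DerivedCategory.homologyFunctor A i).obj (Plus.ι.obj X₃)) :=
        fun i hi => Plus.isZero_homology_of_isGE X₃ (a + 1) i hi
      have z1 : ∀ i, a < i → IsZero ((DerivedCategory.homologyFunctor A i).obj (Plus.ι.obj X₁)) :=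
        fun i hi => Plus.isZero_homology_of_isLE X₁ a i hi
      have hh' : ∀ i, i ≤ a →
          IsIso ((DerivedCategory.homologyFunctor A i).map (Plus.ι.map ((t.truncLEι a).app X))) := by
        intro i hi
        have e1 := HomologySequence.exact₁ _ hd1 (i - 1) i (by simp)
        have e2 := HomologySequence.exact₂ _ hd1 i
        have m1 : Mono ((DerivedCategory.homologyFunctor A i).map (Plus.ι.map ((t.truncLEι a).app X))) :=
          e1.mono_g ((z3 (i - 1) (by lia)).eq_of_src _ _)
        have p1 : Epi ((DerivedCategory.homologyFunctor A i).map (Plus.ι.map ((t.truncLEι a).app X))) :=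
          e2.epi_f ((z3 i (by lia)).eq_of_tgt _ _)
        exact isIso_of_mono_of_epi _
      have hh : ∀ i, a + 1 ≤ i →
          IsIso ((DerivedCategory.homologyFunctor A i).map
            (Plus.ι.map ((t.truncGEπ (a + 1)).app X))) := by
        intro i hi
        have e2 := HomologySequence.exact₂ _ hd1 i
        have e3 := HomologySequence.exact₃ _ hd1 i (i + 1) rfl
        have m1 : Mono ((DerivedCategory.homologyFunctor A i).map
            (Plus.ι.map ((t.truncGEπ (a + 1)).app X))) :=
          e2.mono_g ((z1 i (by lia)).eq_of_src _ _)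
        have p1 : Epi ((DerivedCategory.homologyFunctor A i).map
            (Plus.ι.map ((t.truncGEπ (a + 1)).app X))) :=
          e3.epi_f ((z1 (i + 1) (by lia)).eq_of_tgt _ _)
        exact isIso_of_mono_of_epi _
      have zX : ∀ i, i < a → IsZero ((DerivedCategory.homologyFunctor A i).obj (Plus.ι.obj X)) :=
        fun i hi => Plus.isZero_homology_of_isGE X a i hi
      have i1' : X₁.IsGE a := by
        rw [← Plus.isGE_ι_obj_iff, isGE_iff]
        intro i hi
        have := hh' i (by lia)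
        exact (zX i hi).of_iso (asIso ((DerivedCategory.homologyFunctor A i).map
          (Plus.ι.map ((t.truncLEι a).app X))))
      obtain ⟨M, ⟨e⟩⟩ := exists_iso_single X₁ a
      have hM : P M := by
        have := hh' a le_rfl
        refine P.prop_of_iso ?_ (hX a)
        exact (asIso ((DerivedCategory.homologyFunctor A a).map
          (Plus.ι.map ((t.truncLEι a).app X)))).symm ≪≫
          (DerivedCategory.homologyFunctor A a).mapIso (Plus.ι.mapIso e) ≪≫
          (DerivedCategory.singleFunctorCompHomologyFunctorIso A a).app M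
      have hX3 : ∀ i, P ((Plus.homologyFunctor A i).obj X₃) := by
        intro i
        by_cases hi : i < a + 1
        · exact hP0 _ (z3 i hi)
        · have := hh i (by lia)
          let e := asIso ((DerivedCategory.homologyFunctor A i).map
            (Plus.ι.map ((t.truncGEπ (a + 1)).app X)))
          exact P.prop_of_iso e (hX i)
      have q1 : ∀ n : ℤ, Q ((Plus.homologyFunctor B n).obj (T.obj X₁)) := fun n =>
        Q.prop_of_iso ((Plus.homologyFunctor B n).mapIso (T.mapIso e.symm)) (hs M a hM n)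
      have q3 : ∀ n : ℤ, n < a + 1 + k → Q ((Plus.homologyFunctor B n).obj (T.obj X₃)) := fun n hn =>
        ih (a + 1) X₃ i3 hX3 n hn
      exact five_tri Q _ hd2 (m - 1) m (m + 1) (by simp) rfl
        (q3 (m - 1) (by push_cast at hm; lia)) (q1 m) (q3 m (by push_cast at hm; lia)) (q1 (m + 1))
  obtain ⟨a, ha⟩ := X.property
  exact key (n - a + 1).toNat a X ((Plus.isGE_ι_obj_iff X a).1 ha) hX n (by
    have := Int.self_le_toNat (n - a + 1); lia)

end Dev

end Groth.Agent.PerfB.TriDev
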