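import Groth.Agent.Etrest.RDer2
import Groth.Agent.PerfB.TriDev

/-!
# Bounded below right derived functors on complexes of injectives, and dévissage

* `objPlus I`: the object of `D^+(A)` defined by a bounded below complex of injectives;
* `homologyIso`, `homologyRGIso`: homology of `objPlus I` and of `RG (objPlus I)`;
* `homology_map_mem`: if `R^n G` sends a class `P` of objects to a class `Q` closed under kernels, cokernels
  and extensions, then for a bounded below complex `I` of injectives with homology in `P`, the homology of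
  `G(I)` is in `Q`.
-/

set_option autoImplicit false
universe w w' v v' u u'

open CategoryTheory CategoryTheory.Limits CategoryTheory.Pretriangulated

namespace Groth.Agent.PerfB.RGPlus

open Groth.Agent.Etrest.RDer1

noncomputable section

variable {A : Type u} [Category.{v} A] [Abelian A] [HasDerivedCategory.{w} A]
  {B : Type u'} [Category.{v'} B] [Abelian B] [HasDerivedCategory.{w'} B]

omit [HasDerivedCategory.{w} A] in
/-- A bounded below complex of injectives as an object of `C^+(Inj A)`. -/
def mkPlus (I : CochainComplex A ℤ) (hI : ∀ n, Injective (I.X n)) (a : ℤ) [I.IsStrictlyGE a] :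
    CochainComplex.Plus (InjectiveObject A) :=
  ⟨HomologicalComplex.liftObjectProperty _ I hI, a, by
    rw [← CochainComplex.isStrictlyGE_mapHomologicalComplex_obj_iff _ (InjectiveObject.ι _)]
    exact inferInstanceAs (I.IsStrictlyGE a)⟩

/-- The object of `D^+(A)` attached to a bounded below complex of injectives. -/
def objPlus (I : CochainComplex A ℤ) (hI : ∀ n, Injective (I.X n)) (a : ℤ) [I.IsStrictlyGE a] :
    DerivedCategory.Plus A :=
  (injD A).obj ((HomotopyCategory.Plus.quotient _).obj (mkPlus I hI a))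

/-- `objPlus I` is `I` in the derived category. -/
def ιIso (I : CochainComplex A ℤ) (hI : ∀ n, Injective (I.X n)) (a : ℤ) [I.IsStrictlyGE a] :
    DerivedCategory.Plus.ι.obj (objPlus I hI a) ≅ DerivedCategory.Q.obj I :=
  Iso.refl _

/-- Homology of `objPlus I`. -/
def homologyIso (I : CochainComplex A ℤ) (hI : ∀ n, Injective (I.X n)) (a : ℤ) [I.IsStrictlyGE a] (n : ℤ) :
    (DerivedCategory.Plus.homologyFunctor A n).obj (objPlus I hI a) ≅ I.homology n :=
  (DerivedCategory.homologyFunctorFactors A n).app I

variable [EnoughInjectives A] (G : A ⥤ B) [G.Additive]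

/-- Homology of `RG (objPlus I)`. -/
def homologyRGIso (I : CochainComplex A ℤ) (hI : ∀ n, Injective (I.X n)) (a : ℤ) [I.IsStrictlyGE a] (n : ℤ) :
    (DerivedCategory.Plus.homologyFunctor B n).obj ((RG G).obj (objPlus I hI a)) ≅
      ((G.mapHomologicalComplex (.up ℤ)).obj I).homology n :=
  (HInj G n).app (mkPlus I hI a)

theorem exists_objPlus (X : DerivedCategory.Plus A) (a : ℤ) [X.IsGE a] :
    ∃ (I : CochainComplex A ℤ) (hI : ∀ n, Injective (I.X n)) (_ : I.IsStrictlyGE a),
      Nonempty (objPlus I hI a ≅ X) := by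
  obtain ⟨K, hK, ⟨e⟩⟩ := DerivedCategory.exists_iso_Q_obj_of_isGE (DerivedCategory.Plus.ι.obj X) a
  obtain ⟨L, i, hi, hL, hL', _⟩ := Groth.Agent.Etrest.RDer2.exists_injRes K a
  exact ⟨L, hL, hL', ⟨DerivedCategory.Plus.ι.preimageIso
    (ιIso L hL a ≪≫ (asIso (DerivedCategory.Q.map i)).symm ≪≫ e.symm)⟩⟩

theorem RG_isGE (X : DerivedCategory.Plus A) (a : ℤ) (hX : X.IsGE a) : ((RG G).obj X).IsGE a := by
  obtain ⟨I, hI, hIa, ⟨e⟩⟩ := exists_objPlus X a
  rw [← DerivedCategory.Plus.isGE_ι_obj_iff, DerivedCategory.isGE_iff]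
  intro i hi
  have e1 : (DerivedCategory.homologyFunctor B i).obj (DerivedCategory.Plus.ι.obj ((RG G).obj X)) ≅
      ((G.mapHomologicalComplex (.up ℤ)).obj I).homology i :=
    (DerivedCategory.Plus.homologyFunctor B i).mapIso ((RG G).mapIso e.symm) ≪≫
      homologyRGIso G I hI a i
  refine IsZero.of_iso ?_ e1
  have h := ShortComplex.exact_of_isZero_X₂ (((G.mapHomologicalComplex (.up ℤ)).obj I).sc i)
    (G.map_isZero (I.isZero_of_isStrictlyGE a i hi))
  exact (ShortComplex.exact_iff_isZero_homology _).1 h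

omit [HasDerivedCategory.{w} A] [HasDerivedCategory.{w'} B] in
/-- Dévissage: homology of `G(I)` for a bounded below complex `I` of injectives with homology in `P`. -/
theorem homology_map_mem (P : ObjectProperty A) [P.IsClosedUnderIsomorphisms]
    (hP0 : ∀ M : A, IsZero M → P M)
    (Q : ObjectProperty B) [Q.IsClosedUnderIsomorphisms]
    [Q.IsClosedUnderKernels] [Q.IsClosedUnderCokernels] [Q.IsClosedUnderExtensions]
    (hQ0 : ∀ M : B, IsZero M → Q M)
    (hPQ : ∀ M : A, P M → ∀ n : ℕ, Q ((G.rightDerived n).obj M))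
    (I : CochainComplex A ℤ) (hI : ∀ n, Injective (I.X n)) (a : ℤ) [I.IsStrictlyGE a]
    (h : ∀ i, P (I.homology i)) (n : ℤ) :
    Q (((G.mapHomologicalComplex (.up ℤ)).obj I).homology n) := by
  let _ : HasDerivedCategory A := HasDerivedCategory.standard A
  let _ : HasDerivedCategory B := HasDerivedCategory.standard B
  refine Q.prop_of_iso (homologyRGIso G I hI a n)
    (TriDev.dev (RG G) P hP0 Q hQ0 (fun X n hX => RG_isGE G X n hX) ?_ _ ?_ n)
  · intro M hM n
    obtain ⟨k, rfl | rfl⟩ := Int.eq_nat_or_neg n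
    · exact Q.prop_of_iso ((hSingleIso G k).app M).symm (hPQ M hM k)
    · rcases Nat.eq_zero_or_pos k with rfl | hk
      · exact Q.prop_of_iso ((hSingleIso G 0).app M).symm (hPQ M hM 0)
      · have : ((RG G).obj ((DerivedCategory.Plus.singleFunctor A 0).obj M)).IsGE 0 :=
          RG_isGE G _ 0 inferInstance
        exact hQ0 _ (DerivedCategory.Plus.isZero_homology_of_isGE _ 0 _ (by lia))
  · intro i
    exact P.prop_of_iso (homologyIso I hI a i).symm (h i)

end

end Groth.Agent.PerfB.RGPlus
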