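import Groth.Prelude.Def_DCoh2
import Groth.Prelude.Def_CohB1
import Groth.Agent.PerfB.RGPlus
import Groth.Agent.PerfB.ModExact
import Groth.Agent.PerfB.ExactHomology
import Groth.Agent.PerfA.QCohSerre
import Groth.Agent.PerfA.QCohExt
import Groth.Agent.S0484
import Groth.Agent.PerfC.ExtZero2
import Groth.Agent.Ega3B.InjMod
import Groth.Agent.S0030

/-!
# Derived sections with support on bounded below complexes of injective modules
-/

set_option autoImplicit false
universe u

open CategoryTheory CategoryTheory.Limits AlgebraicGeometry Opposite TopologicalSpace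

namespace Groth.Agent.PerfB.GammaZ

open Groth.Agent.PerfB.RGPlus Groth.Agent.PerfA.QCohSerre

noncomputable section

variable {Y X : Scheme.{u}} (j : Y ⟶ X) [IsOpenImmersion j]

/-- The unit `I ⟶ j_* j^* I` is an epimorphism for `I` injective. -/
theorem epi_unit (I : X.Modules) [Injective I] : Epi ((Scheme.Modules.restrictAdjunction j).unit.app I) := by
  refine ModExact.epi_of_locally_surjective _ fun V y x hx => ?_
  obtain ⟨z, hz⟩ := Groth.Agent.Ega3B.InjMod.surjective_map_of_injective I
    (homOfLE (j.image_preimage_le V)) y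
  refine ⟨V, le_rfl, hx, z, ?_⟩
  rw [Scheme.Modules.restrictAdjunction_unit_app_app]
  refine Eq.trans (b := y) hz ?_
  have h : (homOfLE (le_refl V)).op = 𝟙 (op V) := rfl
  rw [h, CategoryTheory.Functor.map_id]
  rfl

instance injective_restrict (I : X.Modules) [Injective I] :
    Injective ((Scheme.Modules.restrictFunctor j).obj I) :=
  Injective.injective_of_adjoint (Groth.Agent.PerfC.ExtZero.adj j) I

/-- `j_* j^*` on complexes. -/
abbrev pr (I : CochainComplex X.Modules ℤ) : CochainComplex X.Modules ℤ :=
  ((Scheme.Modules.pushforward j).mapHomologicalComplex (.up ℤ)).obj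
    (((Scheme.Modules.restrictFunctor j).mapHomologicalComplex (.up ℤ)).obj I)

/-- `Γ_Z I ⟶ I`. -/
def α (I : CochainComplex X.Modules ℤ) : ((DCoh.gammaZ j).mapHomologicalComplex (.up ℤ)).obj I ⟶ I where
  f n := kernel.ι ((Scheme.Modules.restrictAdjunction j).unit.app (I.X n))
  comm' _ _ _ := (kernel.lift_ι _ _ _).symm

/-- `I ⟶ j_* j^* I`. -/
def β (I : CochainComplex X.Modules ℤ) : I ⟶ pr j I where
  f n := (Scheme.Modules.restrictAdjunction j).unit.app (I.X n)
  comm' m n _ := ((Scheme.Modules.restrictAdjunction j).unit.naturality (I.d m n)).symm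

/-- `0 ⟶ Γ_Z I ⟶ I ⟶ j_* j^* I`. -/
@[simps]
def S (I : CochainComplex X.Modules ℤ) : ShortComplex (CochainComplex X.Modules ℤ) where
  X₁ := ((DCoh.gammaZ j).mapHomologicalComplex (.up ℤ)).obj I
  X₂ := I
  X₃ := pr j I
  f := α j I
  g := β j I
  zero := by
    ext n : 1
    exact kernel.condition _

theorem shortExact_S (I : CochainComplex X.Modules ℤ) (hI : ∀ n, Injective (I.X n)) :
    (S j I).ShortExact := by
  refine HomologicalComplex.shortExact_of_degreewise_shortExact _ fun n => ?_
  have := hI n
  have h1 : Epi ((Scheme.Modules.restrictAdjunction j).unit.app (I.X n)) := epi_unit j (I.X n)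
  exact { exact := ShortComplex.exact_of_f_is_kernel _
            (kernelIsKernel ((Scheme.Modules.restrictAdjunction j).unit.app (I.X n)))
          mono_f := inferInstanceAs (Mono (kernel.ι ((Scheme.Modules.restrictAdjunction j).unit.app (I.X n))))
          epi_g := h1 }

section QCoh

instance exact_restrict : PreservesFiniteLimits (Scheme.Modules.restrictFunctor j) := inferInstance

/-- Cohomology sheaves of `j^* I`. -/
def restrictHomologyIso (I : CochainComplex X.Modules ℤ) (n : ℤ) :
    (((Scheme.Modules.restrictFunctor j).mapHomologicalComplex (.up ℤ)).obj I).homology n ≅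
      (I.homology n).restrict j :=
  ExactHomology.homologyIsoCx (Scheme.Modules.restrictFunctor j) I n

/-- `j_* j^* I` has quasi-coherent cohomology sheaves if `I` does (`I` a bounded below complex of injectives). -/
theorem isQCoh_homology_pr [QuasiCompact j] (I : CochainComplex X.Modules ℤ) (hI : ∀ n, Injective (I.X n))
    (a : ℤ) [I.IsStrictlyGE a] (h : ∀ n, Coh.IsQCoh (I.homology n)) (n : ℤ) :
    Coh.IsQCoh ((pr j I).homology n) := by
  have h0 : IsGrothendieckAbelian.{u} Y.Modules := Groth.Agent.S0484.result _ Y.ringCatSheaf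
  have h1 : EnoughInjectives Y.Modules := inferInstance
  have h2 : QuasiSeparated j := inferInstance
  have : ∀ n, Injective (I.X n) := hI
  have h3 : CochainComplex.IsStrictlyGE
      (((Scheme.Modules.restrictFunctor j).mapHomologicalComplex (.up ℤ)).obj I) a := by
    rw [CochainComplex.isStrictlyGE_iff]
    intro i hi
    exact (Scheme.Modules.restrictFunctor j).map_isZero (I.isZero_of_isStrictlyGE a i hi)
  exact homology_map_mem (Scheme.Modules.pushforward j) (qcoh Y) (fun M hM => isQCoh_of_isZero hM)
    (qcoh X) (fun M hM => isQCoh_of_isZero hM)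
    (fun M hM p => @Groth.Agent.S0030.result _ _ j _ _ _ M hM p)
    _ (fun n => injective_restrict j (I.X n)) a
    (fun i => isQCoh_of_iso (restrictHomologyIso j I i).symm (isQCoh_restrict j (h i))) n

/-- `Γ_Z I` has quasi-coherent cohomology sheaves. -/
theorem isQCoh_homology_gammaZ [QuasiCompact j] (I : CochainComplex X.Modules ℤ)
    (hI : ∀ n, Injective (I.X n))
    (a : ℤ) [I.IsStrictlyGE a] (h : ∀ n, Coh.IsQCoh (I.homology n)) (n : ℤ) :
    Coh.IsQCoh ((((DCoh.gammaZ j).mapHomologicalComplex (.up ℤ)).obj I).homology n) := by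
  have hS := shortExact_S j I hI
  have hp := isQCoh_homology_pr j I hI a h
  exact TriDev.five (qcoh X) _ _ _ _ _ _ _ (hS.homology_exact₃ (n - 1) n (by simp))
    (hS.homology_exact₁ (n - 1) n (by simp)) (hS.homology_exact₂ n) (h (n - 1)) (hp (n - 1)) (h n) (hp n)

end QCoh

section Support

theorem isZero_restrict_gammaZ (M : X.Modules) :
    IsZero ((Scheme.Modules.restrictFunctor j).obj ((DCoh.gammaZ j).obj M)) := by
  have h1 : IsIso ((Scheme.Modules.restrictFunctor j).map
      ((Scheme.Modules.restrictAdjunction j).unit.app M)) := by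
    have h := (Scheme.Modules.restrictAdjunction j).left_triangle_components M
    have h2 : IsIso ((Scheme.Modules.restrictAdjunction j).counit.app
      ((Scheme.Modules.restrictFunctor j).obj M)) := inferInstance
    exact IsIso.of_isIso_fac_right h
  have h3 := (isZero_kernel_of_mono ((Scheme.Modules.restrictFunctor j).map
      ((Scheme.Modules.restrictAdjunction j).unit.app M)))
  exact h3.of_iso (PreservesKernel.iso (Scheme.Modules.restrictFunctor j)
    ((Scheme.Modules.restrictAdjunction j).unit.app M))

theorem support_homology_gammaZ (I : CochainComplex X.Modules ℤ) (n : ℤ) (y : Y) :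
    Subsingleton (((((DCoh.gammaZ j).mapHomologicalComplex (.up ℤ)).obj I).homology n).presheaf.stalk
      (j y)) := by
  have h1 : IsZero ((((DCoh.gammaZ j).mapHomologicalComplex (.up ℤ)).obj I).homology n |>.restrict j) := by
    refine IsZero.of_iso ?_ (restrictHomologyIso j _ n).symm
    have h := ShortComplex.exact_of_isZero_X₂
      (((((Scheme.Modules.restrictFunctor j).mapHomologicalComplex (.up ℤ)).obj
        (((DCoh.gammaZ j).mapHomologicalComplex (.up ℤ)).obj I))).sc n)
      (isZero_restrict_gammaZ j (I.X n))
    exact (ShortComplex.exact_iff_isZero_homology _).1 h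
  have h2 := (Groth.Agent.PerfA.Restrict.stalkAb y).map_isZero h1
  have h3 := h2.of_iso ((Groth.Agent.PerfA.Restrict.stalkRestrict j y).app
    ((((DCoh.gammaZ j).mapHomologicalComplex (.up ℤ)).obj I).homology n)).symm
  exact AddCommGrpCat.subsingleton_of_isZero h3

end Support

end

end Groth.Agent.PerfB.GammaZ
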