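import Groth.Agent.PerfB.DQTri

/-!
# Objects on which a triangulated functor is bijective on Hom sets from a class of test objects

Relative version of `DQTri`, and truncation lemmas.
-/

set_option linter.unusedSectionVars false

namespace Groth.Agent.PerfB.HomBijOn

open CategoryTheory CategoryTheory.Limits CategoryTheory.Pretriangulated
open Groth.Agent.PerfB.DQTri

variable {C D : Type*} [Category* C] [Category* D] (F : C ⥤ D) (Γ : ObjectProperty C)

/-- The objects `Y` such that `F` is bijective on `Hom(X, Y)` for `X` in the class `Γ`. -/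
def homBijOn : ObjectProperty C :=
  fun Y => ∀ X : C, Γ X → Function.Bijective (fun f : X ⟶ Y => F.map f)

instance : (homBijOn F Γ).IsClosedUnderIsomorphisms where
  of_iso e h X hX := bijective_map_of_iso F (Iso.refl X) e (h X hX)

section

variable [HasShift C ℤ] [HasShift D ℤ] [F.CommShift ℤ] [Γ.IsStableUnderShift ℤ]

instance : (homBijOn F Γ).IsStableUnderShift ℤ where
  isStableUnderShiftBy n :=
    { le_shift := by
        intro Y hY X hX
        have e : (X⟦-n⟧)⟦n⟧ ≅ X := (shiftEquiv C n).counitIso.app X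
        exact bijective_map_of_iso F e (Iso.refl _)
          (bijective_map_shift F n (hY _ (Γ.le_shift (-n) _ hX))) }

variable [HasZeroObject C] [HasZeroObject D] [Preadditive C] [Preadditive D]
  [∀ (n : ℤ), (shiftFunctor C n).Additive] [∀ (n : ℤ), (shiftFunctor D n).Additive]
  [Pretriangulated C] [Pretriangulated D] [F.IsTriangulated]

lemma homBijOn_of_isZero {Y : C} (hY : IsZero Y) : homBijOn F Γ Y :=
  fun X _ => homBij_of_isZero F hY X

set_option backward.isDefEq.respectTransparency false in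
instance : (homBijOn F Γ).IsTriangulatedClosed₂ :=
  .mk' (by
    intro T hT h₁ h₃ X hX
    have hFT := F.map_distinguished T hT
    have hinv := inv_rot_of_distTriang _ hT
    have h₃' : homBijOn F Γ (T.obj₃⟦(-1 : ℤ)⟧) := (homBijOn F Γ).le_shift (-1 : ℤ) _ h₃
    have h₁' : homBijOn F Γ (T.obj₁⟦(1 : ℤ)⟧) := (homBijOn F Γ).le_shift (1 : ℤ) _ h₁
    constructor
    · suffices h : ∀ f : X ⟶ T.obj₂, F.map f = 0 → f = 0 by
        intro f g hfg
        rw [← sub_eq_zero]
        apply h
        rw [F.map_sub, sub_eq_zero]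
        exact hfg
      intro f hf
      have hfz : f ≫ T.mor₂ = 0 := by
        apply (h₃ X hX).1
        dsimp only
        rw [F.map_comp, hf, zero_comp, F.map_zero]
      obtain ⟨g, rfl⟩ := Triangle.coyoneda_exact₂ _ hT f hfz
      rw [F.map_comp] at hf
      have hFinv := F.map_distinguished _ hinv
      obtain ⟨w, hw⟩ := Triangle.coyoneda_exact₂ _ hFinv (F.map g) hf
      obtain ⟨w', rfl⟩ := (h₃' X hX).2 w
      have : g = w' ≫ T.invRotate.mor₁ := by
        apply (h₁ X hX).1
        dsimp only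
        rw [F.map_comp]
        exact hw
      rw [this, Category.assoc]
      have hz := comp_distTriang_mor_zero₁₂ _ hinv
      change w' ≫ T.invRotate.mor₁ ≫ T.invRotate.mor₂ = 0
      rw [hz, comp_zero]
    · intro g
      obtain ⟨h, hh⟩ := (h₃ X hX).2 (g ≫ F.map T.mor₂)
      dsimp only at hh
      have hz : h ≫ T.mor₃ = 0 := by
        apply (h₁' X hX).1
        dsimp only
        rw [F.map_comp, hh, F.map_zero, Category.assoc]
        have h23 := comp_distTriang_mor_zero₂₃ _ hT
        rw [← F.map_comp, h23, F.map_zero, comp_zero]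
      obtain ⟨k, rfl⟩ := Triangle.coyoneda_exact₃ _ hT h hz
      have hz' : (g - F.map k) ≫ F.map T.mor₂ = 0 := by
        rw [Preadditive.sub_comp, ← F.map_comp, hh, sub_self]
      obtain ⟨m, hm⟩ := Triangle.coyoneda_exact₂ _ hFT _ hz'
      obtain ⟨m', rfl⟩ := (h₁ X hX).2 m
      refine ⟨k + m' ≫ T.mor₁, ?_⟩
      dsimp only at hm ⊢
      rw [F.map_add, F.map_comp]
      have : F.map m' ≫ F.map T.mor₁ = g - F.map k := hm.symm
      rw [this]
      abel)

instance (priority := 100) containsZero_homBijOn : (homBijOn F Γ).ContainsZero where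
  exists_zero := ⟨_, isZero_zero C, homBijOn_of_isZero F Γ (isZero_zero C)⟩

instance : (homBijOn F Γ).IsTriangulated where

end

section Truncation

variable [HasShift C ℤ] [HasShift D ℤ] [F.CommShift ℤ]
  [HasZeroObject C] [HasZeroObject D] [Preadditive C] [Preadditive D]
  [∀ (n : ℤ), (shiftFunctor C n).Additive] [∀ (n : ℤ), (shiftFunctor D n).Additive]
  [Pretriangulated C] [Pretriangulated D] [F.IsTriangulated]

set_option backward.isDefEq.respectTransparency false in
/-- Dropping a third vertex which receives no maps. -/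
lemma bijective_of_obj₁ {T : Triangle C} (hT : T ∈ distTriang C) {X : C}
    (h : Function.Bijective (fun f : X ⟶ T.obj₁ => F.map f))
    (h₃ : ∀ φ : X ⟶ T.obj₃, φ = 0) (h₃' : ∀ φ : F.obj X ⟶ F.obj T.obj₃, φ = 0)
    (h₃'' : ∀ φ : F.obj X ⟶ (F.obj T.obj₃)⟦(-1 : ℤ)⟧, φ = 0) :
    Function.Bijective (fun f : X ⟶ T.obj₂ => F.map f) := by
  have hFT := F.map_distinguished T hT
  have hFinv := inv_rot_of_distTriang _ hFT
  constructor
  · suffices h : ∀ f : X ⟶ T.obj₂, F.map f = 0 → f = 0 by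
      intro f g hfg
      rw [← sub_eq_zero]
      apply h
      rw [F.map_sub, sub_eq_zero]
      exact hfg
    intro f hf
    obtain ⟨g, rfl⟩ := Triangle.coyoneda_exact₂ _ hT f (h₃ _)
    rw [F.map_comp] at hf
    obtain ⟨w, hw⟩ := Triangle.coyoneda_exact₂ _ hFinv (F.map g) hf
    have hw0 : w = 0 := h₃'' w
    have hg : g = 0 := by
      apply h.1
      dsimp only
      rw [F.map_zero]
      refine hw.trans ?_
      rw [hw0, zero_comp]
    rw [hg, zero_comp]
  · intro g
    obtain ⟨ψ, hψ⟩ := Triangle.coyoneda_exact₂ _ hFT g (h₃' _)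
    obtain ⟨ψ', rfl⟩ := h.2 ψ
    refine ⟨ψ' ≫ T.mor₁, ?_⟩
    dsimp only at hψ ⊢
    rw [F.map_comp]
    exact hψ.symm

set_option backward.isDefEq.respectTransparency false in
/-- Dropping a first vertex which receives no maps. -/
lemma bijective_of_obj₃ {T : Triangle C} (hT : T ∈ distTriang C) {X : C}
    (h : Function.Bijective (fun f : X ⟶ T.obj₃ => F.map f))
    (h₁ : ∀ φ : X ⟶ T.obj₁, φ = 0) (h₁' : ∀ φ : X ⟶ T.obj₁⟦(1 : ℤ)⟧, φ = 0)
    (h₁'' : ∀ φ : F.obj X ⟶ F.obj T.obj₁, φ = 0) :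
    Function.Bijective (fun f : X ⟶ T.obj₂ => F.map f) := by
  have hFT := F.map_distinguished T hT
  constructor
  · suffices h : ∀ f : X ⟶ T.obj₂, F.map f = 0 → f = 0 by
      intro f g hfg
      rw [← sub_eq_zero]
      apply h
      rw [F.map_sub, sub_eq_zero]
      exact hfg
    intro f hf
    have hfz : f ≫ T.mor₂ = 0 := by
      apply h.1
      dsimp only
      rw [F.map_comp, hf, zero_comp, F.map_zero]
    obtain ⟨g, rfl⟩ := Triangle.coyoneda_exact₂ _ hT f hfz
    rw [h₁ g, zero_comp]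
  · intro g
    obtain ⟨χ, hχ⟩ := h.2 (g ≫ F.map T.mor₂)
    dsimp only at hχ
    obtain ⟨k, rfl⟩ := Triangle.coyoneda_exact₃ _ hT χ (h₁' _)
    have hz' : (g - F.map k) ≫ F.map T.mor₂ = 0 := by
      rw [Preadditive.sub_comp, ← F.map_comp, hχ, sub_self]
    obtain ⟨m, hm⟩ := Triangle.coyoneda_exact₂ _ hFT _ hz'
    refine ⟨k, ?_⟩
    dsimp only
    rw [h₁'' m, zero_comp, sub_eq_zero] at hm
    exact hm.symm

omit [HasShift D ℤ] [HasZeroObject D] [Preadditive D] [∀ (n : ℤ), (shiftFunctor D n).Additive]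
  [Pretriangulated D] in
/-- A test for the vanishing of maps to a cone. -/
lemma eq_zero_of_bijective {T : Triangle C} (hT : T ∈ distTriang C) (X X' : C)
    (e : X'⟦(1 : ℤ)⟧ ≅ X)
    (h : Function.Bijective (fun φ : X ⟶ T.obj₁ => φ ≫ T.mor₁))
    (h' : Function.Bijective (fun φ : X' ⟶ T.obj₁ => φ ≫ T.mor₁)) (φ : X ⟶ T.obj₃) : φ = 0 := by
  have h1 : φ ≫ T.mor₃ = 0 := by
    obtain ⟨χ, hχ⟩ := (shiftFunctor C (1 : ℤ)).map_surjective (e.hom ≫ φ ≫ T.mor₃)
    have h2 : χ ≫ T.mor₁ = 0 := by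
      apply (shiftFunctor C (1 : ℤ)).map_injective
      have h3 : T.mor₃ ≫ T.mor₁⟦(1 : ℤ)⟧' = 0 := comp_distTriang_mor_zero₃₁ _ hT
      rw [Functor.map_comp, hχ, Functor.map_zero, Category.assoc, Category.assoc, h3,
        comp_zero, comp_zero]
    have h4 : χ = 0 := h'.1 (by simp [h2])
    rw [← cancel_epi e.hom, ← hχ, h4, Functor.map_zero, comp_zero]
  obtain ⟨ψ, hψ⟩ := Triangle.coyoneda_exact₃ _ hT φ h1
  obtain ⟨χ, hχ⟩ := h.2 ψ
  have h5 : T.mor₁ ≫ T.mor₂ = 0 := comp_distTriang_mor_zero₁₂ _ hT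
  dsimp only at hχ
  rw [hψ, ← hχ, Category.assoc, h5, comp_zero]

end Truncation

end Groth.Agent.PerfB.HomBijOn
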