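import Groth.Agent.Flat2F.BCSec
import Mathlib.CategoryTheory.Comma.Over.Basic

/-!
# The functor `p ↦ p_* p^* E` on schemes over `X`

* `hom_ext_pullback`: morphisms out of `a^* E` are determined on the sections pulled back from `X`.
* `tr_tr`, `tr_id`: transport of sections of pullbacks is functorial.
* `pushPull E : (Over X)ᵒᵖ ⥤ X.Modules`.
* `pull k φ : a'^* G ⟶ a'^* E` for `φ : a^* G ⟶ a^* E` and `k ≫ a = a'`.
-/

set_option autoImplicit false
universe u
open CategoryTheory CategoryTheory.Limits AlgebraicGeometry TopologicalSpace Opposite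

namespace Groth.Agent.PerfB.PushPull

open Groth.Agent.Flat2F.BCSec Groth.Agent.VarietyB.PullSec

variable {X W W' W'' : Scheme.{u}} {E G : X.Modules}

/-- Morphisms out of a pullback are determined on the sections pulled back from the base. -/
theorem hom_ext_pullback (a : W ⟶ X) {N : W.Modules} {f g : (Scheme.Modules.pullback a).obj E ⟶ N}
    (h : ∀ (U : X.Opens) (s : Γ(E, U)), f.app (a ⁻¹ᵁ U) (sec a E le_rfl s) =
      g.app (a ⁻¹ᵁ U) (sec a E le_rfl s)) : f = g := by
  apply ((Scheme.Modules.pullbackPushforwardAdjunction a).homEquiv E N).injective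
  rw [Adjunction.homEquiv_unit, Adjunction.homEquiv_unit]
  ext U s
  have h1 := h U s
  have h2 : sec a E (le_refl (a ⁻¹ᵁ U)) s =
      ((Scheme.Modules.pullbackPushforwardAdjunction a).unit.app E).app U s := by
    rw [sec_apply]
    exact Fdesc.QCohStalk.map_self _ _ _
  rw [h2] at h1
  exact h1

variable (k : W' ⟶ W) (a : W ⟶ X) (a' : W' ⟶ X) (h : k ≫ a = a')
  (k' : W'' ⟶ W') (a'' : W'' ⟶ X) (h' : k' ≫ a' = a'')

variable (E) in
/-- Transport of sections of pullbacks, as a morphism `a^* E ⟶ k_* a'^* E`. -/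
noncomputable def trMod : (Scheme.Modules.pullback a).obj E ⟶
    (Scheme.Modules.pushforward k).obj ((Scheme.Modules.pullback a').obj E) :=
  (Scheme.Modules.pullbackPushforwardAdjunction k).unit.app _ ≫
    (Scheme.Modules.pushforward k).map (cmp k a a' h E).hom

theorem trMod_app (U : W.Opens) (s : Γ((Scheme.Modules.pullback a).obj E, U)) :
    (trMod E k a a' h).app U s = tr k a a' h E (le_refl (k ⁻¹ᵁ U)) s := by
  rw [tr_apply]
  have h2 : sec k ((Scheme.Modules.pullback a).obj E) (le_refl (k ⁻¹ᵁ U)) s =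
      ((Scheme.Modules.pullbackPushforwardAdjunction k).unit.app _).app U s := by
    rw [sec_apply]
    exact Fdesc.QCohStalk.map_self _ _ _
  rw [h2]
  rfl

theorem trMod_comp : trMod E k a a' h ≫
      (Scheme.Modules.pushforward k).map (trMod E k' a' a'' h') ≫
      (Scheme.Modules.pushforwardComp k' k).hom.app _ =
    trMod E (k' ≫ k) a a'' (by rw [Category.assoc, h, h']) := by
  apply hom_ext_pullback
  intro U s
  have h1 : (trMod E k a a' h ≫
      (Scheme.Modules.pushforward k).map (trMod E k' a' a'' h') ≫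
      (Scheme.Modules.pushforwardComp k' k).hom.app _).app (a ⁻¹ᵁ U) (sec a E le_rfl s) =
      (trMod E k' a' a'' h').app (k ⁻¹ᵁ a ⁻¹ᵁ U) ((trMod E k a a' h).app (a ⁻¹ᵁ U)
        (sec a E le_rfl s)) := rfl
  refine h1.trans ?_
  rw [trMod_app, trMod_app, trMod_app]
  subst h h'
  have A := tr_sec k a (k ≫ a) rfl E (U := a ⁻¹ᵁ U) (V := k ⁻¹ᵁ a ⁻¹ᵁ U) le_rfl (U₀ := U) le_rfl
    le_rfl s
  have B := tr_sec k' (k ≫ a) (k' ≫ k ≫ a) rfl E (U := k ⁻¹ᵁ a ⁻¹ᵁ U) (V := k' ⁻¹ᵁ k ⁻¹ᵁ a ⁻¹ᵁ U)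
    le_rfl (U₀ := U) le_rfl le_rfl s
  have C := tr_sec (k' ≫ k) a (k' ≫ k ≫ a) (by simp) E (U := a ⁻¹ᵁ U)
    (V := (k' ≫ k) ⁻¹ᵁ a ⁻¹ᵁ U) le_rfl (U₀ := U) le_rfl le_rfl s
  exact ((congrArg _ A).trans B).trans C.symm

theorem tr_tr {U : W.Opens} {V : W'.Opens} {T : W''.Opens} (e : V ≤ k ⁻¹ᵁ U) (e' : T ≤ k' ⁻¹ᵁ V)
    (s : Γ((Scheme.Modules.pullback a).obj E, U)) :
    tr k' a' a'' h' E e' (tr k a a' h E e s) =
      tr (k' ≫ k) a a'' (by rw [Category.assoc, h, h']) E (e'.trans (k'.preimage_mono e)) s := by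
  have h1 := congr(($(trMod_comp (E := E) k a a' h k' a'' h')).app U s)
  have h2 : (trMod E k a a' h ≫
      (Scheme.Modules.pushforward k).map (trMod E k' a' a'' h') ≫
      (Scheme.Modules.pushforwardComp k' k).hom.app _).app U s =
      (trMod E k' a' a'' h').app (k ⁻¹ᵁ U) ((trMod E k a a' h).app U s) := rfl
  rw [h2, trMod_app, trMod_app, trMod_app] at h1
  have h3 := congrArg (Flat2F.SecBasis.res ((Scheme.Modules.pullback a'').obj E)
    (show T ≤ (k' ≫ k) ⁻¹ᵁ U from e'.trans (k'.preimage_mono e))) h1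
  erw [res_tr] at h3
  erw [res_tr] at h3
  rw [← h3, ← res_tr k a a' h E (le_refl (k ⁻¹ᵁ U)) e s, tr_res]

theorem tr_id {U V : W.Opens} (e : V ≤ U) (h : 𝟙 W ≫ a = a)
    (s : Γ((Scheme.Modules.pullback a).obj E, U)) :
    tr (𝟙 W) a a h E (show V ≤ (𝟙 W) ⁻¹ᵁ U from e) s = Flat2F.SecBasis.res _ e s := by
  have h1 : trMod E (𝟙 W) a a h = (Scheme.Modules.pushforwardId W).inv.app _ := by
    apply hom_ext_pullback
    intro U s
    rw [trMod_app]
    exact tr_sec (𝟙 W) a a h E (U := a ⁻¹ᵁ U) (V := (𝟙 W) ⁻¹ᵁ a ⁻¹ᵁ U) le_rfl (U₀ := U) le_rfl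
      le_rfl s
  have h2 := congr(($h1).app U s)
  rw [trMod_app] at h2
  rw [← res_tr (𝟙 W) a a h E (le_refl ((𝟙 W) ⁻¹ᵁ U)) e s, h2]
  rfl

theorem preimage_le {k : W' ⟶ W} {a : W ⟶ X} {a' : W' ⟶ X} (h : k ≫ a = a') (U : X.Opens) :
    a' ⁻¹ᵁ U ≤ k ⁻¹ᵁ (a ⁻¹ᵁ U) := by
  subst h
  exact le_rfl

variable (E) in
/-- The morphism `a_* a^* E ⟶ a'_* a'^* E`. -/
noncomputable def ppMap :
    (Scheme.Modules.pushforward a).obj ((Scheme.Modules.pullback a).obj E) ⟶
      (Scheme.Modules.pushforward a').obj ((Scheme.Modules.pullback a').obj E) :=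
  (Scheme.Modules.pushforward a).map (trMod E k a a' h) ≫
    (Scheme.Modules.pushforwardComp k a).hom.app _ ≫ (Scheme.Modules.pushforwardCongr h).hom.app _

theorem ppMap_app (U : X.Opens) (s : Γ((Scheme.Modules.pullback a).obj E, a ⁻¹ᵁ U)) :
    (show Γ((Scheme.Modules.pullback a').obj E, a' ⁻¹ᵁ U) from (ppMap E k a a' h).app U s) =
      tr k a a' h E (preimage_le h U) s := by
  have h1 : (show Γ((Scheme.Modules.pullback a').obj E, a' ⁻¹ᵁ U) from (ppMap E k a a' h).app U s) =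
      Flat2F.SecBasis.res _ (preimage_le h U) ((trMod E k a a' h).app (a ⁻¹ᵁ U) s) := rfl
  rw [h1, trMod_app, res_tr]

theorem ppMap_comp :
    ppMap E k a a' h ≫ ppMap E k' a' a'' h' =
      ppMap E (k' ≫ k) a a'' (by rw [Category.assoc, h, h']) := by
  ext U s
  have h1 := ppMap_app (E := E) (k' ≫ k) a a'' (by rw [Category.assoc, h, h']) U s
  have h2 := ppMap_app (E := E) k a a' h U s
  have h3 := ppMap_app (E := E) k' a' a'' h' U ((ppMap E k a a' h).app U s)
  have h4 := tr_tr (E := E) k a a' h k' a'' h' (preimage_le h U) (preimage_le h' U) s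
  have h5 : tr k' a' a'' h' E (preimage_le h' U)
      (show Γ((Scheme.Modules.pullback a').obj E, a' ⁻¹ᵁ U) from (ppMap E k a a' h).app U s) =
      tr k' a' a'' h' E (preimage_le h' U) (tr k a a' h E (preimage_le h U) s) :=
    congrArg _ h2
  exact h3.trans (h5.trans (h4.trans h1.symm))

theorem ppMap_id (h : 𝟙 W ≫ a = a) : ppMap E (𝟙 W) a a h = 𝟙 _ := by
  ext U s
  have h1 := ppMap_app (E := E) (𝟙 W) a a h U s
  have h2 := tr_id (E := E) a (le_refl (a ⁻¹ᵁ U)) h s
  exact h1.trans (h2.trans (Flat2F.SecBasis.res_self _ _ _))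

variable (E) in
/-- The functor `p ↦ p_* p^* E`. -/
noncomputable def pushPull : (Over X)ᵒᵖ ⥤ X.Modules where
  obj p := (Scheme.Modules.pushforward p.unop.hom).obj ((Scheme.Modules.pullback p.unop.hom).obj E)
  map f := ppMap E f.unop.left _ _ (Over.w f.unop)
  map_id p := ppMap_id p.unop.hom (Category.id_comp _)
  map_comp f g := (ppMap_comp f.unop.left _ _ (Over.w f.unop) g.unop.left _ (Over.w g.unop)).symm

/-- Pullback of morphisms between modules pulled back from the base. -/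
noncomputable def pull (φ : (Scheme.Modules.pullback a).obj G ⟶ (Scheme.Modules.pullback a).obj E) :
    (Scheme.Modules.pullback a').obj G ⟶ (Scheme.Modules.pullback a').obj E :=
  (cmp k a a' h G).inv ≫ (Scheme.Modules.pullback k).map φ ≫ (cmp k a a' h E).hom

theorem map_sec {M N : W.Modules} (φ : M ⟶ N) {U : W.Opens} {V : W'.Opens} (e : V ≤ k ⁻¹ᵁ U)
    (s : Γ(M, U)) : ((Scheme.Modules.pullback k).map φ).app V (sec k M e s) = sec k N e (φ.app U s) := by
  have h1 := congr(($((Scheme.Modules.pullbackPushforwardAdjunction k).unit.naturality φ)).app U s)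
  rw [sec_apply, sec_apply]
  refine (Flat2F.SecBasis.res_app ((Scheme.Modules.pullback k).map φ) e _).trans ?_
  exact congrArg _ h1.symm

theorem pull_tr (φ : (Scheme.Modules.pullback a).obj G ⟶ (Scheme.Modules.pullback a).obj E)
    {U : W.Opens} {V : W'.Opens} (e : V ≤ k ⁻¹ᵁ U) (s : Γ((Scheme.Modules.pullback a).obj G, U)) :
    (pull k a a' h φ).app V (tr k a a' h G e s) = tr k a a' h E e (φ.app U s) := by
  rw [tr_apply, tr_apply, ← map_sec]
  have h1 : (pull k a a' h φ).app V ((cmp k a a' h G).hom.app V (sec k _ e s)) =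
      ((cmp k a a' h G).hom ≫ pull k a a' h φ).app V (sec k _ e s) := rfl
  rw [h1, pull, Iso.hom_inv_id_assoc]
  rfl

theorem pull_sec (φ : (Scheme.Modules.pullback a).obj G ⟶ (Scheme.Modules.pullback a).obj E)
    (U : X.Opens) (s : Γ(G, U)) :
    (pull k a a' h φ).app (a' ⁻¹ᵁ U) (sec a' G le_rfl s) =
      tr k a a' h E (preimage_le h U) (φ.app (a ⁻¹ᵁ U) (sec a G le_rfl s)) := by
  rw [← pull_tr, tr_sec k a a' h G (preimage_le h U) le_rfl le_rfl]

theorem pull_comp {F : X.Modules}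
    (φ : (Scheme.Modules.pullback a).obj G ⟶ (Scheme.Modules.pullback a).obj E)
    (ψ : (Scheme.Modules.pullback a).obj E ⟶ (Scheme.Modules.pullback a).obj F) :
    pull k a a' h (φ ≫ ψ) = pull k a a' h φ ≫ pull k a a' h ψ := by
  simp [pull]

theorem pull_id : pull k a a' h (𝟙 ((Scheme.Modules.pullback a).obj E)) = 𝟙 _ := by
  simp [pull]

theorem pull_pull (φ : (Scheme.Modules.pullback a).obj G ⟶ (Scheme.Modules.pullback a).obj E) :
    pull k' a' a'' h' (pull k a a' h φ) =
      pull (k' ≫ k) a a'' (by rw [Category.assoc, h, h']) φ := by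
  apply hom_ext_pullback
  intro U s
  rw [pull_sec, pull_sec, pull_sec, tr_tr]

/-- The morphism `G ⟶ a_* a^* E` attached to `a^* G ⟶ a^* E`. -/
noncomputable def adj (φ : (Scheme.Modules.pullback a).obj G ⟶ (Scheme.Modules.pullback a).obj E) :
    G ⟶ (Scheme.Modules.pushforward a).obj ((Scheme.Modules.pullback a).obj E) :=
  (Scheme.Modules.pullbackPushforwardAdjunction a).homEquiv _ _ φ

theorem adj_injective : Function.Injective (adj (G := G) (E := E) a) :=
  ((Scheme.Modules.pullbackPushforwardAdjunction a).homEquiv _ _).injective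

theorem adj_surjective : Function.Surjective (adj (G := G) (E := E) a) :=
  ((Scheme.Modules.pullbackPushforwardAdjunction a).homEquiv _ _).surjective

theorem adj_app (φ : (Scheme.Modules.pullback a).obj G ⟶ (Scheme.Modules.pullback a).obj E)
    (U : X.Opens) (s : Γ(G, U)) :
    (adj a φ).app U s = φ.app (a ⁻¹ᵁ U) (sec a G le_rfl s) := by
  rw [adj, Adjunction.homEquiv_unit]
  have h2 : sec a G (le_refl (a ⁻¹ᵁ U)) s =
      ((Scheme.Modules.pullbackPushforwardAdjunction a).unit.app G).app U s := by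
    rw [sec_apply]
    exact Fdesc.QCohStalk.map_self _ _ _
  rw [h2]
  rfl

theorem adj_pull (φ : (Scheme.Modules.pullback a).obj G ⟶ (Scheme.Modules.pullback a).obj E) :
    adj a' (pull k a a' h φ) = adj a φ ≫ ppMap E k a a' h := by
  ext U s
  refine (adj_app a' _ U s).trans ?_
  refine (pull_sec k a a' h φ U s).trans ?_
  refine (congrArg _ (adj_app a φ U s).symm).trans ?_
  exact (ppMap_app k a a' h U _).symm

theorem adj_sub (φ ψ : (Scheme.Modules.pullback a).obj G ⟶ (Scheme.Modules.pullback a).obj E) :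
    adj a (φ - ψ) = adj a φ - adj a ψ := by
  ext U s
  refine (adj_app a _ U s).trans ?_
  change _ = (adj a φ).app U s - (adj a ψ).app U s
  rw [adj_app, adj_app]
  rfl

end Groth.Agent.PerfB.PushPull
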