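import Groth.Agent.PerfB.FiltSec
import Groth.Agent.PerfB.PushPull
import Groth.Agent.CohqA.FinSec
import Groth.Agent.Desc.FPSections
import Mathlib.LinearAlgebra.TensorProduct.Vanishing
import Mathlib.CategoryTheory.Limits.Cones

/-!
# Sections of pullbacks to a cofiltered limit of schemes affine over a base come from a stage
-/

set_option autoImplicit false
universe u v w
open CategoryTheory CategoryTheory.Limits AlgebraicGeometry Opposite TopologicalSpace
open scoped TensorProduct

namespace Groth.Agent.PerfB.HomLim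

open Groth.Agent.Flat2F.BCSec Groth.Agent.VarietyB.PullSec PushPull FiltSec

section Algebra

variable {R A M Q : Type*} [CommRing R] [CommRing A] [Algebra R A] [AddCommGroup M] [Module R M]
  [AddCommGroup Q] [Module R Q] [Module A Q] [IsScalarTower R A Q]

theorem vanish (f : M →ₗ[R] Q) (hf : IsBaseChange A f) {n : ℕ} (m : Fin n → M)
    (hm : Submodule.span R (Set.range m) = ⊤) (r : Fin n → A) (h : ∑ i, r i • f (m i) = 0) :
    TensorProduct.VanishesTrivially R m r := by
  refine TensorProduct.vanishesTrivially_of_sum_tmul_eq_zero R hm ?_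
  apply (TensorProduct.comm R M A).injective
  apply hf.equiv.injective
  rw [map_zero, map_zero, ← h]
  simp [map_sum]

end Algebra

section Sec

variable {X Y : Scheme.{u}} (q : X ⟶ Y) {E : Y.Modules}

theorem vanish_sec (hE : Coh.IsQCoh E) {V : Y.Opens} {W : X.Opens} (e : W ≤ q ⁻¹ᵁ V)
    (hV : IsAffineOpen V) (hW : IsAffineOpen W) {n : ℕ} (m : Fin n → Γ(E, V))
    (hm : Submodule.span Γ(Y, V) (Set.range m) = ⊤) (r : Fin n → Γ(X, W))
    (h : ∑ i, r i • sec q E e (m i) = 0) :
    ∃ (k : ℕ) (a : Fin n → Fin k → Γ(Y, V)) (y : Fin k → Γ(X, W)),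
      (∀ i, r i = ∑ j, q.appLE V W e (a i j) * y j) ∧ ∀ j, ∑ i, a i j • m i = 0 := by
  let j1 : Algebra Γ(Y, V) Γ(X, W) := (q.appLE V W e).hom.toAlgebra
  let j2 := secModule q E e
  have j3 : IsScalarTower Γ(Y, V) Γ(X, W) Γ((Scheme.Modules.pullback q).obj E, W) :=
    ⟨fun a b c => by rw [Algebra.smul_def, mul_smul]; rfl⟩
  obtain ⟨k, a, y, h1, h2⟩ := vanish (secₗ q E e) (isBaseChange_secₗ q E e hE hV hW) m hm r h
  refine ⟨k, a, y, fun i => ?_, h2⟩
  rw [h1 i]
  exact Finset.sum_congr rfl fun j _ => Algebra.smul_def _ _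

theorem span_sec' (hE : Coh.IsQCoh E) {V : Y.Opens} {W : X.Opens} (e : W ≤ q ⁻¹ᵁ V)
    (hV : IsAffineOpen V) (hW : IsAffineOpen W) {ι : Type*} (m : ι → Γ(E, V))
    (hm : Submodule.span Γ(Y, V) (Set.range m) = ⊤) :
    Submodule.span Γ(X, W) (Set.range fun i => sec q E e (m i)) = ⊤ := by
  let j1 : Algebra Γ(Y, V) Γ(X, W) := (q.appLE V W e).hom.toAlgebra
  let j2 := secModule q E e
  have j3 : IsScalarTower Γ(Y, V) Γ(X, W) Γ((Scheme.Modules.pullback q).obj E, W) :=
    ⟨fun a b c => by rw [Algebra.smul_def, mul_smul]; rfl⟩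
  have hbc : IsBaseChange Γ(X, W) (secₗ q E e) := isBaseChange_secₗ q E e hE hV hW
  rw [eq_top_iff]
  rintro x -
  induction x using hbc.inductionOn with
  | zero => exact zero_mem _
  | tmul s =>
    have hs : s ∈ Submodule.span Γ(Y, V) (Set.range m) := hm ▸ Submodule.mem_top
    change sec q E e s ∈ _
    induction hs using Submodule.span_induction with
    | mem s hs =>
      obtain ⟨i, rfl⟩ := hs
      exact Submodule.subset_span ⟨i, rfl⟩
    | zero => rw [map_zero]; exact zero_mem _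
    | add a b _ _ ha hb => rw [map_add]; exact add_mem ha hb
    | smul r a _ ha => rw [sec_smul]; exact Submodule.smul_mem _ _ ha
  | smul s n hn => exact Submodule.smul_mem _ _ hn
  | add n₁ n₂ h1 h2 => exact add_mem h1 h2

end Sec

variable {Y : Scheme.{u}} {J : Type v} [Category.{w} J] (Z : Jᵒᵖ ⥤ Over Y)

/-- the stages -/
noncomputable abbrev st (j : J) : Scheme.{u} := (Z.obj (op j)).left

/-- the structure morphism of a stage -/
noncomputable abbrev pr (j : J) : st Z j ⟶ Y := (Z.obj (op j)).hom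

/-- the transition morphisms -/
noncomputable abbrev tt {j k : J} (f : j ⟶ k) : st Z k ⟶ st Z j := (Z.map f.op).left

theorem tt_pr {j k : J} (f : j ⟶ k) : tt Z f ≫ pr Z j = pr Z k := Over.w (Z.map f.op)

theorem tt_comp {i j k : J} (f : i ⟶ j) (g : j ⟶ k) : tt Z g ≫ tt Z f = tt Z (f ≫ g) := by
  rw [tt, tt, tt, ← Over.comp_left, ← Z.map_comp]
  rfl

variable {Z} (c : Cone Z)

/-- the projections from the cone point -/
noncomputable abbrev qq (j : J) : c.pt.left ⟶ st Z j := (c.π.app (op j)).left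

theorem qq_pr (j : J) : qq c j ≫ pr Z j = c.pt.hom := Over.w (c.π.app (op j))

theorem qq_tt {j k : J} (f : j ⟶ k) : qq c k ≫ tt Z f = qq c j := by
  rw [qq, tt, ← Over.comp_left, c.w f.op]

/-- The functions on the cone point are the colimit of the functions on the stages, over affine opens of `Y`,
and everything is affine over `Y`. -/
structure IsLim : Prop where
  affine : ∀ j, IsAffineHom (pr Z j)
  affine' : IsAffineHom c.pt.hom
  surj : ∀ (V : Y.Opens), IsAffineOpen V → ∀ r : Γ(c.pt.left, c.pt.hom ⁻¹ᵁ V),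
    ∃ (j : J) (r' : Γ(st Z j, pr Z j ⁻¹ᵁ V)),
      (qq c j).appLE _ _ (preimage_le (qq_pr c j) V) r' = r
  inj : ∀ (V : Y.Opens), IsAffineOpen V → ∀ (j : J) (r : Γ(st Z j, pr Z j ⁻¹ᵁ V)),
    (qq c j).appLE _ _ (preimage_le (qq_pr c j) V) r = 0 →
      ∃ (k : J) (f : j ⟶ k), (tt Z f).appLE _ _ (preimage_le (tt_pr Z f) V) r = 0

variable (Z) in
/-- the functor `j ↦ p_{j*} p_j^* E` -/
noncomputable abbrev T (E : Y.Modules) : J ⥤ Y.Modules := Z.rightOp ⋙ pushPull E

/-- the cocone with vertex `q_* q^* E` -/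
noncomputable abbrev cT (E : Y.Modules) : Cocone (T Z E) :=
  (pushPull E).mapCocone (coconeRightOpOfCone c)

theorem leg_cT (E : Y.Modules) (j : J) :
    leg (cT c E) j = ppMap E (qq c j) (pr Z j) c.pt.hom (qq_pr c j) := rfl

theorem T_map (E : Y.Modules) {j k : J} (f : j ⟶ k) :
    (T Z E).map f = ppMap E (tt Z f) (pr Z j) (pr Z k) (tt_pr Z f) := rfl

end Groth.Agent.PerfB.HomLim
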