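import Groth.Agent.PerfB.HomLimSec
import Groth.Agent.PerfB.FiltHom

/-!
# Homs between pullbacks of modules to a cofiltered limit come from a stage

`Y` a qcqs scheme, `Z : Jᵒᵖ ⥤ Over Y` a cofiltered system of `Y`-affine schemes, `c` a cone over it with
`Y`-affine point, which is a limit in the elementary sense `IsLim c` (functions come from a stage, functions
dying in the limit die at a stage). Modules `G`, `E` on `Y`, `G` finitely presented, `E` quasi-coherent of
finite type: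
* `exists_pull_eq`: homs `p_j^* G ⟶ p_j^* E` equal on the limit are equal at a later stage;
* `exists_pull_lift`: homs on the limit come from a stage;
* `exists_iso_lift`: isomorphisms on the limit come from a stage.
-/

set_option autoImplicit false
universe u v w
open CategoryTheory CategoryTheory.Limits AlgebraicGeometry Opposite TopologicalSpace

namespace Groth.Agent.PerfB.HomLim

open Groth.Agent.Flat2F.BCSec Groth.Agent.VarietyB.PullSec PushPull FiltSec

variable {Y : Scheme.{u}} {J : Type v} [Category.{w} J] [IsFiltered J] {Z : Jᵒᵖ ⥤ Over Y}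
  {c : Cone Z} (hc : IsLim c) {G E F : Y.Modules}

/-- Pullback of homs between pullbacks from stage `j` to stage `k`. -/
noncomputable abbrev pullT (Z : Jᵒᵖ ⥤ Over Y) {j k : J} (f : j ⟶ k)
    (φ : (Scheme.Modules.pullback (pr Z j)).obj G ⟶ (Scheme.Modules.pullback (pr Z j)).obj E) :
    (Scheme.Modules.pullback (pr Z k)).obj G ⟶ (Scheme.Modules.pullback (pr Z k)).obj E :=
  pull (tt Z f) _ _ (tt_pr Z f) φ

/-- Pullback of homs between pullbacks from stage `j` to the limit. -/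
noncomputable abbrev pullQ (c : Cone Z) (j : J)
    (φ : (Scheme.Modules.pullback (pr Z j)).obj G ⟶ (Scheme.Modules.pullback (pr Z j)).obj E) :
    (Scheme.Modules.pullback c.pt.hom).obj G ⟶ (Scheme.Modules.pullback c.pt.hom).obj E :=
  pull (qq c j) _ _ (qq_pr c j) φ

theorem pull_pull' {X W W' W'' : Scheme.{u}} {E G : X.Modules} {k : W' ⟶ W} {a : W ⟶ X} {a' : W' ⟶ X}
    {h : k ≫ a = a'} {k' : W'' ⟶ W'} {a'' : W'' ⟶ X} {h' : k' ≫ a' = a''} {k'' : W'' ⟶ W}
    (w : k' ≫ k = k'') {h'' : k'' ≫ a = a''}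
    (φ : (Scheme.Modules.pullback a).obj G ⟶ (Scheme.Modules.pullback a).obj E) :
    pull k' a' a'' h' (pull k a a' h φ) = pull k'' a a'' h'' φ := by
  subst w
  exact pull_pull _ _ _ _ _ _ _ _

omit [IsFiltered J] in
theorem pullQ_pullT {j k : J} (f : j ⟶ k)
    (φ : (Scheme.Modules.pullback (pr Z j)).obj G ⟶ (Scheme.Modules.pullback (pr Z j)).obj E) :
    pullQ c k (pullT Z f φ) = pullQ c j φ := pull_pull' (qq_tt c f) _

omit [IsFiltered J] in
theorem pullT_pullT {i j k : J} (f : i ⟶ j) (g : j ⟶ k)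
    (φ : (Scheme.Modules.pullback (pr Z i)).obj G ⟶ (Scheme.Modules.pullback (pr Z i)).obj E) :
    pullT Z g (pullT Z f φ) = pullT Z (f ≫ g) φ := pull_pull' (tt_comp Z f g) _

omit [IsFiltered J] in
theorem pullT_id {j k : J} (f : j ⟶ k) :
    pullT Z f (𝟙 ((Scheme.Modules.pullback (pr Z j)).obj G)) = 𝟙 _ := pull_id _ _ _ _

omit [IsFiltered J] in
theorem pullQ_id (j : J) :
    pullQ c j (𝟙 ((Scheme.Modules.pullback (pr Z j)).obj G)) = 𝟙 _ := pull_id _ _ _ _

omit [IsFiltered J] in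
theorem pullT_comp {j k : J} (f : j ⟶ k)
    (φ : (Scheme.Modules.pullback (pr Z j)).obj G ⟶ (Scheme.Modules.pullback (pr Z j)).obj E)
    (ψ : (Scheme.Modules.pullback (pr Z j)).obj E ⟶ (Scheme.Modules.pullback (pr Z j)).obj F) :
    pullT Z f (φ ≫ ψ) = pullT Z f φ ≫ pullT Z f ψ := pull_comp _ _ _ _ _ _

omit [IsFiltered J] in
theorem pullQ_comp (j : J)
    (φ : (Scheme.Modules.pullback (pr Z j)).obj G ⟶ (Scheme.Modules.pullback (pr Z j)).obj E)
    (ψ : (Scheme.Modules.pullback (pr Z j)).obj E ⟶ (Scheme.Modules.pullback (pr Z j)).obj F) :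
    pullQ c j (φ ≫ ψ) = pullQ c j φ ≫ pullQ c j ψ := pull_comp _ _ _ _ _ _

section

variable [CompactSpace Y] (hG : CohB1.IsFP G) (hE : Coh.IsQCoh E)
  (hE' : SheafOfModules.IsFiniteType (R := Y.ringCatSheaf) E)

include hc hG hE hE' in
/-- Homs between pullbacks which agree on the limit agree at a later stage. -/
theorem exists_pull_eq (j : J)
    (φ ψ : (Scheme.Modules.pullback (pr Z j)).obj G ⟶ (Scheme.Modules.pullback (pr Z j)).obj E)
    (h : pullQ c j φ = pullQ c j ψ) : ∃ (k : J) (f : j ⟶ k), pullT Z f φ = pullT Z f ψ := by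
  have h1 : (adj (pr Z j) φ - adj (pr Z j) ψ) ≫ leg (cT c E) j = 0 := by
    have h2 := congrArg (adj c.pt.hom) h
    rw [adj_pull, adj_pull] at h2
    rw [Preadditive.sub_comp]
    exact sub_eq_zero.mpr h2
  obtain ⟨k, f, hf⟩ := exists_hom_zero (c := cT c E) G hG
    (fun V hV => injAt_T hc hE hE' hV) j _ h1
  refine ⟨k, f, adj_injective _ ?_⟩
  rw [adj_pull, adj_pull]
  have h3 : (adj (pr Z j) φ - adj (pr Z j) ψ) ≫ ppMap E (tt Z f) _ _ (tt_pr Z f) = 0 := hf
  rw [Preadditive.sub_comp] at h3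
  exact sub_eq_zero.mp h3

variable [QuasiSeparatedSpace Y]

include hc hG hE hE' in
/-- Homs between pullbacks on the limit come from a stage. -/
theorem exists_pull_lift
    (φ : (Scheme.Modules.pullback c.pt.hom).obj G ⟶ (Scheme.Modules.pullback c.pt.hom).obj E) :
    ∃ (j : J) (ψ : (Scheme.Modules.pullback (pr Z j)).obj G ⟶ (Scheme.Modules.pullback (pr Z j)).obj E),
      pullQ c j ψ = φ := by
  obtain ⟨j, ψ₀, h⟩ := exists_hom_lift (c := cT c E) G hG (fun V hV => injAt_T hc hE hE' hV)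
    (fun V hV => surjAt_T hc hE hV) (adj c.pt.hom φ)
  obtain ⟨ψ, rfl⟩ := adj_surjective (pr Z j) ψ₀
  refine ⟨j, ψ, adj_injective _ ?_⟩
  rw [adj_pull]
  exact h

include hc hG hE hE' in
theorem exists_pull_lift' (i : J)
    (φ : (Scheme.Modules.pullback c.pt.hom).obj G ⟶ (Scheme.Modules.pullback c.pt.hom).obj E) :
    ∃ (j : J) (_ : i ⟶ j)
      (ψ : (Scheme.Modules.pullback (pr Z j)).obj G ⟶ (Scheme.Modules.pullback (pr Z j)).obj E),
      pullQ c j ψ = φ := by
  obtain ⟨j, ψ, h⟩ := exists_pull_lift hc hG hE hE' φ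
  exact ⟨IsFiltered.max i j, IsFiltered.leftToMax i j, pullT Z (IsFiltered.rightToMax i j) ψ, by
    rw [pullQ_pullT, h]⟩

end

variable [CompactSpace Y] [QuasiSeparatedSpace Y]

include hc in
/-- Isomorphisms between pullbacks on the limit come from a stage (above a given one). -/
theorem exists_iso_lift' (hG : CohB1.IsFP G) (hE : CohB1.IsFP E) (i : J)
    (e : (Scheme.Modules.pullback c.pt.hom).obj G ≅ (Scheme.Modules.pullback c.pt.hom).obj E) :
    ∃ (j : J) (_ : i ⟶ j)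
      (e' : (Scheme.Modules.pullback (pr Z j)).obj G ≅ (Scheme.Modules.pullback (pr Z j)).obj E),
      pullQ c j e'.hom = e.hom := by
  have hG0 := Models2.FPCoh.isQCoh_of_isFP hG
  have hE0 := Models2.FPCoh.isQCoh_of_isFP hE
  have hG1 := Models2.FPCoh.isFT_of_isFP hG
  have hE1 := Models2.FPCoh.isFT_of_isFP hE
  obtain ⟨j, a, φ, hφ⟩ := exists_pull_lift' hc hG hE0 hE1 i e.hom
  obtain ⟨k, b, ψ, hψ⟩ := exists_pull_lift' hc hE hG0 hG1 j e.inv
  have hφ' : pullQ c k (pullT Z b φ) = e.hom := by rw [pullQ_pullT, hφ]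
  obtain ⟨l, f, hl⟩ := exists_pull_eq hc hG hG0 hG1 k (pullT Z b φ ≫ ψ) (𝟙 _) (by
    rw [pullQ_comp, pullQ_id, hφ', hψ, Iso.hom_inv_id])
  obtain ⟨m, g, hm⟩ := exists_pull_eq hc hE hE0 hE1 l (pullT Z f ψ ≫ pullT Z f (pullT Z b φ)) (𝟙 _) (by
    rw [pullQ_comp, pullQ_id, pullQ_pullT, pullQ_pullT, hφ', hψ, Iso.inv_hom_id])
  refine ⟨m, a ≫ b ≫ f ≫ g, ⟨pullT Z (f ≫ g) (pullT Z b φ), pullT Z (f ≫ g) ψ, ?_, ?_⟩, ?_⟩
  · rw [← pullT_pullT, ← pullT_pullT, ← pullT_comp, ← pullT_comp, hl, pullT_id, pullT_id]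
  · rw [← pullT_pullT, ← pullT_pullT, ← pullT_comp, hm, pullT_id]
  · change pullQ c m (pullT Z (f ≫ g) (pullT Z b φ)) = _
    rw [pullQ_pullT, hφ']

include hc in
/-- Isomorphisms between pullbacks on the limit come from a stage. -/
theorem exists_iso_lift (hG : CohB1.IsFP G) (hE : CohB1.IsFP E)
    (e : (Scheme.Modules.pullback c.pt.hom).obj G ≅ (Scheme.Modules.pullback c.pt.hom).obj E) :
    ∃ (j : J) (e' : (Scheme.Modules.pullback (pr Z j)).obj G ≅ (Scheme.Modules.pullback (pr Z j)).obj E),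
      pullQ c j e'.hom = e.hom := by
  obtain ⟨i⟩ := IsFiltered.nonempty (C := J)
  obtain ⟨j, _, e', h⟩ := exists_iso_lift' hc hG hE i e
  exact ⟨j, e', h⟩

end Groth.Agent.PerfB.HomLim
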