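import Groth.Agent.PerfB.HomLimSch
import Groth.Agent.Desc.FinLocFreeSections
import Groth.Agent.FormalA.PullbackQC

/-!
# Finite local freeness descends from the limit to a stage
-/

set_option autoImplicit false
universe u v w
open CategoryTheory CategoryTheory.Limits AlgebraicGeometry Opposite TopologicalSpace
open scoped TensorProduct

namespace Groth.Agent.PerfB.HomLim

open Groth.Agent.Flat2F.BCSec Groth.Agent.VarietyB.PullSec PushPull FiltSec

section Algebra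

variable {R A M Q : Type*} [CommRing R] [CommRing A] [Algebra R A] [AddCommGroup M] [Module R M]
  [AddCommGroup Q] [Module R Q] [Module A Q] [IsScalarTower R A Q]

/-- the standard generators of a presented module -/
noncomputable def gen {n : ℕ} {K : Submodule R (Fin n → R)} (e : M ≃ₗ[R] (Fin n → R) ⧸ K) (i : Fin n) : M :=
  e.symm (K.mkQ (Pi.single i 1))

theorem sum_gen {n : ℕ} {K : Submodule R (Fin n → R)} (e : M ≃ₗ[R] (Fin n → R) ⧸ K) (x : Fin n → R) :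
    ∑ i, x i • gen e i = e.symm (K.mkQ x) := by
  classical
  simp only [gen, ← map_smul, ← map_sum]
  congr 2
  ext j
  simp [Finset.sum_apply, Pi.single_apply]

theorem span_gen {n : ℕ} {K : Submodule R (Fin n → R)} (e : M ≃ₗ[R] (Fin n → R) ⧸ K) :
    Submodule.span R (Set.range (gen e)) = ⊤ := by
  rw [eq_top_iff]
  rintro m -
  obtain ⟨x, hx⟩ := K.mkQ_surjective (e m)
  rw [← e.symm_apply_apply m, ← hx, ← sum_gen]
  exact Submodule.sum_mem _ fun i _ => Submodule.smul_mem _ _ (Submodule.subset_span ⟨i, rfl⟩)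

theorem projective_of_matrix (f : M →ₗ[R] Q) (hf : IsBaseChange A f) {n b : ℕ}
    {K : Submodule R (Fin n → R)} (e : M ≃ₗ[R] (Fin n → R) ⧸ K) (κ : Fin b → Fin n → R)
    (hκ : Submodule.span R (Set.range κ) = K) (S : Fin n → Fin n → A)
    (h1 : ∀ l k, ∑ i, algebraMap R A (κ l i) * S i k = 0)
    (h2 : ∀ i, ∑ k, S i k • f (gen e k) = f (gen e i)) : Module.Projective A Q := by
  classical
  let τ : (Fin n → R) →ₗ[R] (Fin n → A) := Fintype.linearCombination R S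
  have hτ : K ≤ LinearMap.ker τ := by
    rw [← hκ, Submodule.span_le]
    rintro _ ⟨l, rfl⟩
    change τ (κ l) = 0
    ext k
    have := h1 l k
    simp only [τ, Fintype.linearCombination_apply, Finset.sum_apply, Pi.smul_apply, Pi.zero_apply]
    rw [← this]
    exact Finset.sum_congr rfl fun i _ => Algebra.smul_def _ _
  let τ' : M →ₗ[R] (Fin n → A) := (K.liftQ τ hτ).comp e.toLinearMap
  have hτ' : ∀ i, τ' (gen e i) = S i := by
    intro i
    change K.liftQ τ hτ (e (e.symm (K.mkQ (Pi.single i 1)))) = _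
    rw [LinearEquiv.apply_symm_apply]
    change τ (Pi.single i 1) = _
    simp [τ]
  let σ : Q →ₗ[A] (Fin n → A) := hf.lift τ'
  let π : (Fin n → A) →ₗ[A] Q := Fintype.linearCombination A (fun k => f (gen e k))
  have h3 : (π.restrictScalars R).comp ((σ.restrictScalars R).comp f) = f := by
    refine LinearMap.ext_on_range (span_gen e) fun i => ?_
    change π (σ (f (gen e i))) = f (gen e i)
    rw [show σ (f (gen e i)) = τ' (gen e i) from hf.lift_eq _ _, hτ', ← h2 i]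
    rfl
  refine Module.Projective.of_split σ π ?_
  refine hf.algHom_ext _ _ fun m => ?_
  exact congr($h3 m)

theorem exists_matrix (f : M →ₗ[R] Q) (hf : IsBaseChange A f) {n b : ℕ}
    {K : Submodule R (Fin n → R)} (e : M ≃ₗ[R] (Fin n → R) ⧸ K) (κ : Fin b → Fin n → R)
    (hκ : Submodule.span R (Set.range κ) = K) (hQ : Module.Projective A Q) :
    ∃ S : Fin n → Fin n → A, (∀ l k, ∑ i, algebraMap R A (κ l i) * S i k = 0) ∧
      ∀ i, ∑ k, S i k • f (gen e k) = f (gen e i) := by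
  classical
  let π : (Fin n → A) →ₗ[A] Q := Fintype.linearCombination A (fun k => f (gen e k))
  have hπ : Function.Surjective π := by
    intro q
    induction q using hf.inductionOn with
    | zero => exact ⟨0, map_zero _⟩
    | tmul m =>
      obtain ⟨x, hx⟩ := K.mkQ_surjective (e m)
      refine ⟨fun i => algebraMap R A (x i), ?_⟩
      rw [← e.symm_apply_apply m, ← hx, ← sum_gen, map_sum]
      simp [π, Fintype.linearCombination_apply]
    | smul a q hq =>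
      obtain ⟨x, rfl⟩ := hq
      exact ⟨a • x, map_smul _ _ _⟩
    | add q q' hq hq' =>
      obtain ⟨x, rfl⟩ := hq
      obtain ⟨x', rfl⟩ := hq'
      exact ⟨x + x', map_add _ _ _⟩
  obtain ⟨σ, hσ⟩ := Module.projective_lifting_property π LinearMap.id hπ
  refine ⟨fun i => σ (f (gen e i)), fun l k => ?_, fun i => ?_⟩
  · have h0 : ∑ i, κ l i • gen e i = 0 := by
      rw [sum_gen, show K.mkQ (κ l) = 0 from (Submodule.Quotient.mk_eq_zero K).mpr
        (hκ ▸ Submodule.subset_span ⟨l, rfl⟩), map_zero]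
    have h1 : ∑ i, algebraMap R A (κ l i) • σ (f (gen e i)) = 0 := by
      simp only [algebraMap_smul]
      have h2 : ∑ i, κ l i • σ (f (gen e i)) = (σ.restrictScalars R) (f (∑ i, κ l i • gen e i)) := by
        rw [map_sum, map_sum]
        refine Finset.sum_congr rfl fun i _ => ?_
        rw [map_smul, map_smul]
        rfl
      rw [h2, h0, map_zero, map_zero]
    have h2 := congrFun h1 k
    rw [Finset.sum_apply] at h2
    exact h2
  · exact congr($hσ (f (gen e i)))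

end Algebra

section Sec

variable {X Y : Scheme.{u}} (q : X ⟶ Y) {E : Y.Modules}

theorem projective_sec (hE : Coh.IsQCoh E) {V : Y.Opens} {W : X.Opens} (h : W ≤ q ⁻¹ᵁ V)
    (hV : IsAffineOpen V) (hW : IsAffineOpen W) {n b : ℕ} {K : Submodule Γ(Y, V) (Fin n → Γ(Y, V))}
    (e : Γ(E, V) ≃ₗ[Γ(Y, V)] (Fin n → Γ(Y, V)) ⧸ K) (κ : Fin b → Fin n → Γ(Y, V))
    (hκ : Submodule.span Γ(Y, V) (Set.range κ) = K) (S : Fin n → Fin n → Γ(X, W))
    (h1 : ∀ l k, ∑ i, q.appLE V W h (κ l i) * S i k = 0)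
    (h2 : ∀ i, ∑ k, S i k • sec q E h (gen e k) = sec q E h (gen e i)) :
    Module.Projective Γ(X, W) Γ((Scheme.Modules.pullback q).obj E, W) := by
  let j1 : Algebra Γ(Y, V) Γ(X, W) := (q.appLE V W h).hom.toAlgebra
  let j2 := secModule q E h
  have j3 : IsScalarTower Γ(Y, V) Γ(X, W) Γ((Scheme.Modules.pullback q).obj E, W) :=
    ⟨fun a b c => by rw [Algebra.smul_def, mul_smul]; rfl⟩
  exact projective_of_matrix (secₗ q E h) (isBaseChange_secₗ q E h hE hV hW) e κ hκ S h1 h2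

theorem exists_matrix_sec (hE : Coh.IsQCoh E) {V : Y.Opens} {W : X.Opens} (h : W ≤ q ⁻¹ᵁ V)
    (hV : IsAffineOpen V) (hW : IsAffineOpen W) {n b : ℕ} {K : Submodule Γ(Y, V) (Fin n → Γ(Y, V))}
    (e : Γ(E, V) ≃ₗ[Γ(Y, V)] (Fin n → Γ(Y, V)) ⧸ K) (κ : Fin b → Fin n → Γ(Y, V))
    (hκ : Submodule.span Γ(Y, V) (Set.range κ) = K)
    (hQ : Module.Projective Γ(X, W) Γ((Scheme.Modules.pullback q).obj E, W)) :
    ∃ S : Fin n → Fin n → Γ(X, W), (∀ l k, ∑ i, q.appLE V W h (κ l i) * S i k = 0) ∧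
      ∀ i, ∑ k, S i k • sec q E h (gen e k) = sec q E h (gen e i) := by
  let j1 : Algebra Γ(Y, V) Γ(X, W) := (q.appLE V W h).hom.toAlgebra
  let j2 := secModule q E h
  have j3 : IsScalarTower Γ(Y, V) Γ(X, W) Γ((Scheme.Modules.pullback q).obj E, W) :=
    ⟨fun a b c => by rw [Algebra.smul_def, mul_smul]; rfl⟩
  exact exists_matrix (secₗ q E h) (isBaseChange_secₗ q E h hE hV hW) e κ hκ hQ

end Sec

variable {Y : Scheme.{u}} {J : Type v} [Category.{w} J] [IsFiltered J] {Z : Jᵒᵖ ⥤ Over Y}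
  {c : Cone Z} (hc : IsLim c) {E : Y.Modules}

include hc in
theorem exists_tr_tt_finite (hE : Coh.IsQCoh E) {V : Y.Opens} (hV : IsAffineOpen V)
    [Module.Finite Γ(Y, V) Γ(E, V)] (j : J) {ι : Type*} [Finite ι]
    (t : ι → Γ((Scheme.Modules.pullback (pr Z j)).obj E, pr Z j ⁻¹ᵁ V))
    (ht : ∀ i, tr (qq c j) _ _ (qq_pr c j) E (preimage_le (qq_pr c j) V) (t i) = 0) :
    ∃ (k : J) (f : j ⟶ k), ∀ i, tr (tt Z f) _ _ (tt_pr Z f) E (preimage_le (tt_pr Z f) V) (t i) = 0 := by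
  choose k f hf using fun i => exists_tr_tt hc hE hV j (t i) (ht i)
  obtain ⟨l, g, a, H⟩ := exists_common' j k f
  refine ⟨l, g, fun i => ?_⟩
  have h1 := tr_tt_tt (Z := Z) (E := E) V (f i) (a i) (t i)
  rw [hf, map_zero] at h1
  have h2 : ∀ (g' : j ⟶ l) (_ : g' = g), tr (tt Z g') _ _ (tt_pr Z g') E (preimage_le (tt_pr Z g') V) (t i) = 0 →
    tr (tt Z g) _ _ (tt_pr Z g) E (preimage_le (tt_pr Z g) V) (t i) = 0 := by
    rintro _ rfl h
    exact h
  exact h2 _ (H i) h1.symm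

include hc in
/-- If the sections of the pullback of `E` to the limit over `V` are projective, then so are the sections of the
pullback to all sufficiently late stages. -/
theorem exists_projective_stage (hE : Coh.IsQCoh E) {V : Y.Opens} (hV : IsAffineOpen V)
    [Module.FinitePresentation Γ(Y, V) Γ(E, V)]
    (hp : Module.Projective Γ(c.pt.left, c.pt.hom ⁻¹ᵁ V)
      Γ((Scheme.Modules.pullback c.pt.hom).obj E, c.pt.hom ⁻¹ᵁ V)) (i₀ : J) :
    ∃ (j : J) (_ : i₀ ⟶ j), ∀ (k : J) (_ : j ⟶ k), Module.Projective Γ(st Z k, pr Z k ⁻¹ᵁ V)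
      Γ((Scheme.Modules.pullback (pr Z k)).obj E, pr Z k ⁻¹ᵁ V) := by
  have := hc.affine'
  have hW : IsAffineOpen (c.pt.hom ⁻¹ᵁ V) := hV.preimage _
  obtain ⟨n, K, e, hK⟩ := Module.FinitePresentation.exists_fin Γ(Y, V) Γ(E, V)
  obtain ⟨b, κ, hκ⟩ := Submodule.fg_iff_exists_fin_generating_family.mp hK
  obtain ⟨S, hS1, hS2⟩ := exists_matrix_sec c.pt.hom hE (le_refl (c.pt.hom ⁻¹ᵁ V)) hV hW e κ hκ hp
  obtain ⟨j₁, f₁, S₁, h₁⟩ := exists_lift hc hV i₀ (fun p : Fin n × Fin n => S p.1 p.2)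
  obtain ⟨j₂, f₂, h₂⟩ := exists_kill hc hV j₁ (fun p : Fin b × Fin n =>
    ∑ i, (pr Z j₁).appLE V _ le_rfl (κ p.1 i) * S₁ (i, p.2)) (fun p => by
      rw [map_sum, ← hS1 p.1 p.2]
      refine Finset.sum_congr rfl fun i _ => ?_
      rw [map_mul, h₁, appLE_qq_pr])
  obtain ⟨j₃, f₃, h₃⟩ := exists_tr_tt_finite hc hE hV j₁ (fun i : Fin n =>
    ∑ k, S₁ (i, k) • sec (pr Z j₁) E (le_refl (pr Z j₁ ⁻¹ᵁ V)) (gen e k) -
      sec (pr Z j₁) E (le_refl (pr Z j₁ ⁻¹ᵁ V)) (gen e i)) (fun i => by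
      rw [map_sub, map_sum, sub_eq_zero, tr_sec _ _ _ _ _ _ _ (le_refl (c.pt.hom ⁻¹ᵁ V)), ← hS2 i]
      refine Finset.sum_congr rfl fun k _ => ?_
      rw [tr_smul, h₁, tr_sec _ _ _ _ _ _ _ (le_refl (c.pt.hom ⁻¹ᵁ V))])
  obtain ⟨l', g₂', g₃', hg'⟩ : ∃ (l : J) (g₂ : j₂ ⟶ l) (g₃ : j₃ ⟶ l), f₂ ≫ g₂ = f₃ ≫ g₃ :=
    ⟨_, _, _, (IsFiltered.span f₂ f₃).choose_spec.choose_spec.choose_spec⟩
  refine ⟨l', f₁ ≫ f₂ ≫ g₂', fun l g => ?_⟩
  obtain ⟨g₂, g₃, hg⟩ : ∃ (g₂ : j₂ ⟶ l) (g₃ : j₃ ⟶ l), f₂ ≫ g₂ = f₃ ≫ g₃ :=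
    ⟨g₂' ≫ g, g₃' ≫ g, by rw [reassoc_of% hg']⟩
  have hl : IsAffineHom (pr Z l) := hc.affine l
  refine projective_sec (pr Z l) hE le_rfl hV (hV.preimage _) e κ hκ
    (fun i k => (tt Z (f₂ ≫ g₂)).appLE _ _ (preimage_le (tt_pr Z _) V) (S₁ (i, k))) ?_ ?_
  · intro r k
    have h4 := congrArg ((tt Z g₂).appLE _ _ (preimage_le (tt_pr Z _) V)) (h₂ (r, k))
    rw [map_zero, appLE_tt_tt, map_sum] at h4
    rw [← h4]
    refine Finset.sum_congr rfl fun i _ => ?_
    rw [map_mul, appLE_tt_pr]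
  · intro i
    have h4 := congrArg (tr (tt Z g₃) _ _ (tt_pr Z g₃) E (preimage_le (tt_pr Z g₃) V)) (h₃ i)
    rw [map_zero, tr_tt_tt] at h4
    have h5 : tr (tt Z (f₂ ≫ g₂)) _ _ (tt_pr Z _) E (preimage_le (tt_pr Z _) V)
      (∑ k, S₁ (i, k) • sec (pr Z j₁) E (le_refl (pr Z j₁ ⁻¹ᵁ V)) (gen e k) -
      sec (pr Z j₁) E (le_refl (pr Z j₁ ⁻¹ᵁ V)) (gen e i)) = 0 := by
      rw [← h4]
      congr 2
      rw [hg]
    rw [map_sub, sub_eq_zero, map_sum, tr_sec _ _ _ _ _ _ _ (le_refl (pr Z l ⁻¹ᵁ V))] at h5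
    rw [← h5]
    refine Finset.sum_congr rfl fun k _ => ?_
    rw [tr_smul, tr_sec _ _ _ _ _ _ _ (le_refl (pr Z l ⁻¹ᵁ V))]

theorem exists_finite_affine_cover (Y : Scheme.{u}) [CompactSpace Y] : ∃ S : Set Y.affineOpens,
    S.Finite ∧ ∀ x : Y, ∃ V ∈ S, x ∈ (V : Y.Opens) := by
  obtain ⟨S, hS', hS⟩ := isCompact_and_isOpen_iff_finite_and_eq_biUnion_affineOpens.mp
    ⟨(isCompact_univ : IsCompact (Set.univ : Set Y)), isOpen_univ⟩
  refine ⟨S, hS', fun x => ?_⟩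
  have hx : x ∈ (Set.univ : Set Y) := trivial
  rw [hS] at hx
  simpa using hx

include hc in
/-- If `E` is of finite presentation and its pullback to the limit is finite locally free, so are the pullbacks to
all sufficiently late stages. -/
theorem exists_isFinLocFree_stage [CompactSpace Y] (hE : CohB1.IsFP E)
    (h : FlatMod.IsFinLocFree ((Scheme.Modules.pullback c.pt.hom).obj E)) (i₀ : J) :
    ∃ (j : J) (_ : i₀ ⟶ j), ∀ (k : J) (_ : j ⟶ k),
      FlatMod.IsFinLocFree ((Scheme.Modules.pullback (pr Z k)).obj E) := by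
  have hE0 : Coh.IsQCoh E := Models2.FPCoh.isQCoh_of_isFP hE
  have haff := hc.affine'
  obtain ⟨S, hSf, hS⟩ := exists_finite_affine_cover Y
  have := hSf.to_subtype
  have h1 : ∀ V : S, ∃ (j : J) (_ : i₀ ⟶ j), ∀ (k : J) (_ : j ⟶ k),
      Module.Projective Γ(st Z k, pr Z k ⁻¹ᵁ V.1)
        Γ((Scheme.Modules.pullback (pr Z k)).obj E, pr Z k ⁻¹ᵁ V.1) := by
    intro V
    have hV : IsAffineOpen (V.1 : Y.Opens) := V.1.2
    have := Desc.FPSections.finitePresentation_sections hV hE0 hE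
    have hW : IsAffineOpen (c.pt.hom ⁻¹ᵁ (V.1 : Y.Opens)) := hV.preimage _
    obtain ⟨h2, h3⟩ := (Desc.FinLocFreeSections.isFinLocFree_iff_of_cover
      (isQCoh_pullback c.pt.hom E hE0) (fun _ => True) (fun x => by
        obtain ⟨V, hV, hx, -⟩ := exists_isAffineOpen_mem_and_subset (x := x) (U := ⊤) trivial
        exact ⟨V, trivial, hV, hx⟩)).mp h _ trivial hW
    exact exists_projective_stage hc hE0 hV (Module.Flat.projective_of_finitePresentation) i₀
  choose j f hj using h1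
  obtain ⟨l, g, a, H⟩ := exists_common' i₀ j f
  refine ⟨l, g, fun k b => ?_⟩
  have hk := hc.affine k
  refine (Desc.FinLocFreeSections.isFinLocFree_iff_of_cover
      (isQCoh_pullback (pr Z k) E hE0) (fun W => ∃ V : S, W = pr Z k ⁻¹ᵁ (V.1 : Y.Opens)) (fun x => ?_)).mpr ?_
  · obtain ⟨V, hV, hx⟩ := hS (pr Z k x)
    exact ⟨pr Z k ⁻¹ᵁ V, ⟨⟨V, hV⟩, rfl⟩, V.2.preimage _, hx⟩
  · rintro _ ⟨V, rfl⟩ hV'
    have hV : IsAffineOpen (V.1 : Y.Opens) := V.1.2
    have h2 := hj V k (a V ≫ b)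
    refine ⟨?_, inferInstance⟩
    exact Desc.FPSections.finitePresentation_sections hV' (isQCoh_pullback (pr Z k) E hE0)
      (FormalA.PullbackQC.isFP_pullback _ _ hE)

end Groth.Agent.PerfB.HomLim
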