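import Groth.Agent.PerfB.HomLimMain
import Groth.Agent.Smoothlim.ImmersionStage
import Groth.Agent.CalgA.LimFP

/-!
# `IsLim` for categorical limits; homs of modules over cofiltered limits of schemes
-/

set_option autoImplicit false
universe u v w
open CategoryTheory CategoryTheory.Limits AlgebraicGeometry Opposite TopologicalSpace

namespace Groth.Agent.PerfB.HomLim

open Groth.Agent.Flat2F.BCSec Groth.Agent.VarietyB.PullSec PushPull FiltSec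

section Crit

variable {Y : Scheme.{u}} {K : Type u} [SmallCategory K] [IsCofiltered K] (Z : K ⥤ Over Y)
  (c : Cone Z)

/-- `Z` as a diagram indexed by `(Kᵒᵖ)ᵒᵖ`. -/
noncomputable abbrev Zop : Kᵒᵖᵒᵖ ⥤ Over Y := unopUnop K ⋙ Z

variable {Z} in
/-- The cone over `Zop Z`. -/
noncomputable abbrev cop : Cone (Zop Z) := c.whisker (unopUnop K)

theorem appLE_eq_zero_iff {X W : Scheme.{u}} {q : X ⟶ W} {p : W ⟶ Y} {a : X ⟶ Y} (h : q ≫ p = a)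
    (V : Y.Opens) (r : Γ(W, p ⁻¹ᵁ V)) :
    q.appLE (p ⁻¹ᵁ V) (a ⁻¹ᵁ V) (preimage_le h V) r = 0 ↔ q.app (p ⁻¹ᵁ V) r = 0 := by
  subst h
  exact Eq.congr_left congr($(Scheme.Hom.appLE_eq_app q) r)

theorem appLE_surj {X W W' : Scheme.{u}} {q : X ⟶ W} {p : W ⟶ Y} {b : W ⟶ W'} {p' : W' ⟶ Y} {a : X ⟶ Y}
    (h : q ≫ p = a) (h' : b ≫ p' = p) (V : Y.Opens)
    (t : Γ(W, b ⁻¹ᵁ (p' ⁻¹ᵁ V))) (e : a ⁻¹ᵁ V ≤ q ⁻¹ᵁ b ⁻¹ᵁ p' ⁻¹ᵁ V) :
    ∃ t' : Γ(W, p ⁻¹ᵁ V), q.appLE (p ⁻¹ᵁ V) (a ⁻¹ᵁ V) (preimage_le h V) t' =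
      q.appLE (b ⁻¹ᵁ (p' ⁻¹ᵁ V)) (a ⁻¹ᵁ V) e t := by
  subst h'
  exact ⟨t, rfl⟩

variable {Z c} in
/-- A categorical limit of schemes affine over `Y` is a limit in the elementary sense. -/
theorem isLim_of_isLimit (hc : IsLimit ((Over.forget Y).mapCone c))
    (haff : ∀ k, IsAffineHom (Z.obj k).hom) : IsLim (cop c) := by
  have wZ : ∀ {i j : K} (f : i ⟶ j), (Z.map f).left ≫ (Z.obj j).hom = (Z.obj i).hom :=
    fun f => Over.w _
  have wc : ∀ i : K, (c.π.app i).left ≫ (Z.obj i).hom = c.pt.hom := fun i => Over.w (c.π.app i)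
  have h1 : ∀ {i j : K} (f : i ⟶ j), IsAffineHom ((Z ⋙ Over.forget Y).map f) := by
    intro i j f
    have := haff i
    have := haff j
    have : IsAffineHom ((Z.map f).left ≫ (Z.obj j).hom) := (wZ f).symm ▸ inferInstance
    exact IsAffineHom.of_comp (Z.map f).left (Z.obj j).hom
  have h2 : ∀ i, IsAffineHom (c.π.app i).left := fun i =>
    isAffineHom_π_app (Z ⋙ Over.forget Y) _ hc i
  obtain ⟨k₀⟩ := IsCofiltered.nonempty (C := K)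
  have h3 : IsAffineHom c.pt.hom := by
    have := haff k₀
    have := h2 k₀
    rw [← wc k₀]
    exact MorphismProperty.comp_mem _ _ _ this ‹_›
  refine ⟨fun j => haff j.unop, h3, ?_, ?_⟩
  · intro V hV r
    have := haff k₀
    have hV0 : IsAffineOpen ((Z.obj k₀).hom ⁻¹ᵁ V) := hV.preimage _
    obtain ⟨k, a, t, ht⟩ := Smoothlim.ImmersionStage.exists_appLE_eq' (Z ⋙ Over.forget Y)
      ((Over.forget Y).mapCone c) hc (i := k₀) (W := (Z.obj k₀).hom ⁻¹ᵁ V) hV0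
      (V := c.pt.hom ⁻¹ᵁ V) (by
        change c.pt.hom ⁻¹ᵁ V = (c.π.app k₀).left ⁻¹ᵁ ((Z.obj k₀).hom ⁻¹ᵁ V)
        rw [← wc k₀]
        rfl) r
    have e : c.pt.hom ⁻¹ᵁ V ≤ (c.π.app k).left ⁻¹ᵁ (Z.map a).left ⁻¹ᵁ (Z.obj k₀).hom ⁻¹ᵁ V := by
      rw [← wc k, ← wZ a]
      exact le_rfl
    obtain ⟨t', ht'⟩ := appLE_surj (wc k) (wZ a) V t e
    exact ⟨op k, t', ht'.trans ht⟩
  · intro V hV j r hr
    have := haff j.unop
    have hVj : IsAffineOpen ((Z.obj j.unop).hom ⁻¹ᵁ V) := hV.preimage _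
    obtain ⟨k, f, hf⟩ := exists_app_map_eq_zero_of_isLimit (Z ⋙ Over.forget Y)
      ((Over.forget Y).mapCone c) hc (i := j.unop) (U := (Z.obj j.unop).hom ⁻¹ᵁ V) hVj.isCompact r
      ((appLE_eq_zero_iff (wc j.unop) V r).mp hr)
    exact ⟨op k, f.op, (appLE_eq_zero_iff (wZ f) V r).mpr hf⟩

end Crit

end Groth.Agent.PerfB.HomLim
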