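import Groth.Agent.PerfB.HomLim

/-!
# Sections of `p_{j*} p_j^* E` over affine opens: the limit is the colimit of the stages
-/

set_option autoImplicit false
universe u v w
open CategoryTheory CategoryTheory.Limits AlgebraicGeometry Opposite TopologicalSpace
open scoped TensorProduct

namespace Groth.Agent.PerfB.HomLim

open Groth.Agent.Flat2F.BCSec Groth.Agent.VarietyB.PullSec PushPull FiltSec

variable {Y : Scheme.{u}} {J : Type v} [Category.{w} J] [IsFiltered J] {Z : Jᵒᵖ ⥤ Over Y}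
  {c : Cone Z} (hc : IsLim c) {E : Y.Modules}

omit [IsFiltered J] in
theorem leg_app (V : Y.Opens) (j : J) (t : Γ((Scheme.Modules.pullback (pr Z j)).obj E, pr Z j ⁻¹ᵁ V)) :
    (show Γ((Scheme.Modules.pullback c.pt.hom).obj E, c.pt.hom ⁻¹ᵁ V) from
      (leg (cT c E) j).app V t) = tr (qq c j) _ _ (qq_pr c j) E (preimage_le (qq_pr c j) V) t :=
  ppMap_app _ _ _ _ V t

omit [IsFiltered J] in
theorem T_app (V : Y.Opens) {j k : J} (f : j ⟶ k)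
    (t : Γ((Scheme.Modules.pullback (pr Z j)).obj E, pr Z j ⁻¹ᵁ V)) :
    (show Γ((Scheme.Modules.pullback (pr Z k)).obj E, pr Z k ⁻¹ᵁ V) from
      ((T Z E).map f).app V t) = tr (tt Z f) _ _ (tt_pr Z f) E (preimage_le (tt_pr Z f) V) t :=
  ppMap_app _ _ _ _ V t

theorem appLE_appLE' {X₁ X₂ X₃ : Scheme.{u}} (f : X₁ ⟶ X₂) (g : X₂ ⟶ X₃) (h : X₁ ⟶ X₃) (w : f ≫ g = h)
    {U : X₃.Opens} {V : X₂.Opens} {W : X₁.Opens} (e₁ : V ≤ g ⁻¹ᵁ U) (e₂ : W ≤ f ⁻¹ᵁ V) (e : W ≤ h ⁻¹ᵁ U)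
    (t : Γ(X₃, U)) : f.appLE V W e₂ (g.appLE U V e₁ t) = h.appLE U W e t := by
  subst w
  rw [← ConcreteCategory.comp_apply, Scheme.Hom.appLE_comp_appLE]

omit [IsFiltered J] in
theorem appLE_tt_qq (V : Y.Opens) {j k : J} (f : j ⟶ k) (r : Γ(st Z j, pr Z j ⁻¹ᵁ V)) :
    (qq c k).appLE _ _ (preimage_le (qq_pr c k) V)
      ((tt Z f).appLE _ _ (preimage_le (tt_pr Z f) V) r) =
        (qq c j).appLE _ _ (preimage_le (qq_pr c j) V) r :=
  appLE_appLE' _ _ _ (qq_tt c f) _ _ _ _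

omit [IsFiltered J] in
theorem appLE_tt_tt (V : Y.Opens) {i j k : J} (f : i ⟶ j) (g : j ⟶ k) (r : Γ(st Z i, pr Z i ⁻¹ᵁ V)) :
    (tt Z g).appLE _ _ (preimage_le (tt_pr Z g) V)
      ((tt Z f).appLE _ _ (preimage_le (tt_pr Z f) V) r) =
        (tt Z (f ≫ g)).appLE _ _ (preimage_le (tt_pr Z (f ≫ g)) V) r :=
  appLE_appLE' _ _ _ (tt_comp Z f g) _ _ _ _

omit [IsFiltered J] in
theorem appLE_tt_pr (V : Y.Opens) {j k : J} (f : j ⟶ k) (r : Γ(Y, V)) :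
    (tt Z f).appLE _ _ (preimage_le (tt_pr Z f) V) ((pr Z j).appLE V _ le_rfl r) =
        (pr Z k).appLE V _ le_rfl r :=
  appLE_appLE' _ _ _ (tt_pr Z f) _ _ _ _

omit [IsFiltered J] in
theorem appLE_qq_pr (V : Y.Opens) (j : J) (r : Γ(Y, V)) :
    (qq c j).appLE _ _ (preimage_le (qq_pr c j) V) ((pr Z j).appLE V _ le_rfl r) =
        c.pt.hom.appLE V _ le_rfl r :=
  appLE_appLE' _ _ _ (qq_pr c j) _ _ _ _

theorem tr_tr' {X W W' W'' : Scheme.{u}} {E : X.Modules} {k : W' ⟶ W} {a : W ⟶ X} {a' : W' ⟶ X}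
    {h : k ≫ a = a'} {k' : W'' ⟶ W'} {a'' : W'' ⟶ X} {h' : k' ≫ a' = a''} {k'' : W'' ⟶ W}
    (w : k' ≫ k = k'') {h'' : k'' ≫ a = a''} {U : W.Opens} {V : W'.Opens} {T : W''.Opens}
    (e : V ≤ k ⁻¹ᵁ U) (e' : T ≤ k' ⁻¹ᵁ V) (e'' : T ≤ k'' ⁻¹ᵁ U)
    (s : Γ((Scheme.Modules.pullback a).obj E, U)) :
    tr k' a' a'' h' E e' (tr k a a' h E e s) = tr k'' a a'' h'' E e'' s := by
  subst w
  exact tr_tr _ _ _ _ _ _ _ _ _ _

omit [IsFiltered J] in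
theorem tr_tt_qq (V : Y.Opens) {j k : J} (f : j ⟶ k)
    (t : Γ((Scheme.Modules.pullback (pr Z j)).obj E, pr Z j ⁻¹ᵁ V)) :
    tr (qq c k) _ _ (qq_pr c k) E (preimage_le (qq_pr c k) V)
      (tr (tt Z f) _ _ (tt_pr Z f) E (preimage_le (tt_pr Z f) V) t) =
    tr (qq c j) _ _ (qq_pr c j) E (preimage_le (qq_pr c j) V) t :=
  tr_tr' (qq_tt c f) _ _ _ _

omit [IsFiltered J] in
theorem tr_tt_tt (V : Y.Opens) {i j k : J} (f : i ⟶ j) (g : j ⟶ k)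
    (t : Γ((Scheme.Modules.pullback (pr Z i)).obj E, pr Z i ⁻¹ᵁ V)) :
    tr (tt Z g) _ _ (tt_pr Z g) E (preimage_le (tt_pr Z g) V)
      (tr (tt Z f) _ _ (tt_pr Z f) E (preimage_le (tt_pr Z f) V) t) =
    tr (tt Z (f ≫ g)) _ _ (tt_pr Z (f ≫ g)) E (preimage_le (tt_pr Z (f ≫ g)) V) t :=
  tr_tr' (tt_comp Z f g) _ _ _ _

include hc in
theorem exists_tr_qq (hE : Coh.IsQCoh E) {V : Y.Opens} (hV : IsAffineOpen V)
    (s : Γ((Scheme.Modules.pullback c.pt.hom).obj E, c.pt.hom ⁻¹ᵁ V)) :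
    ∃ (j : J) (t : Γ((Scheme.Modules.pullback (pr Z j)).obj E, pr Z j ⁻¹ᵁ V)),
      tr (qq c j) _ _ (qq_pr c j) E (preimage_le (qq_pr c j) V) t = s := by
  have := hc.affine'
  have hW : IsAffineOpen (c.pt.hom ⁻¹ᵁ V) := hV.preimage _
  have h1 := span_sec' c.pt.hom hE (le_refl (c.pt.hom ⁻¹ᵁ V)) hV hW (id : Γ(E, V) → Γ(E, V))
    (by simp)
  have h2 : s ∈ Submodule.span Γ(c.pt.left, c.pt.hom ⁻¹ᵁ V)
        (Set.range fun i => sec c.pt.hom E (le_refl (c.pt.hom ⁻¹ᵁ V)) (id i)) := by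
    rw [h1]; exact Submodule.mem_top
  induction h2 using Submodule.span_induction with
  | mem x hx =>
    obtain ⟨m, rfl⟩ := hx
    obtain ⟨j⟩ := IsFiltered.nonempty (C := J)
    exact ⟨j, sec (pr Z j) E (le_refl (pr Z j ⁻¹ᵁ V)) m, tr_sec _ _ _ _ _ _ _ _ _⟩
  | zero =>
    obtain ⟨j⟩ := IsFiltered.nonempty (C := J)
    exact ⟨j, 0, map_zero _⟩
  | add x y _ _ hx hy =>
    obtain ⟨i, t, rfl⟩ := hx
    obtain ⟨j, t', rfl⟩ := hy
    refine ⟨IsFiltered.max i j,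
      tr (tt Z (IsFiltered.leftToMax i j)) _ _ (tt_pr Z _) E (preimage_le (tt_pr Z _) V) t +
      tr (tt Z (IsFiltered.rightToMax i j)) _ _ (tt_pr Z _) E (preimage_le (tt_pr Z _) V) t', ?_⟩
    rw [map_add, tr_tt_qq, tr_tt_qq]
  | smul r x _ hx =>
    obtain ⟨i, t, rfl⟩ := hx
    obtain ⟨j, r', rfl⟩ := hc.surj V hV r
    refine ⟨IsFiltered.max i j,
      (tt Z (IsFiltered.rightToMax i j)).appLE _ _ (preimage_le (tt_pr Z _) V) r' •
      tr (tt Z (IsFiltered.leftToMax i j)) _ _ (tt_pr Z _) E (preimage_le (tt_pr Z _) V) t, ?_⟩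
    rw [tr_smul, tr_tt_qq, appLE_tt_qq]

include hc in
theorem surjAt_T (hE : Coh.IsQCoh E) {V : Y.Opens} (hV : IsAffineOpen V) : SurjAt (cT c E) V := by
  intro s
  obtain ⟨j, t, ht⟩ := exists_tr_qq hc hE hV s
  exact ⟨j, t, (leg_app V j t).trans ht⟩

include hc in
/-- Finitely many functions at a stage dying in the limit die at a common later stage. -/
theorem exists_kill {V : Y.Opens} (hV : IsAffineOpen V) (j : J) {ι : Type*} [Finite ι]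
    (r : ι → Γ(st Z j, pr Z j ⁻¹ᵁ V))
    (h : ∀ i, (qq c j).appLE _ _ (preimage_le (qq_pr c j) V) (r i) = 0) :
    ∃ (k : J) (f : j ⟶ k), ∀ i, (tt Z f).appLE _ _ (preimage_le (tt_pr Z f) V) (r i) = 0 := by
  choose k f hf using fun i => hc.inj V hV j (r i) (h i)
  obtain ⟨l, g, a, H⟩ := exists_common' j k f
  refine ⟨l, g, fun i => ?_⟩
  rw [← H i, ← appLE_tt_tt, hf, map_zero]

include hc in
/-- Finitely many functions on the limit come from a common stage above `j`. -/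
theorem exists_lift {V : Y.Opens} (hV : IsAffineOpen V) (j : J) {ι : Type*} [Finite ι]
    (r : ι → Γ(c.pt.left, c.pt.hom ⁻¹ᵁ V)) :
    ∃ (k : J) (_ : j ⟶ k) (r' : ι → Γ(st Z k, pr Z k ⁻¹ᵁ V)),
      ∀ i, (qq c k).appLE _ _ (preimage_le (qq_pr c k) V) (r' i) = r i := by
  choose j₀ r₀ h₀ using fun i => hc.surj V hV (r i)
  obtain ⟨k, ⟨f⟩⟩ := exists_above (fun o : Option ι => o.elim j j₀)
  refine ⟨k, f none, fun i => (tt Z (f (some i))).appLE _ _ (preimage_le (tt_pr Z _) V) (r₀ i),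
    fun i => ?_⟩
  rw [← h₀]
  exact appLE_tt_qq V _ _

include hc in
theorem exists_tr_tt (hE : Coh.IsQCoh E) {V : Y.Opens} (hV : IsAffineOpen V)
    [Module.Finite Γ(Y, V) Γ(E, V)] (j : J)
    (t : Γ((Scheme.Modules.pullback (pr Z j)).obj E, pr Z j ⁻¹ᵁ V))
    (ht : tr (qq c j) _ _ (qq_pr c j) E (preimage_le (qq_pr c j) V) t = 0) :
    ∃ (k : J) (f : j ⟶ k), tr (tt Z f) _ _ (tt_pr Z f) E (preimage_le (tt_pr Z f) V) t = 0 := by
  have := hc.affine'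
  have := hc.affine j
  have hW : IsAffineOpen (c.pt.hom ⁻¹ᵁ V) := hV.preimage _
  have hWj : IsAffineOpen (pr Z j ⁻¹ᵁ V) := hV.preimage _
  obtain ⟨n, m, hm⟩ := Module.Finite.exists_fin (R := Γ(Y, V)) (M := Γ(E, V))
  have h1 := span_sec' (pr Z j) hE (le_refl (pr Z j ⁻¹ᵁ V)) hV hWj m hm
  obtain ⟨r, hr⟩ := (Submodule.mem_span_range_iff_exists_fun _).mp
    (show t ∈ Submodule.span Γ(st Z j, pr Z j ⁻¹ᵁ V) _ from h1 ▸ Submodule.mem_top)
  have h2 : ∑ i, (qq c j).appLE _ _ (preimage_le (qq_pr c j) V) (r i) •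
      sec c.pt.hom E (le_refl (c.pt.hom ⁻¹ᵁ V)) (m i) = 0 := by
    rw [← ht, ← hr, map_sum]
    refine Finset.sum_congr rfl fun i _ => ?_
    rw [tr_smul, tr_sec _ _ _ _ _ _ _ (le_refl (c.pt.hom ⁻¹ᵁ V))]
  obtain ⟨n', a, y, hry, ha⟩ := vanish_sec c.pt.hom hE (le_refl (c.pt.hom ⁻¹ᵁ V)) hV hW m hm _ h2
  obtain ⟨k, f, y', hy'⟩ := exists_lift hc hV j y
  obtain ⟨l, g, hl⟩ := exists_kill hc hV k (fun i =>
    (tt Z f).appLE _ _ (preimage_le (tt_pr Z f) V) (r i) -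
      ∑ i', (pr Z k).appLE V _ le_rfl (a i i') * y' i') (fun i => by
    rw [map_sub, appLE_tt_qq, hry, map_sum, sub_eq_zero]
    refine Finset.sum_congr rfl fun i' _ => ?_
    rw [map_mul, hy', appLE_qq_pr])
  refine ⟨l, f ≫ g, ?_⟩
  have h3 : ∀ i, (tt Z (f ≫ g)).appLE _ _ (preimage_le (tt_pr Z (f ≫ g)) V) (r i) =
      ∑ i', (pr Z l).appLE V _ le_rfl (a i i') *
        (tt Z g).appLE _ _ (preimage_le (tt_pr Z g) V) (y' i') := by
    intro i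
    have h4 := hl i
    rw [map_sub, sub_eq_zero, appLE_tt_tt, map_sum] at h4
    rw [h4]
    refine Finset.sum_congr rfl fun i' _ => ?_
    rw [map_mul, appLE_tt_pr]
  rw [← hr, map_sum]
  have h5 : ∀ i, tr (tt Z (f ≫ g)) _ _ (tt_pr Z _) E (preimage_le (tt_pr Z _) V)
      (r i • sec (pr Z j) E (le_refl (pr Z j ⁻¹ᵁ V)) (m i)) =
      ∑ i', (tt Z g).appLE _ _ (preimage_le (tt_pr Z g) V) (y' i') •
        sec (pr Z l) E (le_refl (pr Z l ⁻¹ᵁ V)) (a i i' • m i) := by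
    intro i
    rw [tr_smul, tr_sec _ _ _ _ _ _ _ (le_refl (pr Z l ⁻¹ᵁ V)), h3, Finset.sum_smul]
    refine Finset.sum_congr rfl fun i' _ => ?_
    rw [sec_smul, ← mul_smul, mul_comm]
  simp only [h5]
  rw [Finset.sum_comm]
  refine Finset.sum_eq_zero fun i' _ => ?_
  rw [← Finset.smul_sum, ← map_sum, ha, map_zero, smul_zero]

include hc in
theorem injAt_T (hE : Coh.IsQCoh E) (hf : SheafOfModules.IsFiniteType (R := Y.ringCatSheaf) E)
    {V : Y.Opens} (hV : IsAffineOpen V) : InjAt (cT c E) V := by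
  intro j t ht
  have := CohqA.FinSec.finite_sections hV hE hf
  obtain ⟨k, f, hf⟩ := exists_tr_tt hc hE hV j t ((leg_app V j t).symm.trans ht)
  exact ⟨k, f, (T_app V f t).trans hf⟩

end Groth.Agent.PerfB.HomLim
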