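import Mathlib.CategoryTheory.Triangulated.Subcategory
import Mathlib.CategoryTheory.Linear.LinearFunctor
import Mathlib.CategoryTheory.Shift.Linear
import Mathlib.CategoryTheory.Triangulated.Basic
import Mathlib.CategoryTheory.Triangulated.TriangleShift

/-!
# Power torsion of Hom groups in linear pretriangulated categories

`PT g M X`: every morphism `X⟦n⟧ ⟶ M` (`n ∈ ℤ`) is killed by a power of `g`.  For fixed `g, M` this is a
triangulated property of `X`, closed under retracts.
-/

set_option autoImplicit false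
universe v u

open CategoryTheory CategoryTheory.Limits CategoryTheory.Pretriangulated ZeroObject

namespace Groth.Agent.PerfB.PowerTorsion

variable {A : Type*} [CommRing A] {D : Type u} [Category.{v} D] [HasZeroObject D] [HasShift D ℤ]
  [Preadditive D] [∀ n : ℤ, (shiftFunctor D n).Additive] [Pretriangulated D]
  [Linear A D]

/-- every `X⟦n⟧ ⟶ M` is killed by a power of `g`. -/
def PT (g : A) (M : D) : ObjectProperty D :=
  fun X => ∀ (n : ℤ) (φ : X⟦n⟧ ⟶ M), ∃ k : ℕ, g ^ k • φ = 0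

lemma PT.of_retract {g : A} {M X Y : D} (hX : PT g M X) (i : Y ⟶ X) (p : X ⟶ Y)
    (h : i ≫ p = 𝟙 Y) : PT g M Y := by
  intro n φ
  obtain ⟨k, hk⟩ := hX n (p⟦n⟧' ≫ φ)
  refine ⟨k, ?_⟩
  have : φ = i⟦n⟧' ≫ p⟦n⟧' ≫ φ := by
    rw [← Functor.map_comp_assoc, h, CategoryTheory.Functor.map_id, Category.id_comp]
  rw [this, ← Linear.comp_smul, hk, comp_zero]

instance (g : A) (M : D) : (PT g M).IsClosedUnderIsomorphisms where
  of_iso e h := h.of_retract e.inv e.hom e.inv_hom_id

omit [HasZeroObject D] [Pretriangulated D] in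
lemma PT.of_isZero {g : A} {M X : D} (h : IsZero X) : PT g M X := fun n φ =>
  ⟨0, by
    have : IsZero (X⟦n⟧) := (shiftFunctor D n).map_isZero h
    rw [this.eq_of_src φ 0, smul_zero]⟩

instance (g : A) (M : D) : (PT g M).ContainsZero where
  exists_zero := ⟨0, isZero_zero D, PT.of_isZero (isZero_zero D)⟩

instance (g : A) (M : D) : (PT g M).IsStableUnderShift ℤ where
  isStableUnderShiftBy a :=
    { le_shift := fun X hX n φ => by
        obtain ⟨k, hk⟩ := hX (a + n) ((shiftFunctorAdd D a n).hom.app X ≫ φ)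
        refine ⟨k, ?_⟩
        rw [← cancel_epi ((shiftFunctorAdd D a n).hom.app X), Linear.comp_smul, hk, comp_zero] }

lemma PT.ext₂ {g : A} {M : D} (T : Triangle D) (hT : T ∈ distTriang D) (h₁ : PT g M T.obj₁)
    (h₃ : PT g M T.obj₃) : PT g M T.obj₂ := by
  intro n φ
  let T' := (Triangle.shiftFunctor D n).obj T
  have hT' : T' ∈ distTriang D := Triangle.shift_distinguished T hT n
  obtain ⟨k, hk⟩ := h₁ n (T'.mor₁ ≫ φ)
  rw [← Linear.comp_smul] at hk
  obtain ⟨χ, hχ⟩ := T'.yoneda_exact₂ hT' (g ^ k • φ) hk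
  obtain ⟨m, hm⟩ := h₃ n χ
  refine ⟨m + k, ?_⟩
  have h4 : g ^ m • (T'.mor₂ ≫ χ) = 0 := by
    rw [← Linear.comp_smul]
    exact (congrArg (fun t => T'.mor₂ ≫ t) hm).trans comp_zero
  rw [pow_add, mul_smul]
  exact (congrArg (fun t => g ^ m • t) hχ).trans h4

instance (g : A) (M : D) : (PT g M).IsTriangulatedClosed₂ :=
  ObjectProperty.IsTriangulatedClosed₂.mk' (fun T hT h₁ h₃ => PT.ext₂ T hT h₁ h₃)

instance (g : A) (M : D) : (PT g M).IsTriangulated where

end Groth.Agent.PerfB.PowerTorsion
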