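import Groth.Agent.PerfB.KoszulHom
import Groth.Agent.PerfB.PowerTorsion
import Groth.Agent.PerfB.BoundedInd
import Mathlib.Algebra.Homology.HomotopyCategory.Pretriangulated
import Mathlib.RingTheory.Finiteness.Prod
import Mathlib.RingTheory.Finiteness.Basic
import Mathlib.Algebra.Category.ModuleCat.Biproducts

/-!
# Iterated cones of multiplications on a complex

`kosOn K l` is the iterated mapping cone of the multiplications by the elements of `l` on the complex `K`
(so `Koszul.koszul A l` is `kosOn (A[0]) l`).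
-/

set_option autoImplicit false
universe w v u u'

open CategoryTheory CategoryTheory.Limits CategoryTheory.Pretriangulated ZeroObject

namespace Groth.Agent.PerfB.KoszulOn

open Groth.Agent.PerfB.PowerTorsion Groth.Agent.PerfB.KoszulHom

section Complexes

variable {A : Type*} [CommRing A] {C : Type u} [Category.{v} C] [Abelian C] [Linear A C]

/-- iterated mapping cone of the multiplications by the elements of `l` on `K`. -/
noncomputable def kosOn (K : CochainComplex C ℤ) : List A → CochainComplex C ℤ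
  | [] => K
  | f :: l => CochainComplex.mappingCone (f • 𝟙 (kosOn K l))

/-- the canonical map `K ⟶ kosOn K l`. -/
noncomputable def canOn (K : CochainComplex C ℤ) : (l : List A) → (K ⟶ kosOn K l)
  | [] => 𝟙 _
  | f :: l => canOn K l ≫ CochainComplex.mappingCone.inr (f • 𝟙 (kosOn K l))

/-- The transition map `kosOn K (l ^ (e + k)) ⟶ kosOn K (l ^ e)`. -/
noncomputable def trOn (K : CochainComplex C ℤ) (e k : ℕ) : (l : List A) →
    (kosOn K (l.map (fun a => a ^ (e + k))) ⟶ kosOn K (l.map (fun a => a ^ e)))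
  | [] => 𝟙 _
  | f :: l => CochainComplex.mappingCone.map _ _ (f ^ k • trOn K e k l) (trOn K e k l) (by
      rw [Linear.smul_comp, Category.id_comp, Linear.comp_smul, Category.comp_id, smul_smul]
      dsimp only
      rw [pow_add])

@[reassoc]
lemma canOn_trOn (K : CochainComplex C ℤ) (e k : ℕ) : ∀ l : List A,
    canOn K (l.map (fun a => a ^ (e + k))) ≫ trOn K e k l = canOn K (l.map (fun a => a ^ e))
  | [] => by
      change 𝟙 _ ≫ 𝟙 _ = 𝟙 _
      simp
  | f :: l => by
      change (canOn K (l.map (fun a => a ^ (e + k))) ≫ CochainComplex.mappingCone.inr _) ≫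
        CochainComplex.mappingCone.map _ _ (f ^ k • trOn K e k l) (trOn K e k l) _ =
          canOn K (l.map (fun a => a ^ e)) ≫ CochainComplex.mappingCone.inr _
      rw [CochainComplex.mappingCone.map_eq_mapOfHomotopy, Category.assoc,
        CochainComplex.mappingCone.triangleMapOfHomotopy_comm₂, ← Category.assoc, canOn_trOn K e k l]

/-- A property of objects closed under finite biproducts passes from the terms of `K` to the terms
of `kosOn K l`. -/
lemma prop_kosOn_X (P : ObjectProperty C) [P.IsClosedUnderIsomorphisms]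
    (hP : ∀ X Y, P X → P Y → P (X ⊞ Y)) (K : CochainComplex C ℤ) (hK : ∀ i, P (K.X i)) :
    ∀ (l : List A) (i : ℤ), P ((kosOn K l).X i)
  | [], i => hK i
  | f :: l, i =>
      P.prop_of_iso (HomologicalComplex.homotopyCofiber.XIsoBiprod (f • 𝟙 (kosOn K l))
          i (i + 1) rfl).symm
        (hP _ _ (prop_kosOn_X P hP K hK l (i + 1)) (prop_kosOn_X P hP K hK l i))

lemma isZero_kosOn_X (K : CochainComplex C ℤ) (a b : ℤ) (h : ∀ i, i < a ∨ b < i → IsZero (K.X i)) :
    ∀ (l : List A) (i : ℤ), i < a - l.length ∨ b < i → IsZero ((kosOn K l).X i)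
  | [], i, hi => h i (by simpa using hi)
  | f :: l, i, hi => by
      have hlen : ((f :: l).length : ℤ) = l.length + 1 := by simp
      exact (CochainComplex.mappingCone.isZero_X_iff _ i).2
        ⟨isZero_kosOn_X K a b h l (i + 1) (by omega), isZero_kosOn_X K a b h l i (by omega)⟩

end Complexes

section Triangulated

variable {A : Type*} [CommRing A] {D : Type u} [Category.{v} D] [HasZeroObject D] [HasShift D ℤ]
  [Preadditive D] [∀ n : ℤ, (shiftFunctor D n).Additive] [Pretriangulated D]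
  [Linear A D]

lemma smul_id_obj₃ (T : Triangle D) (hT : T ∈ distTriang D) (a b : A)
    (h₁ : a • 𝟙 (T.obj₁⟦(1 : ℤ)⟧) = 0) (h₂ : b • 𝟙 T.obj₂ = 0) :
    (a * b) • 𝟙 T.obj₃ = 0 := by
  have h3 : T.mor₂ ≫ (b • 𝟙 T.obj₃) = 0 := by
    rw [Linear.comp_smul, Category.comp_id, ← Category.id_comp T.mor₂, ← Linear.smul_comp, h₂,
      zero_comp]
  obtain ⟨χ, hχ⟩ := T.yoneda_exact₃ hT _ h3
  rw [mul_smul, hχ, ← Linear.smul_comp, ← Category.comp_id T.mor₃, ← Linear.comp_smul, h₁,
    comp_zero, zero_comp]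

omit [HasZeroObject D] [Pretriangulated D] in
lemma smul_id_shift [∀ n : ℤ, (shiftFunctor D n).Linear A] (X : D) (a : A) (n : ℤ)
    (h : a • 𝟙 X = 0) : a • 𝟙 (X⟦n⟧) = 0 := by
  rw [← CategoryTheory.Functor.map_id, ← Functor.map_smul, h, Functor.map_zero]

lemma sq_smul_id_obj₃ [∀ n : ℤ, (shiftFunctor D n).Linear A] (X Y : D) (f : A) (g : X ⟶ Y)
    (h : Y ⟶ X⟦(1 : ℤ)⟧)
    (hT : Triangle.mk (f • 𝟙 X) g h ∈ distTriang D) :
    (f * f) • 𝟙 Y = 0 := by
  have h12 : (f • 𝟙 X) ≫ g = 0 := comp_distTriang_mor_zero₁₂ _ hT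
  have h31 : h ≫ (f • 𝟙 X)⟦(1 : ℤ)⟧' = 0 := comp_distTriang_mor_zero₃₁ _ hT
  have h3 : g ≫ (f • 𝟙 Y) = 0 := by
    rw [Linear.comp_smul, Category.comp_id]
    rw [Linear.smul_comp, Category.id_comp] at h12
    exact h12
  obtain ⟨χ, hχ⟩ := (Triangle.mk (f • 𝟙 X) g h).yoneda_exact₃ hT _ h3
  change f • 𝟙 Y = h ≫ χ at hχ
  rw [Functor.map_smul, CategoryTheory.Functor.map_id, Linear.comp_smul, Category.comp_id] at h31
  rw [mul_smul, hχ, ← Linear.smul_comp, h31, zero_comp]

end Triangulated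

section Derived

variable {A : Type*} [CommRing A] {C : Type u} [Category.{v} C] [Abelian C] [Linear A C]
  [HasDerivedCategory.{w} C]

/-- the distinguished triangle `K(l) --f--> K(l) ⟶ K(f :: l) ⟶ K(l)[1]`. -/
noncomputable abbrev triOn (K : CochainComplex C ℤ) (f : A) (l : List A) :
    Triangle (DerivedCategory C) :=
  DerivedCategory.Q.mapTriangle.obj (CochainComplex.mappingCone.triangle (f • 𝟙 (kosOn K l)))

lemma triOn_distinguished (K : CochainComplex C ℤ) (f : A) (l : List A) :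
    triOn K f l ∈ distTriang (DerivedCategory C) :=
  DerivedCategory.mappingCone_triangle_distinguished _

/-- The triangle of a Koszul cone, with first map literally `f • 𝟙`. -/
lemma exists_triangle (K : CochainComplex C ℤ) (f : A) (l : List A) :
    ∃ h : DerivedCategory.Q.obj (kosOn K (f :: l)) ⟶ (DerivedCategory.Q.obj (kosOn K l))⟦(1 : ℤ)⟧,
      Triangle.mk (f • 𝟙 (DerivedCategory.Q.obj (kosOn K l)))
        (DerivedCategory.Q.map (CochainComplex.mappingCone.inr (f • 𝟙 (kosOn K l)))) h ∈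
          distTriang (DerivedCategory C) := by
  refine ⟨(triOn K f l).mor₃, ?_⟩
  have h1 : (triOn K f l).mor₁ = f • 𝟙 (DerivedCategory.Q.obj (kosOn K l)) := by
    change DerivedCategory.Q.map (f • 𝟙 (kosOn K l)) = _
    rw [Functor.map_smul, CategoryTheory.Functor.map_id]
  have h2 := triOn_distinguished K f l
  have h3 : triOn K f l = Triangle.mk (f • 𝟙 (DerivedCategory.Q.obj (kosOn K l)))
      (DerivedCategory.Q.map (CochainComplex.mappingCone.inr (f • 𝟙 (kosOn K l))))
      (triOn K f l).mor₃ := by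
    rw [← h1]
    rfl
  rw [← h3]
  exact h2

/-- A triangulated property passes from `K` to `kosOn K l`. -/
lemma prop_kosOn (S : ObjectProperty (DerivedCategory C)) [S.IsTriangulated]
    [S.IsClosedUnderIsomorphisms] (K : CochainComplex C ℤ) (hK : S (DerivedCategory.Q.obj K)) :
    ∀ l : List A, S (DerivedCategory.Q.obj (kosOn K l))
  | [] => hK
  | f :: l => S.ext_of_isTriangulatedClosed₃ (triOn K f l) (triOn_distinguished K f l)
      (prop_kosOn S K hK l) (prop_kosOn S K hK l)

/-- For `a ∈ l` a power of `a` is zero on `kosOn K l`. -/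
lemma exists_pow_smul_id_kosOn (K : CochainComplex C ℤ) (a : A) :
    ∀ l : List A, a ∈ l → ∃ k : ℕ, a ^ k • 𝟙 (DerivedCategory.Q.obj (kosOn K l)) = 0
  | [], h => by simp at h
  | f :: l, h => by
      obtain ⟨δ, hδ⟩ := exists_triangle K f l
      by_cases hal : a ∈ l
      · obtain ⟨k, hk⟩ := exists_pow_smul_id_kosOn K a l hal
        refine ⟨k + k, ?_⟩
        rw [pow_add]
        exact smul_id_obj₃ _ hδ _ _ (smul_id_shift _ _ _ hk) hk
      · have haf : a = f := by
          rcases List.mem_cons.1 h with h | h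
          · exact h
          · exact absurd h hal
        subst haf
        refine ⟨2, ?_⟩
        rw [pow_two]
        exact sq_smul_id_obj₃ _ _ a _ _ hδ

lemma factor_consOn (K : CochainComplex C ℤ) (f : A) (l : List A) (M : DerivedCategory C)
    (φ : DerivedCategory.Q.obj (kosOn K l) ⟶ M) (h : f • φ = 0) :
    ∃ ψ : DerivedCategory.Q.obj (kosOn K (f :: l)) ⟶ M,
      DerivedCategory.Q.map (CochainComplex.mappingCone.inr (f • 𝟙 (kosOn K l))) ≫ ψ = φ := by
  obtain ⟨δ, hδ⟩ := exists_triangle K f l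
  obtain ⟨ψ, hψ⟩ := Triangle.yoneda_exact₂ _ hδ φ (by
    change (f • 𝟙 (DerivedCategory.Q.obj (kosOn K l))) ≫ φ = 0
    rw [Linear.smul_comp, Category.id_comp, h])
  exact ⟨ψ, hψ.symm⟩

/-- Every `s : K ⟶ M` factors through `kosOn K (l ^ e)` for all large `e`, as soon as all morphisms
`K⟦n⟧ ⟶ M` are `a`-power torsion for all `a ∈ l`. -/
theorem exists_factorOn (K : CochainComplex C ℤ) (l : List A) (M : DerivedCategory C)
    (s : DerivedCategory.Q.obj K ⟶ M) :
    (∀ a ∈ l, PT a M (DerivedCategory.Q.obj K)) →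
    ∃ e₀ : ℕ, ∀ e : ℕ, e₀ ≤ e →
      ∃ ψ : DerivedCategory.Q.obj (kosOn K (l.map (fun a => a ^ e))) ⟶ M,
      DerivedCategory.Q.map (canOn K (l.map (fun a => a ^ e))) ≫ ψ = s := by
  induction l with
  | nil =>
    intro _
    refine ⟨0, fun e _ => ⟨s, ?_⟩⟩
    change DerivedCategory.Q.map (𝟙 _) ≫ s = s
    simp
  | cons f l ih =>
    intro hE
    obtain ⟨e₀, h₀⟩ := ih (fun a ha => hE a (List.mem_cons_of_mem _ ha))
    obtain ⟨ψ₀, hψ₀⟩ := h₀ e₀ le_rfl
    have htor := prop_kosOn (PT f M) K (hE f List.mem_cons_self) (l.map (fun a => a ^ e₀))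
    obtain ⟨n, hn'⟩ := htor 0 ((shiftFunctorZero (DerivedCategory C) ℤ).hom.app _ ≫ ψ₀)
    have hn : f ^ n • ψ₀ = 0 := by
      rw [← cancel_epi ((shiftFunctorZero (DerivedCategory C) ℤ).hom.app _), Linear.comp_smul, hn',
        comp_zero]
    refine ⟨e₀ + n, fun e he => ?_⟩
    obtain ⟨k, rfl⟩ := Nat.exists_eq_add_of_le (le_trans (Nat.le_add_right e₀ n) he)
    have hk : n ≤ k := by omega
    have h3 : (f ^ (e₀ + k)) • ψ₀ = 0 := by
      obtain ⟨j, rfl⟩ := Nat.exists_eq_add_of_le hk
      rw [show e₀ + (n + j) = (e₀ + j) + n by ring, pow_add, mul_smul, hn, smul_zero]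
    have h1 : (f ^ (e₀ + k)) • (DerivedCategory.Q.map (trOn K e₀ k l) ≫ ψ₀) = 0 := by
      rw [← Linear.comp_smul, h3, comp_zero]
    obtain ⟨ψ, hψ⟩ := factor_consOn K (f ^ (e₀ + k)) (l.map (fun a => a ^ (e₀ + k))) M _ h1
    refine ⟨ψ, ?_⟩
    change DerivedCategory.Q.map (canOn K (l.map (fun a => a ^ (e₀ + k))) ≫
      CochainComplex.mappingCone.inr (f ^ (e₀ + k) • 𝟙 (kosOn K (l.map (fun a => a ^ (e₀ + k)))))) ≫
        ψ = s
    rw [Functor.map_comp, Category.assoc, hψ, ← Functor.map_comp_assoc, canOn_trOn, hψ₀]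

/-- one step of the orthogonality argument. -/
lemma eq_zero_of_cone {D : Type*} [Category* D] [HasZeroObject D] [HasShift D ℤ]
    [Preadditive D] [∀ n : ℤ, (shiftFunctor D n).Additive] [Pretriangulated D]
    [Linear A D] [∀ n : ℤ, (shiftFunctor D n).Linear A] {X Y M : D} (f : A) (g : X ⟶ Y)
    (h : Y ⟶ X⟦(1 : ℤ)⟧) (hT : Triangle.mk (f • 𝟙 X) g h ∈ distTriang D)
    (hY : ∀ (n : ℤ) (φ : Y⟦n⟧ ⟶ M), φ = 0) (hX : PT f M X) (n : ℤ) (φ : X⟦n⟧ ⟶ M) : φ = 0 := by
  have key : ∀ ψ : X⟦n⟧ ⟶ M, f • ψ = 0 → ψ = 0 := by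
    intro ψ hψ
    have hT' := Triangle.shift_distinguished _ hT n
    obtain ⟨χ, hχ⟩ := Triangle.yoneda_exact₂ _ hT' ψ (by
      change (n.negOnePow • (f • 𝟙 X)⟦n⟧') ≫ ψ = 0
      rw [Functor.map_smul, CategoryTheory.Functor.map_id, Linear.units_smul_comp,
        Linear.smul_comp, Category.id_comp, hψ, smul_zero])
    have h0 : χ = 0 := hY n χ
    subst h0
    exact hχ.trans comp_zero
  obtain ⟨k, hk⟩ := hX n φ
  induction k with
  | zero => simpa using hk
  | succ k ih =>
    apply ih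
    apply key
    rw [smul_smul, ← pow_succ', hk]

/-- If all morphisms `kosOn K l⟦n⟧ ⟶ M` vanish and the morphisms `K⟦n⟧ ⟶ M` are `l`-power torsion,
then all morphisms `K⟦n⟧ ⟶ M` vanish. -/
theorem eq_zero_of_kosOn (K : CochainComplex C ℤ) (M : DerivedCategory C) :
    ∀ l : List A, (∀ a ∈ l, PT a M (DerivedCategory.Q.obj K)) →
    (∀ (n : ℤ) (φ : (DerivedCategory.Q.obj (kosOn K l))⟦n⟧ ⟶ M), φ = 0) →
    ∀ (n : ℤ) (φ : (DerivedCategory.Q.obj K)⟦n⟧ ⟶ M), φ = 0
  | [], _, h => h
  | f :: l, hl, h => by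
      obtain ⟨δ, hδ⟩ := exists_triangle K f l
      refine eq_zero_of_kosOn K M l (fun a ha => hl a (List.mem_cons_of_mem _ ha)) ?_
      exact eq_zero_of_cone f _ _ hδ h (prop_kosOn (PT f M) K (hl f List.mem_cons_self) l)

end Derived

section Modules

variable {A : Type u} [CommRing A]

lemma kosOn_single_eq (l : List A) :
    kosOn ((CochainComplex.singleFunctor (ModuleCat.{u} A) 0).obj (ModuleCat.of A A)) l =
      Koszul.koszul A l := by
  induction l with
  | nil => rfl
  | cons f l ih =>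
    change CochainComplex.mappingCone (f • 𝟙 (kosOn _ l)) =
      CochainComplex.mappingCone (f • 𝟙 (Koszul.koszul A l))
    rw [ih]

/-- a bounded complex of finite projective modules. -/
def IsBddFP (K : CochainComplex (ModuleCat.{u} A) ℤ) : Prop :=
  (∃ a b : ℤ, ∀ i, i < a ∨ b < i → IsZero (K.X i)) ∧
    ∀ i, Module.Finite A (K.X i) ∧ Projective (K.X i)

/-- finite projective modules, as an object property -/
def fp : ObjectProperty (ModuleCat.{u} A) := fun X => Module.Finite A X ∧ Projective X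

instance : (fp (A := A)).IsClosedUnderIsomorphisms where
  of_iso e h := ⟨by
    have := h.1
    exact Module.Finite.equiv e.toLinearEquiv, Projective.of_iso e h.2⟩

lemma fp_biprod (X Y : ModuleCat.{u} A) (hX : fp X) (hY : fp Y) : fp (X ⊞ Y) := by
  have h1 := hX.1
  have h2 := hY.1
  have := hX.2
  have := hY.2
  have : Module.Finite A (ModuleCat.of A (X × Y)) := inferInstanceAs (Module.Finite A (X × Y))
  exact ⟨Module.Finite.equiv (ModuleCat.biprodIsoProd X Y).symm.toLinearEquiv, inferInstance⟩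

lemma IsBddFP.kosOn {K : CochainComplex (ModuleCat.{u} A) ℤ} (hK : IsBddFP K) (l : List A) :
    IsBddFP (kosOn K l) := by
  obtain ⟨⟨a, b, h⟩, h2⟩ := hK
  exact ⟨⟨a - l.length, b, fun i hi => isZero_kosOn_X K a b h l i hi⟩,
    fun i => prop_kosOn_X fp fp_biprod K h2 l i⟩

variable [HasDerivedCategory.{w} (ModuleCat.{u} A)]

/-- Maps from a finite projective module in degree `0` to `M` are power torsion if `H^0(M)` is. -/
lemma hom_single_torsion' (g : A) (P : ModuleCat.{u} A) [Projective P] [Module.Finite A P]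
    (E : DerivedCategory (ModuleCat.{u} A)) (hE : TorsD g 0 E)
    (φ : (DerivedCategory.singleFunctor (ModuleCat.{u} A) 0).obj P ⟶ E) :
    ∃ n : ℕ, g ^ n • φ = 0 := by
  let e : (DerivedCategory.homologyFunctor (ModuleCat.{u} A) 0).obj
      ((DerivedCategory.singleFunctor (ModuleCat.{u} A) 0).obj P) ≅ P :=
    (DerivedCategory.singleFunctorCompHomologyFunctorIso (ModuleCat.{u} A) 0).app P
  let ψ : P →ₗ[A] (DerivedCategory.homologyFunctor (ModuleCat.{u} A) 0).obj E :=
    (e.inv ≫ (DerivedCategory.homologyFunctor (ModuleCat.{u} A) 0).map φ).hom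
  obtain ⟨s, hs⟩ := Module.Finite.fg_top (R := A) (M := P)
  choose n hn using fun x : P => hE (ψ x)
  refine ⟨s.sup n, ?_⟩
  apply eq_zero_of_homology_map_eq_zero
  rw [Functor.map_smul, ← cancel_epi e.inv, Linear.comp_smul, comp_zero]
  apply ModuleCat.hom_ext
  change g ^ (s.sup n) • ψ = 0
  apply LinearMap.ext_on hs
  intro x hx
  obtain ⟨k, hk⟩ := Nat.exists_eq_add_of_le (Finset.le_sup (f := n) hx)
  change g ^ (s.sup n) • ψ x = 0
  rw [hk, add_comm, pow_add, mul_smul, hn, smul_zero]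

/-- Maps from a perfect complex to a complex with `g`-power torsion cohomology are `g`-power
torsion. -/
theorem PT_of_isBddFP (g : A) (K : CochainComplex (ModuleCat.{u} A) ℤ) (hK : IsBddFP K)
    (M : DerivedCategory (ModuleCat.{u} A)) (hM : ∀ i, TorsD g i M) :
    PT g M (DerivedCategory.Q.obj K) := by
  obtain ⟨⟨a, b, h⟩, h2⟩ := hK
  refine BoundedInd.bounded_induction (PT g M) K a b h (fun i => ?_)
  have := (h2 i).1
  have := (h2 i).2
  intro n φ
  obtain ⟨k, hk⟩ := hom_single_torsion' g (K.X i) (M⟦-n⟧) ((hM (-n)).shift (-n) 0 (by simp))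
    ((shiftShiftNeg _ n).inv ≫ φ⟦-n⟧')
  refine ⟨k, ?_⟩
  apply (shiftFunctor (DerivedCategory (ModuleCat.{u} A)) (-n)).map_injective
  rw [Functor.map_smul, Functor.map_zero, ← cancel_epi (shiftShiftNeg _ n).inv,
    Linear.comp_smul, hk, comp_zero]

/-- `H^i(kosOn K l)` is `a`-power torsion for all `a ∈ l`. -/
lemma torsD_kosOn (K : CochainComplex (ModuleCat.{u} A) ℤ) (l : List A) (a : A) (ha : a ∈ l)
    (i : ℤ) : TorsD a i (DerivedCategory.Q.obj (kosOn K l)) := by
  intro x
  obtain ⟨k, hk⟩ := exists_pow_smul_id_kosOn K a l ha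
  refine ⟨k, ?_⟩
  have h2 := congrArg (DerivedCategory.homologyFunctor (ModuleCat.{u} A) i).map hk
  rw [Functor.map_smul, CategoryTheory.Functor.map_id, Functor.map_zero] at h2
  exact congrArg (fun φ => φ.hom x) h2

/-- If every morphism `A[n] ⟶ M` vanishes then `H^i(M) = 0`. -/
lemma isZero_homology_of_hom_eq_zero (M : DerivedCategory (ModuleCat.{u} A))
    (h : ∀ (φ : (DerivedCategory.singleFunctor (ModuleCat.{u} A) 0).obj (ModuleCat.of A A) ⟶ M),
      φ = 0) : IsZero ((DerivedCategory.homologyFunctor (ModuleCat.{u} A) 0).obj M) := by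
  let e : DerivedCategory.Q.obj (DerivedCategory.Q.objPreimage M) ≅ M :=
    DerivedCategory.Q.objObjPreimageIso M
  let L := DerivedCategory.Q.objPreimage M
  refine IsZero.of_iso (?_ : IsZero (L.homology 0)) ?_
  swap
  · exact (DerivedCategory.homologyFunctor (ModuleCat.{u} A) 0).mapIso e.symm ≪≫
      (DerivedCategory.homologyFunctorFactors (ModuleCat.{u} A) 0).app L
  rw [ModuleCat.isZero_iff_subsingleton]
  refine ⟨fun x y => ?_⟩
  have key : ∀ x : L.homology 0, x = 0 := by
    intro x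
    obtain ⟨z, rfl⟩ := (ModuleCat.epi_iff_surjective (L.homologyπ 0)).1 inferInstance x
    let u : ModuleCat.of A A ⟶ L.cycles 0 := ModuleCat.ofHom (LinearMap.toSpanSingleton A _ z)
    have hu : (u ≫ L.iCycles 0) ≫ L.d 0 1 = 0 := by simp
    let f : (HomologicalComplex.single (ModuleCat.{u} A) (ComplexShape.up ℤ) 0).obj
        (ModuleCat.of A A) ⟶ L :=
      HomologicalComplex.mkHomFromSingle (u ≫ L.iCycles 0) (fun j hj => by
        have : j = 1 := by
          have : (0 : ℤ) + 1 = j := hj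
          omega
        subst this
        exact hu)
    have hf0 : DerivedCategory.Q.map f = 0 := by
      rw [← cancel_mono e.hom, zero_comp]
      exact h (DerivedCategory.Q.map f ≫ e.hom)
    have hf : HomologicalComplex.homologyMap f 0 = 0 :=
      homologyMap_eq_zero_of_Q f 0 (by rw [hf0, Functor.map_zero])
    have h1 : u ≫ L.homologyπ 0 = 0 := by
      have h2 : u = ((HomologicalComplex.single (ModuleCat.{u} A) (ComplexShape.up ℤ) 0).obj
        (ModuleCat.of A A)).liftCycles
          (HomologicalComplex.singleObjXSelf (.up ℤ) 0 (ModuleCat.of A A)).inv 1 (by simp)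
          (by simp) ≫ HomologicalComplex.cyclesMap f 0 := by
        rw [← cancel_mono (L.iCycles 0)]
        simp [f]
      rw [h2, Category.assoc, ← HomologicalComplex.homologyπ_naturality, hf, comp_zero, comp_zero]
    have h3 := congrArg (fun φ => φ.hom (1 : A)) h1
    have h4 : u.hom (1 : A) = z := one_smul A z
    rw [← h4]
    exact h3
  rw [key x, key y]

/-- If every morphism `A[n] ⟶ M` vanishes for all `n ∈ ℤ` then `M = 0`. -/
lemma isZero_of_hom_eq_zero (M : DerivedCategory (ModuleCat.{u} A))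
    (h : ∀ (n : ℤ)
      (φ : ((DerivedCategory.singleFunctor (ModuleCat.{u} A) 0).obj (ModuleCat.of A A))⟦n⟧ ⟶ M),
      φ = 0) : IsZero M := by
  have h1 : ∀ i : ℤ, IsZero ((DerivedCategory.homologyFunctor (ModuleCat.{u} A) i).obj M) := by
    intro i
    refine IsZero.of_iso (isZero_homology_of_hom_eq_zero (M⟦i⟧) (fun φ => ?_))
      (homologyShiftIso M i 0 i (by simp)).symm
    have h2 := h (-i) (φ⟦-i⟧' ≫ (shiftShiftNeg M i).hom)
    apply (shiftFunctor (DerivedCategory (ModuleCat.{u} A)) (-i)).map_injective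
    rw [Functor.map_zero, ← cancel_mono (shiftShiftNeg M i).hom, h2, zero_comp]
  have : IsIso (0 : M ⟶ 0) := by
    rw [DerivedCategory.isIso_iff]
    intro i
    exact ⟨0, (h1 i).eq_of_src _ _, (IsZero.eq_of_src
      ((DerivedCategory.homologyFunctor (ModuleCat.{u} A) i).map_isZero (isZero_zero _)) _ _)⟩
  exact (isZero_zero _).of_iso (asIso (0 : M ⟶ 0))

end Modules

end Groth.Agent.PerfB.KoszulOn
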