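import Groth.Agent.PerfB.OpenAdj
import Groth.Agent.PerfB.KoszulOn
import Groth.Agent.PerfB.TildeTorsion
import Groth.Agent.PerfA.TildeSupp
import Groth.Agent.PerfA.CohomIn
import Groth.Agent.PerfA.QCohExt
import Groth.Agent.LoccohB.DQCohBasic
import Groth.Agent.S0997
import Groth.Agent.S0998

/-!
# Right orthogonal of Koszul complexes and objects pushed forward from the complement

For `X = Spec A`, `U` the complement of `V(fs)`, `j : U ⟶ X`:
* `orth K`: right orthogonal of all shifts of `K`;
* `isZero_restrictD_kosOn`: Koszul complexes vanish on `U`;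
* `isZero_of_orth`: an object of `D_QCoh` vanishing on `U` and orthogonal to the Koszul complex is `0`;
* `isIso_unit_of_orth`: an object `E` of `D_QCoh` orthogonal to the Koszul complex is `Rj_* j^* E`.
-/

set_option autoImplicit false
universe u
open CategoryTheory CategoryTheory.Limits AlgebraicGeometry CategoryTheory.Pretriangulated
attribute [local instance] HasDerivedCategory.standard

namespace Groth.Agent.PerfB.KoszulOrth
open Groth.Agent.PerfA Groth.Agent.PerfB.KoszulHom Groth.Agent.PerfB.KoszulOn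
open Groth.Agent.PerfB.PowerTorsion

section Abstract

variable {D : Type*} [Category* D] [HasShift D ℤ] [Preadditive D]
  [∀ n : ℤ, (shiftFunctor D n).Additive]

/-- The objects `E` such that all maps `K⟦n⟧ ⟶ E` are zero. -/
def orth (K : D) : ObjectProperty D := fun E => ∀ (n : ℤ) (φ : K⟦n⟧ ⟶ E), φ = 0

lemma orth.of_iso {K E E' : D} (e : E ≅ E') (h : orth K E) : orth K E' := fun n φ => by
  rw [← cancel_mono e.inv, zero_comp]
  exact h n _

instance (K : D) : (orth K).IsClosedUnderIsomorphisms where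
  of_iso e h := orth.of_iso e h

lemma orth.of_iso_left {K K' E : D} (e : K ≅ K') (h : orth K E) : orth K' E := fun n φ => by
  rw [← cancel_epi (e.hom⟦n⟧'), comp_zero]
  exact h n _

lemma orth.shift {K E : D} (h : orth K E) (a : ℤ) : orth K (E⟦a⟧) := fun n φ => by
  apply (shiftFunctor D (-a)).map_injective
  rw [Functor.map_zero]
  rw [← cancel_epi ((shiftFunctorAdd' D n (-a) (n - a) (by lia)).hom.app K), comp_zero]
  rw [← cancel_mono ((shiftShiftNeg E a).hom), zero_comp]
  exact h (n - a) _

lemma orth.obj₃ [HasZeroObject D] [Pretriangulated D] {K : D} (T : Triangle D)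
    (hT : T ∈ distTriang D) (h₁ : orth K T.obj₁)
    (h₂ : orth K T.obj₂) : orth K T.obj₃ := fun n φ => by
  obtain ⟨ψ, hψ⟩ := T.coyoneda_exact₃ hT φ (h₁.shift 1 n _)
  rw [hψ, h₂ n ψ, zero_comp]

lemma orth.obj₁ [HasZeroObject D] [Pretriangulated D] {K : D} (T : Triangle D)
    (hT : T ∈ distTriang D) (h₂ : orth K T.obj₂)
    (h₃ : orth K T.obj₃) : orth K T.obj₁ := fun n φ => by
  obtain ⟨ψ, hψ⟩ := T.invRotate.coyoneda_exact₂ (inv_rot_of_distTriang _ hT) φ (h₂ n _)
  have h0 : ψ = 0 := h₃.shift (-1) n ψ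
  rw [hψ, h0]
  exact zero_comp

/-- Maps from `K` to `R M` vanish if `L K` vanishes. -/
lemma orth_of_adj {D' : Type*} [Category* D'] [HasShift D' ℤ] [Preadditive D']
    [∀ n : ℤ, (shiftFunctor D' n).Additive] {L : D ⥤ D'} {R : D' ⥤ D} (adj : L ⊣ R)
    [L.CommShift ℤ] (K : D) (hK : IsZero (L.obj K)) (M : D') : orth K (R.obj M) := fun n φ => by
  have h : IsZero (L.obj (K⟦n⟧)) := ((shiftFunctor D' n).map_isZero hK).of_iso ((L.commShiftIso n).app K)
  exact (adj.homEquiv _ _).symm.injective (h.eq_of_src _ _)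

/-- A faithful functor commuting with shifts reflects orthogonality. -/
lemma orth_of_map {D' : Type*} [Category* D'] [HasShift D' ℤ] [Preadditive D']
    [∀ n : ℤ, (shiftFunctor D' n).Additive] (F : D ⥤ D') [F.CommShift ℤ] [F.Faithful]
    [F.PreservesZeroMorphisms] {K E : D} (h : orth (F.obj K) (F.obj E)) : orth K E := fun n φ => by
  apply F.map_injective
  rw [Functor.map_zero, ← cancel_epi ((F.commShiftIso n).inv.app K), comp_zero]
  exact h n _

/-- The cone of the unit of an adjunction `L ⊣ R` with invertible counit. -/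
lemma isIso_unit_of_cone [HasZeroObject D] [Pretriangulated D] {D' : Type*} [Category* D']
    [HasShift D' ℤ] [Preadditive D'] [HasZeroObject D']
    [∀ n : ℤ, (shiftFunctor D' n).Additive] [Pretriangulated D'] {L : D ⥤ D'} {R : D' ⥤ D}
    (adj : L ⊣ R) [IsIso adj.counit] [L.CommShift ℤ] [L.IsTriangulated] (K E : D)
    (hK : IsZero (L.obj K)) (hE : orth K E) (P : ObjectProperty D)
    (hP : ∀ T : Triangle D, T ∈ distTriang D → P T.obj₁ → P T.obj₂ → P T.obj₃)
    (hPE : P E) (hPR : P (R.obj (L.obj E)))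
    (key : ∀ C, P C → IsZero (L.obj C) → orth K C → IsZero C) : IsIso (adj.unit.app E) := by
  obtain ⟨C, g, h, hT⟩ := distinguished_cocone_triangle (adj.unit.app E)
  refine (Triangle.isZero₃_iff_isIso₁ _ hT).1 (key C (hP _ hT hPE hPR) ?_ ?_)
  · refine (Triangle.isZero₃_iff_isIso₁ _ (L.map_distinguished _ hT)).2 ?_
    exact OpenAdj.isIso_map_unit_of_isIso_counit adj E
  · exact orth.obj₃ _ hT hE (orth_of_adj adj K hK _)

end Abstract


section Spec

variable {A : Type u} [CommRing A] (fs : List A)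

/-- The complement of `V(fs)`. -/
abbrev punct : (Spec (CommRingCat.of A)).Opens := LocCoh.puncturedOpen A (Ideal.span {a | a ∈ fs})

lemma exists_notMem (x : Spec (CommRingCat.of A)) (hx : x ∈ punct fs) :
    ∃ g ∈ fs, g ∉ (show PrimeSpectrum A from x).asIdeal := by
  by_contra h
  push Not at h
  refine hx ?_
  intro a ha
  exact Ideal.span_le.2 (fun g hg => h g hg) ha

instance quasiCompact_punct : QuasiCompact (punct fs).ι := by
  have hc : IsCompact ((punct fs : (Spec (CommRingCat.of A)).Opens) : Set (Spec (CommRingCat.of A))) := by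
    refine (PrimeSpectrum.isCompact_isOpen_iff_ideal.2
      ⟨Ideal.span {a | a ∈ fs}, Submodule.fg_span (List.finite_toSet fs), rfl⟩).1
  have : CompactSpace (punct fs) := isCompact_iff_compactSpace.1 hc
  exact quasiCompact_of_compactSpace _

lemma fp_of_isZero (P : ModuleCat.{u} A) (h : IsZero P) : fp P := by
  have := ModuleCat.subsingleton_of_isZero h
  exact ⟨inferInstance, ⟨fun f g _ => ⟨0, h.eq_of_src _ _⟩⟩⟩

/-- `P[0]` is a bounded complex of finite projectives. -/
lemma isBddFP_single (P : ModuleCat.{u} A) (h : fp P) (n : ℤ) :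
    IsBddFP ((CochainComplex.singleFunctor (ModuleCat.{u} A) n).obj P) := by
  have h0 : ∀ i, i ≠ n → IsZero (((CochainComplex.singleFunctor (ModuleCat.{u} A) n).obj P).X i) :=
    fun i hi => HomologicalComplex.isZero_single_obj_X (ComplexShape.up ℤ) n P i hi
  refine ⟨⟨n, n, fun i hi => h0 i (by omega)⟩, fun i => ?_⟩
  change fp (((CochainComplex.singleFunctor (ModuleCat.{u} A) n).obj P).X i)
  by_cases hi : i = n
  · subst hi
    exact fp.prop_of_iso (HomologicalComplex.singleObjXSelf (ComplexShape.up ℤ) i P).symm h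
  · exact fp_of_isZero _ (h0 i hi)

lemma fp_self : fp (ModuleCat.of A A) :=
  ⟨inferInstanceAs (Module.Finite A A), ModuleCat.projective_of_free (Module.Free.chooseBasis A A)⟩

variable [PreservesFiniteLimits (tilde.functor (CommRingCat.of A))]

/-- Koszul complexes vanish on the complement of `V(fs)`. -/
theorem isZero_restrictD_kosOn (K : CochainComplex (ModuleCat.{u} A) ℤ) :
    IsZero ((Restrict.restrictD (punct fs).ι).obj ((DCoh.tildeD (CommRingCat.of A)).obj
      (DerivedCategory.Q.obj (kosOn K fs)))) := by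
  refine (TildeSupp.isZero_restrictD_tildeD_iff (R := CommRingCat.of A)
    (DerivedCategory.Q.obj (kosOn K fs)) (punct fs).ι).2 fun i y => ?_
  obtain ⟨g, hg, hgy⟩ := exists_notMem fs ((punct fs).ι y) y.2
  exact (TildeSupp.forall_vanAt_iff (R := CommRingCat.of A) _ g).2
    (torsD_kosOn K fs g hg i) _ hgy

/-- An object of `D(A)` with `M~` vanishing on `U` and right orthogonal to the Koszul complex is
zero. -/
theorem isZero_of_orth_tilde (M : DerivedCategory (ModuleCat.{u} A))
    (hU : IsZero ((Restrict.restrictD (punct fs).ι).obj ((DCoh.tildeD (CommRingCat.of A)).obj M)))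
    (h : orth (DerivedCategory.Q.obj (Koszul.koszul A fs)) M) : IsZero M := by
  have htors : ∀ g ∈ fs, ∀ i, TorsD g i M := fun g hg i =>
    TildeTorsion.torsD_of_isZero_restrict M (punct fs) i
      (((DerivedCategory.homologyFunctor _ i).map_isZero hU).of_iso
        (Restrict.HDrestrict (punct fs).ι _ i).symm) g
      (TildeTorsion.basicOpen_le_puncturedOpen fs g hg)
  refine isZero_of_hom_eq_zero M ?_
  refine eq_zero_of_kosOn ((CochainComplex.singleFunctor (ModuleCat.{u} A) 0).obj (ModuleCat.of A A))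
    M fs (fun g hg => PT_of_isBddFP g _ ?_ M (htors g hg)) ?_
  · exact isBddFP_single _ fp_self 0
  · rw [kosOn_single_eq]
    exact h

/-- An object of `D_QCoh` which vanishes on `U` and is right orthogonal to the Koszul complex is
zero. -/
theorem isZero_of_orth (C : DCoh.D (Spec (CommRingCat.of A))) (hC : DCoh.IsQCohD C)
    (hU : IsZero ((Restrict.restrictD (punct fs).ι).obj C))
    (h : orth ((DCoh.tildeD (CommRingCat.of A)).obj
      (DerivedCategory.Q.obj (Koszul.koszul A fs))) C) : IsZero C := by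
  obtain ⟨hfull, hfaith, hess⟩ := Groth.Agent.S0997.result (CommRingCat.of A)
  obtain ⟨M, ⟨e⟩⟩ := (hess C).1 hC
  refine IsZero.of_iso ?_ e.symm
  refine (DCoh.tildeD (CommRingCat.of A)).map_isZero (isZero_of_orth_tilde fs M ?_ ?_)
  · exact hU.of_iso ((Restrict.restrictD (punct fs).ι).mapIso e)
  · exact orth_of_map (DCoh.tildeD (CommRingCat.of A)) (h.of_iso e.symm)

/-- The Koszul complex vanishes on `U`. -/
theorem isZero_restrictD_koszul :
    IsZero ((Restrict.restrictD (punct fs).ι).obj ((DCoh.tildeD (CommRingCat.of A)).obj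
      (DerivedCategory.Q.obj (Koszul.koszul A fs)))) := by
  have := isZero_restrictD_kosOn fs
    ((CochainComplex.singleFunctor (ModuleCat.{u} A) 0).obj (ModuleCat.of A A))
  rwa [kosOn_single_eq] at this

lemma isQCohD_obj₃ {X : Scheme.{u}} (T : Triangle (DCoh.D X)) (hT : T ∈ distTriang (DCoh.D X))
    (h₁ : DCoh.IsQCohD T.obj₁) (h₂ : DCoh.IsQCohD T.obj₂) : DCoh.IsQCohD T.obj₃ :=
  (CohomIn.coh (QCohSerre.qcoh X)).ext_of_isTriangulatedClosed₃ T hT h₁ h₂

lemma isQCohD_restrictD {X Y : Scheme.{u}} (j : Y ⟶ X) [IsOpenImmersion j] (K : DCoh.D X)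
    (hK : DCoh.IsQCohD K) : DCoh.IsQCohD ((Restrict.restrictD j).obj K) := fun i =>
  QCohSerre.isQCoh_of_iso (Restrict.HDrestrict j K i).symm (QCohSerre.isQCoh_restrict j (hK i))

/-- An object of `D_QCoh` right orthogonal to the Koszul complex is `Rj_* j^* E`. -/
theorem isIso_unit_of_orth [DCoh.HasRpush (punct fs).ι]
    (E : DCoh.D (Spec (CommRingCat.of A))) (hE : DCoh.IsQCohD E)
    (h : orth ((DCoh.tildeD (CommRingCat.of A)).obj
      (DerivedCategory.Q.obj (Koszul.koszul A fs))) E) :
    IsIso ((OpenAdj.openAdj (punct fs).ι).unit.app E) :=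
  isIso_unit_of_cone (OpenAdj.openAdj (punct fs).ι) _ E (isZero_restrictD_koszul fs) h DCoh.IsQCohD
    isQCohD_obj₃ hE
    (Groth.Agent.S0998.result (punct fs).ι _ (isQCohD_restrictD (punct fs).ι E hE))
    (fun C hC hU hC' => isZero_of_orth fs C hC hU hC')

/-- Objects `Rj_* M` are right orthogonal to the Koszul complex. -/
theorem orth_rpush [DCoh.HasRpush (punct fs).ι] (M : DCoh.D ((punct fs : _) : Scheme.{u})) :
    orth ((DCoh.tildeD (CommRingCat.of A)).obj
      (DerivedCategory.Q.obj (Koszul.koszul A fs))) ((DCoh.Rpush (punct fs).ι).obj M) :=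
  orth_of_adj (OpenAdj.openAdj (punct fs).ι) _ (isZero_restrictD_koszul fs) M

end Spec

end Groth.Agent.PerfB.KoszulOrth
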