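import Mathlib.Algebra.BigOperators.Group.Finset.Sigma
import Mathlib.Algebra.BigOperators.Group.Finset.Basic
import Mathlib.Data.Fintype.Basic
import Mathlib.Algebra.Module.Basic
import Mathlib.Data.Int.Order.Basic
import Mathlib.Algebra.Group.Hom.Basic
import Mathlib.Tactic.Abel
import Mathlib.Tactic.Ring
import Mathlib.Algebra.BigOperators.GroupWithZero.Action


/-!
# Koszul signs: the algebra behind the Koszul complex on commuting operators
-/

set_option autoImplicit false

namespace Groth.Agent.PerfB.KoszulSigns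

variable {N : ℕ}

/-- The sign `(-1)^{#{l ∈ S, l < k}}`. -/
def sgn (k : Fin N) (S : Finset (Fin N)) : ℤ := (-1) ^ (S.filter (· < k)).card

lemma sgn_mul_self (k : Fin N) (S : Finset (Fin N)) : sgn k S * sgn k S = 1 := by
  unfold sgn
  rw [← mul_pow]; simp

lemma sgn_erase_self (k : Fin N) (S : Finset (Fin N)) : sgn k (S.erase k) = sgn k S := by
  unfold sgn
  congr 2
  ext l
  simp only [Finset.mem_filter, Finset.mem_erase]
  constructor
  · rintro ⟨⟨_, h⟩, h'⟩; exact ⟨h, h'⟩
  · rintro ⟨h, h'⟩; exact ⟨⟨ne_of_lt h', h⟩, h'⟩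

lemma sgn_erase_of_lt {k l : Fin N} {S : Finset (Fin N)} (hl : l ∈ S) (h : l < k) :
    sgn k (S.erase l) = - sgn k S := by
  unfold sgn
  have : (S.filter (· < k)) = insert l ((S.erase l).filter (· < k)) := by
    ext m
    simp only [Finset.mem_filter, Finset.mem_erase, Finset.mem_insert]
    constructor
    · rintro ⟨hm, hm'⟩
      by_cases hml : m = l
      · exact Or.inl hml
      · exact Or.inr ⟨⟨hml, hm⟩, hm'⟩
    · rintro (rfl | ⟨⟨_, hm⟩, hm'⟩)
      · exact ⟨hl, h⟩
      · exact ⟨hm, hm'⟩
  rw [this, Finset.card_insert_of_notMem (by simp), pow_succ]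
  ring

lemma sgn_erase_of_ge {k l : Fin N} {S : Finset (Fin N)} (h : k ≤ l) :
    sgn k (S.erase l) = sgn k S := by
  unfold sgn
  congr 2
  ext m
  simp only [Finset.mem_filter, Finset.mem_erase]
  constructor
  · rintro ⟨⟨_, hm⟩, hm'⟩; exact ⟨hm, hm'⟩
  · rintro ⟨hm, hm'⟩; exact ⟨⟨ne_of_lt (lt_of_lt_of_le hm' h), hm⟩, hm'⟩

lemma sgn_swap {k l : Fin N} {S : Finset (Fin N)} (hk : k ∈ S) (hl : l ∈ S) (h : k ≠ l) :
    sgn k S * sgn l (S.erase k) = - (sgn l S * sgn k (S.erase l)) := by
  rcases lt_or_gt_of_ne h with h' | h'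
  · rw [sgn_erase_of_lt hk h', sgn_erase_of_ge h'.le]; ring
  · rw [sgn_erase_of_lt hl h', sgn_erase_of_ge h'.le]; ring

variable {G₀ G₁ G₂ : Type*} [AddCommGroup G₀] [AddCommGroup G₁] [AddCommGroup G₂]

/-- The Koszul differential on families indexed by all finite subsets. -/
def D (T : Fin N → G₀ →+ G₁) (x : Finset (Fin N) → G₀) : Finset (Fin N) → G₁ :=
  fun S => ∑ k ∈ S, sgn k S • T k (x (S.erase k))

lemma D_D (T : Fin N → G₀ →+ G₁) (T' : Fin N → G₁ →+ G₂)
    (hT : ∀ k l x, T' k (T l x) = T' l (T k x)) (x : Finset (Fin N) → G₀) :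
    D T' (D T x) = 0 := by
  funext S
  simp only [D, map_sum, map_zsmul, Finset.smul_sum, Pi.zero_apply]
  rw [Finset.sum_sigma']
  refine Finset.sum_involution (fun p _ => ⟨p.2, p.1⟩) ?_ ?_ ?_ ?_
  · rintro ⟨k, l⟩ h
    simp only [Finset.mem_sigma, Finset.mem_erase] at h
    obtain ⟨hk, hlk, hl⟩ := h
    dsimp only
    rw [smul_smul, smul_smul, sgn_swap hk hl (Ne.symm hlk), hT k l, Finset.erase_right_comm,
      neg_smul]
    exact neg_add_cancel _
  · rintro ⟨k, l⟩ h _ heq
    simp only [Finset.mem_sigma, Finset.mem_erase] at h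
    obtain ⟨hk, hlk, hl⟩ := h
    simp only [Sigma.mk.injEq] at heq
    exact hlk heq.1
  · rintro ⟨k, l⟩ h
    simp only [Finset.mem_sigma, Finset.mem_erase] at h ⊢
    exact ⟨h.2.2, Ne.symm h.2.1, h.1⟩
  · rintro ⟨k, l⟩ h
    rfl

/-- The contracting homotopy attached to an invertible operator `T j`, with inverse `R`. -/
def H (j : Fin N) (R : G₁ →+ G₀) (x : Finset (Fin N) → G₁) : Finset (Fin N) → G₀ :=
  fun S => if j ∈ S then 0 else sgn j S • R (x (insert j S))

/-- If `D x = 0` and `T j` is invertible then `x = D (H x)`. -/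
lemma D_H (j : Fin N) (T : Fin N → G₀ →+ G₁) (T' : Fin N → G₁ →+ G₂)
    (hT : ∀ k l x, T' k (T l x) = T' l (T k x))
    (R : G₁ →+ G₀) (hR : ∀ x, T j (R x) = x) (hT' : Function.Injective (T' j))
    (x : Finset (Fin N) → G₁) (hx : D T' x = 0) :
    D T (H j R x) = x := by
  funext S
  by_cases hj : j ∈ S
  · simp only [D]
    rw [Finset.sum_eq_single j]
    · simp only [H, Finset.mem_erase, ne_eq, not_true_eq_false, false_and, if_false,
        map_zsmul, hR, Finset.insert_erase hj, sgn_erase_self, smul_smul, sgn_mul_self, one_smul]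
    · intro k hk hkj
      have : j ∈ S.erase k := Finset.mem_erase.mpr ⟨Ne.symm hkj, hj⟩
      simp [H, this]
    · intro h; exact absurd hj h
  · apply hT'
    have h1 := congrFun hx (insert j S)
    simp only [D, Pi.zero_apply] at h1
    rw [Finset.sum_insert hj, Finset.erase_insert hj] at h1
    have hjS : j ∉ S := hj
    have h2 : sgn j (insert j S) • T' j (x S) =
        - ∑ k ∈ S, sgn k (insert j S) • T' k (x ((insert j S).erase k)) :=
      eq_neg_of_add_eq_zero_left h1
    have h3 : T' j (x S) = - ∑ k ∈ S, (sgn j (insert j S) * sgn k (insert j S)) •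
        T' k (x ((insert j S).erase k)) := by
      have := congrArg (fun z => sgn j (insert j S) • z) h2
      simp only [smul_smul, sgn_mul_self, one_smul, smul_neg, Finset.smul_sum] at this
      exact this
    rw [h3]
    simp only [D, map_sum, map_zsmul]
    rw [← Finset.sum_neg_distrib]
    refine Finset.sum_congr rfl fun k hk => ?_
    have hkj : k ≠ j := fun h => hj (h ▸ hk)
    have hj' : j ∉ S.erase k := fun h => hj (Finset.mem_of_mem_erase h)
    simp only [H, hj', if_false, map_zsmul, smul_smul]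
    rw [hT j k, hR, ← Finset.erase_insert_of_ne (Ne.symm hkj), ← neg_smul]
    congr 1
    have e1 := sgn_swap (S := insert j S) (Finset.mem_insert_self j S)
      (Finset.mem_insert_of_mem hk) (Ne.symm hkj)
    rw [Finset.erase_insert hj] at e1
    -- e1 : sgn j (insert j S) * sgn k S = - (sgn k (insert j S) * sgn j ((insert j S).erase k))
    have e2 : sgn j ((insert j S).erase k) = sgn j (S.erase k) := by
      rw [Finset.erase_insert_of_ne (Ne.symm hkj), ← sgn_erase_self j (insert j (S.erase k)),
        Finset.erase_insert hj']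
    rw [e2] at e1
    have e3 : sgn j (insert j S) * sgn j (insert j S) = 1 := sgn_mul_self _ _
    have e4 : sgn j (S.erase k) * sgn j (S.erase k) = 1 := sgn_mul_self _ _
    have e5 := congrArg (fun z => z * (sgn j (insert j S) * sgn j (S.erase k))) e1
    calc sgn k S * sgn j (S.erase k)
        = (sgn j (insert j S) * sgn j (insert j S)) * (sgn k S * sgn j (S.erase k)) := by
          rw [e3, one_mul]
      _ = sgn j (insert j S) * sgn k S * (sgn j (insert j S) * sgn j (S.erase k)) := by ring
      _ = -(sgn k (insert j S) * sgn j (S.erase k)) *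
            (sgn j (insert j S) * sgn j (S.erase k)) := e5
      _ = -(sgn j (insert j S) * sgn k (insert j S)) *
            (sgn j (S.erase k) * sgn j (S.erase k)) := by ring
      _ = -(sgn j (insert j S) * sgn k (insert j S)) := by rw [e4, mul_one]

end Groth.Agent.PerfB.KoszulSigns
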