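import Groth.Agent.PerfB.HomLimProj
import Groth.Agent.Ega3B.LimInv2

/-!
# Modules over a cofiltered limit of schemes with affine transition maps (EGA IV 8.5.2)

`D : I ⥤ Scheme` cofiltered with affine transition maps, `c` its limit, `i : I` with `D.obj i` qcqs,
`G`, `E` modules on `D.obj i`, `G` of finite presentation, `E` quasi-coherent of finite type:
* `exists_hom`: homs between the pullbacks of `G` and `E` to the limit come from a stage;
* `exists_eq`: homs between pullbacks at a stage which agree on the limit agree at a later stage;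
* `exists_iso`: same for isomorphisms (`G`, `E` of finite presentation);
* `exists_isFinLocFree`, `exists_isInvertible`: if the pullback to the limit is finite locally free (invertible)
  then so is the pullback to a stage.
`PushPull.pull` is the pullback of homs between pulled back modules.
-/

set_option autoImplicit false
universe u v w
open CategoryTheory CategoryTheory.Limits AlgebraicGeometry Opposite TopologicalSpace

namespace Groth.Agent.PerfB.LimMod

open HomLim PushPull

variable {I : Type u} [SmallCategory I] [IsCofiltered I] {D : I ⥤ Scheme.{u}} {c : Cone D}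

variable (c) in
/-- The cone over `Over.post D` with vertex `c.pt ⟶ D.obj i`. -/
noncomputable def postCone (i : I) : Cone (Over.post (X := i) D) where
  pt := Over.mk (c.π.app i)
  π :=
    { app := fun j => Over.homMk (c.π.app j.left) (c.w j.hom)
      naturality := fun j k a => by
        ext1
        exact (c.π.naturality a.left) }

/-- It is a limit cone. -/
noncomputable def isLimitPostCone (hc : IsLimit c) (i : I) :
    IsLimit ((Over.forget (D.obj i)).mapCone (postCone c i)) :=
  (Functor.Initial.isLimitWhiskerEquiv (Over.forget i) c).symm hc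

variable [∀ {i j : I} (f : i ⟶ j), IsAffineHom (D.map f)] (hc : IsLimit c) {i : I}

include hc in
theorem isLim (i : I) : IsLim (cop (postCone c i)) :=
  isLim_of_isLimit (isLimitPostCone hc i) (fun k => inferInstanceAs (IsAffineHom (D.map k.hom)))

variable {G E : (D.obj i).Modules}

section

variable [CompactSpace (D.obj i)]

include hc in
/-- Homs between pullbacks which agree on the limit agree at a later stage. -/
theorem exists_eq (hG : CohB1.IsFP G) (hE : Coh.IsQCoh E)
    (hE' : SheafOfModules.IsFiniteType (R := (D.obj i).ringCatSheaf) E) {j : I} (a : j ⟶ i)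
    (φ ψ : (Scheme.Modules.pullback (D.map a)).obj G ⟶ (Scheme.Modules.pullback (D.map a)).obj E)
    (h : pull (c.π.app j) (D.map a) (c.π.app i) (c.w a) φ =
      pull (c.π.app j) (D.map a) (c.π.app i) (c.w a) ψ) :
    ∃ (k : I) (b : k ⟶ j), pull (D.map b) (D.map a) (D.map (b ≫ a)) (D.map_comp b a).symm φ =
      pull (D.map b) (D.map a) (D.map (b ≫ a)) (D.map_comp b a).symm ψ := by
  obtain ⟨k, f, hk⟩ := exists_pull_eq (isLim hc i) hG hE hE' (op (Over.mk a)) φ ψ h
  have e : k.unop.hom = f.unop.left ≫ a := (Over.w f.unop).symm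
  have key : ∀ (a' : k.unop.left ⟶ i) (_ : k.unop.hom = a')
      (h1 : D.map f.unop.left ≫ D.map a = D.map a'),
      pull (D.map f.unop.left) (D.map a) (D.map a') h1 φ =
      pull (D.map f.unop.left) (D.map a) (D.map a') h1 ψ := by
    rintro _ rfl h1
    exact hk
  exact ⟨k.unop.left, f.unop.left, key _ e _⟩

variable [QuasiSeparatedSpace (D.obj i)]

include hc in
/-- Homs between pullbacks to the limit come from a stage. -/
theorem exists_hom (hG : CohB1.IsFP G) (hE : Coh.IsQCoh E)
    (hE' : SheafOfModules.IsFiniteType (R := (D.obj i).ringCatSheaf) E)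
    (φ : (Scheme.Modules.pullback (c.π.app i)).obj G ⟶ (Scheme.Modules.pullback (c.π.app i)).obj E) :
    ∃ (j : I) (a : j ⟶ i)
      (ψ : (Scheme.Modules.pullback (D.map a)).obj G ⟶ (Scheme.Modules.pullback (D.map a)).obj E),
      pull (c.π.app j) (D.map a) (c.π.app i) (c.w a) ψ = φ := by
  obtain ⟨k, ψ, hk⟩ := exists_pull_lift (isLim hc i) hG hE hE' φ
  exact ⟨k.unop.left, k.unop.hom, ψ, hk⟩

include hc in
/-- Isomorphisms between pullbacks to the limit come from a stage. -/
theorem exists_iso (hG : CohB1.IsFP G) (hE : CohB1.IsFP E)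
    (e : (Scheme.Modules.pullback (c.π.app i)).obj G ≅ (Scheme.Modules.pullback (c.π.app i)).obj E) :
    ∃ (j : I) (a : j ⟶ i)
      (e' : (Scheme.Modules.pullback (D.map a)).obj G ≅ (Scheme.Modules.pullback (D.map a)).obj E),
      pull (c.π.app j) (D.map a) (c.π.app i) (c.w a) e'.hom = e.hom := by
  obtain ⟨k, e', hk⟩ := exists_iso_lift (isLim hc i) hG hE e
  exact ⟨k.unop.left, k.unop.hom, e', hk⟩

end

include hc in
/-- A finitely presented module whose pullback to the limit is finite locally free has finite locally free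
pullback to all sufficiently late stages. -/
theorem exists_isFinLocFree [CompactSpace (D.obj i)] (hG : CohB1.IsFP G)
    (h : FlatMod.IsFinLocFree ((Scheme.Modules.pullback (c.π.app i)).obj G)) :
    ∃ (j : I) (a : j ⟶ i), ∀ (k : I) (b : k ⟶ j),
      FlatMod.IsFinLocFree ((Scheme.Modules.pullback (D.map (b ≫ a))).obj G) := by
  obtain ⟨j, f, hj⟩ := exists_isFinLocFree_stage (isLim hc i) hG h (op (Over.mk (𝟙 i)))
  exact ⟨j.unop.left, j.unop.hom, fun k b => hj (op (Over.mk (b ≫ j.unop.hom)))
    (Over.homMk b rfl : Over.mk (b ≫ j.unop.hom) ⟶ j.unop).op⟩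

theorem isInvertible_of_iso {X : Scheme.{u}} {M N : X.Modules} (e : M ≅ N) (h : PicF.IsInvertible M) :
    PicF.IsInvertible N := by
  intro x
  obtain ⟨U, hx, ⟨f⟩⟩ := h x
  exact ⟨U, hx, ⟨((Scheme.Modules.restrictFunctor U.ι).mapIso e).symm ≪≫ f⟩⟩

end Groth.Agent.PerfB.LimMod
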