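import Groth.Agent.PerfB.LimMod
import Groth.Agent.Ega2.QCohLocal

/-!
# Invertibility of a finitely presented module descends from a limit of schemes to a stage
-/

set_option autoImplicit false
universe u v w
open CategoryTheory CategoryTheory.Limits AlgebraicGeometry Opposite TopologicalSpace

namespace Groth.Agent.PerfB.LimMod

open HomLim PushPull Groth.Agent.Flat2F.BCSec

theorem isInvertible_pullback {X X' : Scheme.{u}} (g : X' ⟶ X) {L : X.Modules} (h : PicF.IsInvertible L) :
    PicF.IsInvertible ((Scheme.Modules.pullback g).obj L) := by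
  rw [Groth.Agent.Fdesc.LocGen.isInvertible_iff] at h ⊢
  intro x
  obtain ⟨U, e, hx, he⟩ := h (g x)
  exact ⟨g ⁻¹ᵁ U, _, hx, he.pullSec g⟩

variable {I : Type u} [SmallCategory I] [IsCofiltered I] {D : I ⥤ Scheme.{u}} {c : Cone D}
  [∀ {i j : I} (f : i ⟶ j), IsAffineHom (D.map f)] (hc : IsLimit c) {i : I}

include hc in
/-- A finitely presented module whose pullback to the limit is invertible has invertible
pullback to all sufficiently late stages. -/
theorem exists_isInvertible [∀ i, CompactSpace (D.obj i)] [∀ i, QuasiSeparatedSpace (D.obj i)]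
    {G : (D.obj i).Modules} (hG : CohB1.IsFP G)
    (h : PicF.IsInvertible ((Scheme.Modules.pullback (c.π.app i)).obj G)) :
    ∃ (j : I) (a : j ⟶ i), ∀ (k : I) (b : k ⟶ j),
      PicF.IsInvertible ((Scheme.Modules.pullback (D.map (b ≫ a))).obj G) := by
  obtain ⟨i', M, hM, ⟨e⟩⟩ := Ega3B.LimInv.exists_invertible D c hc h
  let j₀ := IsCofiltered.min i i'
  let p : j₀ ⟶ i := IsCofiltered.minToLeft i i'
  let q : j₀ ⟶ i' := IsCofiltered.minToRight i i'
  let G₀ := (Scheme.Modules.pullback (D.map p)).obj G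
  let M₀ := (Scheme.Modules.pullback (D.map q)).obj M
  have hM₀ : PicF.IsInvertible M₀ := isInvertible_pullback _ hM
  have e₀ : (Scheme.Modules.pullback (c.π.app j₀)).obj M₀ ≅ (Scheme.Modules.pullback (c.π.app j₀)).obj G₀ :=
    cmp (c.π.app j₀) (D.map q) (c.π.app i') (c.w q) M ≪≫ e ≪≫
      (cmp (c.π.app j₀) (D.map p) (c.π.app i) (c.w p) G).symm
  have hM₁ : CohB1.IsFP M₀ := Desc.FinLocFreeSections.isFP_of_isFinLocFree (fun x => by
    obtain ⟨U, hx, h⟩ := (Ega2.QCohLocal.isFinLocFreeOfRank_one_iff.mpr hM₀) x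
    exact ⟨U, 1, hx, h⟩)
  obtain ⟨j, a, e', -⟩ := exists_iso hc hM₁ (FormalA.PullbackQC.isFP_pullback _ _ hG) e₀
  refine ⟨j, a ≫ p, fun k b => ?_⟩
  have e₁ : (Scheme.Modules.pullback (D.map (b ≫ a))).obj M₀ ≅
      (Scheme.Modules.pullback (D.map (b ≫ a ≫ p))).obj G :=
    (cmp (D.map b) (D.map a) (D.map (b ≫ a)) (D.map_comp b a).symm M₀).symm ≪≫
      (Scheme.Modules.pullback (D.map b)).mapIso e' ≪≫
      (Scheme.Modules.pullback (D.map b)).mapIso
        (cmp (D.map a) (D.map p) (D.map (a ≫ p)) (D.map_comp a p).symm G) ≪≫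
      cmp (D.map b) (D.map (a ≫ p)) (D.map (b ≫ a ≫ p)) (D.map_comp _ _).symm G
  exact isInvertible_of_iso e₁ (isInvertible_pullback _ hM₀)

end Groth.Agent.PerfB.LimMod
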