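import Mathlib.Algebra.Homology.DerivedCategory.HomologySequence
import Mathlib.Algebra.Homology.DerivedCategory.TStructure

/-!
# Cones of morphisms which are epimorphisms in the top degree
-/

set_option autoImplicit false
universe u v w
open CategoryTheory CategoryTheory.Limits CategoryTheory.Pretriangulated

namespace Groth.Agent.PerfB.PCCone

variable {A : Type u} [Category.{v} A] [Abelian A] [HasDerivedCategory.{w} A]

/-- If `L ⟶ K` is an epimorphism on `H^b` and `K, L` are in degrees `≤ b`, then the cone is in degrees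
`≤ b - 1`. -/
lemma isLE_obj₃ (T : Triangle (DerivedCategory A)) (hT : T ∈ distTriang _) (b : ℤ)
    (h₁ : T.obj₁.IsLE b) (h₂ : T.obj₂.IsLE b)
    (h : Epi ((DerivedCategory.homologyFunctor A b).map T.mor₁)) (c : ℤ) (hc : c + 1 = b) :
    T.obj₃.IsLE c := by
  rw [DerivedCategory.isLE_iff]
  intro i hi
  have h0 : IsZero ((DerivedCategory.homologyFunctor A (i + 1)).obj T.obj₁) :=
    T.obj₁.isZero_of_isLE b (i + 1) (by omega)
  have h3 := DerivedCategory.HomologySequence.exact₃ T hT i (i + 1) rfl
  have hepi : Epi ((DerivedCategory.homologyFunctor A i).map T.mor₂) :=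
    h3.epi_f (h0.eq_of_tgt _ _)
  have hz : (DerivedCategory.homologyFunctor A i).map T.mor₂ = 0 := by
    by_cases hib : i = b
    · subst hib
      exact (DerivedCategory.HomologySequence.epi_homologyMap_mor₁_iff T hT i).1 h
    · exact (T.obj₂.isZero_of_isLE b i (by omega)).eq_of_src _ _
  rw [hz] at hepi
  exact IsZero.of_epi_zero ((DerivedCategory.homologyFunctor A i).obj T.obj₂) _

/-- In degrees `i < b - 1` the cohomology of the cone is that of `K`. -/
lemma isIso_homology_mor₂ (T : Triangle (DerivedCategory A)) (hT : T ∈ distTriang _) (i : ℤ)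
    (h₁ : IsZero ((DerivedCategory.homologyFunctor A i).obj T.obj₁))
    (h₂ : IsZero ((DerivedCategory.homologyFunctor A (i + 1)).obj T.obj₁)) :
    IsIso ((DerivedCategory.homologyFunctor A i).map T.mor₂) := by
  have h3 := DerivedCategory.HomologySequence.exact₃ T hT i (i + 1) rfl
  have : Epi ((DerivedCategory.homologyFunctor A i).map T.mor₂) := h3.epi_f (h₂.eq_of_tgt _ _)
  have h2 := DerivedCategory.HomologySequence.exact₂ T hT i
  have : Mono ((DerivedCategory.homologyFunctor A i).map T.mor₂) := h2.mono_g (h₁.eq_of_src _ _)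
  exact isIso_of_mono_of_epi _

lemma mono_homology_mor₂ (T : Triangle (DerivedCategory A)) (hT : T ∈ distTriang _) (i : ℤ)
    (h₁ : IsZero ((DerivedCategory.homologyFunctor A i).obj T.obj₁)) :
    Mono ((DerivedCategory.homologyFunctor A i).map T.mor₂) :=
  (DerivedCategory.HomologySequence.exact₂ T hT i).mono_g (h₁.eq_of_src _ _)

end Groth.Agent.PerfB.PCCone
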