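import Groth.Agent.PerfB.PCLift
import Groth.Agent.PerfB.PCCone
import Groth.Agent.PerfB.FlatPull
import Groth.Agent.S0889
import Groth.Agent.S0890

/-!
# Descent of `m`-pseudo-coherence along flat surjective morphisms

No quasi-coherence is needed: the only input is that modules whose pullback is of finite type are of
finite type.
-/

set_option autoImplicit false
universe u
open CategoryTheory CategoryTheory.Limits AlgebraicGeometry CategoryTheory.Pretriangulated
attribute [local instance] HasDerivedCategory.standard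

namespace Groth.Agent.PerfB.PCDesc
open Groth.Agent.PerfA Groth.Agent.PerfA.Restrict Groth.Agent.PerfC.PcLocal
open Groth.Agent.PerfB.PCLift Groth.Agent.PerfB.PCCone Groth.Agent.PerfB.FlatPull

/-- Descent of pseudo-coherence for objects bounded above by `b`, along morphisms with a property `W`
stable under base change, implying flat, surjective and descent of "finite type". -/
theorem pc_descends_aux (W : MorphismProperty Scheme.{u}) [W.IsStableUnderBaseChange]
    (hW1 : ∀ {X Y : Scheme.{u}} (f : X ⟶ Y), W f → Flat f)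
    (hW2 : ∀ {X Y : Scheme.{u}} (f : X ⟶ Y), W f → Surjective f)
    (hW3 : ∀ {X Y : Scheme.{u}} (f : X ⟶ Y), W f → ∀ M : Y.Modules,
      CohB1.IsFT ((Scheme.Modules.pullback f).obj M) → CohB1.IsFT M) (k : ℕ) :
    ∀ {X' X : Scheme.{u}} (f : X' ⟶ X) [Flat f] (_ : W f) (E : DCoh.D X) (b m : ℤ)
      (_ : E.IsLE b) (_ : b - m < k) (_ : DCoh.IsPseudoCoherentD m ((pullbackD f).obj E)),
      DCoh.IsPseudoCoherentD m E := by
  induction k with
  | zero =>
    intro X' X f _ hf E b m hb hk hE
    exact pc_of_vanish fun i hi => E.isZero_of_isLE b i (by push_cast at hk; omega)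
  | succ k ih =>
    intro X' X f _ hf E b m hb hk hE
    have := hW2 f hf
    by_cases hbm : b < m
    · exact pc_of_vanish fun i hi => E.isZero_of_isLE b i (by omega)
    -- `H^b(E)` is of finite type
    have hft : CohB1.IsFT (DCoh.HD E b) := by
      apply hW3 f hf
      have h1 : DCoh.IsPseudoCoherentD b ((pullbackD f).obj E) := pc_mono (by omega) hE
      have h2 := (S0890.result b _ h1).1 fun i hi => by
        have : ((pullbackD f).obj E).IsLE b := (isLE_pullbackD_iff f E b).2 hb
        exact ((pullbackD f).obj E).isZero_of_isLE b i hi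
      exact isFT_of_iso (HDpullback f E b) h2
    apply pc_of_cover
    intro x
    obtain ⟨U, j, hj, y, n, α, rfl, hα⟩ := exists_free_approx E b hft x
    refine ⟨U, j, hj, y, rfl, ?_⟩
    obtain ⟨C, β, γ, hT⟩ := distinguished_cocone_triangle α
    let T := Triangle.mk α β γ
    have hL : (DerivedCategory.Q.obj (freeCx U n b)).IsLE b := by
      have : (freeCx U n b).IsStrictlyLE b :=
        (CochainComplex.isStrictlyLE_iff _ _).2 fun i hi =>
          HomologicalComplex.isZero_single_obj_X _ _ _ _ (by omega)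
      infer_instance
    have hC : C.IsLE (b - 1) := isLE_obj₃ T hT b hL (ExactD.isLE_map _ E b) hα (b - 1) (by omega)
    -- base change
    let f' : pullback f j ⟶ U := pullback.snd f j
    have hf' : W f' := MorphismProperty.pullback_snd f j hf
    have : Flat f' := hW1 f' hf'
    have hj' : IsOpenImmersion (pullback.fst f j) := inferInstance
    have hE' : DCoh.IsPseudoCoherentD m ((pullbackD f').obj ((restrictD j).obj E)) :=
      pc_of_iso ((pullbackDSquare pullback.condition).app E) (pc_restrict (pullback.fst f j) hE)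
    have hP : DCoh.IsPseudoCoherentD (m + 1)
        ((pullbackD f').obj (DerivedCategory.Q.obj (freeCx U n b))) :=
      isPseudoCoherentD_pullbackD f' (pc_of_isStrictlyPerfect (isStrictlyPerfect_freeCx n b) _)
    have hC' : DCoh.IsPseudoCoherentD m ((pullbackD f').obj C) :=
      (S0889.result m ((pullbackD f').mapTriangle.obj T)
        ((pullbackD f').map_distinguished T hT)).1 hP hE'
    have hCm : DCoh.IsPseudoCoherentD m C := ih f' hf' C (b - 1) m hC (by push_cast at hk; omega) hC'
    exact (S0889.result m T hT).2.1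
      (pc_of_isStrictlyPerfect (isStrictlyPerfect_freeCx n b) _) hCm

/-- An object with an `m`-approximation is bounded above. -/
lemma exists_isLE_of_hasApprox {X : Scheme.{u}} {m : ℤ} {K : DCoh.D X} (h : HasApprox m K) :
    ∃ b : ℤ, K.IsLE b := by
  obtain ⟨E, α, hE, h1, -⟩ := h
  obtain ⟨a, b, -, hb⟩ := exists_bounds_of_isStrictlyPerfect E hE
  refine ⟨max m b, ?_⟩
  rw [DerivedCategory.isLE_iff]
  intro i hi
  have := h1 i (lt_of_le_of_lt (le_max_left _ _) hi)
  exact ((DerivedCategory.Q.obj E).isZero_of_isLE b i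
    (lt_of_le_of_lt (le_max_right _ _) hi)).of_iso
    (asIso ((DerivedCategory.homologyFunctor _ i).map α)).symm

/-- An `m`-pseudo-coherent object on a quasi-compact scheme is bounded above. -/
lemma exists_isLE_of_pc {X : Scheme.{u}} [CompactSpace X] {m : ℤ} (K : DCoh.D X)
    (hK : DCoh.IsPseudoCoherentD m K) : ∃ b : ℤ, K.IsLE b := by
  have h : ∀ x : X, ∃ (V : X.Opens) (b : ℤ), x ∈ V ∧ ((restrictD V.ι).obj K).IsLE b := fun x => by
    obtain ⟨V, hx, hV⟩ := (pc_iff m K).1 hK x
    obtain ⟨b, hb⟩ := exists_isLE_of_hasApprox hV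
    exact ⟨V, b, hx, hb⟩
  choose V b hxV hb using h
  obtain ⟨t, ht⟩ := CompactSpace.elim_nhds_subcover (fun x => (V x : Set X))
    (fun x => (V x).isOpen.mem_nhds (hxV x))
  obtain ⟨B, hB⟩ : ∃ B : ℤ, ∀ x ∈ t, b x ≤ B := by
    obtain ⟨B, hB⟩ := (t.finite_toSet.image b).bddAbove
    exact ⟨B, fun x hx => hB ⟨x, hx, rfl⟩⟩
  have hcov : ∀ y : X, ∃ x ∈ t, y ∈ V x := fun y => by
    have : y ∈ (⊤ : Set X) := trivial
    rw [← ht] at this
    simpa using this
  refine ⟨B, isLE_of_restrictD_opens K B fun y => ?_⟩
  obtain ⟨x, hx, hy⟩ := hcov y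
  exact ⟨V x, hy, DerivedCategory.TStructure.t.isLE_of_le _ _ _ (hB x hx)⟩

end Groth.Agent.PerfB.PCDesc
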