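import Groth.Agent.PerfB.PCDesc
import Groth.Agent.PerfB.DescFT

/-!
# Descent of `m`-pseudo-coherence along flat surjective quasi-compact morphisms
-/

set_option autoImplicit false
universe u
open CategoryTheory CategoryTheory.Limits AlgebraicGeometry CategoryTheory.Pretriangulated
attribute [local instance] HasDerivedCategory.standard

namespace Groth.Agent.PerfB.PCFpqc
open Groth.Agent.PerfA Groth.Agent.PerfA.Restrict Groth.Agent.PerfC.PcLocal
open Groth.Agent.PerfB.PCLift Groth.Agent.PerfB.PCCone Groth.Agent.PerfB.FlatPull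
open Groth.Agent.PerfB.PCDesc Groth.Agent.PerfB.DescFT

/-- Flat, surjective and quasi-compact. -/
def fsqc : MorphismProperty Scheme.{u} := (@Flat ⊓ @Surjective : MorphismProperty Scheme.{u}) ⊓ @QuasiCompact

instance : (fsqc.{u}).IsStableUnderBaseChange := by
  unfold fsqc
  infer_instance

/-- `m`-pseudo-coherence descends along flat surjective quasi-compact morphisms, for arbitrary objects
of `D(O_X)`. -/
theorem pc_of_pullbackD {X' X : Scheme.{u}} (f : X' ⟶ X) [Flat f] [Surjective f] [QuasiCompact f]
    (E : DCoh.D X) (m : ℤ) (h : DCoh.IsPseudoCoherentD m ((pullbackD f).obj E)) :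
    DCoh.IsPseudoCoherentD m E := by
  apply pc_of_cover
  intro x
  obtain ⟨V, hV, hx, -⟩ := AlgebraicGeometry.exists_isAffineOpen_mem_and_subset (X := X) (x := x)
    (U := ⊤) trivial
  refine ⟨V, V.ι, inferInstance, ⟨x, hx⟩, rfl, ?_⟩
  let f' : pullback f V.ι ⟶ V := pullback.snd f V.ι
  have : Flat f' := inferInstance
  have : Surjective f' := inferInstance
  have : QuasiCompact f' := inferInstance
  have : CompactSpace V := isCompact_iff_compactSpace.1 hV.isCompact
  have : CompactSpace (pullback f V.ι : Scheme.{u}) := QuasiCompact.compactSpace_of_compactSpace f'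
  have h1 : DCoh.IsPseudoCoherentD m ((pullbackD f').obj ((restrictD V.ι).obj E)) :=
    pc_of_iso ((pullbackDSquare pullback.condition).app E) (pc_restrict (pullback.fst f V.ι) h)
  obtain ⟨b, hb⟩ := exists_isLE_of_pc _ h1
  rw [isLE_pullbackD_iff] at hb
  exact pc_descends_aux fsqc (fun _ h => h.1.1) (fun _ h => h.1.2)
    (fun f h M hM => by
      have := h.1.1
      have := h.1.2
      have := h.2
      exact isFT_of_pullback_of_quasiCompact f M hM) (b - m + 1).toNat f'
    ⟨⟨inferInstance, inferInstance⟩, inferInstance⟩ _ b m hb (by omega) h1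

theorem pc_pullbackD_iff {X' X : Scheme.{u}} (f : X' ⟶ X) [Flat f] [Surjective f] [QuasiCompact f]
    (E : DCoh.D X) (m : ℤ) : DCoh.IsPseudoCoherentD m ((pullbackD f).obj E) ↔
      DCoh.IsPseudoCoherentD m E :=
  ⟨pc_of_pullbackD f E m, fun h => isPseudoCoherentD_pullbackD f h⟩

end Groth.Agent.PerfB.PCFpqc
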