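import Groth.Agent.PerfC.PcLocal
import Groth.Agent.Dcoh.LocLift
import Groth.Agent.CohqA.FinLocal

/-!
# Local free approximations in the top degree

If `K ∈ D(O_X)` has `H^i(K) = 0` for `i > b` and `H^b(K)` is of finite type, then locally on `X` there
is a morphism `O_V^n[-b] ⟶ K|_V` which is an epimorphism on `H^b`.
-/

set_option autoImplicit false
universe u v w
open CategoryTheory CategoryTheory.Limits AlgebraicGeometry

attribute [local instance] HasDerivedCategory.standard

namespace Groth.Agent.PerfB.PCLift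
open Groth.Agent.PerfA Groth.Agent.PerfA.Restrict Groth.Agent.PerfC.PcLocal

section Abstract

variable {A : Type u} [Category.{v} A] [Abelian A]

/-- For a complex which vanishes in degree `b + 1`, the projection `K^b ⟶ H^b(K)`. -/
noncomputable def toH (K : CochainComplex A ℤ) (b : ℤ) (h : IsZero (K.X (b + 1))) :
    K.X b ⟶ K.homology b :=
  haveI : IsIso (K.homologyι b) :=
    K.isIso_homologyι b (b + 1) (by simp) (h.eq_of_tgt _ _)
  K.pOpcycles b ≫ inv (K.homologyι b)

instance epi_toH (K : CochainComplex A ℤ) (b : ℤ) (h : IsZero (K.X (b + 1))) :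
    Epi (toH K b h) := by
  unfold toH
  infer_instance

lemma toH_ι (K : CochainComplex A ℤ) (b : ℤ) (h : IsZero (K.X (b + 1))) :
    toH K b h ≫ K.homologyι b = K.pOpcycles b := by
  have : IsIso (K.homologyι b) :=
    K.isIso_homologyι b (b + 1) (by simp) (h.eq_of_tgt _ _)
  simp [toH]

lemma toH_naturality {K L : CochainComplex A ℤ} (f : K ⟶ L) (b : ℤ) (h : IsZero (K.X (b + 1)))
    (h' : IsZero (L.X (b + 1))) :
    toH K b h ≫ HomologicalComplex.homologyMap f b = f.f b ≫ toH L b h' := by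
  have : IsIso (L.homologyι b) :=
    L.isIso_homologyι b (b + 1) (by simp) (h'.eq_of_tgt _ _)
  rw [← cancel_mono (L.homologyι b), Category.assoc, Category.assoc, toH_ι,
    HomologicalComplex.homologyι_naturality, ← Category.assoc, toH_ι]
  simp

/-- The chain map `M[-b] ⟶ K` attached to a morphism `M ⟶ K^b`, when `K^{b+1} = 0`. -/
noncomputable def fromSingle (K : CochainComplex A ℤ) (b : ℤ) (h : IsZero (K.X (b + 1))) {M : A}
    (ψ : M ⟶ K.X b) : (HomologicalComplex.single A (ComplexShape.up ℤ) b).obj M ⟶ K :=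
  HomologicalComplex.mkHomFromSingle ψ (by
    rintro k hk
    obtain rfl : b + 1 = k := by simpa using hk
    exact h.eq_of_tgt _ _)

lemma epi_homologyMap_fromSingle (K : CochainComplex A ℤ) (b : ℤ) (h : IsZero (K.X (b + 1))) {M : A}
    (ψ : M ⟶ K.X b) [Epi (ψ ≫ toH K b h)] :
    Epi (HomologicalComplex.homologyMap (fromSingle K b h ψ) b) := by
  have h' : IsZero (((HomologicalComplex.single A (ComplexShape.up ℤ) b).obj M).X (b + 1)) :=
    HomologicalComplex.isZero_single_obj_X _ _ _ _ (by omega)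
  have h1 := toH_naturality (fromSingle K b h ψ) b h' h
  have h2 : (fromSingle K b h ψ).f b = (HomologicalComplex.singleObjXSelf _ b M).hom ≫ ψ := by
    simp [fromSingle]
  rw [h2, Category.assoc] at h1
  have : Epi ((HomologicalComplex.singleObjXSelf (ComplexShape.up ℤ) b M).hom ≫
      ψ ≫ toH K b h) := epi_comp _ _
  rw [← h1] at this
  exact epi_of_epi (toH _ b h') _

/-- `H^b` is the cokernel of `K^{b-1} ⟶ K^b` if `K^{b+1} = 0`. -/
lemma toH_d (K : CochainComplex A ℤ) (b : ℤ) (h : IsZero (K.X (b + 1))) :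
    K.d (b - 1) b ≫ toH K b h = 0 := by
  simp [toH]

noncomputable def isColimitToH (K : CochainComplex A ℤ) (b : ℤ) (h : IsZero (K.X (b + 1))) :
    IsColimit (CokernelCofork.ofπ (toH K b h) (toH_d K b h)) :=
  haveI : IsIso (K.homologyι b) :=
    K.isIso_homologyι b (b + 1) (by simp) (h.eq_of_tgt _ _)
  IsColimit.ofIsoColimit (K.opcyclesIsCokernel (b - 1) b (by simp))
    (Cofork.ext (asIso (inv (K.homologyι b))) rfl)

variable {B : Type w} [Category.{v} B] [Abelian B] (F : A ⥤ B) [F.Additive]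
  [PreservesFiniteColimits F]

lemma exists_map_toH (K : CochainComplex A ℤ) (b : ℤ) (h : IsZero (K.X (b + 1)))
    (h' : IsZero (((F.mapHomologicalComplex (ComplexShape.up ℤ)).obj K).X (b + 1))) :
    ∃ g, F.map (toH K b h) ≫ g = toH ((F.mapHomologicalComplex _).obj K) b h' := by
  obtain ⟨l, hl⟩ := CokernelCofork.IsColimit.desc' (CokernelCofork.mapIsColimit _ (isColimitToH K b h) F)
    (toH ((F.mapHomologicalComplex _).obj K) b h') (toH_d ((F.mapHomologicalComplex _).obj K) b h')
  exact ⟨l, hl⟩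

lemma epi_comp_toH_of_map (K : CochainComplex A ℤ) (b : ℤ) (h : IsZero (K.X (b + 1)))
    (h' : IsZero (((F.mapHomologicalComplex (ComplexShape.up ℤ)).obj K).X (b + 1)))
    {M : B} (ψ : M ⟶ F.obj (K.X b)) [Epi (ψ ≫ F.map (toH K b h))] :
    Epi (show M ⟶ ((F.mapHomologicalComplex _).obj K).homology b from
      ψ ≫ toH ((F.mapHomologicalComplex _).obj K) b h') := by
  obtain ⟨g, hg⟩ := exists_map_toH F K b h h'
  have : Epi g := by
    have h3 : Epi (F.map (toH K b h) ≫ g) := by
      rw [hg]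
      exact epi_toH _ b h'
    exact epi_of_epi (F.map (toH K b h)) g
  have : Epi ((ψ ≫ F.map (toH K b h)) ≫ g) := epi_comp _ _
  rw [Category.assoc, hg] at this
  exact this

end Abstract

lemma epi_map_of_natIso {C D : Type*} [Category* C] [Category* D] {F G : C ⥤ D} (e : F ≅ G)
    {X Y : C} (f : X ⟶ Y) (h : Epi (G.map f)) : Epi (F.map f) := by
  have h1 : F.map f = e.hom.app X ≫ G.map f ≫ e.inv.app Y := by
    rw [← Category.assoc, ← e.hom.naturality f, Category.assoc, Iso.hom_inv_id_app,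
      Category.comp_id]
  rw [h1]
  infer_instance

lemma epi_homology_Q_map {C : Type u} [Category.{v} C] [Abelian C] [HasDerivedCategory.{w} C]
    {K L : CochainComplex C ℤ} (f : K ⟶ L) (b : ℤ)
    (h : Epi (HomologicalComplex.homologyMap f b)) :
    Epi ((DerivedCategory.homologyFunctor _ b).map (DerivedCategory.Q.map f)) :=
  epi_map_of_natIso (F := DerivedCategory.Q ⋙ DerivedCategory.homologyFunctor C b)
    (DerivedCategory.homologyFunctorFactors C b) f h

section FT

variable {X Y : Scheme.{u}}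

/-- A module generated by finitely many global sections is a quotient of a finite free module. -/
lemma exists_epi_freeMod_of_gfg {M : X.Modules} (h : CohqA.FinLocal.GFG M) :
    ∃ (n : ℕ) (π : FlatMod.freeMod X n ⟶ M), Epi π := by
  obtain ⟨G, hG⟩ := h
  have : Finite G.I := SheafOfModules.GeneratingSections.IsFiniteType.finite
  obtain ⟨n, ⟨e⟩⟩ := Finite.exists_equiv_fin G.I
  have : Epi G.π := G.epi
  let g : ∀ i : G.I, Coh.structureModule X ⟶ M := fun i => SheafOfModules.ιFree i ≫ G.π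
  refine ⟨n, Limits.Sigma.desc fun i => g (e.symm i), ⟨fun {Z} a b hab => ?_⟩⟩
  have h2 : ∀ i, g i ≫ a = g i ≫ b := by
    intro i
    have := congrArg (fun t => Limits.Sigma.ι (fun _ : Fin n => Coh.structureModule X) (e i) ≫ t) hab
    simpa using this
  have h3 : G.π ≫ (show M ⟶ Z from a) = G.π ≫ b := by
    refine Cofan.IsColimit.hom_ext (SheafOfModules.isColimitFreeCofan _) _ _ fun i => ?_
    exact h2 i
  exact (cancel_epi G.π).1 h3

/-- A module of finite type is locally a quotient of a finite free module. -/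
lemma exists_epi_freeMod (M : X.Modules) (hM : CohB1.IsFT M) (x : X) :
    ∃ (V : X.Opens) (n : ℕ) (π : FlatMod.freeMod V n ⟶ M.restrict V.ι), x ∈ V ∧ Epi π := by
  obtain ⟨V, hx, hV⟩ := (CohqA.FinLocal.isFT_iff M).1 hM x
  obtain ⟨n, π, hπ⟩ := exists_epi_freeMod_of_gfg hV
  exact ⟨V, n, π, hx, hπ⟩

lemma isFT_of_iso {M N : X.Modules} (e : M ≅ N) (hM : CohB1.IsFT M) : CohB1.IsFT N := by
  rw [CohB1.IsFT, CohqA.FinLocal.isFT_iff] at hM ⊢
  intro x
  obtain ⟨U, hx, hU⟩ := hM x
  exact ⟨U, hx, hU.of_iso ((Scheme.Modules.restrictFunctor U.ι).mapIso e)⟩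

/-- The free module `O_X^n` placed in degree `b`. -/
noncomputable abbrev freeCx (X : Scheme.{u}) (n : ℕ) (b : ℤ) : CochainComplex X.Modules ℤ :=
  (HomologicalComplex.single X.Modules (ComplexShape.up ℤ) b).obj (FlatMod.freeMod X n)

lemma isStrictlyPerfect_freeCx (n : ℕ) (b : ℤ) : DCoh.IsStrictlyPerfect (freeCx X n b) := by
  refine ⟨⟨b, b, fun i hi => HomologicalComplex.isZero_single_obj_X _ _ _ _ (by omega)⟩,
    fun i => ?_⟩
  by_cases h : i = b
  · subst h
    exact isFinLocFree_of_iso (HomologicalComplex.singleObjXSelf _ i _).symm (isFinLocFree_freeMod n)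
  · exact isFinLocFree_of_isZero (HomologicalComplex.isZero_single_obj_X _ _ _ _ h)

/-- Local free approximation in the top degree. -/
lemma exists_free_approx (K : DCoh.D X) (b : ℤ) [K.IsLE b] (hFT : CohB1.IsFT (DCoh.HD K b))
    (x : X) : ∃ (U : Scheme.{u}) (j : U ⟶ X) (_ : IsOpenImmersion j) (y : U) (n : ℕ)
      (α : DerivedCategory.Q.obj (freeCx U n b) ⟶ (restrictD j).obj K),
      j y = x ∧ Epi ((DerivedCategory.homologyFunctor _ b).map α) := by
  obtain ⟨F, hF, ⟨e⟩⟩ := K.exists_iso_Q_obj_of_isLE b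
  have hFT' : CohB1.IsFT (F.homology b) := isFT_of_iso
    ((DerivedCategory.homologyFunctor _ b).mapIso e ≪≫
      (DerivedCategory.homologyFunctorFactors _ b).app F) hFT
  obtain ⟨V, n, π, hx, hπ⟩ := exists_epi_freeMod _ hFT' x
  have h1 : IsZero (F.X (b + 1)) := F.isZero_of_isStrictlyLE b (b + 1) (by omega)
  let p := toH F b h1
  let p' := (Scheme.Modules.restrictFunctor V.ι).map p
  have hp' : Epi p' := inferInstance
  obtain ⟨V', hx', ψ, hψ⟩ := Dcoh.LocLift.exists_lifts_of_isFinLocFree p' π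
    (isFinLocFree_freeMod n) ⟨x, hx⟩
  let R := Scheme.Modules.restrictFunctor V.ι ⋙ Scheme.Modules.restrictFunctor V'.ι
  let G := (R.mapHomologicalComplex (ComplexShape.up ℤ)).obj F
  have h2 : IsZero (G.X (b + 1)) := R.map_isZero h1
  let ψ' : FlatMod.freeMod V' n ⟶ R.obj (F.X b) := (freeModRestrict V'.ι n).inv ≫ ψ
  have h3 : Epi (ψ' ≫ R.map (toH F b h1)) := by
    have : ψ' ≫ R.map (toH F b h1) =
      (freeModRestrict V'.ι n).inv ≫ (Scheme.Modules.restrictFunctor V'.ι).map π := by
      rw [← hψ]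
      simp [ψ', R, p', p]
    rw [this]
    infer_instance
  have h4 : Epi (show FlatMod.freeMod V' n ⟶ G.homology b from ψ' ≫ toH G b h2) :=
    epi_comp_toH_of_map R F b h1 h2 ψ'
  have h5 := epi_homologyMap_fromSingle G b h2 ψ'
  let E : (restrictD (V'.ι ≫ V.ι)).obj K ≅ DerivedCategory.Q.obj G :=
    (restrictDComp V'.ι V.ι).symm.app K ≪≫
    (restrictD V'.ι).mapIso ((restrictD V.ι).mapIso e ≪≫ restrictDQ V.ι F) ≪≫
    restrictDQ V'.ι _
  refine ⟨V', V'.ι ≫ V.ι, inferInstance, ⟨⟨x, hx⟩, hx'⟩, n,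
    DerivedCategory.Q.map (fromSingle G b h2 ψ') ≫ E.inv, rfl, ?_⟩
  rw [Functor.map_comp]
  have h6 : Epi ((DerivedCategory.homologyFunctor _ b).map
      (DerivedCategory.Q.map (fromSingle G b h2 ψ'))) := by
    exact epi_homology_Q_map _ b h5
  infer_instance

end FT

end Groth.Agent.PerfB.PCLift
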