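import Groth.Agent.PerfA.PCohQCoh
import Groth.Agent.PerfA.QCohD
import Groth.Agent.PerfA.Hyp0
import Groth.Agent.PerfB.PCCone
import Groth.Agent.PerfB.PCDesc
import Groth.Agent.PerfB.ExactDevissage
import Groth.Agent.PerfB.BoundedInd
import Groth.Agent.Cohder.PCTri2
import Groth.Agent.S0890

/-!
# Dévissage of pseudo-coherent complexes

Let `R` be a triangulated class of objects of `D(O_X)` such that for each pseudo-coherent `K` which is `≤ b`
there are a module `M` with `M[0] ∈ R` pseudo-coherent and a map `M[-b] ⟶ K` which is an epimorphism on `H^b`.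
Then every pseudo-coherent `K` which is `≤ b` has approximations `P ⟶ K` by objects of `R`, with cone `≤ b - k`
for `k` arbitrarily large.
-/

set_option autoImplicit false

universe w v u

open CategoryTheory CategoryTheory.Limits AlgebraicGeometry Opposite Pretriangulated
attribute [local instance] HasDerivedCategory.standard

namespace Groth.Agent.PerfB.PcDev

open Groth.Agent.PerfA Groth.Agent.PerfC.PcLocal Groth.Agent.PerfA.Hyp0 ExactDevissage ZeroObject

section Abstract

variable {A : Type u} [Category.{v} A] [Abelian A] [HasDerivedCategory.{w} A]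

lemma epi_homology_iff_toH {G : A} {K : DerivedCategory A} {m : ℤ}
    (φ : (DerivedCategory.singleFunctor A m).obj G ⟶ K) :
    Epi ((DerivedCategory.homologyFunctor A m).map φ) ↔ Epi (toH φ) := by
  unfold toH
  constructor
  · intro h
    exact epi_comp _ _
  · intro h
    exact (epi_comp_iff_of_epi ((DerivedCategory.singleFunctorCompHomologyFunctorIso A m).inv.app G) _).1 h

lemma toH_sum {G : A} {K : DerivedCategory A} {m : ℤ} {J : Type*} (s : Finset J)
    (φ : J → ((DerivedCategory.singleFunctor A m).obj G ⟶ K)) :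
    toH (∑ i ∈ s, φ i) = ∑ i ∈ s, toH (φ i) := by
  classical
  induction s using Finset.induction_on with
  | empty => simp [toH_zero]
  | insert a s ha ih => rw [Finset.sum_insert ha, Finset.sum_insert ha, toH_add, ih]

/-- Finitely many maps `M_i[-m] ⟶ K` which are jointly epi on `H^m` give one map from the sum. -/
theorem exists_sum {J : Type} [Fintype J] (M : J → A) [HasBiproduct M] {K : DerivedCategory A} {m : ℤ}
    (φ : ∀ i, (DerivedCategory.singleFunctor A m).obj (M i) ⟶ K)
    (h : ∀ (T : A) (t : (DerivedCategory.homologyFunctor A m).obj K ⟶ T),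
      (∀ i, toH (φ i) ≫ t = 0) → t = 0) :
    ∃ ψ : (DerivedCategory.singleFunctor A m).obj (⨁ M) ⟶ K,
      Epi ((DerivedCategory.homologyFunctor A m).map ψ) := by
  classical
  refine ⟨∑ i, (DerivedCategory.singleFunctor A m).map (biproduct.π M i) ≫ φ i, ?_⟩
  rw [epi_homology_iff_toH, Preadditive.epi_iff_cancel_zero]
  intro T t ht
  refine h T t fun i => ?_
  have h1 : toH (∑ i, (DerivedCategory.singleFunctor A m).map (biproduct.π M i) ≫ φ i) =
      ∑ i, biproduct.π M i ≫ toH (φ i) := by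
    rw [toH_sum]
    exact Finset.sum_congr rfl fun i _ => toH_map_comp _ _
  have h2 : toH (φ i) = biproduct.ι M i ≫
      toH (∑ i, (DerivedCategory.singleFunctor A m).map (biproduct.π M i) ≫ φ i) := by
    rw [h1, Preadditive.comp_sum, Finset.sum_eq_single i]
    · simp
    · intro j _ hj
      rw [biproduct.ι_π_ne_assoc _ hj.symm, zero_comp]
    · intro hi
      exact absurd (Finset.mem_univ i) hi
  rw [h2, Category.assoc, ht, comp_zero]

end Abstract

variable {X : Scheme.{u}}

/-- The pseudo-coherent objects. -/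
def PC (K : DCoh.D X) : Prop := ∀ m : ℤ, DCoh.IsPseudoCoherentD m K

lemma PC.of_iso {K L : DCoh.D X} (e : K ≅ L) (h : PC K) : PC L := fun m => pc_of_iso e (h m)

lemma PC.isQCohD {K : DCoh.D X} (h : PC K) : DCoh.IsQCohD K :=
  PCohQCoh.isQCohD_of_isPseudoCoherentD h

lemma PC.obj₁ {T : Triangle (DCoh.D X)} (hT : T ∈ distTriang _) (h₂ : PC T.obj₂) (h₃ : PC T.obj₃) :
    PC T.obj₁ := fun m => by
  have := Groth.Agent.Cohder.PCTri2.isPseudoCoherentD_obj₁ (m - 1) T hT (h₂ _) (h₃ _)
  rwa [sub_add_cancel] at this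

lemma PC.obj₂ {T : Triangle (DCoh.D X)} (hT : T ∈ distTriang _) (h₁ : PC T.obj₁) (h₃ : PC T.obj₃) :
    PC T.obj₂ := fun m => Groth.Agent.Cohder.PCTri2.isPseudoCoherentD_obj₂ m T hT (h₁ _) (h₃ _)

lemma PC.obj₃ {T : Triangle (DCoh.D X)} (hT : T ∈ distTriang _) (h₁ : PC T.obj₁) (h₂ : PC T.obj₂) :
    PC T.obj₃ := fun m => Groth.Agent.Cohder.PCTri2.isPseudoCoherentD_obj₃ m T hT (h₁ _) (h₂ _)

lemma PC.of_isZero {K : DCoh.D X} (h : IsZero K) : PC K := fun _ =>
  pc_of_vanish fun i _ => (DerivedCategory.homologyFunctor _ i).map_isZero h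

lemma PC.isFT {K : DCoh.D X} (h : PC K) (b : ℤ) [K.IsLE b] : CohB1.IsFT (DCoh.HD K b) :=
  (Groth.Agent.S0890.result b K (h b)).1 fun i hi => K.isZero_of_isLE b i hi

lemma PC.exists_isLE [CompactSpace X] {K : DCoh.D X} (h : PC K) : ∃ b : ℤ, K.IsLE b := by
  obtain ⟨b, hb⟩ := PCDesc.exists_isLE_of_pc K (h 0)
  exact ⟨_, hb⟩

/-- The hypothesis of the dévissage. -/
def TopEpi (X : Scheme.{u}) (R : ObjectProperty (DCoh.D X)) : Prop :=
  ∀ (K : DCoh.D X) (b : ℤ), PC K → K.IsLE b → ∃ (M : X.Modules), R (DCoh.inD X M) ∧ PC (DCoh.inD X M) ∧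
    ∃ φ : (DerivedCategory.singleFunctor X.Modules b).obj M ⟶ K,
      Epi ((DerivedCategory.homologyFunctor X.Modules b).map φ)

variable (X) in
/-- The class of pseudo-coherent objects. -/
def pcP : ObjectProperty (DCoh.D X) := fun K => PC K

lemma PC.shift {K : DCoh.D X} (h : PC K) (n : ℤ) : PC (K⟦n⟧) := fun m =>
  Groth.Agent.Cohder.PCTri2.isPseudoCoherentD_shift (n := n) rfl (h (n + m))

instance : (pcP X).IsClosedUnderIsomorphisms where
  of_iso e h := PC.of_iso e h

instance : (pcP X).IsTriangulated where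
  exists_zero := ⟨_, (isZero_zero _), PC.of_isZero (isZero_zero _)⟩
  isStableUnderShiftBy n := ⟨fun _ hK => PC.shift hK n⟩
  ext₂' _ hT h₁ h₃ := ObjectProperty.le_isoClosure _ _ (PC.obj₂ hT h₁ h₃)

/-- Approximation of pseudo-coherent objects by objects of `R`. -/
theorem exists_approx (R : ObjectProperty (DCoh.D X)) [R.IsTriangulated] [R.IsClosedUnderIsomorphisms]
    (hX : TopEpi X R) (k : ℕ) : ∀ (K : DCoh.D X) (b : ℤ), PC K → K.IsLE b →
    ∃ (P K' : DCoh.D X) (f : P ⟶ K) (g : K ⟶ K') (h : K' ⟶ P⟦(1 : ℤ)⟧),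
      Triangle.mk f g h ∈ distTriang (DCoh.D X) ∧ R P ∧ PC P ∧ PC K' ∧ K'.IsLE (b - k) := by
  induction k with
  | zero =>
    intro K b hK hb
    exact ⟨0, K, 0, 𝟙 K, 0, contractible_distinguished₁ K, R.prop_zero,
      PC.of_isZero (isZero_zero _), hK, by simpa using hb⟩
  | succ k ih =>
    intro K b hK hb
    obtain ⟨P, K', f, g, h, hT, hP, hP', hK', hb'⟩ := ih K b hK hb
    obtain ⟨M, hM, hM', φ, hφ⟩ := hX K' (b - k) hK' hb'
    have hMs : ∀ (S : ObjectProperty (DCoh.D X)) [S.IsTriangulated] [S.IsClosedUnderIsomorphisms],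
        S (DCoh.inD X M) → S ((DerivedCategory.singleFunctor X.Modules (b - k)).obj M) := by
      intro S _ _ hS
      exact BoundedInd.prop_single S M hS (b - k)
    obtain ⟨K'', g', h', hT'⟩ := distinguished_cocone_triangle φ
    have hPC1 : PC ((DerivedCategory.singleFunctor X.Modules (b - k)).obj M) := hMs (pcP X) hM'
    have hPC'' : PC K'' := PC.obj₃ hT' hPC1 hK'
    have hLE : K''.IsLE (b - k - 1) := by
      refine PCCone.isLE_obj₃ _ hT' (b - k) ?_ hb' hφ (b - k - 1) (by ring)
      change ((DerivedCategory.singleFunctor X.Modules (b - k)).obj M).IsLE (b - k)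
      infer_instance
    obtain ⟨P', f'', h'', hT''⟩ := distinguished_cocone_triangle₁ (g ≫ g')
    have oct := Triangulated.someOctahedron (u₁₂ := g) (u₂₃ := g') (u₁₃ := g ≫ g') rfl
      (rot_of_distTriang _ hT) (rot_of_distTriang _ hT') (rot_of_distTriang _ hT'')
    have hoct := oct.mem
    refine ⟨P', K'', f'', g ≫ g', h'', hT'', ?_, ?_, hPC'', ?_⟩
    · have h1 : R (P'⟦(1 : ℤ)⟧) := R.ext_of_isTriangulatedClosed₂ _ hoct (R.le_shift 1 _ hP)
        (R.le_shift 1 _ (hMs R hM))
      exact R.prop_of_iso ((shiftShiftNeg P' (1 : ℤ))) (R.le_shift (-1) _ h1)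
    · exact PC.obj₁ hT'' hK hPC''
    · rw [show b - ((k + 1 : ℕ) : ℤ) = b - k - 1 by push_cast; ring]
      exact hLE

lemma isIso_homology_mor₁ {A : Type v} [Category.{u} A] [Abelian A] [HasDerivedCategory.{w} A]
    (T : Triangle (DerivedCategory A)) (hT : T ∈ distTriang _) (c : ℤ) (h : T.obj₃.IsLE c) (i : ℤ)
    (hi : c + 1 < i) : IsIso ((DerivedCategory.homologyFunctor A i).map T.mor₁) := by
  have h1 := DerivedCategory.HomologySequence.exact₁ T hT (i - 1) i (by ring)
  have h2 := DerivedCategory.HomologySequence.exact₂ T hT i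
  have : Mono ((DerivedCategory.homologyFunctor A i).map T.mor₁) :=
    h1.mono_g ((T.obj₃.isZero_of_isLE c (i - 1) (by omega)).eq_of_src _ _)
  have : Epi ((DerivedCategory.homologyFunctor A i).map T.mor₁) :=
    h2.epi_f ((T.obj₃.isZero_of_isLE c i (by omega)).eq_of_tgt _ _)
  exact isIso_of_mono_of_epi _

section Functor

variable {S : Scheme.{u}} (F : DCoh.D X ⥤ DCoh.D S) [F.CommShift ℤ] [F.IsTriangulated] (c : ℤ)
  (hF : ∀ (K : DCoh.D X) (b : ℤ), DCoh.IsQCohD K → K.IsLE b → (F.obj K).IsLE (b + c))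
  (R : ObjectProperty (DCoh.D X)) [R.IsTriangulated] [R.IsClosedUnderIsomorphisms]
  (hX : TopEpi X R) [CompactSpace X]

include hF hX

/-- A triangulated functor of bounded amplitude preserving pseudo-coherence on `R` preserves pseudo-coherence. -/
theorem pc_map (hR : ∀ P : DCoh.D X, R P → PC (F.obj P)) {K : DCoh.D X} (hK : PC K) :
    PC (F.obj K) := fun m => by
  obtain ⟨b, hb⟩ := hK.exists_isLE
  obtain ⟨k, hk⟩ : ∃ k : ℕ, b - k + c < m := ⟨(b + c - m + 1).toNat, by omega⟩
  obtain ⟨P, K', f, g, h, hT, hP, hP', hK', hb'⟩ := exists_approx R hX k K b hK hb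
  have h1 := F.map_distinguished _ hT
  have h2 : (F.obj K').IsLE (b - k + c) := hF _ _ hK'.isQCohD hb'
  exact Groth.Agent.Cohder.PCTri2.isPseudoCoherentD_obj₂ m _ h1 (hR P hP m)
    (pc_of_vanish fun i hi => (F.obj K').isZero_of_isLE (b - k + c) i (by omega))

/-- A triangulated functor of bounded amplitude vanishing on `R` vanishes on pseudo-coherent objects. -/
theorem isZero_map (hR : ∀ P : DCoh.D X, R P → IsZero (F.obj P)) {K : DCoh.D X} (hK : PC K) :
    IsZero (F.obj K) := by
  rw [ExactD.isZero_iff]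
  intro m
  obtain ⟨b, hb⟩ := hK.exists_isLE
  obtain ⟨k, hk⟩ : ∃ k : ℕ, b - k + c + 1 < m := ⟨(b + c - m + 2).toNat, by omega⟩
  obtain ⟨P, K', f, g, h, hT, hP, hP', hK', hb'⟩ := exists_approx R hX k K b hK hb
  have h1 := F.map_distinguished _ hT
  have h2 : (F.obj K').IsLE (b - k + c) := hF _ _ hK'.isQCohD hb'
  have h3 : IsIso ((DerivedCategory.homologyFunctor _ m).map (F.map f)) :=
    isIso_homology_mor₁ _ h1 _ h2 m hk
  exact (((DerivedCategory.homologyFunctor _ m).map_isZero (hR P hP))).of_iso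
    (asIso ((DerivedCategory.homologyFunctor _ m).map (F.map f))).symm

/-- A natural transformation between triangulated functors of bounded amplitude which is an isomorphism on `R`
is an isomorphism on pseudo-coherent objects. -/
theorem isIso_app (G : DCoh.D X ⥤ DCoh.D S) [G.CommShift ℤ] [G.IsTriangulated]
    (hG : ∀ (K : DCoh.D X) (b : ℤ), DCoh.IsQCohD K → K.IsLE b → (G.obj K).IsLE (b + c))
    (τ : F ⟶ G)
    (hR : ∀ P : DCoh.D X, R P → IsIso (τ.app P)) {K : DCoh.D X} (hK : PC K) :
    IsIso (τ.app K) := by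
  rw [DerivedCategory.isIso_iff]
  intro m
  obtain ⟨b, hb⟩ := hK.exists_isLE
  obtain ⟨k, hk⟩ : ∃ k : ℕ, b - k + c + 1 < m := ⟨(b + c - m + 2).toNat, by omega⟩
  obtain ⟨P, K', f, g, h, hT, hP, hP', hK', hb'⟩ := exists_approx R hX k K b hK hb
  have h1 : IsIso ((DerivedCategory.homologyFunctor _ m).map (F.map f)) :=
    isIso_homology_mor₁ _ (F.map_distinguished _ hT) _ (hF _ _ hK'.isQCohD hb') m hk
  have h2 : IsIso ((DerivedCategory.homologyFunctor _ m).map (G.map f)) :=
    isIso_homology_mor₁ _ (G.map_distinguished _ hT) _ (hG _ _ hK'.isQCohD hb') m hk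
  have h3 := hR P hP
  have h4 := congrArg (DerivedCategory.homologyFunctor S.Modules m).map (τ.naturality f)
  rw [Functor.map_comp, Functor.map_comp] at h4
  have h5 : (DerivedCategory.homologyFunctor S.Modules m).map (τ.app K) =
      inv ((DerivedCategory.homologyFunctor S.Modules m).map (F.map f)) ≫
        (DerivedCategory.homologyFunctor S.Modules m).map (τ.app P) ≫
        (DerivedCategory.homologyFunctor S.Modules m).map (G.map f) := by
    rw [← h4, IsIso.inv_hom_id_assoc]
  rw [h5]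
  infer_instance

end Functor

end Groth.Agent.PerfB.PcDev
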