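import Groth.Agent.CurvesB.HZero
import Groth.Agent.PerfB.TwistDer
import Groth.Agent.S0843
import Mathlib.RingTheory.MvPolynomial.Homogeneous

/-!
# `Γ(P^n_A, O) = A`
-/

set_option autoImplicit false

universe u

open CategoryTheory CategoryTheory.Limits AlgebraicGeometry Opposite

namespace Groth.Agent.PerfB.ProjRing

open TwistDer

/-- A ring map `g : A → B` with `B` free of rank one over `A` is bijective. -/
theorem bijective_of_equiv {A B : Type*} [CommRing A] [CommRing B] (g : A →+* B) (φ : B ≃+ A)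
    (h : ∀ a x, φ (g a * x) = a * φ x) : Function.Bijective g := by
  obtain ⟨b, hb⟩ : ∃ b, φ b = 1 := φ.surjective 1
  have key : ∀ x, x = g (φ x) * b := fun x => φ.injective (by rw [h, hb, mul_one])
  have h1 : g (φ 1) * b = 1 := (key 1).symm
  have h3 : b = g (φ (b * b)) := by
    calc b = b * (g (φ 1) * b) := by rw [h1, mul_one]
      _ = g (φ 1) * (b * b) := by ring
      _ = g (φ 1) * (g (φ (b * b)) * b) := by rw [← key (b * b)]
      _ = g (φ (b * b)) * (g (φ 1) * b) := by ring
      _ = g (φ (b * b)) := by rw [h1, mul_one]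
  constructor
  · rw [injective_iff_map_eq_zero]
    intro a ha
    have := h a b
    rw [ha, zero_mul, map_zero, hb, mul_one] at this
    exact this.symm
  · intro x
    exact ⟨φ x * φ (b * b), by rw [map_mul, ← h3]; exact (key x).symm⟩

/-- homogeneous polynomials of degree zero are the constants. -/
noncomputable def homZero (σ : Type*) (A : Type*) [CommRing A] :
    ↥(MvPolynomial.homogeneousSubmodule σ A 0) ≃ₗ[A] A :=
  LinearEquiv.ofBijective ((MvPolynomial.lcoeff A (0 : σ →₀ ℕ)).comp (Submodule.subtype _)) ⟨by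
    rw [← LinearMap.ker_eq_bot, LinearMap.ker_eq_bot']
    rintro ⟨p, hp⟩ h0
    have hp' : p.IsHomogeneous 0 := hp
    have h1 : p.totalDegree = 0 := Nat.le_zero.mp hp'.totalDegree_le
    have h2 := MvPolynomial.totalDegree_eq_zero_iff_eq_C.mp h1
    ext1
    change p = 0
    rw [h2]
    have h3 : MvPolynomial.coeff 0 p = 0 := h0
    rw [h3, map_zero], fun a => ⟨⟨MvPolynomial.C a, MvPolynomial.isHomogeneous_C σ a⟩, by
    change MvPolynomial.coeff 0 (MvPolynomial.C a) = a
    simp⟩⟩

variable (n : ℕ) (A : Type u) [CommRing A]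

theorem bijective_app {X : Scheme.{u}} {M N : X.Modules} (i : M ≅ N) (U : X.Opens) :
    Function.Bijective (fun x : Γ(M, U) => i.hom.app U x) := by
  refine ⟨fun x y hxy => ?_, fun y => ⟨i.inv.app U y, ?_⟩⟩
  · have h1 : i.inv.app U (i.hom.app U x) = i.inv.app U (i.hom.app U y) :=
      congrArg (fun t => i.inv.app U t) hxy
    rw [← ConcreteCategory.comp_apply, ← ConcreteCategory.comp_apply,
      ← Scheme.Modules.Hom.comp_app, i.hom_inv_id] at h1
    exact h1
  · change i.hom.app U (i.inv.app U y) = y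
    rw [← ConcreteCategory.comp_apply, ← Scheme.Modules.Hom.comp_app, i.inv_hom_id]
    rfl

/-- `A → Γ(P^n_A, O)` is bijective. -/
theorem bijective_gl : Function.Bijective (CurvesB.HZero.gl A (CohB1.ProjSpace n A)) := by
  obtain ⟨e⟩ := Groth.Agent.S0843.result A n 0
  let M := Twist.twistProjSpace n A ((0 : ℕ) : ℤ)
  let O := Coh.structureModule (CohB1.ProjSpace n A)
  let i : O ≅ M := twZero n A
  let φ₁ : Γ(O, ⊤) → Γ(M, ⊤) := fun x => i.hom.app ⊤ x
  have h1 : Function.Bijective φ₁ := bijective_app i ⊤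
  let ψ : Γ(O, ⊤) → A := fun x => homZero _ A (e ((CurvesB.HZero.equivAdd M).symm (φ₁ x)))
  have hψ : Function.Bijective ψ :=
    (homZero _ A).bijective.comp (e.bijective.comp ((CurvesB.HZero.equivAdd M).symm.bijective.comp h1))
  have hadd : ∀ x y, ψ (x + y) = ψ x + ψ y := by
    intro x y
    have : φ₁ (x + y) = φ₁ x + φ₁ y := map_add (i.hom.app ⊤).hom x y
    change homZero _ A (e ((CurvesB.HZero.equivAdd M).symm (φ₁ (x + y)))) = _
    rw [this, map_add, map_add, map_add]
  have hsmul : ∀ (a : A) (x : Γ(O, ⊤)),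
      ψ (CurvesB.HZero.gl A (CohB1.ProjSpace n A) a • x) = a * ψ x := by
    intro a x
    have h2 : φ₁ (CurvesB.HZero.gl A (CohB1.ProjSpace n A) a • x) =
        CurvesB.HZero.gl A (CohB1.ProjSpace n A) a • φ₁ x :=
      Scheme.Modules.Hom.app_smul (M := O) (N := M) i.hom
        (CurvesB.HZero.gl A (CohB1.ProjSpace n A) a) x
    have h3 : (CurvesB.HZero.equivAdd M).symm (CurvesB.HZero.gl A (CohB1.ProjSpace n A) a • φ₁ x) =
        a • (CurvesB.HZero.equivAdd M).symm (φ₁ x) := by
      rw [AddEquiv.symm_apply_eq, CurvesB.HZero.equivAdd_smul_over, AddEquiv.apply_symm_apply]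
    change homZero _ A (e ((CurvesB.HZero.equivAdd M).symm (φ₁ _))) = _
    rw [h2, h3, map_smul, map_smul, smul_eq_mul]
  let ψ' : Γ(CohB1.ProjSpace n A, ⊤) ≃+ A :=
    AddEquiv.ofBijective (M := Γ(CohB1.ProjSpace n A, ⊤)) (AddMonoidHom.mk' ψ hadd) hψ
  exact bijective_of_equiv (CurvesB.HZero.gl A (CohB1.ProjSpace n A)) ψ' hsmul

end Groth.Agent.PerfB.ProjRing
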