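import Groth.Agent.PerfB.TensInv
import Groth.Agent.PerfC.PcLocal
import Groth.Agent.PerfA.QCohD
import Groth.Agent.Ega3B.TensRestrict

/-!
# The derived functor `K ↦ K ⊗ L` for `L` invertible

It preserves quasi-coherence of cohomology sheaves, pseudo-coherence, perfectness, t-structure bounds, and
commutes with cohomology sheaves.
-/

set_option autoImplicit false

universe u

open CategoryTheory CategoryTheory.Limits AlgebraicGeometry Opposite
attribute [local instance] HasDerivedCategory.standard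

namespace Groth.Agent.PerfB.TensD

open TensExact TensInv Groth.Agent.PerfA Groth.Agent.PerfC.PcLocal Groth.Agent.PerfA.Restrict
open AlgebraicGeometry.Scheme.Modules Groth.Agent.Ega3B Groth.Agent.Ega2.Tens

variable {X : Scheme.{u}}

theorem fwd_naturality {U : Scheme.{u}} (j : U ⟶ X) [IsOpenImmersion j] (L : X.Modules)
    {K K' : X.Modules} (f : K ⟶ K') :
    mapT ((restrictFunctor j).map f) (𝟙 (L.restrict j)) ≫ TensRestrict.fwd j K' L =
    TensRestrict.fwd j K L ≫ (restrictFunctor j).map (mapT f (𝟙 L)) := by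
  refine hom_ext (M := K.restrict j) (N := L.restrict j) _ _ fun V k m => ?_
  rw [Scheme.Modules.Hom.comp_app, ConcreteCategory.comp_apply, Scheme.Modules.Hom.comp_app,
    ConcreteCategory.comp_apply, mapT_tmul]
  have h2 := TensRestrict.fwd_tmul j K' L V (f.app (j ''ᵁ V) k) m
  have h3 := TensRestrict.fwd_tmul j K L V k m
  have h4 := mapT_tmul (U := j ''ᵁ V) f (𝟙 L) k m
  exact h2.trans (h4.symm.trans (congrArg (fun t => (mapT f (𝟙 L)).app (j ''ᵁ V) t) h3.symm))

/-- `(- ⊗ L)|_U ≅ (-|_U) ⊗ L|_U`. -/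
noncomputable def tensorRestrict {U : Scheme.{u}} (j : U ⟶ X) [IsOpenImmersion j] (L : X.Modules) :
    DCoh.tensorRightMod L ⋙ restrictFunctor j ≅
      restrictFunctor j ⋙ DCoh.tensorRightMod (L.restrict j) :=
  (NatIso.ofComponents (F := restrictFunctor j ⋙ DCoh.tensorRightMod (L.restrict j))
    (G := DCoh.tensorRightMod L ⋙ restrictFunctor j)
    (fun K => (TensRestrict.restrictIso j K L).symm) (fun {K K'} f => by
      have h := fwd_naturality j L f
      rw [← tensorRightMod_map_eq, ← tensorRightMod_map_eq] at h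
      exact h)).symm

/-- Over an open trivializing `L`, `(- ⊗ L)|_U ≅ -|_U`. -/
noncomputable def tensorRestrictTriv {U : Scheme.{u}} (j : U ⟶ X) [IsOpenImmersion j] (L : X.Modules)
    (e : L.restrict j ≅ Coh.structureModule U) :
    DCoh.tensorRightMod L ⋙ restrictFunctor j ≅ restrictFunctor j :=
  tensorRestrict j L ≪≫
    Functor.isoWhiskerLeft _ (tensorRightModCongr e ≪≫ tensorRightModUnit) ≪≫
    Functor.rightUnitor _

section

variable (L : X.Modules) [PreservesFiniteLimits (DCoh.tensorRightMod L)]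

/-- `K ↦ K ⊗ L` on the derived category, for `- ⊗ L` exact. -/
noncomputable abbrev tensD : DCoh.D X ⥤ DCoh.D X := (DCoh.tensorRightMod L).mapDerivedCategory

/-- `H^i(K ⊗ L) ≅ H^i(K) ⊗ L`. -/
noncomputable def HDtens (K : DCoh.D X) (i : ℤ) :
    DCoh.HD ((tensD L).obj K) i ≅ (DCoh.tensorRightMod L).obj (DCoh.HD K i) :=
  (ExactD.mapHomology (DCoh.tensorRightMod L) i).app K

/-- Over an open trivializing `L`, `(K ⊗ L)|_U ≅ K|_U` in the derived category. -/
noncomputable def tensDRestrictTriv {U : Scheme.{u}} (j : U ⟶ X) [IsOpenImmersion j]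
    (e : L.restrict j ≅ Coh.structureModule U) :
    tensD L ⋙ restrictD j ≅ restrictD j :=
  ExactD.mapDComp (tensorRestrictTriv j L e)

variable {L}

theorem isQCohD_tens (hL : PicF.IsInvertible L) {K : DCoh.D X} (hK : DCoh.IsQCohD K) :
    DCoh.IsQCohD ((tensD L).obj K) := fun i =>
  (QCohSerre.qcoh X).prop_of_iso (HDtens L K i).symm (isQCoh_tensorRightMod hL _ (hK i))

theorem pc_tens (hL : PicF.IsInvertible L) {m : ℤ} {K : DCoh.D X} (hK : DCoh.IsPseudoCoherentD m K) :
    DCoh.IsPseudoCoherentD m ((tensD L).obj K) := by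
  refine pc_of_cover _ fun x => ?_
  obtain ⟨V, hx, ⟨e⟩⟩ := hL x
  exact ⟨V, V.ι, inferInstance, ⟨x, hx⟩, rfl,
    pc_of_iso ((tensDRestrictTriv L V.ι e).app K).symm (pc_restrict V.ι hK)⟩

instance isLE_tens (K : DCoh.D X) (n : ℤ) [K.IsLE n] : ((tensD L).obj K).IsLE n :=
  ExactD.isLE_map _ K n

instance isGE_tens (K : DCoh.D X) (n : ℤ) [K.IsGE n] : ((tensD L).obj K).IsGE n :=
  ExactD.isGE_map _ K n

end

end Groth.Agent.PerfB.TensD
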