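import Groth.Agent.PerfB.UnitStr
import Groth.Agent.PerfB.ProjRing
import Groth.Agent.PerfB.TwistClosure
import Groth.Agent.PerfB.TensD
import Groth.Agent.Sga5.ProjSmooth
import Groth.Agent.Ega3B.ProjProper
import Groth.Agent.S0844

/-!
# `Rπ_* O(d)` for `π : P^n_A → Spec A`

* `flat_toSpec`, `isProper_toSpec`;
* `isIso_unit_O`: `O_S ⟶ Rπ_* Lπ^* O_S` is an isomorphism;
* `isZero_Rpush_tw`: `Rπ_* O(-j) = 0` for `1 ≤ j ≤ n`;
* `pc_Rpush_tw`: `Rπ_* O(d)` is pseudo-coherent for all `d`.
-/

set_option autoImplicit false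

universe v u

open CategoryTheory CategoryTheory.Limits AlgebraicGeometry Opposite TopologicalSpace Pretriangulated

namespace Groth.Agent.PerfB.ProjPush

section Abstract

variable (C : Type u) [Category.{v} C] [Preadditive C] [HasZeroObject C] [HasShift C ℤ]
  [∀ n : ℤ, (shiftFunctor C n).Additive] [Pretriangulated C]

/-- The class of zero objects. -/
def zeroP : ObjectProperty C := fun X => IsZero X

instance : (zeroP C).IsClosedUnderIsomorphisms where
  of_iso e h := h.of_iso e.symm

instance : (zeroP C).IsTriangulated where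
  exists_zero := ⟨_, (isZero_zero _), isZero_zero _⟩
  isStableUnderShiftBy n := ⟨fun _ hK => (shiftFunctor C n).map_isZero hK⟩
  ext₂' T hT h₁ h₃ := ObjectProperty.le_isoClosure _ _ (by
    change IsZero T.obj₂
    rw [IsZero.iff_id_eq_zero]
    obtain ⟨a, ha⟩ := Triangle.coyoneda_exact₂ T hT (𝟙 T.obj₂) (h₃.eq_of_tgt _ _)
    rw [ha, h₁.eq_of_src T.mor₁ 0, comp_zero])

end Abstract

attribute [local instance] HasDerivedCategory.standard

open Groth.Agent.Dcoh.DerSch
open Groth.Agent.PerfA Groth.Agent.PerfA.ExtZero Groth.Agent.PerfA.Hyp0 Groth.Agent.PerfA.Hyp1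
open FlatPull FlatAdj UnitStr TwistDer PcDev PcTop TensD ExactDevissage

attribute [local instance] rpushCommShift rpush_isTriangulated

variable (n : ℕ) (A : Type u) [CommRing A]

/-- the structure morphism `P^n_A → Spec A`. -/
noncomputable abbrev pr : CohB1.ProjSpace n A ⟶ Spec (CommRingCat.of A) := CohB1.ProjSpace.toSpec n A

instance flat_toSpec : Flat (pr n A) := by
  have := Groth.Agent.Sga5.ProjSmooth.smooth_toSpec n A
  have : Smooth (pr n A) := SmoothOfRelativeDimension.smooth n _
  infer_instance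

instance isProper_toSpec : IsProper (pr n A) := Groth.Agent.Ega3B.ProjProper.isProper_toSpec n A

instance compactSpace_proj : CompactSpace (CohB1.ProjSpace n A) :=
  QuasiCompact.compactSpace_of_compactSpace (pr n A)

theorem appTop_bijective : Function.Bijective (pr n A).appTop := by
  have h := ProjRing.bijective_gl n A
  have h1 : (CurvesB.HZero.gl A (CohB1.ProjSpace n A) : A → _) =
      (pr n A).appTop ∘ (Scheme.ΓSpecIso (CommRingCat.of A)).inv := rfl
  rw [h1] at h
  have h2 : Function.Bijective (Scheme.ΓSpecIso (CommRingCat.of A)).inv :=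
    (ConcreteCategory.isIso_iff_bijective _).1 inferInstance
  exact (Function.Bijective.of_comp_iff _ h2).1 h

theorem isIso_unit_O [DCoh.HasRpush (pr n A)] :
    IsIso ((pullAdj (pr n A)).unit.app (DCoh.inD _ (Coh.structureModule (Spec (CommRingCat.of A))))) := by
  refine isIso_unit_structure (pr n A) (appTop_bijective n A) fun m hm φ => ?_
  rw [← cancel_mono ((DerivedCategory.singleFunctor _ 0).map (twZero n A).hom), zero_comp]
  refine P_hom_eq_zero _ (fun q => ?_) m hm _
  exact Groth.Agent.S0844.result A n 0 (q + 1) (by omega) (by omega)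

/-- `Rπ_* O(-j) = 0` for `1 ≤ j ≤ n`. -/
theorem isZero_Rpush_tw [DCoh.HasRpush (pr n A)] (d : ℤ) (h1 : d < 0) (h2 : -(n : ℤ) ≤ d) :
    IsZero ((DCoh.Rpush (pr n A)).obj (DCoh.inD _ (tw n A d))) := by
  have hq : DCoh.IsQCohD (DCoh.inD _ (tw n A d)) := (pc_of_isInvertible (isInvertible_tw n A d)).isQCohD
  refine FlatAdj.isZero_Rpush (pr n A) (Groth.Agent.S0998.result (pr n A) _ hq) fun m φ => ?_
  exact P_hom_eq_zero' _ (fun q => Groth.Agent.S0844.result A n d q (by omega) (by omega)) m φ

/-- `Rπ_* O(0) ≅ O_S`. -/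
theorem nonempty_Rpush_zero [DCoh.HasRpush (pr n A)] :
    Nonempty (DCoh.inD _ (Coh.structureModule (Spec (CommRingCat.of A))) ≅
      (DCoh.Rpush (pr n A)).obj (DCoh.inD _ (tw n A 0))) := by
  exact ⟨@asIso _ _ _ _ ((pullAdj (pr n A)).unit.app
      (DCoh.inD _ (Coh.structureModule (Spec (CommRingCat.of A))))) (isIso_unit_O n A) ≪≫
    (DCoh.Rpush (pr n A)).mapIso (pullO (pr n A) ≪≫
      (DerivedCategory.singleFunctor _ 0).mapIso (twZero n A))⟩

/-- `Rπ_* O(d)` is pseudo-coherent for all `d`. -/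
theorem pc_Rpush_tw [DCoh.HasRpush (pr n A)] (d : ℤ) :
    PC ((DCoh.Rpush (pr n A)).obj (DCoh.inD _ (tw n A d))) := by
  refine TwistClosure.all_twists (P := (pcP _).inverseImage (DCoh.Rpush (pr n A))) (-(n : ℤ))
    (fun i hi => ?_) d
  change PC ((DCoh.Rpush (pr n A)).obj (DCoh.inD _ (tw n A (-(n : ℤ) + i))))
  rcases Nat.lt_or_ge i n with h | h
  · exact PC.of_isZero (isZero_Rpush_tw n A _ (by omega) (by omega))
  · obtain rfl : i = n := le_antisymm hi h
    rw [neg_add_cancel]
    obtain ⟨e⟩ := nonempty_Rpush_zero i A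
    exact PC.of_iso e (pc_structureModule _)

end Groth.Agent.PerfB.ProjPush
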