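import Groth.Prelude.Def_PerfAux

set_option autoImplicit false
universe u
open CategoryTheory CategoryTheory.Limits AlgebraicGeometry Opposite TopologicalSpace

namespace Groth.Agent.PerfB.ResolAffDiag

variable {X : Scheme.{u}}

/-- A section of the structure sheaf as a section of the structure module. -/
def ofFun (W : X.Opens) (g : Γ(X, W)) : Γ(Coh.structureModule X, W) := g

/-- A section of the structure module as a section of the structure sheaf. -/
def toFun (W : X.Opens) (g : Γ(Coh.structureModule X, W)) : Γ(X, W) := g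

theorem ofFun_toFun (W : X.Opens) (g : Γ(Coh.structureModule X, W)) : ofFun W (toFun W g) = g := rfl

theorem smul_ofFun (W : X.Opens) (r g : Γ(X, W)) : r • ofFun W g = ofFun W (r * g) := rfl

theorem eq_smul_one (W : X.Opens) (g : Γ(Coh.structureModule X, W)) :
    g = toFun W g • ofFun W 1 := by
  rw [smul_ofFun, mul_one, ofFun_toFun]

theorem map_ofFun {W W' : X.Opens} (i : W ⟶ W') (g : Γ(X, W')) :
    (Coh.structureModule X).presheaf.map i.op (ofFun W' g) = ofFun W (X.presheaf.map i.op g) := rfl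

theorem coprod_id {C : Type*} [Category C] [Preadditive C] [HasFiniteCoproducts C] {n : ℕ} (A : C) :
    𝟙 (∐ fun _ : Fin n => A) = ∑ k, Sigma.desc (fun j => if j = k then 𝟙 A else 0) ≫
      Sigma.ι (fun _ : Fin n => A) k := by
  classical
  apply Sigma.hom_ext
  intro j
  rw [Category.comp_id, Preadditive.comp_sum]
  simp only [Sigma.ι_desc_assoc]
  rw [Finset.sum_eq_single j]
  · simp
  · intro b _ hb
    simp [Ne.symm hb]
  · simp

theorem sum_app {M N : X.Modules} {n : ℕ} (f : Fin n → (M ⟶ N)) (W : X.Opens) (s : Γ(M, W)) :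
    (∑ k, f k).app W s = ∑ k, (f k).app W s := by
  classical
  induction (Finset.univ : Finset (Fin n)) using Finset.induction_on with
  | empty => simp
  | insert a t ha ih =>
    rw [Finset.sum_insert ha, Finset.sum_insert ha, ← ih]
    rfl

theorem app_map {M N : X.Modules} (f : M ⟶ N) {W W' : X.Opens} (i : W ⟶ W') (s : Γ(M, W')) :
    f.app W (M.presheaf.map i.op s) = N.presheaf.map i.op (f.app W' s) := by
  have h := f.mapPresheaf.naturality i.op
  have h4 := congr($h s)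
  rw [ConcreteCategory.comp_apply, ConcreteCategory.comp_apply] at h4
  exact h4

theorem exists_gen {E : X.Modules} {n : ℕ} (φ : E ≅ FlatMod.freeMod X n) :
    ∃ e : Fin n → Γ(E, ⊤), ∀ (W : X.Opens) (s : Γ(E, W)),
      ∃ g : Fin n → Γ(X, W), s = ∑ k, g k • (E.presheaf.map (homOfLE le_top).op (e k)) := by
  classical
  let ι : Fin n → (Coh.structureModule X ⟶ E) := fun k =>
    Sigma.ι (fun _ : Fin n => Coh.structureModule X) k ≫ φ.inv
  let π : Fin n → (E ⟶ Coh.structureModule X) := fun k =>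
    φ.hom ≫ Sigma.desc (fun j => if j = k then 𝟙 _ else 0)
  have hid : 𝟙 E = ∑ k, π k ≫ ι k := by
    have h := coprod_id (n := n) (Coh.structureModule X)
    have : 𝟙 E = φ.hom ≫ 𝟙 _ ≫ φ.inv := by simp
    rw [this, h, Preadditive.sum_comp, Preadditive.comp_sum]
    simp [π, ι]
  refine ⟨fun k => (ι k).app ⊤ (ofFun ⊤ 1), fun W s => ⟨fun k => toFun W ((π k).app W s), ?_⟩⟩
  have h1 : s = (𝟙 E : E ⟶ E).app W s := rfl
  conv_lhs => rw [h1, hid, sum_app]
  refine Finset.sum_congr rfl fun k _ => ?_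
  have h2 : (π k ≫ ι k).app W s = (ι k).app W ((π k).app W s) := rfl
  rw [h2]
  conv_lhs => rw [eq_smul_one W ((π k).app W s)]
  rw [Scheme.Modules.Hom.app_smul]
  congr 1
  have h5 := app_map (ι k) (homOfLE (le_top : W ≤ ⊤)) (ofFun ⊤ 1)
  rw [map_ofFun, map_one] at h5
  exact h5

theorem res_res (M : X.Modules) {W₁ W₂ W₃ : X.Opens} (i : W₁ ⟶ W₂) (j : W₂ ⟶ W₃) (k : W₁ ⟶ W₃)
    (s : Γ(M, W₃)) : M.presheaf.map i.op (M.presheaf.map j.op s) = M.presheaf.map k.op s := by
  rw [← ConcreteCategory.comp_apply, ← Functor.map_comp, ← op_comp]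
  rfl

theorem smul_restrictAppIso_hom_apply' {Y : Scheme.{u}} (f : Y ⟶ X) [IsOpenImmersion f]
    (E : X.Modules) (W : Y.Opens) (r : Γ(Y, W)) (s : Γ(E.restrict f, W)) :
    (E.restrictAppIso f W).hom (r • s) = (f.appIso W).inv r • (E.restrictAppIso f W).hom s := rfl

theorem map_restrictAppIso_hom_apply' {Y : Scheme.{u}} (f : Y ⟶ X) [IsOpenImmersion f]
    (E : X.Modules) {W W' : Y.Opens} (i : W ⟶ W') (s : Γ(E.restrict f, W')) :
    (E.restrictAppIso f W).hom ((E.restrict f).presheaf.map i.op s) =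
      E.presheaf.map (f.opensFunctor.map i).op ((E.restrictAppIso f W').hom s) := rfl

theorem exists_gen_restrict {E : X.Modules} {V : X.Opens} {n : ℕ}
    (φ : E.restrict V.ι ≅ FlatMod.freeMod (V : Scheme.{u}) n) :
    ∃ e : Fin n → Γ(E, V), ∀ (W : X.Opens) (hWV : W ≤ V) (s : Γ(E, W)),
      ∃ g : Fin n → Γ(X, W), s = ∑ k, g k • (E.presheaf.map (homOfLE hWV).op (e k)) := by
  obtain ⟨e, he⟩ := exists_gen φ
  have hV : V.ι ''ᵁ ⊤ = V := by simp
  refine ⟨fun k => E.presheaf.map (eqToHom hV.symm).op ((E.restrictAppIso V.ι ⊤).hom (e k)), ?_⟩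
  intro W hWV s
  have hW : V.ι ''ᵁ (V.ι ⁻¹ᵁ W) = W := by
    rw [Scheme.Hom.image_preimage_eq_opensRange_inf, Scheme.Opens.opensRange_ι]
    exact inf_eq_right.mpr hWV
  obtain ⟨g, hg⟩ := he (V.ι ⁻¹ᵁ W) ((E.restrictAppIso V.ι _).inv (E.presheaf.map (eqToHom hW).op s))
  refine ⟨fun k => X.presheaf.map (eqToHom hW.symm).op ((V.ι.appIso _).inv (g k)), ?_⟩
  have h1 := congr(E.presheaf.map (eqToHom hW.symm).op ((E.restrictAppIso V.ι _).hom $hg))
  simp only [map_sum, smul_restrictAppIso_hom_apply', map_restrictAppIso_hom_apply'] at h1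
  have h2 : s = E.presheaf.map (eqToHom hW.symm).op ((E.restrictAppIso V.ι _).hom
      ((E.restrictAppIso V.ι _).inv (E.presheaf.map (eqToHom hW).op s))) := by
    refine Eq.trans ?_ (res_res E (eqToHom hW.symm) (eqToHom hW) (𝟙 _) s).symm
    simp
  refine (h2.trans h1).trans (Finset.sum_congr rfl fun k _ => ?_)
  rw [Scheme.Modules.map_smul]
  congr 1
  exact (res_res E _ _ (homOfLE (by rw [hV]; exact hWV)) _).trans
    (res_res E (homOfLE hWV) (eqToHom hV.symm) (homOfLE (by rw [hV]; exact hWV)) _).symm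

/-- If the restrictions to `W ≤ V` of functions `f ∈ S` on an affine open `V` with `D(f) ≤ W`
generate the unit ideal of `Γ(X, W)`, then `W` is affine. -/
theorem isAffineOpen_of_span {V W : X.Opens} (hV : IsAffineOpen V) (hWV : W ≤ V)
    (S : Set Γ(X, V)) (hS : ∀ f ∈ S, X.basicOpen f ≤ W)
    (h : Ideal.span ((X.presheaf.map (homOfLE hWV).op).hom '' S) = ⊤) : IsAffineOpen W := by
  refine isAffineOpen_of_isAffineOpen_basicOpen W _ h ?_
  rintro _ ⟨f, hf, rfl⟩
  have : X.basicOpen ((X.presheaf.map (homOfLE hWV).op).hom f) = X.basicOpen f := by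
    rw [Scheme.basicOpen_res]
    exact inf_eq_right.mpr (hS f hf)
  rw [this]
  exact hV.basicOpen f

theorem isAffineOpen_inf_of_free {E : X.Modules} (u : E ⟶ Coh.structureModule X) {U V : X.Opens}
    (hV : IsAffineOpen V) {n : ℕ} (φ : E.restrict V.ι ≅ FlatMod.freeMod (V : Scheme.{u}) n)
    (hu : ∀ s : Γ(E, V), X.basicOpen (toFun V (u.app V s)) ≤ U)
    (s : Γ(E, U)) (hs : toFun U (u.app U s) = 1) : IsAffineOpen (U ⊓ V) := by
  obtain ⟨e, he⟩ := exists_gen_restrict φ
  obtain ⟨g, hg⟩ := he (U ⊓ V) inf_le_right (E.presheaf.map (homOfLE inf_le_left).op s)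
  refine isAffineOpen_of_span hV inf_le_right (Set.range fun k => toFun V (u.app V (e k))) ?_ ?_
  · rintro _ ⟨k, rfl⟩
    exact le_inf (hu _) (X.basicOpen_le _)
  · rw [Ideal.eq_top_iff_one]
    have h1 : (1 : Γ(X, U ⊓ V)) = toFun _ (u.app (U ⊓ V) (E.presheaf.map (homOfLE inf_le_left).op s)) := by
      rw [app_map]
      have h2 : u.app U s = ofFun U 1 := hs
      rw [h2, map_ofFun, map_one]
      rfl
    rw [h1, hg, map_sum]
    have h3 : toFun (U ⊓ V) (∑ k, u.app (U ⊓ V)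
        (g k • (E.presheaf.map (homOfLE (inf_le_right : U ⊓ V ≤ V)).op (e k)))) =
        ∑ k, g k * X.presheaf.map (homOfLE (inf_le_right : U ⊓ V ≤ V)).op (toFun V (u.app V (e k))) := by
      have : ∀ f : Fin n → Γ(Coh.structureModule X, U ⊓ V), toFun _ (∑ k, f k) = ∑ k, toFun _ (f k) :=
        fun f => rfl
      rw [this]
      refine Finset.sum_congr rfl fun k _ => ?_
      rw [Scheme.Modules.Hom.app_smul, app_map]
      rfl
    rw [h3]
    exact Ideal.sum_mem _ fun k _ => Ideal.mul_mem_left _ _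
      (Ideal.subset_span ⟨_, ⟨k, rfl⟩, rfl⟩)

theorem restrict_free {E : X.Modules} {U V : X.Opens} (h : V ≤ U) {n : ℕ}
    (φ : E.restrict U.ι ≅ FlatMod.freeMod (U : Scheme.{u}) n) :
    Nonempty (E.restrict V.ι ≅ FlatMod.freeMod (V : Scheme.{u}) n) := by
  let j := X.homOfLE h
  have hj : j ≫ U.ι = V.ι := by simp [j]
  let e1 : E.restrict V.ι ≅ (E.restrict U.ι).restrict j :=
    ((Scheme.Modules.restrictFunctorCongr hj).symm ≪≫
      Scheme.Modules.restrictFunctorComp j U.ι).app E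
  let e2 : (E.restrict U.ι).restrict j ≅ (FlatMod.freeMod (U : Scheme.{u}) n).restrict j :=
    (Scheme.Modules.restrictFunctor j).mapIso φ
  let e3 : (FlatMod.freeMod (U : Scheme.{u}) n).restrict j ≅ FlatMod.freeMod (V : Scheme.{u}) n :=
    PreservesCoproduct.iso (Scheme.Modules.restrictFunctor j) _ ≪≫
      Sigma.mapIso fun _ => Scheme.Modules.restrictUnitIso j
  exact ⟨e1 ≪≫ e2 ≪≫ e3⟩

theorem isAffineOpen_inf_of_finLocFree {E : X.Modules} (hE : FlatMod.IsFinLocFree E)
    (u : E ⟶ Coh.structureModule X) {U V : X.Opens} (hV : IsAffineOpen V)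
    (hu : ∀ (W : X.Opens) (s : Γ(E, W)), X.basicOpen (toFun W (u.app W s)) ≤ U)
    (s : Γ(E, U)) (hs : toFun U (u.app U s) = 1) : IsAffineOpen (U ⊓ V) := by
  have key : ∀ x : V, ∃ h : Γ(X, V), x.1 ∈ X.basicOpen h ∧ IsAffineOpen (U ⊓ X.basicOpen h) := by
    intro x
    obtain ⟨W, n, hxW, ⟨φ⟩⟩ := hE x.1
    obtain ⟨h, hle, hx⟩ := hV.exists_basicOpen_le ⟨x.1, hxW⟩ x.2
    obtain ⟨ψ⟩ := restrict_free hle φ
    exact ⟨h, hx, isAffineOpen_inf_of_free u (hV.basicOpen h) ψ (fun _ => hu _ _) s hs⟩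
  choose h hx hA using key
  have hspan : Ideal.span (Set.range h) = ⊤ := by
    rw [← hV.self_le_iSup_basicOpen_iff]
    intro x hxV
    exact Opens.mem_iSup.mpr ⟨⟨_, ⟨⟨x, hxV⟩, rfl⟩⟩, hx ⟨x, hxV⟩⟩
  refine isAffineOpen_of_isAffineOpen_basicOpen (U ⊓ V)
    ((X.presheaf.map (homOfLE (inf_le_right : U ⊓ V ≤ V)).op).hom '' Set.range h) ?_ ?_
  · rw [← Ideal.map_span, hspan, Ideal.map_top]
  · rintro _ ⟨_, ⟨x, rfl⟩, rfl⟩
    rw [Scheme.basicOpen_res]
    convert hA x using 1
    refine le_antisymm ?_ ?_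
    · exact le_inf (inf_le_left.trans inf_le_left) inf_le_right
    · exact le_inf (le_inf inf_le_left (inf_le_right.trans (X.basicOpen_le _))) inf_le_right

end Groth.Agent.PerfB.ResolAffDiag
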