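import Groth.Agent.Dcoh.FinLocFree
import Groth.Prelude.Def_DCoh2
import Mathlib.Algebra.Homology.HomotopyCategory.MappingCocone

set_option autoImplicit false
universe u
open CategoryTheory CategoryTheory.Limits AlgebraicGeometry Opposite TopologicalSpace

namespace Groth.Agent.PerfB.ResolCone

variable {X : Scheme.{u}} {E F : CochainComplex X.Modules ℤ}

theorem finLocFree_mappingCone_X (hE : ∀ i : ℤ, FlatMod.IsFinLocFree (E.X i))
    (hF : ∀ i : ℤ, FlatMod.IsFinLocFree (F.X i)) (φ : E ⟶ F) (n : ℤ) :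
    FlatMod.IsFinLocFree ((CochainComplex.mappingCone φ).X n) :=
  Dcoh.FinLocFree.isFinLocFree_of_iso
    (HomologicalComplex.homotopyCofiber.XIsoBiprod φ n (n + 1) rfl).symm
    (Dcoh.FinLocFree.isFinLocFree_biprod (hE (n + 1)) (hF n))

theorem isZero_mappingCone_X (φ : E ⟶ F) (n : ℤ) (hE : IsZero (E.X (n + 1)))
    (hF : IsZero (F.X n)) : IsZero ((CochainComplex.mappingCone φ).X n) := by
  refine IsZero.of_iso ?_ (HomologicalComplex.homotopyCofiber.XIsoBiprod φ n (n + 1) rfl)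
  exact biprod_isZero_iff _ _ |>.2 ⟨hE, hF⟩

/-- The mapping cone of a map of strictly perfect complexes is strictly perfect. -/
theorem isStrictlyPerfect_mappingCone
    (hE : DCoh.IsStrictlyPerfect E) (hF : DCoh.IsStrictlyPerfect F) (φ : E ⟶ F) :
    DCoh.IsStrictlyPerfect (CochainComplex.mappingCone φ) := by
  obtain ⟨⟨a, b, h⟩, hE⟩ := hE
  obtain ⟨⟨a', b', h'⟩, hF⟩ := hF
  refine ⟨⟨min a a' - 1, max b b', fun i hi => ?_⟩, finLocFree_mappingCone_X hE hF φ⟩
  exact isZero_mappingCone_X φ i (h _ (by omega)) (h' _ (by omega))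

theorem isStrictlyPerfect_shift (hE : DCoh.IsStrictlyPerfect E) (n : ℤ) :
    DCoh.IsStrictlyPerfect (E⟦n⟧) := by
  obtain ⟨⟨a, b, h⟩, hE⟩ := hE
  exact ⟨⟨a - n, b - n, fun i hi => h (i + n) (by omega)⟩, fun i => hE (i + n)⟩

/-- The mapping cocone of a map of strictly perfect complexes is strictly perfect. -/
theorem isStrictlyPerfect_mappingCocone
    (hE : DCoh.IsStrictlyPerfect E) (hF : DCoh.IsStrictlyPerfect F) (φ : E ⟶ F) :
    DCoh.IsStrictlyPerfect (CochainComplex.mappingCocone φ) :=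
  isStrictlyPerfect_shift (isStrictlyPerfect_mappingCone hE hF φ) (-1)

end Groth.Agent.PerfB.ResolCone
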