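import Groth.Agent.PerfB.ResolAffDiag
import Groth.Agent.PerfB.ResolQC
import Groth.Agent.PerfA.FGIdeal
import Groth.Agent.PerfA.IdealModule
import Groth.Agent.PerfA.QCohEpi

/-!
# Resolution property implies affine diagonal
-/

set_option autoImplicit false
universe u
open CategoryTheory CategoryTheory.Limits AlgebraicGeometry TopologicalSpace

namespace Groth.Agent.PerfB.ResolDiag

open ResolAffDiag

/-- A quasi-compact quasi-separated scheme with the resolution property has affine diagonal. -/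
theorem isAffineOpen_inf (X : Scheme.{u}) [CompactSpace ↥X]
    [QuasiSeparatedSpace ↥X] (hX : PerfAux.HasResolutionProperty X) (U V : X.Opens)
    (hU : IsAffineOpen U) (hV : IsAffineOpen V) : IsAffineOpen (U ⊓ V) := by
  obtain ⟨J, hJfg, hJU, hJle, -⟩ := PerfA.FGIdeal.exists_fg_of_isCompact U hU.isCompact
  have hqc : Coh.IsQCoh (ClSub.idealMod J) := PerfA.IdealModule.isQCoh_idealMod J
  obtain ⟨E, π, hE, hπ⟩ := hX (ClSub.idealMod J) hqc
    ((PerfA.IdealModule.isFT_idealMod_iff J).2 hJfg)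
  have hEq : Coh.IsQCoh E := ResolQC.isQCoh_of_isFinLocFree hE
  let u : E ⟶ Coh.structureModule X := π ≫ ClSub.idealModι J
  have hval : ∀ (W : X.Opens) (s : Γ(E, W)),
      toFun W (u.app W s) = PerfA.IdealModule.val J (π.app W s) := fun W s => rfl
  obtain ⟨y, hy⟩ := PerfA.IdealModule.exists_val_eq J ⟨U, hU⟩ (a := 1)
    (by rw [hJU ⟨U, hU⟩ le_rfl]; trivial)
  obtain ⟨s, hs⟩ := PerfA.QCohEpi.app_surjective_of_epi π hU y
  refine isAffineOpen_inf_of_finLocFree hE u hV ?_ s ?_
  · intro W t x hx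
    have hxW : x ∈ W := X.basicOpen_le _ hx
    obtain ⟨_, ⟨A, hA, rfl⟩, hxA, hAW⟩ := X.isBasis_affineOpens.exists_subset_of_mem_open hxW W.2
    have hAW' : A ≤ W := hAW
    have h1 : toFun A (u.app A (E.presheaf.map (homOfLE hAW').op t)) ∈ J.ideal ⟨A, hA⟩ := by
      rw [hval]
      exact PerfA.IdealModule.val_mem J ⟨A, hA⟩ _
    refine hJle ⟨A, hA⟩ _ h1 ?_
    have h2 : toFun A (u.app A (E.presheaf.map (homOfLE hAW').op t)) =
        X.presheaf.map (homOfLE hAW').op (toFun W (u.app W t)) := by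
      rw [app_map]
      rfl
    rw [h2]
    refine (Scheme.basicOpen_res _ _ _).symm.le ?_
    exact ⟨hxA, hx⟩
  · rw [hval, hs, hy]

end Groth.Agent.PerfB.ResolDiag
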