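import Mathlib.Algebra.Homology.Refinements
import Mathlib.Algebra.Homology.Embedding.CochainComplex
import Mathlib.Algebra.Homology.HomotopyCategory.MappingCone

/-!
# Cycles and opcycles of bounded above complexes with terms in a class closed under kernels of
epimorphisms
-/

set_option autoImplicit false

open CategoryTheory CategoryTheory.Limits HomologicalComplex CochainComplex
  CochainComplex.HomComplex

namespace Groth.Agent.PerfB.ResolExact

universe v u

variable {C : Type u} [Category.{v} C] [Abelian C]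

/-- A class of objects is closed under kernels of epimorphisms. -/
def KerEpi (P : ObjectProperty C) : Prop :=
  ∀ ⦃K A B : C⦄ (i : K ⟶ A) (p : A ⟶ B) (w : i ≫ p = 0), IsLimit (KernelFork.ofι i w) → Epi p →
    P A → P B → P K

theorem epi_toCycles (K : CochainComplex C ℤ) (i : ℤ) (h : K.ExactAt (i + 1)) :
    Epi (K.toCycles i (i + 1)) := by
  rw [epi_iff_surjective_up_to_refinements]
  intro A y
  rw [exactAt_iff_exact_up_to_refinements _ i (i + 1) (i + 1 + 1) (by simp) (by simp)] at h
  obtain ⟨A', π, hπ, x, hx⟩ := h (y ≫ K.iCycles (i + 1)) (by simp)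
  refine ⟨A', π, hπ, x, ?_⟩
  rw [← cancel_mono (K.iCycles (i + 1))]
  simpa using hx

theorem mono_fromOpcycles (K : CochainComplex C ℤ) (i : ℤ) (h : K.ExactAt i) :
    Mono (K.fromOpcycles i (i + 1)) := by
  rw [Preadditive.mono_iff_cancel_zero]
  intro A x hx
  rw [exactAt_iff_exact_up_to_refinements _ (i - 1) i (i + 1) (by simp) (by simp)] at h
  obtain ⟨A', π, hπ, y, hy⟩ := surjective_up_to_refinements_of_epi (K.pOpcycles i) x
  obtain ⟨A'', π', hπ', z, hz⟩ := h y (by
    rw [← K.p_fromOpcycles, ← reassoc_of% hy, hx, comp_zero])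
  rw [← cancel_epi π, ← cancel_epi π', hy, ← Category.assoc, hz]
  simp

theorem prop_cycles {P : ObjectProperty C} (h0 : ∀ M, IsZero M → P M) (hP : KerEpi P)
    (K : CochainComplex C ℤ) (b n : ℤ) (hb : ∀ i, b < i → IsZero (K.X i)) (hK : ∀ i, P (K.X i))
    (hex : ∀ i, n < i → K.ExactAt i) (i : ℤ) (hi : n ≤ i) : P (K.cycles i) := by
  obtain ⟨k, hk⟩ : ∃ k : ℕ, b < i + k := ⟨(b + 1 - i).natAbs, by lia⟩
  induction k generalizing i with
  | zero => exact h0 _ (IsZero.of_mono (K.iCycles i) (hb i (by simpa using hk)))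
  | succ k ih =>
    have h1 := ih (i + 1) (by lia) (by push_cast at hk; lia)
    have := epi_toCycles K i (hex (i + 1) (by lia))
    have hw : K.iCycles i ≫ K.toCycles i (i + 1) = 0 := by
      rw [← cancel_mono (K.iCycles (i + 1))]
      simp
    exact hP _ _ hw (isKernelOfComp (K.iCycles (i + 1)) (K.d i (i + 1))
      (K.cyclesIsKernel i (i + 1) (by simp)) hw (by simp)) inferInstance (hK i) h1

theorem prop_opcycles {P : ObjectProperty C} (h0 : ∀ M, IsZero M → P M) (hP : KerEpi P)
    (K : CochainComplex C ℤ) (b n : ℤ) (hb : ∀ i, b < i → IsZero (K.X i)) (hK : ∀ i, P (K.X i))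
    (hex : ∀ i, n ≤ i → K.ExactAt i) (i : ℤ) (hi : n ≤ i) : P (K.opcycles i) := by
  obtain ⟨k, hk⟩ : ∃ k : ℕ, b < i + k := ⟨(b + 1 - i).natAbs, by lia⟩
  induction k generalizing i with
  | zero => exact h0 _ (IsZero.of_epi (K.pOpcycles i) (hb i (by simpa using hk)))
  | succ k ih =>
    have h1 := ih (i + 1) (by lia) (by push_cast at hk; lia)
    have := mono_fromOpcycles K i (hex i hi)
    have hw : K.fromOpcycles i (i + 1) ≫ K.pOpcycles (i + 1) = 0 := by
      rw [← cancel_epi (K.pOpcycles i)]
      simp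
    exact hP _ _ hw (Abelian.monoIsKernelOfCokernel _ (isCokernelOfComp (K.pOpcycles i)
      (K.d i (i + 1)) (K.opcyclesIsCokernel i (i + 1) (by simp)) hw (by simp)))
      inferInstance (hK (i + 1)) h1

section Cone

variable {F E : CochainComplex C ℤ} (β : F ⟶ E)

theorem isIso_fst (n : ℤ) (h : IsZero (E.X n)) :
    IsIso ((mappingCone.fst β).1.v n (n + 1) rfl) := by
  refine ⟨(mappingCone.inl β).v (n + 1) n (by lia), ?_, by simp⟩
  have h1 := mappingCone.id_X β n (n + 1) rfl
  rw [h.eq_of_tgt ((mappingCone.snd β).v n n (add_zero n)) 0, zero_comp, add_zero] at h1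
  exact h1

/-- If `E` vanishes in degrees `n - 1` and `n`, then the opcycles of the cone of `F ⟶ E` in degree
`n` are the opcycles of `F` in degree `n + 1`. -/
theorem nonempty_opcycles_iso (n : ℤ) (h : IsZero (E.X n)) (h' : IsZero (E.X (n - 1))) :
    Nonempty ((mappingCone β).opcycles n ≅ F.opcycles (n + 1)) := by
  have i1 := isIso_fst β n h
  have hn : n - 1 + 1 = n := by lia
  have i2 : IsIso ((mappingCone.fst β).1.v (n - 1) n hn) := by
    have := isIso_fst β (n - 1) h'
    convert this using 2 <;> simp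
  have w : (mappingCone β).d (n - 1) n ≫
      ((mappingCone.fst β).1.v n (n + 1) rfl ≫ F.pOpcycles (n + 1)) = 0 := by
    rw [mappingCone.d_fst_v_assoc β (n - 1) n (n + 1) hn rfl]
    simp
  let e : ShortComplex.mk _ _ w ≅ ShortComplex.mk (F.d n (n + 1)) (F.pOpcycles (n + 1)) (by simp) :=
    ShortComplex.isoMk (-(asIso ((mappingCone.fst β).1.v (n - 1) n hn)))
      (asIso ((mappingCone.fst β).1.v n (n + 1) rfl)) (Iso.refl _)
      (by
        dsimp
        rw [mappingCone.d_fst_v β (n - 1) n (n + 1) hn rfl]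
        simp) (by simp)
  have hex : (ShortComplex.mk _ _ w).Exact :=
    (ShortComplex.exact_iff_of_iso e).2 (ShortComplex.exact_of_g_is_cokernel _
      (F.opcyclesIsCokernel n (n + 1) (by simp)))
  have : Epi (ShortComplex.mk _ _ w).g := by
    dsimp
    infer_instance
  exact ⟨IsColimit.coconePointUniqueUpToIso
    ((mappingCone β).opcyclesIsCokernel (n - 1) n (by simp)) hex.gIsCokernel⟩

end Cone

end Groth.Agent.PerfB.ResolExact
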