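import Groth.Agent.PerfB.ResolMain
import Groth.Agent.PerfB.ResolDiag
import Groth.Agent.PerfB.ResolQCx
import Groth.Agent.S1048

/-!
# `D(QCoh(O_X)) = D_QCoh(O_X)` under the resolution property
-/

set_option autoImplicit false
universe u
open CategoryTheory CategoryTheory.Limits AlgebraicGeometry TopologicalSpace
attribute [local instance] HasDerivedCategory.standard

namespace Groth.Agent.PerfB.ResolLift

open Groth.Agent.PerfA.QCohSerre ResolQCx

variable (X : Scheme.{u})

theorem incl_spec [CompactSpace ↥X] [QuasiSeparatedSpace ↥X]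
    (hX : PerfAux.HasResolutionProperty X) :
    (incl X).Full ∧ (incl X).Faithful ∧
      ∀ K : DCoh.D X, DCoh.IsQCohD K ↔ ∃ M, Nonempty ((incl X).obj M ≅ K) :=
  Groth.Agent.S1048.result X (fun U V hU hV => ResolDiag.isAffineOpen_inf X hX U V hU hV)

end Groth.Agent.PerfB.ResolLift
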