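import Groth.Agent.PerfB.ResolExact
import Groth.Agent.PerfB.LeftRes
import Groth.Agent.Dcoh.Spread
import Groth.Agent.Dcoh.StrPerf
import Groth.Agent.S0944
import Groth.Agent.S0887
import Groth.Agent.PerfA.CohSerre
import Groth.Agent.PerfA.ExactD

/-!
# Local structure of perfect complexes: top cohomology, truncations of resolutions
-/

set_option autoImplicit false
universe u
open CategoryTheory CategoryTheory.Limits AlgebraicGeometry TopologicalSpace
attribute [local instance] HasDerivedCategory.standard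

namespace Groth.Agent.PerfB.ResolLocal

open Groth.Agent.Dcoh Groth.Agent.Dcoh.StrPerf Groth.Agent.Dcoh.LocalD
  Groth.Agent.PerfB.ResolExact Groth.Agent.PerfB.LeftRes

variable {X Y : Scheme.{u}}

theorem flf_zero (M : X.Modules) (h : IsZero M) : FLF X M := FinLocFree.isFinLocFree_of_isZero h

instance : (FLF X).ContainsZero where
  exists_zero := ⟨FlatMod.freeMod X 0, FinLocFree.isZero_freeMod_zero X,
    FinLocFree.isFinLocFree_freeMod X 0⟩

theorem flf_kerEpi : KerEpi (FLF X) := fun _ _ _ i p w hi _ hA hB =>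
  Spread.isFinLocFree_of_isLimit_kernelFork hA hB i p w hi

/-- The homology of the object of the derived category given by a complex. -/
noncomputable def homologyQ (E : CochainComplex X.Modules ℤ) (n : ℤ) :
    DCoh.HD (DerivedCategory.Q.obj E) n ≅ E.homology n :=
  (DerivedCategory.homologyFunctorFactors X.Modules n).app E

theorem exactAt_iff_isZero_HD (E : CochainComplex X.Modules ℤ) (n : ℤ) :
    E.ExactAt n ↔ IsZero (DCoh.HD (DerivedCategory.Q.obj E) n) := by
  rw [HomologicalComplex.exactAt_iff_isZero_homology]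
  exact ⟨fun h => h.of_iso (homologyQ E n), fun h => h.of_iso (homologyQ E n).symm⟩

/-- The top cohomology sheaf of a perfect object is of finite type. -/
theorem isFT_HD_of_isPerfect (K : DCoh.D X) (hK : DCoh.IsPerfect K) (n : ℤ)
    (h : ∀ i, n < i → IsZero (DCoh.HD K i)) : CohB1.IsFT (DCoh.HD K n) := by
  refine PerfA.CohSerre.isFT_of_restrict _ fun x => ?_
  obtain ⟨V, hxV, E, hE, ⟨e⟩⟩ := (isPerfect_iff_locally K).1 hK x
  refine ⟨V, hxV, ?_⟩
  have e' : ∀ i, (DCoh.HD K i).restrict V.ι ≅ E.homology i := fun i =>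
    (HDRestrict V.ι K i).symm ≪≫ (DerivedCategory.homologyFunctor _ i).mapIso e ≪≫ homologyQ E i
  obtain ⟨⟨a, b, hab⟩, hE'⟩ := hE
  have hcyc : FLF _ (E.cycles n) := prop_cycles flf_zero flf_kerEpi E b n
    (fun i hi => hab i (Or.inr hi)) hE' (fun i hi => by
      rw [HomologicalComplex.exactAt_iff_isZero_homology]
      exact ((Scheme.Modules.restrictFunctor V.ι).map_isZero (h i hi)).of_iso (e' i).symm) n le_rfl
  have h1 : CohB1.IsFT (E.cycles n) := (PerfA.CohSerre.isCoh_of_isFinLocFree hcyc).2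
  have h2 : CohB1.IsFT (E.homology n) := CohqB.FiniteType.IsFT.of_epi h1 (E.homologyπ n)
  exact CohqB.FiniteType.IsFT.of_iso h2 (e' n).symm

/-- Restriction of opcycles. -/
noncomputable def opcyclesRestrict (F : CochainComplex X.Modules ℤ) (j : Y ⟶ X) [IsOpenImmersion j]
    (n : ℤ) :
    (((Scheme.Modules.restrictFunctor j).mapHomologicalComplex (ComplexShape.up ℤ)).obj F).opcycles n ≅
      (F.opcycles n).restrict j :=
  ShortComplex.mapOpcyclesIso (F.sc n) (Scheme.Modules.restrictFunctor j)

theorem flf_opcycles_of_map {F E : CochainComplex X.Modules ℤ} (hF : DCoh.IsStrictlyPerfect F)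
    (hE : DCoh.IsStrictlyPerfect E) (β : F ⟶ E) (n : ℤ) (hF0 : ∀ i, i < n → IsZero (F.X i))
    (hE0 : ∀ i, i ≤ n → IsZero (E.X i)) (hβ : ∀ i, n < i → QuasiIsoAt β i) :
    FLF X (F.opcycles (n + 1)) := by
  obtain ⟨b, hb⟩ : ∃ b, ∀ i, b < i → IsZero (F.X i) := by
    obtain ⟨⟨a, b, hab⟩, -⟩ := hF
    exact ⟨b, fun i hi => hab i (Or.inr hi)⟩
  let S : Stage (FLF X) E b n :=
    { F := F
      f := β
      zeroLT := hF0
      zeroGT := hb
      prop := hF.2
      quasiIsoAt := hβ
      epi := by
        have h : IsZero (E.homology n) :=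
          (HomologicalComplex.ExactAt.of_isZero (hE0 n le_rfl)).isZero_homology
        constructor
        intro Z g h' _
        exact h.eq_of_src _ _ }
  have hex : ∀ i, n - 1 < i → (CochainComplex.mappingCone β).ExactAt i :=
    (S.ofEq (show n = n - 1 + 1 by lia)).exactAt_mappingCone
  obtain ⟨⟨a', b', hab'⟩, hC⟩ := isStrictlyPerfect_mappingCone hF hE β
  obtain ⟨e⟩ := nonempty_opcycles_iso β n (hE0 n le_rfl) (hE0 (n - 1) (by lia))
  exact (FLF X).prop_of_iso e (prop_opcycles flf_zero flf_kerEpi _ b' n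
    (fun i hi => hab' i (Or.inr hi)) hC (fun i hi => hex i (by lia)) n le_rfl)

end Groth.Agent.PerfB.ResolLocal
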