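import Groth.Agent.PerfB.ResolLocal

/-!
# Truncations of resolutions of perfect complexes by finite locally free modules
-/

set_option autoImplicit false
universe u
open CategoryTheory CategoryTheory.Limits AlgebraicGeometry TopologicalSpace
attribute [local instance] HasDerivedCategory.standard

namespace Groth.Agent.PerfB.ResolTrunc

open Groth.Agent.Dcoh Groth.Agent.Dcoh.StrPerf Groth.Agent.Dcoh.LocalD
  Groth.Agent.PerfB.ResolExact Groth.Agent.PerfB.LeftRes Groth.Agent.PerfB.ResolLocal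

variable {X Y : Scheme.{u}}

theorem isIso_homology_restrict (j : Y ⟶ X) [IsOpenImmersion j] {M N : DCoh.D X} (α : M ⟶ N)
    (i : ℤ) (h : IsIso ((DerivedCategory.homologyFunctor _ i).map α)) :
    IsIso ((DerivedCategory.homologyFunctor _ i).map ((DCoh.restrictD j).map α)) := by
  refine (NatIso.isIso_map_iff
    (PerfA.ExactD.mapHomology (Scheme.Modules.restrictFunctor j) i) α).2 ?_
  exact Functor.map_isIso (Scheme.Modules.restrictFunctor j)
    ((DerivedCategory.homologyFunctor _ i).map α)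

theorem quasiIsoAt_of_isIso {E F : CochainComplex X.Modules ℤ} (β : E ⟶ F) (i : ℤ)
    (h : IsIso ((DerivedCategory.homologyFunctor _ i).map (DerivedCategory.Q.map β))) :
    QuasiIsoAt β i := by
  rw [quasiIsoAt_iff_isIso_homologyMap]
  exact (NatIso.isIso_map_iff (DerivedCategory.homologyFunctorFactors X.Modules i) β).1 h

theorem isIso_of_quasiIsoAt {E F : CochainComplex X.Modules ℤ} (β : E ⟶ F) (i : ℤ)
    (h : QuasiIsoAt β i) :
    IsIso ((DerivedCategory.homologyFunctor _ i).map (DerivedCategory.Q.map β)) := by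
  rw [quasiIsoAt_iff_isIso_homologyMap] at h
  exact (NatIso.isIso_map_iff (DerivedCategory.homologyFunctorFactors X.Modules i) β).2 h

/-- Let `F ⟶ K` be a map in `D(O_X)` from a strictly perfect complex `F` in degrees `≥ n`, which is
an isomorphism on cohomology in degrees `> n`, where `K` is locally given by strictly perfect
complexes in degrees `> n`. Then the cokernel of `F^n ⟶ F^{n+1}` is finite locally free. -/
theorem flf_opcycles (F : CochainComplex X.Modules ℤ) (hF : DCoh.IsStrictlyPerfect F)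
    (K : DCoh.D X) (α : DerivedCategory.Q.obj F ⟶ K) (n : ℤ) (hF0 : ∀ i, i < n → IsZero (F.X i))
    (hα : ∀ i, n < i → IsIso ((DerivedCategory.homologyFunctor _ i).map α))
    (hK : ∀ x : X, ∃ V : X.Opens, x ∈ V ∧ ∃ E : CochainComplex (V : Scheme.{u}).Modules ℤ,
      DCoh.IsStrictlyPerfect E ∧ (∀ i, i ≤ n → IsZero (E.X i)) ∧
        Nonempty ((DCoh.restrictD V.ι).obj K ≅ DerivedCategory.Q.obj E)) :
    FLF X (F.opcycles (n + 1)) := by
  refine FinLocFree.isFinLocFree_of_local fun x => ?_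
  obtain ⟨V, hxV, E, hE, hE0, ⟨e⟩⟩ := hK x
  let F' := (DCoh.restrictCx V).obj F
  have hF' : DCoh.IsStrictlyPerfect F' := isStrictlyPerfect_restrict V.ι hF
  let α' : DerivedCategory.Q.obj F' ⟶ DerivedCategory.Q.obj E :=
    (QRestrict V.ι F).inv ≫ (DCoh.restrictD V.ι).map α ≫ e.hom
  have hα' : ∀ i, n < i → IsIso ((DerivedCategory.homologyFunctor _ i).map α') := by
    intro i hi
    have := isIso_homology_restrict V.ι α i (hα i hi)
    rw [Functor.map_comp, Functor.map_comp]
    infer_instance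
  obtain ⟨W, hxW, hW⟩ := Groth.Agent.S0944.result hF' α' ⟨x, hxV⟩
  obtain ⟨β, hβ⟩ := hW
  have hβ' : DerivedCategory.Q.map β = (QRestrict W.ι F').inv ≫ (DCoh.restrictD W.ι).map α' ≫
      (QRestrict W.ι E).hom := by
    rw [Iso.eq_inv_comp, hβ]
    simp [QRestrict]
  have hq : ∀ i, n < i → QuasiIsoAt β i := by
    intro i hi
    refine quasiIsoAt_of_isIso β i ?_
    have := isIso_homology_restrict W.ι α' i (hα' i hi)
    rw [hβ', Functor.map_comp, Functor.map_comp]
    infer_instance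
  have key := flf_opcycles_of_map (isStrictlyPerfect_restrict W.ι hF')
    (isStrictlyPerfect_restrict W.ι hE) β n
    (fun i hi => (Scheme.Modules.restrictFunctor W.ι).map_isZero
      ((Scheme.Modules.restrictFunctor V.ι).map_isZero (hF0 i hi)))
    (fun i hi => (Scheme.Modules.restrictFunctor W.ι).map_isZero (hE0 i hi)) hq
  refine ⟨W, W.ι ≫ V.ι, inferInstance, ⟨⟨⟨x, hxV⟩, hxW⟩, rfl⟩, ?_⟩
  refine (FLF _).prop_of_iso ?_ key
  exact opcyclesRestrict F' W.ι (n + 1) ≪≫
    (Scheme.Modules.restrictFunctor W.ι).mapIso (opcyclesRestrict F V.ι (n + 1)) ≪≫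
    ((Scheme.Modules.restrictFunctorComp W.ι V.ι).app _).symm

/-- On a quasi-compact scheme, a perfect object is locally given by strictly perfect complexes in
degrees `> n` for some fixed `n`. -/
theorem exists_local_bound [CompactSpace X] (K : DCoh.D X) (hK : DCoh.IsPerfect K) :
    ∃ n : ℤ, ∀ x : X, ∃ V : X.Opens, x ∈ V ∧ ∃ E : CochainComplex (V : Scheme.{u}).Modules ℤ,
      DCoh.IsStrictlyPerfect E ∧ (∀ i, i ≤ n → IsZero (E.X i)) ∧
        Nonempty ((DCoh.restrictD V.ι).obj K ≅ DerivedCategory.Q.obj E) := by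
  have h : ∀ x : X, ∃ (V : X.Opens) (a : ℤ), x ∈ V ∧
      ∃ E : CochainComplex (V : Scheme.{u}).Modules ℤ,
      DCoh.IsStrictlyPerfect E ∧ (∀ i, i ≤ a → IsZero (E.X i)) ∧
        Nonempty ((DCoh.restrictD V.ι).obj K ≅ DerivedCategory.Q.obj E) := by
    intro x
    obtain ⟨V, hx, E, hE, he⟩ := (isPerfect_iff_locally K).1 hK x
    obtain ⟨⟨a, b, hab⟩, hE'⟩ := id hE
    exact ⟨V, a - 1, hx, E, hE, fun i hi => hab i (Or.inl (by lia)), he⟩
  choose V a hxV h using h
  obtain ⟨t, ht⟩ := CompactSpace.elim_nhds_subcover (fun x => (V x : Set X))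
    (fun x => (V x).isOpen.mem_nhds (hxV x))
  obtain ⟨A, hA⟩ : ∃ A : ℤ, ∀ x ∈ t, A ≤ a x := by
    obtain ⟨A, hA⟩ := (t.finite_toSet.image a).bddBelow
    exact ⟨A, fun x hx => hA ⟨x, hx, rfl⟩⟩
  have hcov : ∀ y : X, ∃ x ∈ t, y ∈ V x := fun y => by
    have : y ∈ (⊤ : Set X) := trivial
    rw [← ht] at this
    simpa using this
  refine ⟨A, fun y => ?_⟩
  obtain ⟨x, hx, hy⟩ := hcov y
  obtain ⟨E, hE, hE0, e⟩ := h x
  exact ⟨V x, hy, E, hE, fun i hi => hE0 i (hi.trans (hA x hx)), e⟩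

end Groth.Agent.PerfB.ResolTrunc
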