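import Groth.Agent.PerfB.ResolQC
import Groth.Agent.PerfB.ResolTrunc
import Groth.Agent.PerfC.FTExt
import Groth.Prelude.Def_DCoh2
import Groth.Prelude.Def_PerfAux

/-!
# Resolution of perfect complexes of quasi-coherent modules by strictly perfect complexes
-/

set_option autoImplicit false
universe u
open CategoryTheory CategoryTheory.Limits AlgebraicGeometry TopologicalSpace
attribute [local instance] HasDerivedCategory.standard

namespace Groth.Agent.PerfB.ResolMain

open Groth.Agent.Dcoh Groth.Agent.Dcoh.StrPerf Groth.Agent.PerfB.LeftRes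
  Groth.Agent.PerfB.ResolTrunc Groth.Agent.PerfB.ResolLocal Groth.Agent.PerfA.QCohSerre

variable {X : Scheme.{u}}

theorem isQCoh_mappingCone_X {F K : CochainComplex X.Modules ℤ} (f : F ⟶ K)
    (hF : ∀ n, Coh.IsQCoh (F.X n)) (hK : ∀ n, Coh.IsQCoh (K.X n)) (n : ℤ) :
    Coh.IsQCoh ((CochainComplex.mappingCone f).X n) :=
  isQCoh_of_iso (HomologicalComplex.homotopyCofiber.XIsoBiprod f n (n + 1) (by simp)).symm
    (ResolQC.isQCoh_biprod (hF _) (hK _))

theorem isQCoh_cycles (K : CochainComplex X.Modules ℤ) (hK : ∀ n, Coh.IsQCoh (K.X n)) (n : ℤ) :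
    Coh.IsQCoh (K.cycles n) :=
  isQCoh_of_iso (IsLimit.conePointUniqueUpToIso (limit.isLimit _)
    (K.cyclesIsKernel n (n + 1) (by simp))) (isQCoh_kernel (K.d n (n + 1)) (hK n) (hK (n + 1)))

theorem isQCoh_homology (K : CochainComplex X.Modules ℤ) (hK : ∀ n, Coh.IsQCoh (K.X n)) (n : ℤ) :
    Coh.IsQCoh (K.homology n) :=
  isQCoh_of_iso (IsColimit.coconePointUniqueUpToIso (colimit.isColimit _)
    (K.homologyIsCokernel (n - 1) n (by simp)))
    (isQCoh_cokernel (K.toCycles (n - 1) n) (hK (n - 1)) (isQCoh_cycles K hK n))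

/-- The covering property needed to construct resolutions by finite locally free modules. -/
theorem hasCoversGE [CompactSpace ↥X] [QuasiSeparatedSpace ↥X]
    (hX : PerfAux.HasResolutionProperty X) (K : CochainComplex X.Modules ℤ) (b m : ℤ)
    (hq : ∀ n, Coh.IsQCoh (K.X n)) (hK : DCoh.IsPerfect (DCoh.toD X K)) :
    HasCoversGE (FLF X) K b m := by
  intro n _ _ S
  have hF : DCoh.IsStrictlyPerfect S.F := ⟨⟨n + 1, b, fun i hi => by
    rcases hi with hi | hi
    · exact S.zeroLT i hi
    · exact S.zeroGT i hi⟩, S.prop⟩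
  have hFq : ∀ i, Coh.IsQCoh (S.F.X i) := fun i => ResolQC.isQCoh_of_isFinLocFree (S.prop i)
  have hCq := isQCoh_mappingCone_X S.f hFq hq
  have hC : DCoh.IsPerfect (DerivedCategory.Q.obj (CochainComplex.mappingCone S.f)) :=
    (Groth.Agent.S0887.result _ (DerivedCategory.mappingCone_triangle_distinguished S.f)).1
      (LocalD.isPerfect_Q hF) hK
  have hft : CohB1.IsFT ((CochainComplex.mappingCone S.f).homology n) :=
    CohqB.FiniteType.IsFT.of_iso (isFT_HD_of_isPerfect _ hC n fun i hi =>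
      (exactAt_iff_isZero_HD _ i).1 (S.exactAt_mappingCone i hi)) (homologyQ _ n)
  obtain ⟨M, j, hM, hM', -, hj⟩ := PerfC.FTExt.exists_isFT_mono_epi (isQCoh_cycles _ hCq n)
    (isQCoh_homology _ hCq n) hft ((CochainComplex.mappingCone S.f).homologyπ n)
  obtain ⟨E, π, hE, hπ⟩ := hX M hM hM'
  refine ⟨E, hE, π ≫ j, ?_⟩
  rw [Category.assoc]
  exact epi_comp' hπ hj

/-- On a quasi-compact and quasi-separated scheme with the resolution property, every bounded
complex of quasi-coherent modules which is perfect receives a quasi-isomorphism from a strictly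
perfect complex. -/
theorem exists_strictlyPerfect_quasiIso (X : Scheme.{u}) [CompactSpace ↥X]
    [QuasiSeparatedSpace ↥X] (hX : PerfAux.HasResolutionProperty X)
    (K : CochainComplex X.Modules ℤ) (a b : ℤ) [K.IsStrictlyGE a] [K.IsStrictlyLE b]
    (hq : ∀ n, Coh.IsQCoh (K.X n)) (hK : DCoh.IsPerfect (DCoh.toD X K)) :
    ∃ (G : CochainComplex X.Modules ℤ) (g : G ⟶ K), DCoh.IsStrictlyPerfect G ∧ QuasiIso g := by
  obtain ⟨c, hc⟩ := exists_local_bound _ hK
  let n : ℤ := min c (a - 1)
  have hn : n ≤ c := min_le_left _ _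
  have hn' : n ≤ a - 1 := min_le_right _ _
  have : K.IsStrictlyGE (n + 1) := K.isStrictlyGE_of_ge (n + 1) a (by lia)
  obtain ⟨S⟩ := Stage.nonempty (P := FLF X) (K := K) (b := b)
    (fun i hi => HomologicalComplex.ExactAt.of_isZero (K.isZero_of_isStrictlyLE b i hi)) n
    (hasCoversGE hX K b n hq hK)
  have hF : DCoh.IsStrictlyPerfect S.F := ⟨⟨n, b, fun i hi => by
    rcases hi with hi | hi
    · exact S.zeroLT i hi
    · exact S.zeroGT i hi⟩, S.prop⟩
  have h1 : FLF X (S.F.opcycles (n + 1)) := flf_opcycles S.F hF (DerivedCategory.Q.obj K)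
    (DerivedCategory.Q.map S.f) n S.zeroLT (fun i hi => isIso_of_quasiIsoAt S.f i (S.quasiIsoAt i hi))
    (fun x => by
      obtain ⟨V, hx, E, hE, hE0, e⟩ := hc x
      exact ⟨V, hx, E, hE, fun i hi => hE0 i (hi.trans hn), e⟩)
  have h2 : QuasiIso (CochainComplex.truncGEMap S.f (n + 1)) := by
    rw [CochainComplex.quasiIso_truncGEMap_iff]
    exact fun i hi => S.quasiIsoAt i (by lia)
  refine ⟨S.F.truncGE (n + 1), CochainComplex.truncGEMap S.f (n + 1) ≫ inv (K.πTruncGE (n + 1)),
    isStrictlyPerfect_truncGE hF (n + 1) h1, ?_⟩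
  infer_instance

end Groth.Agent.PerfB.ResolMain
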