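import Mathlib.CategoryTheory.Functor.Derived.PointwiseLeftDerived
import Mathlib.CategoryTheory.Functor.Derived.PointwiseRightDerived
import Mathlib.CategoryTheory.Localization.CalculusOfFractions

/-!
# Derived functors computed by a resolving class of objects

`L : C ⥤ D` a localization for `W`, where `W` has right (resp. left) calculus of fractions and
two-out-of-three.  Let `P` be a class of objects such that every object `X` receives a morphism
`X' ⟶ X` in `W` from an object of `P` (resp. admits a morphism `X ⟶ X'` in `W` to an object of `P`),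
and `F : C ⥤ H` a functor inverting the morphisms of `W` between objects in `P`.  Then `F` has a
pointwise left (resp. right) derived functor, and for every left (resp. right) derived functor the
counit (resp. unit) is an isomorphism on objects in `P`.
-/

universe v₁ v₂ v₃ u₁ u₂ u₃

open CategoryTheory CategoryTheory.Limits

namespace Groth.Agent.PerfB.ResolveDerived

variable {C : Type u₁} [Category.{v₁} C] {D : Type u₂} [Category.{v₂} D]
  {H : Type u₃} [Category.{v₃} H]

section Left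

variable (L : C ⥤ D) (W : MorphismProperty C) [L.IsLocalization W]
  [W.HasRightCalculusOfFractions] [W.HasTwoOutOfThreeProperty] (F : C ⥤ H)
  (P : ObjectProperty C)

/-- `P`-objects resolve every object from the left, and `F` inverts `W`-morphisms between them. -/
structure LeftResolving : Prop where
  exists_res : ∀ X : C, ∃ (X' : C) (w : X' ⟶ X), P X' ∧ W w
  isIso_map : ∀ ⦃X Y : C⦄ (f : X ⟶ Y), P X → P Y → W f → IsIso (F.map f)

variable {L W F P}

/-- a roof representing `φ : L X ⟶ L Y` with roof object in `P`. -/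
structure LRoof (L : C ⥤ D) (W : MorphismProperty C) (P : ObjectProperty C) {X Y : C}
    (φ : L.obj X ⟶ L.obj Y) where
  Z : C
  hZ : P Z
  s : Z ⟶ X
  hs : W s
  f : Z ⟶ Y
  fac : L.map s ≫ φ = L.map f

lemma LeftResolving.exists_roof (h : LeftResolving W F P) {X Y : C} (φ : L.obj X ⟶ L.obj Y) :
    Nonempty (LRoof L W P φ) := by
  obtain ⟨ψ, hψ⟩ := Localization.exists_rightFraction L W φ
  obtain ⟨Z, w, hZ, hw⟩ := h.exists_res ψ.X'
  refine ⟨⟨Z, hZ, w ≫ ψ.s, W.comp_mem _ _ hw ψ.hs, w ≫ ψ.f, ?_⟩⟩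
  rw [hψ, L.map_comp, Category.assoc, MorphismProperty.RightFraction.map_s_comp_map, L.map_comp]

lemma LeftResolving.roof_unique (h : LeftResolving W F P) {X Y : C} (hX : P X)
    (φ : L.obj X ⟶ L.obj Y) (r₁ r₂ : LRoof L W P φ) :
    have := h.isIso_map r₁.s r₁.hZ hX r₁.hs
    have := h.isIso_map r₂.s r₂.hZ hX r₂.hs
    inv (F.map r₁.s) ≫ F.map r₁.f = inv (F.map r₂.s) ≫ F.map r₂.f := by
  intro i₁ i₂
  -- Ore
  obtain ⟨ψ, hψ⟩ := (MorphismProperty.LeftFraction.mk (W := W) r₁.s r₂.s r₂.hs).exists_rightFraction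
  dsimp at hψ
  -- hψ : ψ.s ≫ r₁.s = ψ.f ≫ r₂.s
  have e : L.map (ψ.s ≫ r₁.f) = L.map (ψ.f ≫ r₂.f) := by
    rw [L.map_comp, L.map_comp, ← r₁.fac, ← r₂.fac, ← Category.assoc, ← Category.assoc,
      ← L.map_comp, ← L.map_comp, hψ]
  obtain ⟨Z, u, hu, e'⟩ := (MorphismProperty.map_eq_iff_precomp L W _ _).1 e
  obtain ⟨Z', v, hZ', hv⟩ := h.exists_res Z
  have hψf : W ψ.f := W.of_postcomp ψ.f r₂.s r₂.hs (by
    rw [← hψ]; exact W.comp_mem _ _ ψ.hs r₁.hs)
  have j₁ : IsIso (F.map (v ≫ u ≫ ψ.s)) :=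
    h.isIso_map _ hZ' r₁.hZ (W.comp_mem _ _ hv (W.comp_mem _ _ hu ψ.hs))
  have j₂ : IsIso (F.map (v ≫ u ≫ ψ.f)) :=
    h.isIso_map _ hZ' r₂.hZ (W.comp_mem _ _ hv (W.comp_mem _ _ hu hψf))
  rw [IsIso.inv_comp_eq, ← cancel_epi (F.map (v ≫ u ≫ ψ.s)), ← F.map_comp]
  have e1 : (v ≫ u ≫ ψ.s) ≫ r₁.f = (v ≫ u ≫ ψ.f) ≫ r₂.f := by
    simp only [Category.assoc] at e' ⊢
    rw [e']
  have e2 : (v ≫ u ≫ ψ.s) ≫ r₁.s = (v ≫ u ≫ ψ.f) ≫ r₂.s := by
    simp only [Category.assoc]
    rw [hψ]
  have e3 : F.map (v ≫ u ≫ ψ.s) ≫ F.map r₁.s = F.map (v ≫ u ≫ ψ.f) ≫ F.map r₂.s := by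
    rw [← F.map_comp, e2, F.map_comp]
  rw [e1, reassoc_of% e3, F.map_comp, IsIso.hom_inv_id_assoc]

/-- the comparison map. -/
noncomputable def LeftResolving.psi (h : LeftResolving W F P) {X Y : C} (hX : P X)
    (φ : L.obj X ⟶ L.obj Y) : F.obj X ⟶ F.obj Y :=
  let r := (h.exists_roof (L := L) φ).some
  have := h.isIso_map r.s r.hZ hX r.hs
  inv (F.map r.s) ≫ F.map r.f

lemma LeftResolving.psi_eq (h : LeftResolving W F P) {X Y : C} (hX : P X)
    (φ : L.obj X ⟶ L.obj Y) {Z : C} (hZ : P Z) (s : Z ⟶ X) (hs : W s) (f : Z ⟶ Y)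
    (fac : L.map s ≫ φ = L.map f) :
    F.map s ≫ h.psi hX φ = F.map f := by
  have := h.isIso_map s hZ hX hs
  have e := h.roof_unique hX φ (h.exists_roof (L := L) φ).some ⟨Z, hZ, s, hs, f, fac⟩
  dsimp at e
  dsimp only [psi]
  rw [e, IsIso.hom_inv_id_assoc]

lemma LeftResolving.psi_id (h : LeftResolving W F P) {X : C} (hX : P X) :
    h.psi hX (𝟙 (L.obj X)) = 𝟙 _ := by
  have := h.psi_eq hX (𝟙 (L.obj X)) hX (𝟙 X) (W.id_mem X) (𝟙 X) (by simp)
  simpa using this

lemma LeftResolving.psi_comp (h : LeftResolving W F P) {X Y Y' : C} (hX : P X)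
    (φ : L.obj X ⟶ L.obj Y) (g : Y ⟶ Y') :
    h.psi hX (φ ≫ L.map g) = h.psi hX φ ≫ F.map g := by
  obtain ⟨r⟩ := h.exists_roof (L := L) φ
  have := h.isIso_map r.s r.hZ hX r.hs
  rw [← cancel_epi (F.map r.s), h.psi_eq hX (φ ≫ L.map g) r.hZ r.s r.hs (r.f ≫ g)
    (by rw [← Category.assoc, r.fac, L.map_comp]), ← Category.assoc,
    h.psi_eq hX φ r.hZ r.s r.hs r.f r.fac, F.map_comp]

/-- The cone over `StructuredArrow (L.obj X) L ⥤ H` with point `F.obj X`, for `X` in `P`. -/
noncomputable def LeftResolving.cone (h : LeftResolving W F P) {X : C} (hX : P X) :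
    Cone (StructuredArrow.proj (L.obj X) L ⋙ F) where
  pt := F.obj X
  π :=
    { app := fun j => h.psi hX j.hom
      naturality := fun j j' g => by
        have e : j'.hom = j.hom ≫ L.map g.right := (StructuredArrow.w g).symm
        refine (Category.id_comp _).trans ?_
        change h.psi hX j'.hom = h.psi hX j.hom ≫ F.map g.right
        rw [e]
        exact h.psi_comp hX j.hom g.right }

/-- The cone is a limit. -/
noncomputable def LeftResolving.isLimitCone (h : LeftResolving W F P) {X : C} (hX : P X) :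
    IsLimit (h.cone (L := L) hX) where
  lift s := s.π.app (StructuredArrow.mk (𝟙 (L.obj X)))
  fac s j := by
    obtain ⟨r⟩ := h.exists_roof (L := L) j.hom
    have i1 := h.isIso_map r.s r.hZ hX r.hs
    have i2 : IsIso (L.map r.s) := Localization.inverts L W _ r.hs
    let k : StructuredArrow (L.obj X) L := StructuredArrow.mk (inv (L.map r.s))
    let a : k ⟶ StructuredArrow.mk (𝟙 (L.obj X)) := StructuredArrow.homMk r.s (by simp [k])
    let b : k ⟶ j := StructuredArrow.homMk r.f (by simp [k, ← r.fac])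
    have ha : s.π.app k ≫ F.map r.s = s.π.app (StructuredArrow.mk (𝟙 (L.obj X))) := s.w a
    have hb : s.π.app k ≫ F.map r.f = s.π.app j := s.w b
    change s.π.app (StructuredArrow.mk (𝟙 (L.obj X))) ≫ h.psi hX j.hom = s.π.app j
    rw [← ha, ← hb]
    have e := h.psi_eq hX j.hom r.hZ r.s r.hs r.f r.fac
    exact (Category.assoc _ _ _).trans (congrArg (fun t => s.π.app k ≫ t) e)
  uniq s m hm := by
    have e := hm (StructuredArrow.mk (𝟙 (L.obj X)))
    change m ≫ h.psi hX (𝟙 (L.obj X)) = _ at e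
    rw [h.psi_id] at e
    exact (Category.comp_id _).symm.trans e

lemma LeftResolving.hasPointwiseLeftDerivedFunctorAt (h : LeftResolving W F P) {X : C}
    (hX : P X) : F.HasPointwiseLeftDerivedFunctorAt W X := by
  rw [Functor.hasPointwiseLeftDerivedFunctorAt_iff F W.Q W]
  exact ⟨⟨_, h.isLimitCone (L := W.Q) hX⟩⟩

lemma LeftResolving.hasPointwiseLeftDerivedFunctor (h : LeftResolving W F P) :
    F.HasPointwiseLeftDerivedFunctor W := by
  intro X
  obtain ⟨X', w, hX', hw⟩ := h.exists_res X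
  rw [← F.hasPointwiseLeftDerivedFunctorAt_iff_of_mem W w hw]
  exact h.hasPointwiseLeftDerivedFunctorAt hX'

lemma LeftResolving.hasLeftDerivedFunctor (h : LeftResolving W F P) :
    F.HasLeftDerivedFunctor W := by
  have := h.hasPointwiseLeftDerivedFunctor
  infer_instance

/-- The counit of a left derived functor is an isomorphism on the objects of `P`. -/
lemma LeftResolving.isIso_app (h : LeftResolving W F P) (LF : D ⥤ H) (α : L ⋙ LF ⟶ F)
    [LF.IsLeftDerivedFunctor α W] {X : C} (hX : P X) : IsIso (α.app X) := by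
  have := h.hasPointwiseLeftDerivedFunctor
  let hlim := Functor.isPointwiseRightKanExtensionOfHasPointwiseLeftDerivedFunctor (L := L)
    LF α W (L.obj X)
  let e := hlim.conePointUniqueUpToIso (h.isLimitCone (L := L) hX)
  have he : e.hom ≫ h.psi hX (𝟙 (L.obj X)) =
      LF.map (𝟙 (L.obj X)) ≫ α.app X :=
    hlim.conePointUniqueUpToIso_hom_comp (h.isLimitCone (L := L) hX)
      (StructuredArrow.mk (𝟙 (L.obj X)))
  rw [h.psi_id, LF.map_id, Category.id_comp] at he
  have he' : e.hom = α.app X := (Category.comp_id _).symm.trans he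
  rw [← he']
  infer_instance

end Left

section Right

variable (L : C ⥤ D) (W : MorphismProperty C) [L.IsLocalization W]
  [W.HasLeftCalculusOfFractions] [W.HasTwoOutOfThreeProperty] (F : C ⥤ H)
  (P : ObjectProperty C)

/-- `P`-objects resolve every object from the right, and `F` inverts `W`-morphisms between them. -/
structure RightResolving : Prop where
  exists_res : ∀ X : C, ∃ (X' : C) (w : X ⟶ X'), P X' ∧ W w
  isIso_map : ∀ ⦃X Y : C⦄ (f : X ⟶ Y), P X → P Y → W f → IsIso (F.map f)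

variable {L W F P}

/-- a left roof representing `φ : L Y ⟶ L X` with roof object in `P`. -/
structure RRoof (L : C ⥤ D) (W : MorphismProperty C) (P : ObjectProperty C) {Y X : C}
    (φ : L.obj Y ⟶ L.obj X) where
  Z : C
  hZ : P Z
  f : Y ⟶ Z
  s : X ⟶ Z
  hs : W s
  fac : φ ≫ L.map s = L.map f

lemma RightResolving.exists_roof (h : RightResolving W F P) {Y X : C} (φ : L.obj Y ⟶ L.obj X) :
    Nonempty (RRoof L W P φ) := by
  obtain ⟨ψ, hψ⟩ := Localization.exists_leftFraction L W φ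
  obtain ⟨Z, w, hZ, hw⟩ := h.exists_res ψ.Y'
  refine ⟨⟨Z, hZ, ψ.f ≫ w, ψ.s ≫ w, W.comp_mem _ _ ψ.hs hw, ?_⟩⟩
  rw [hψ, L.map_comp, MorphismProperty.LeftFraction.map_comp_map_s_assoc, L.map_comp]

lemma RightResolving.roof_unique (h : RightResolving W F P) {Y X : C} (hX : P X)
    (φ : L.obj Y ⟶ L.obj X) (r₁ r₂ : RRoof L W P φ) :
    have := h.isIso_map r₁.s hX r₁.hZ r₁.hs
    have := h.isIso_map r₂.s hX r₂.hZ r₂.hs
    F.map r₁.f ≫ inv (F.map r₁.s) = F.map r₂.f ≫ inv (F.map r₂.s) := by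
  intro i₁ i₂
  obtain ⟨ψ, hψ⟩ := (MorphismProperty.RightFraction.mk (W := W) r₁.s r₁.hs r₂.s).exists_leftFraction
  dsimp at hψ
  -- hψ : r₂.s ≫ ψ.s = r₁.s ≫ ψ.f
  have e : L.map (r₁.f ≫ ψ.f) = L.map (r₂.f ≫ ψ.s) := by
    rw [L.map_comp, L.map_comp, ← r₁.fac, ← r₂.fac, Category.assoc, Category.assoc,
      ← L.map_comp, ← L.map_comp, hψ]
  obtain ⟨Z, u, hu, e'⟩ := (MorphismProperty.map_eq_iff_postcomp L W _ _).1 e
  obtain ⟨Z', v, hZ', hv⟩ := h.exists_res Z
  have hψf : W ψ.f := W.of_precomp r₁.s ψ.f r₁.hs (by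
    rw [← hψ]; exact W.comp_mem _ _ r₂.hs ψ.hs)
  have j₁ : IsIso (F.map (ψ.f ≫ u ≫ v)) :=
    h.isIso_map _ r₁.hZ hZ' (W.comp_mem _ _ hψf (W.comp_mem _ _ hu hv))
  rw [IsIso.comp_inv_eq, Category.assoc]
  have e1 : r₁.f ≫ (ψ.f ≫ u ≫ v) = r₂.f ≫ (ψ.s ≫ u ≫ v) := by
    simpa using congrArg (fun t => t ≫ v) e'
  have e2 : r₁.s ≫ (ψ.f ≫ u ≫ v) = r₂.s ≫ (ψ.s ≫ u ≫ v) := by
    rw [← Category.assoc, ← hψ, Category.assoc]
  have e3 : F.map r₁.s ≫ F.map (ψ.f ≫ u ≫ v) = F.map r₂.s ≫ F.map (ψ.s ≫ u ≫ v) := by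
    rw [← F.map_comp, e2, F.map_comp]
  have e4 : F.map r₁.f ≫ F.map (ψ.f ≫ u ≫ v) = F.map r₂.f ≫ F.map (ψ.s ≫ u ≫ v) := by
    rw [← F.map_comp, e1, F.map_comp]
  rw [← cancel_mono (F.map (ψ.f ≫ u ≫ v)), e4, Category.assoc, Category.assoc, e3,
    IsIso.inv_hom_id_assoc]

/-- the comparison map. -/
noncomputable def RightResolving.psi (h : RightResolving W F P) {Y X : C} (hX : P X)
    (φ : L.obj Y ⟶ L.obj X) : F.obj Y ⟶ F.obj X :=
  let r := (h.exists_roof (L := L) φ).some
  have := h.isIso_map r.s hX r.hZ r.hs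
  F.map r.f ≫ inv (F.map r.s)

lemma RightResolving.psi_eq (h : RightResolving W F P) {Y X : C} (hX : P X)
    (φ : L.obj Y ⟶ L.obj X) {Z : C} (hZ : P Z) (f : Y ⟶ Z) (s : X ⟶ Z) (hs : W s)
    (fac : φ ≫ L.map s = L.map f) :
    h.psi hX φ ≫ F.map s = F.map f := by
  have := h.isIso_map s hX hZ hs
  have e := h.roof_unique hX φ (h.exists_roof (L := L) φ).some ⟨Z, hZ, f, s, hs, fac⟩
  dsimp at e
  dsimp only [psi]
  rw [e, Category.assoc, IsIso.inv_hom_id, Category.comp_id]

lemma RightResolving.psi_id (h : RightResolving W F P) {X : C} (hX : P X) :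
    h.psi hX (𝟙 (L.obj X)) = 𝟙 _ := by
  have := h.psi_eq hX (𝟙 (L.obj X)) hX (𝟙 X) (𝟙 X) (W.id_mem X) (by simp)
  simpa using this

lemma RightResolving.psi_comp (h : RightResolving W F P) {Y' Y X : C} (hX : P X)
    (g : Y' ⟶ Y) (φ : L.obj Y ⟶ L.obj X) :
    h.psi hX (L.map g ≫ φ) = F.map g ≫ h.psi hX φ := by
  obtain ⟨r⟩ := h.exists_roof (L := L) φ
  have := h.isIso_map r.s hX r.hZ r.hs
  rw [← cancel_mono (F.map r.s), h.psi_eq hX (L.map g ≫ φ) r.hZ (g ≫ r.f) r.s r.hs
    (by rw [Category.assoc, r.fac, L.map_comp]), Category.assoc,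
    h.psi_eq hX φ r.hZ r.f r.s r.hs r.fac, F.map_comp]

/-- The cocone over `CostructuredArrow L (L.obj X) ⥤ H` with point `F.obj X`, for `X` in `P`. -/
noncomputable def RightResolving.cocone (h : RightResolving W F P) {X : C} (hX : P X) :
    Cocone (CostructuredArrow.proj L (L.obj X) ⋙ F) where
  pt := F.obj X
  ι :=
    { app := fun j => h.psi hX j.hom
      naturality := fun j j' g => by
        have e : L.map g.left ≫ j'.hom = j.hom := CostructuredArrow.w g
        refine Eq.trans ?_ (Category.comp_id _).symm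
        change F.map g.left ≫ h.psi hX j'.hom = h.psi hX j.hom
        rw [← e]
        exact (h.psi_comp hX g.left j'.hom).symm }

/-- The cocone is a colimit. -/
noncomputable def RightResolving.isColimitCocone (h : RightResolving W F P) {X : C} (hX : P X) :
    IsColimit (h.cocone (L := L) hX) where
  desc s := s.ι.app (CostructuredArrow.mk (𝟙 (L.obj X)))
  fac s j := by
    obtain ⟨r⟩ := h.exists_roof (L := L) j.hom
    have i1 := h.isIso_map r.s hX r.hZ r.hs
    have i2 : IsIso (L.map r.s) := Localization.inverts L W _ r.hs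
    let k : CostructuredArrow L (L.obj X) := CostructuredArrow.mk (inv (L.map r.s))
    let a : CostructuredArrow.mk (𝟙 (L.obj X)) ⟶ k := CostructuredArrow.homMk r.s (by simp [k])
    let b : j ⟶ k := CostructuredArrow.homMk r.f (by simp [k, ← r.fac])
    have ha : F.map r.s ≫ s.ι.app k = s.ι.app (CostructuredArrow.mk (𝟙 (L.obj X))) := s.w a
    have hb : F.map r.f ≫ s.ι.app k = s.ι.app j := s.w b
    change h.psi hX j.hom ≫ s.ι.app (CostructuredArrow.mk (𝟙 (L.obj X))) = s.ι.app j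
    rw [← ha, ← hb]
    have e := h.psi_eq hX j.hom r.hZ r.f r.s r.hs r.fac
    exact (Category.assoc _ _ _).symm.trans (congrArg (fun t => t ≫ s.ι.app k) e)
  uniq s m hm := by
    have e := hm (CostructuredArrow.mk (𝟙 (L.obj X)))
    change h.psi hX (𝟙 (L.obj X)) ≫ m = _ at e
    rw [h.psi_id] at e
    exact (Category.id_comp _).symm.trans e

lemma RightResolving.hasPointwiseRightDerivedFunctorAt (h : RightResolving W F P) {X : C}
    (hX : P X) : F.HasPointwiseRightDerivedFunctorAt W X := by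
  rw [Functor.hasPointwiseRightDerivedFunctorAt_iff F W.Q W]
  exact ⟨⟨_, h.isColimitCocone (L := W.Q) hX⟩⟩

lemma RightResolving.hasPointwiseRightDerivedFunctor (h : RightResolving W F P) :
    F.HasPointwiseRightDerivedFunctor W := by
  intro X
  obtain ⟨X', w, hX', hw⟩ := h.exists_res X
  rw [F.hasPointwiseRightDerivedFunctorAt_iff_of_mem W w hw]
  exact h.hasPointwiseRightDerivedFunctorAt hX'

lemma RightResolving.hasRightDerivedFunctor (h : RightResolving W F P) :
    F.HasRightDerivedFunctor W := by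
  have := h.hasPointwiseRightDerivedFunctor
  infer_instance

/-- The unit of a right derived functor is an isomorphism on the objects of `P`. -/
lemma RightResolving.isIso_app (h : RightResolving W F P) (RF : D ⥤ H) (α : F ⟶ L ⋙ RF)
    [RF.IsRightDerivedFunctor α W] {X : C} (hX : P X) : IsIso (α.app X) := by
  have := h.hasPointwiseRightDerivedFunctor
  let hcolim := Functor.isPointwiseLeftKanExtensionOfHasPointwiseRightDerivedFunctor (L := L)
    RF α W (L.obj X)
  let e := (h.isColimitCocone (L := L) hX).coconePointUniqueUpToIso hcolim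
  have he : h.psi hX (𝟙 (L.obj X)) ≫ e.hom =
      α.app X ≫ RF.map (𝟙 (L.obj X)) :=
    (h.isColimitCocone (L := L) hX).comp_coconePointUniqueUpToIso_hom hcolim
      (CostructuredArrow.mk (𝟙 (L.obj X)))
  rw [h.psi_id, RF.map_id] at he
  have he' : e.hom = α.app X :=
    (Category.id_comp _).symm.trans (he.trans (Category.comp_id _))
  rw [← he']
  infer_instance

end Right

end Groth.Agent.PerfB.ResolveDerived
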