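import Groth.Agent.PerfB.ResolveDerived
import Mathlib.Algebra.Homology.DerivedCategory.Fractions

/-!
# Derived functors on complexes computed by a resolving class

Two forms:
* functors on the homotopy category `K(A)` and the localization `Qh : K(A) ⥤ D(A)`;
* functors on the category of complexes `C(A)` factoring through `K(A)`, and `Q : C(A) ⥤ D(A)`.
-/

universe v₁ v₂ v₃ v₄ u₁ u₂ u₃ u₄

open CategoryTheory CategoryTheory.Limits

namespace Groth.Agent.PerfB.ResolveDerivedCx

open Groth.Agent.PerfB.ResolveDerived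

section Transfer

variable {C₀ : Type u₁} [Category.{v₁} C₀] {C : Type u₂} [Category.{v₂} C] {D : Type u₃}
  [Category.{v₃} D] {H : Type u₄} [Category.{v₄} H]
  (q : C₀ ⥤ C) [((Functor.whiskeringLeft C₀ C H).obj q).Full]
  [((Functor.whiskeringLeft C₀ C H).obj q).Faithful]
  {L : C ⥤ D} {L₀ : C₀ ⥤ D} (eL : q ⋙ L ≅ L₀) {F : C ⥤ H} {F₀ : C₀ ⥤ H} (eF : q ⋙ F ≅ F₀)
  (LF : D ⥤ H)

/-- The natural transformation `L ⋙ LF ⟶ F` attached to `L₀ ⋙ LF ⟶ F₀`. -/
noncomputable def transferHom (α₀ : L₀ ⋙ LF ⟶ F₀) : L ⋙ LF ⟶ F :=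
  ((Functor.whiskeringLeft C₀ C H).obj q).preimage
    ((Functor.associator _ _ _).inv ≫ Functor.whiskerRight eL.hom LF ≫ α₀ ≫ eF.inv)

omit [((Functor.whiskeringLeft C₀ C H).obj q).Faithful] in
lemma whiskerLeft_transferHom (α₀ : L₀ ⋙ LF ⟶ F₀) :
    Functor.whiskerLeft q (transferHom q eL eF LF α₀) =
      ((Functor.associator _ _ _).inv ≫ Functor.whiskerRight eL.hom LF ≫ α₀ ≫ eF.inv) :=
  ((Functor.whiskeringLeft C₀ C H).obj q).map_preimage _

omit [((Functor.whiskeringLeft C₀ C H).obj q).Faithful] in
lemma transferHom_app (α₀ : L₀ ⋙ LF ⟶ F₀) (X : C₀) :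
    (transferHom q eL eF LF α₀).app (q.obj X) =
      LF.map (eL.hom.app X) ≫ α₀.app X ≫ eF.inv.app X := by
  have := congrArg (fun t => t.app X) (whiskerLeft_transferHom q eL eF LF α₀)
  simpa using this

omit [((Functor.whiskeringLeft C₀ C H).obj q).Full] in
lemma hom_ext_q {G G' : C ⥤ H} (a b : G ⟶ G') (h : ∀ X, a.app (q.obj X) = b.app (q.obj X)) :
    a = b :=
  ((Functor.whiskeringLeft C₀ C H).obj q).map_injective (by ext X; exact h X)

lemma isRightKanExtension_transferHom (α₀ : L₀ ⋙ LF ⟶ F₀) [LF.IsRightKanExtension α₀] :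
    LF.IsRightKanExtension (transferHom q eL eF LF α₀) where
  nonempty_isUniversal := ⟨by
    refine IsTerminal.ofUniqueHom (fun E => ?_) (fun E m => ?_)
    · let G : D ⥤ H := E.left
      let β : L ⋙ G ⟶ F := E.hom
      let β₀ : L₀ ⋙ G ⟶ F₀ :=
        Functor.whiskerRight eL.inv G ≫ (Functor.associator _ _ _).hom ≫
          Functor.whiskerLeft q β ≫ eF.hom
      refine CostructuredArrow.homMk (LF.liftOfIsRightKanExtension α₀ G β₀) ?_
      change Functor.whiskerLeft L (LF.liftOfIsRightKanExtension α₀ G β₀) ≫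
        transferHom q eL eF LF α₀ = β
      apply hom_ext_q q
      intro X
      have h1 := LF.liftOfIsRightKanExtension_fac_app α₀ G β₀ X
      have h2 := (LF.liftOfIsRightKanExtension α₀ G β₀).naturality (eL.hom.app X)
      have h4 : G.map (eL.hom.app X) ≫ G.map (eL.inv.app X) = 𝟙 _ := by
        rw [← G.map_comp, Iso.hom_inv_id_app, G.map_id]
      dsimp at h2 ⊢
      rw [transferHom_app, ← reassoc_of% h2, reassoc_of% h1]
      simp [β₀, reassoc_of% h4]
    · let G : D ⥤ H := E.left
      let β : L ⋙ G ⟶ F := E.hom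
      let β₀ : L₀ ⋙ G ⟶ F₀ :=
        Functor.whiskerRight eL.inv G ≫ (Functor.associator _ _ _).hom ≫
          Functor.whiskerLeft q β ≫ eF.hom
      let m' : G ⟶ LF := m.left
      have hm : Functor.whiskerLeft L m' ≫ transferHom q eL eF LF α₀ = β :=
        CostructuredArrow.w m
      ext : 1
      change m' = LF.liftOfIsRightKanExtension α₀ G β₀
      apply LF.hom_ext_of_isRightKanExtension α₀
      ext X
      have h1 := LF.liftOfIsRightKanExtension_fac_app α₀ G β₀ X
      have h3 := congrArg (fun t => t.app (q.obj X)) hm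
      have h2 := m'.naturality (eL.inv.app X)
      have h4 : LF.map (eL.inv.app X) ≫ LF.map (eL.hom.app X) = 𝟙 _ := by
        rw [← LF.map_comp, Iso.inv_hom_id_app, LF.map_id]
      dsimp at h3 h2 ⊢
      rw [transferHom_app] at h3
      rw [h1]
      dsimp [β₀]
      rw [← h3]
      simp [reassoc_of% h2, reassoc_of% h4]⟩

/-- The reverse construction. -/
noncomputable def restrictHom (α : L ⋙ LF ⟶ F) : L₀ ⋙ LF ⟶ F₀ :=
  Functor.whiskerRight eL.inv LF ≫ (Functor.associator _ _ _).hom ≫
    Functor.whiskerLeft q α ≫ eF.hom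

lemma isRightKanExtension_restrictHom (α : L ⋙ LF ⟶ F) [LF.IsRightKanExtension α] :
    LF.IsRightKanExtension (restrictHom q eL eF LF α) where
  nonempty_isUniversal := ⟨by
    refine IsTerminal.ofUniqueHom (fun E => ?_) (fun E m => ?_)
    · let G : D ⥤ H := E.left
      let β₀ : L₀ ⋙ G ⟶ F₀ := E.hom
      let β : L ⋙ G ⟶ F := transferHom q eL eF G β₀
      refine CostructuredArrow.homMk (LF.liftOfIsRightKanExtension α G β) ?_
      change Functor.whiskerLeft L₀ (LF.liftOfIsRightKanExtension α G β) ≫
        restrictHom q eL eF LF α = β₀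
      ext X
      have h1 := LF.liftOfIsRightKanExtension_fac_app α G β (q.obj X)
      have h2 := (LF.liftOfIsRightKanExtension α G β).naturality (eL.inv.app X)
      have h4 : G.map (eL.inv.app X) ≫ G.map (eL.hom.app X) = 𝟙 _ := by
        rw [← G.map_comp, Iso.inv_hom_id_app, G.map_id]
      dsimp at h2
      dsimp [β] at h1
      rw [transferHom_app] at h1
      dsimp [restrictHom, β]
      rw [← reassoc_of% h2]
      simp only [Category.id_comp]
      rw [reassoc_of% h1]
      simp [reassoc_of% h4]
    · let G : D ⥤ H := E.left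
      let β₀ : L₀ ⋙ G ⟶ F₀ := E.hom
      let β : L ⋙ G ⟶ F := transferHom q eL eF G β₀
      let m' : G ⟶ LF := m.left
      have hm : Functor.whiskerLeft L₀ m' ≫ restrictHom q eL eF LF α = β₀ :=
        CostructuredArrow.w m
      ext : 1
      change m' = LF.liftOfIsRightKanExtension α G β
      apply LF.hom_ext_of_isRightKanExtension α
      apply hom_ext_q q
      intro X
      have h1 := LF.liftOfIsRightKanExtension_fac_app α G β (q.obj X)
      have h3 := congrArg (fun t => t.app X) hm
      have h2 := m'.naturality (eL.hom.app X)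
      have h4 : LF.map (eL.hom.app X) ≫ LF.map (eL.inv.app X) = 𝟙 _ := by
        rw [← LF.map_comp, Iso.hom_inv_id_app, LF.map_id]
      dsimp at h3 h2 ⊢
      rw [h1]
      dsimp [β]
      rw [transferHom_app, ← h3]
      dsimp [restrictHom]
      simp [reassoc_of% h2, reassoc_of% h4]⟩

end Transfer

section Abelian

universe w₁

variable {A : Type u₁} [Category.{v₁} A] [Abelian A] [HasDerivedCategory.{w₁} A]
  {H : Type u₂} [Category.{v₂} H]

omit [HasDerivedCategory.{w₁} A] in
instance hasTwoOutOfThree_quasiIso :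
    (HomotopyCategory.quasiIso A (ComplexShape.up ℤ)).HasTwoOutOfThreeProperty where
  comp_mem f g hf hg := MorphismProperty.comp_mem _ _ _ hf hg
  of_postcomp f g hg hfg := by
    intro i
    have h1 := hg i
    have h2 := hfg i
    rw [Functor.map_comp] at h2
    exact IsIso.of_isIso_comp_right _ ((HomotopyCategory.homologyFunctor A (ComplexShape.up ℤ) i).map g)
  of_precomp f g hf hfg := by
    intro i
    have h1 := hf i
    have h2 := hfg i
    rw [Functor.map_comp] at h2
    exact IsIso.of_isIso_comp_left ((HomotopyCategory.homologyFunctor A (ComplexShape.up ℤ) i).map f) _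

omit [HasDerivedCategory.{w₁} A] in
/-- Resolving classes of complexes (rather than objects of the homotopy category). -/
lemma leftResolving_of_complexes (F : HomotopyCategory A (ComplexShape.up ℤ) ⥤ H)
    (P : ObjectProperty (CochainComplex A ℤ))
    (hres : ∀ K : CochainComplex A ℤ, ∃ (K' : CochainComplex A ℤ) (w : K' ⟶ K), P K' ∧ QuasiIso w)
    (hF : ∀ ⦃K L : CochainComplex A ℤ⦄ (f : K ⟶ L), P K → P L → QuasiIso f →
      IsIso (F.map ((HomotopyCategory.quotient A (ComplexShape.up ℤ)).map f))) :
    LeftResolving (HomotopyCategory.quasiIso A (ComplexShape.up ℤ)) F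
      (fun K => P K.as) where
  exists_res X := by
    obtain ⟨K', w, hK', hw⟩ := hres X.as
    exact ⟨(HomotopyCategory.quotient A (ComplexShape.up ℤ)).obj K',
      (HomotopyCategory.quotient A (ComplexShape.up ℤ)).map w, hK',
      (HomotopyCategory.quotient_map_mem_quasiIso_iff w).2 hw⟩
  isIso_map X Y f hX hY hf := by
    obtain ⟨g, rfl⟩ := (HomotopyCategory.quotient A (ComplexShape.up ℤ)).map_surjective
      (X := X.as) (Y := Y.as) f
    refine hF g hX hY ?_
    exact (HomotopyCategory.quotient_map_mem_quasiIso_iff g).1 hf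

omit [HasDerivedCategory.{w₁} A] in
/-- Resolving classes of complexes (rather than objects of the homotopy category). -/
lemma rightResolving_of_complexes (F : HomotopyCategory A (ComplexShape.up ℤ) ⥤ H)
    (P : ObjectProperty (CochainComplex A ℤ))
    (hres : ∀ K : CochainComplex A ℤ, ∃ (K' : CochainComplex A ℤ) (w : K ⟶ K'), P K' ∧ QuasiIso w)
    (hF : ∀ ⦃K L : CochainComplex A ℤ⦄ (f : K ⟶ L), P K → P L → QuasiIso f →
      IsIso (F.map ((HomotopyCategory.quotient A (ComplexShape.up ℤ)).map f))) :
    RightResolving (HomotopyCategory.quasiIso A (ComplexShape.up ℤ)) F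
      (fun K => P K.as) where
  exists_res X := by
    obtain ⟨K', w, hK', hw⟩ := hres X.as
    exact ⟨(HomotopyCategory.quotient A (ComplexShape.up ℤ)).obj K',
      (HomotopyCategory.quotient A (ComplexShape.up ℤ)).map w, hK',
      (HomotopyCategory.quotient_map_mem_quasiIso_iff w).2 hw⟩
  isIso_map X Y f hX hY hf := by
    obtain ⟨g, rfl⟩ := (HomotopyCategory.quotient A (ComplexShape.up ℤ)).map_surjective
      (X := X.as) (Y := Y.as) f
    refine hF g hX hY ?_
    exact (HomotopyCategory.quotient_map_mem_quasiIso_iff g).1 hf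

/-- `K(A)`-form: the counit is an isomorphism on complexes in `P`. -/
lemma isIso_leftDerivedCounit (F : HomotopyCategory A (ComplexShape.up ℤ) ⥤ H)
    (P : ObjectProperty (CochainComplex A ℤ))
    (hres : ∀ K : CochainComplex A ℤ, ∃ (K' : CochainComplex A ℤ) (w : K' ⟶ K), P K' ∧ QuasiIso w)
    (hF : ∀ ⦃K L : CochainComplex A ℤ⦄ (f : K ⟶ L), P K → P L → QuasiIso f →
      IsIso (F.map ((HomotopyCategory.quotient A (ComplexShape.up ℤ)).map f)))
    (LF : DerivedCategory A ⥤ H) (α : DerivedCategory.Qh ⋙ LF ⟶ F)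
    [LF.IsLeftDerivedFunctor α (HomotopyCategory.quasiIso A (ComplexShape.up ℤ))]
    {K : CochainComplex A ℤ} (hK : P K) :
    IsIso (α.app ((HomotopyCategory.quotient A (ComplexShape.up ℤ)).obj K)) :=
  (leftResolving_of_complexes F P hres hF).isIso_app LF α hK

/-- `K(A)`-form: the unit is an isomorphism on complexes in `P`. -/
lemma isIso_rightDerivedUnit (F : HomotopyCategory A (ComplexShape.up ℤ) ⥤ H)
    (P : ObjectProperty (CochainComplex A ℤ))
    (hres : ∀ K : CochainComplex A ℤ, ∃ (K' : CochainComplex A ℤ) (w : K ⟶ K'), P K' ∧ QuasiIso w)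
    (hF : ∀ ⦃K L : CochainComplex A ℤ⦄ (f : K ⟶ L), P K → P L → QuasiIso f →
      IsIso (F.map ((HomotopyCategory.quotient A (ComplexShape.up ℤ)).map f)))
    (RF : DerivedCategory A ⥤ H) (α : F ⟶ DerivedCategory.Qh ⋙ RF)
    [RF.IsRightDerivedFunctor α (HomotopyCategory.quasiIso A (ComplexShape.up ℤ))]
    {K : CochainComplex A ℤ} (hK : P K) :
    IsIso (α.app ((HomotopyCategory.quotient A (ComplexShape.up ℤ)).obj K)) :=
  (rightResolving_of_complexes F P hres hF).isIso_app RF α hK

omit [HasDerivedCategory.{w₁} A] in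
/-- Existence of the left derived functor. -/
lemma hasLeftDerivedFunctor_of_complexes (F : HomotopyCategory A (ComplexShape.up ℤ) ⥤ H)
    (P : ObjectProperty (CochainComplex A ℤ))
    (hres : ∀ K : CochainComplex A ℤ, ∃ (K' : CochainComplex A ℤ) (w : K' ⟶ K), P K' ∧ QuasiIso w)
    (hF : ∀ ⦃K L : CochainComplex A ℤ⦄ (f : K ⟶ L), P K → P L → QuasiIso f →
      IsIso (F.map ((HomotopyCategory.quotient A (ComplexShape.up ℤ)).map f))) :
    F.HasLeftDerivedFunctor (HomotopyCategory.quasiIso A (ComplexShape.up ℤ)) :=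
  letI := HasDerivedCategory.standard A
  (leftResolving_of_complexes F P hres hF).hasLeftDerivedFunctor

omit [HasDerivedCategory.{w₁} A] in
/-- Existence of the right derived functor. -/
lemma hasRightDerivedFunctor_of_complexes (F : HomotopyCategory A (ComplexShape.up ℤ) ⥤ H)
    (P : ObjectProperty (CochainComplex A ℤ))
    (hres : ∀ K : CochainComplex A ℤ, ∃ (K' : CochainComplex A ℤ) (w : K ⟶ K'), P K' ∧ QuasiIso w)
    (hF : ∀ ⦃K L : CochainComplex A ℤ⦄ (f : K ⟶ L), P K → P L → QuasiIso f →
      IsIso (F.map ((HomotopyCategory.quotient A (ComplexShape.up ℤ)).map f))) :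
    F.HasRightDerivedFunctor (HomotopyCategory.quasiIso A (ComplexShape.up ℤ)) :=
  letI := HasDerivedCategory.standard A
  (rightResolving_of_complexes F P hres hF).hasRightDerivedFunctor

end Abelian

section Cx

universe w₁

variable {A : Type u₁} [Category.{v₁} A] [Abelian A] [HasDerivedCategory.{w₁} A]
  {H : Type u₂} [Category.{v₂} H] {G : CochainComplex A ℤ ⥤ H}
  {F : HomotopyCategory A (ComplexShape.up ℤ) ⥤ H}
  (e : HomotopyCategory.quotient A (ComplexShape.up ℤ) ⋙ F ≅ G)

include e in
/-- `C(A)`-form: for a functor `G` on complexes that factors through the homotopy category, the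
counit of a left derived functor along `Q : C(A) ⥤ D(A)` is an isomorphism on complexes in `P`. -/
lemma isIso_leftDerivedCounit_Q (P : ObjectProperty (CochainComplex A ℤ))
    (hres : ∀ K : CochainComplex A ℤ, ∃ (K' : CochainComplex A ℤ) (w : K' ⟶ K), P K' ∧ QuasiIso w)
    (hG : ∀ ⦃K L : CochainComplex A ℤ⦄ (f : K ⟶ L), P K → P L → QuasiIso f → IsIso (G.map f))
    (LG : DerivedCategory A ⥤ H) (α : DerivedCategory.Q ⋙ LG ⟶ G)
    [LG.IsLeftDerivedFunctor α (HomologicalComplex.quasiIso A (ComplexShape.up ℤ))]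
    {K : CochainComplex A ℤ} (hK : P K) : IsIso (α.app K) := by
  have := Functor.IsLeftDerivedFunctor.isRightKanExtension LG α
    (HomologicalComplex.quasiIso A (ComplexShape.up ℤ))
  have hr := isRightKanExtension_transferHom (HomotopyCategory.quotient A (ComplexShape.up ℤ))
    (DerivedCategory.quotientCompQhIso A) e LG α
  have : LG.IsLeftDerivedFunctor (transferHom (HomotopyCategory.quotient A (ComplexShape.up ℤ))
    (DerivedCategory.quotientCompQhIso A) e LG α)
      (HomotopyCategory.quasiIso A (ComplexShape.up ℤ)) := ⟨hr⟩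
  have hF : ∀ ⦃K L : CochainComplex A ℤ⦄ (f : K ⟶ L), P K → P L → QuasiIso f →
      IsIso (F.map ((HomotopyCategory.quotient A (ComplexShape.up ℤ)).map f)) := by
    intro K L f hK hL hf
    have := hG f hK hL hf
    exact (NatIso.isIso_map_iff e f).2 this
  have key := isIso_leftDerivedCounit F P hres hF LG
    (transferHom (HomotopyCategory.quotient A (ComplexShape.up ℤ))
    (DerivedCategory.quotientCompQhIso A) e LG α) hK
  rw [transferHom_app] at key
  have k1 : IsIso (LG.map ((DerivedCategory.quotientCompQhIso A).hom.app K)) := inferInstance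
  have key2 := IsIso.of_isIso_comp_left (LG.map ((DerivedCategory.quotientCompQhIso A).hom.app K))
    (α.app K ≫ e.inv.app K)
  exact IsIso.of_isIso_comp_right (α.app K) (e.inv.app K)

include e in
omit [HasDerivedCategory.{w₁} A] in
/-- Existence of the left derived functor along `Q`. -/
lemma hasLeftDerivedFunctor_Q (P : ObjectProperty (CochainComplex A ℤ))
    (hres : ∀ K : CochainComplex A ℤ, ∃ (K' : CochainComplex A ℤ) (w : K' ⟶ K), P K' ∧ QuasiIso w)
    (hG : ∀ ⦃K L : CochainComplex A ℤ⦄ (f : K ⟶ L), P K → P L → QuasiIso f → IsIso (G.map f)) :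
    G.HasLeftDerivedFunctor (HomologicalComplex.quasiIso A (ComplexShape.up ℤ)) := by
  letI := HasDerivedCategory.standard A
  have hF : ∀ ⦃K L : CochainComplex A ℤ⦄ (f : K ⟶ L), P K → P L → QuasiIso f →
      IsIso (F.map ((HomotopyCategory.quotient A (ComplexShape.up ℤ)).map f)) := by
    intro K L f hK hL hf
    have := hG f hK hL hf
    exact (NatIso.isIso_map_iff e f).2 this
  have := hasLeftDerivedFunctor_of_complexes F P hres hF
  have := Functor.IsLeftDerivedFunctor.isRightKanExtension
    (F.totalLeftDerived DerivedCategory.Qh (HomotopyCategory.quasiIso A (ComplexShape.up ℤ)))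
    (F.totalLeftDerivedCounit DerivedCategory.Qh
      (HomotopyCategory.quasiIso A (ComplexShape.up ℤ)))
    (HomotopyCategory.quasiIso A (ComplexShape.up ℤ))
  have hr := isRightKanExtension_restrictHom (HomotopyCategory.quotient A (ComplexShape.up ℤ))
    (DerivedCategory.quotientCompQhIso A) e
    (F.totalLeftDerived DerivedCategory.Qh (HomotopyCategory.quasiIso A (ComplexShape.up ℤ)))
    (F.totalLeftDerivedCounit DerivedCategory.Qh
      (HomotopyCategory.quasiIso A (ComplexShape.up ℤ)))
  rw [Functor.hasLeftDerivedFunctor_iff G DerivedCategory.Q]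
  exact Functor.HasRightKanExtension.mk _ (restrictHom (HomotopyCategory.quotient A
    (ComplexShape.up ℤ)) (DerivedCategory.quotientCompQhIso A) e
    (F.totalLeftDerived DerivedCategory.Qh (HomotopyCategory.quasiIso A (ComplexShape.up ℤ)))
    (F.totalLeftDerivedCounit DerivedCategory.Qh
      (HomotopyCategory.quasiIso A (ComplexShape.up ℤ))))

end Cx

end Groth.Agent.PerfB.ResolveDerivedCx
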