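import Groth.Agent.Dcoh.KFlatBdd
import Groth.Agent.Dcoh.LeftRes
import Groth.Agent.Dcoh.TensSingle
import Groth.Agent.PerfB.BifCompare
import Mathlib.RingTheory.Flat.CategoryTheory
import Mathlib.Algebra.Category.ModuleCat.ChangeOfRings
import Mathlib.Algebra.Category.ModuleCat.AB
import Mathlib.Algebra.Category.ModuleCat.Monoidal.Symmetric
import Mathlib.Algebra.Category.ModuleCat.Projective
import Mathlib.Algebra.Homology.BifunctorFlip
import Mathlib.LinearAlgebra.TensorProduct.Tower

/-!
# K-flat complexes of modules over commutative rings, base change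

`TR R` is the tensor bifunctor of `ModuleCat R`.
* `acyclic_tensorLeft`: `B ⊗ P` is acyclic if `P` is acyclic and K-flat;
* `acyclic_ext`: `S ⊗_R P` is acyclic if `P` is acyclic and K-flat;
* `kfl_ext`: `S ⊗_R P` is K-flat over `S` if `P` is K-flat over `R`.
-/

set_option autoImplicit false

universe u

open CategoryTheory CategoryTheory.Limits MonoidalCategory HomologicalComplex

namespace Groth.Agent.PerfB.RingKFlat

open Groth.Agent.Dcoh.KFlatAbs Groth.Agent.Dcoh.KFlatSingle Groth.Agent.Dcoh.KFlatBdd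

/-- The tensor bifunctor. -/
noncomputable abbrev TR (R : Type u) [CommRing R] :
    ModuleCat.{u} R ⥤ ModuleCat.{u} R ⥤ ModuleCat.{u} R := curriedTensor (ModuleCat.{u} R)

section Single

variable {R : Type u} [CommRing R]

lemma goodClass_projective (R : Type u) [CommRing R] :
    Groth.Agent.Dcoh.LeftRes.GoodClass (fun M : ModuleCat.{u} R => Projective M) where
  enough X := by
    obtain ⟨p⟩ := EnoughProjectives.presentation X
    exact ⟨p.p, p.f, p.projective, p.epi⟩
  zero X hX := ⟨fun _ _ _ => ⟨0, hX.eq_of_src _ _⟩⟩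
  biprod X Y hX hY := inferInstance
  iso e h := Projective.of_iso e h

lemma hasExactColimitsOfShape_nat (R : Type u) [CommRing R] :
    HasExactColimitsOfShape ℕ (ModuleCat.{u} R) := by
  have : HasFilteredColimitsOfSize.{0, 0} (ModuleCat.{u} R) := inferInstance
  have : AB5OfSize.{0, 0} (ModuleCat.{u} R) := AB5OfSize_of_univLE.{0, 0, u, u} (ModuleCat.{u} R)
  infer_instance

lemma preservesHomology_tensorLeft (M : ModuleCat.{u} R) (hM : Module.Flat R M) :
    (tensorLeft M).PreservesHomology := by
  have : PreservesFiniteLimits (tensorLeft M) := inferInstance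
  have : PreservesFiniteColimits (tensorLeft M) := inferInstance
  infer_instance

/-- projective complexes bounded above are K-flat, in the first variable. -/
lemma kfl_flip_of_projective (F : CochainComplex (ModuleCat.{u} R) ℤ) (b : ℤ) [F.IsStrictlyLE b]
    (hF : ∀ j, Projective (F.X j)) : KFl (TR R).flip F := by
  have h1 : ∀ M : ModuleCat.{u} R, PreservesColimitsOfShape ℕ ((TR R).flip.obj M) := by
    intro M
    have : PreservesColimitsOfShape ℕ (tensorLeft M) := inferInstance
    exact preservesColimitsOfShape_of_natIso (BraidedCategory.tensorLeftIsoTensorRight M)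
  have h3 := hasExactColimitsOfShape_nat R
  refine kfl_of_isStrictlyLE F b (fun n => ?_)
  have h2 : Module.Flat R (F.X n) := by
    have := hF n
    have : Module.Projective R (F.X n) := inferInstance
    infer_instance
  exact preservesHomology_tensorLeft _ h2

/-- `B ⊗ P` is acyclic if `P` is acyclic and K-flat. -/
theorem acyclic_tensorLeft (P : CochainComplex (ModuleCat.{u} R) ℤ) (hP : KFl (TR R) P)
    (hP' : P.Acyclic) (B : ModuleCat.{u} R) :
    (((tensorLeft B).mapHomologicalComplex (ComplexShape.up ℤ)).obj P).Acyclic := by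
  obtain ⟨F, p, hF, hF', -, hp⟩ := Groth.Agent.Dcoh.LeftRes.exists_resolution_of_isStrictlyLE
    (goodClass_projective R) ((single (ModuleCat.{u} R) (ComplexShape.up ℤ) 0).obj B) 0
  have h1 : (((TR R).flip.map₂CochainComplex.obj P).obj F).Acyclic :=
    kfl_flip_of_projective F 0 hF' P hP'
  have h2 : (((TR R).map₂CochainComplex.obj F).obj P).Acyclic :=
    acyclic_of_iso (mapBifunctorFlipIso F P (TR R) (ComplexShape.up ℤ)) h1
  have h3 : QuasiIso (((TR R).map₂CochainComplex.map p).app P) := hP.quasiIso p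
  have h4 : (((TR R).map₂CochainComplex.obj
      ((single (ModuleCat.{u} R) (ComplexShape.up ℤ) 0).obj B)).obj P).Acyclic := by
    intro n
    exact (exactAt_iff_of_quasiIsoAt (((TR R).map₂CochainComplex.map p).app P) n).1 (h2 n)
  exact acyclic_of_iso (Groth.Agent.Dcoh.TensSingle.singleLeftIsoApp (TR R) B P).symm h4

end Single

section BaseChange

open TensorProduct

variable (R S : Type u) [CommRing R] [CommRing S] [Algebra R S]

/-- Base change `M ↦ S ⊗[R] M`. -/
noncomputable def ext : ModuleCat.{u} R ⥤ ModuleCat.{u} S where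
  obj M := ModuleCat.of S (S ⊗[R] M)
  map f := ModuleCat.ofHom (f.hom.baseChange S)
  map_id M := by
    ext1
    exact LinearMap.baseChange_id
  map_comp f g := by
    ext1
    exact LinearMap.baseChange_comp (A := S) f.hom g.hom

instance : (ext R S).Additive where
  map_add {M N f g} := by
    ext1
    exact LinearMap.baseChange_add f.hom g.hom

/-- Restriction of scalars. -/
noncomputable abbrev res : ModuleCat.{u} S ⥤ ModuleCat.{u} R :=
  ModuleCat.restrictScalars (algebraMap R S)

variable {R S}

/-- `(M ⊗_S (S ⊗_R N))|_R ≅ M|_R ⊗_R N` (linear equivalence) -/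
noncomputable def cbcEquiv (M : ModuleCat.{u} S) (N : ModuleCat.{u} R) :
    (res R S).obj (M ⊗ (ext R S).obj N) ≃ₗ[R] ((res R S).obj M ⊗ N : ModuleCat.{u} R) :=
  letI : Module R M := Module.compHom M (algebraMap R S)
  haveI : IsScalarTower R S M := IsScalarTower.of_algebraMap_smul (fun _ _ => rfl)
  { (TensorProduct.AlgebraTensorModule.cancelBaseChange R S S M N).toAddEquiv with
    map_smul' := fun r x =>
      ((TensorProduct.AlgebraTensorModule.cancelBaseChange R S S M N).map_smul
        (algebraMap R S r) x).trans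
        (algebraMap_smul S r ((TensorProduct.AlgebraTensorModule.cancelBaseChange R S S M N) x)) }

lemma cbcEquiv_tmul (M : ModuleCat.{u} S) (N : ModuleCat.{u} R) (m : M) (s : S) (n : N) :
    cbcEquiv M N ((m ⊗ₜ[S] (s ⊗ₜ[R] n) : M ⊗[S] (S ⊗[R] N)) : (res R S).obj (M ⊗ (ext R S).obj N)) =
      (show (res R S).obj M from (s • m : M)) ⊗ₜ[R] n := rfl

/-- two linear maps out of `(M ⊗_S (S ⊗_R N))|_R` agree if they agree on `m ⊗ (s ⊗ n)` -/
lemma hom_ext_cbc (M : ModuleCat.{u} S) (N : ModuleCat.{u} R) {A : ModuleCat.{u} R}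
    (f g : (res R S).obj (M ⊗ (ext R S).obj N) ⟶ A)
    (h : ∀ (m : M) (s : S) (n : N),
      f ((m ⊗ₜ[S] (s ⊗ₜ[R] n) : M ⊗[S] (S ⊗[R] N)) : (res R S).obj (M ⊗ (ext R S).obj N)) =
      g ((m ⊗ₜ[S] (s ⊗ₜ[R] n) : M ⊗[S] (S ⊗[R] N)) : (res R S).obj (M ⊗ (ext R S).obj N))) :
    f = g := by
  ext1
  apply LinearMap.ext
  intro x
  change M ⊗[S] (S ⊗[R] N) at x
  induction x using TensorProduct.induction_on with
  | zero => exact (map_zero f.hom).trans (map_zero g.hom).symm
  | add x y hx hy => exact (map_add f.hom x y).trans ((congrArg₂ (· + ·) hx hy).trans (map_add g.hom x y).symm)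
  | tmul m y =>
    induction y using TensorProduct.induction_on with
    | zero =>
      have e : (m ⊗ₜ[S] (0 : S ⊗[R] N) : M ⊗[S] (S ⊗[R] N)) = 0 := TensorProduct.tmul_zero _ m
      rw [e]
      exact (map_zero f.hom).trans (map_zero g.hom).symm
    | add y z hy hz =>
      have e : (m ⊗ₜ[S] (y + z : S ⊗[R] N) : M ⊗[S] (S ⊗[R] N)) = m ⊗ₜ[S] y + m ⊗ₜ[S] z :=
        TensorProduct.tmul_add m y z
      rw [e]
      exact (map_add f.hom _ _).trans ((congrArg₂ (· + ·) hy hz).trans (map_add g.hom _ _).symm)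
    | tmul s n => exact h m s n

variable (R S)

/-- The bifunctor `(M, N) ↦ M ⊗_S (S ⊗_R N)`. -/
noncomputable abbrev TS : ModuleCat.{u} S ⥤ ModuleCat.{u} R ⥤ ModuleCat.{u} S :=
  curriedTensor (ModuleCat.{u} S) ⋙ (Functor.whiskeringLeft _ _ _).obj (ext R S)

/-- `(M ⊗_S (S ⊗_R N))|_R ≅ M|_R ⊗_R N`, naturally. -/
noncomputable def cbcData : BifCompare.Data (TS R S) (TR R) (res R S) (𝟭 _) (res R S) where
  e M N := (cbcEquiv M N).toModuleIso
  nat₁ {M M'} f N := by
    apply hom_ext_cbc
    intro m s n
    change (show (res R S).obj M' from (s • f.hom m : M')) ⊗ₜ[R] n =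
      (show (res R S).obj M' from (f.hom (s • m) : M')) ⊗ₜ[R] n
    rw [f.hom.map_smul]
  nat₂ M {N N'} g := by
    apply hom_ext_cbc
    intro m s n
    rfl

instance (M : ModuleCat.{u} S) : ((TS R S).obj M).Additive :=
  inferInstanceAs ((ext R S ⋙ (curriedTensor (ModuleCat.{u} S)).obj M).Additive)

/-- The underlying `R`-module of `S ⊗_R M` (linear equivalence). -/
noncomputable def extResEquiv (M : ModuleCat.{u} R) :
    (res R S).obj ((ext R S).obj M) ≃ₗ[R] (ModuleCat.of R S ⊗ M : ModuleCat.{u} R) :=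
  { (AddEquiv.refl (S ⊗[R] M)) with
    map_smul' := fun r x => algebraMap_smul (M := S ⊗[R] M) S r x }

/-- The underlying `R`-module of `S ⊗_R M`. -/
noncomputable def extResIso : ext R S ⋙ res R S ≅ tensorLeft (ModuleCat.of R S) :=
  NatIso.ofComponents (fun M => (extResEquiv R S M).toModuleIso)
    (fun {M N} f => by
      ext1
      apply LinearMap.ext
      intro x
      change S ⊗[R] M at x
      change f.hom.baseChange S x = f.hom.lTensor S x
      rfl)

variable {R S}

lemma acyclic_of_res (K : CochainComplex (ModuleCat.{u} S) ℤ)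
    (hK : (((res R S).mapHomologicalComplex (ComplexShape.up ℤ)).obj K).Acyclic) : K.Acyclic :=
  fun n => (res R S).reflects_exact_of_faithful (K.sc n) (hK n)

lemma acyclic_res (K : CochainComplex (ModuleCat.{u} S) ℤ) (hK : K.Acyclic) :
    (((res R S).mapHomologicalComplex (ComplexShape.up ℤ)).obj K).Acyclic :=
  acyclic_map_of_preservesHomology (res R S) K hK

variable (S)

/-- `S ⊗_R P` is acyclic if `P` is acyclic and K-flat. -/
theorem acyclic_ext (P : CochainComplex (ModuleCat.{u} R) ℤ) (hP : KFl (TR R) P)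
    (hP' : P.Acyclic) :
    (((ext R S).mapHomologicalComplex (ComplexShape.up ℤ)).obj P).Acyclic := by
  refine acyclic_of_res (R := R) _ ?_
  have h := acyclic_tensorLeft P hP hP' (ModuleCat.of R S)
  exact acyclic_of_iso ((NatIso.mapHomologicalComplex (extResIso R S)
    (ComplexShape.up ℤ)).app P).symm h

/-- `S ⊗_R P` is K-flat if `P` is. -/
theorem kfl_ext (P : CochainComplex (ModuleCat.{u} R) ℤ) (hP : KFl (TR R) P) :
    KFl (TR S) (((ext R S).mapHomologicalComplex (ComplexShape.up ℤ)).obj P) := by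
  intro L hL
  refine acyclic_of_res (R := R) _ ?_
  have h := hP _ (acyclic_res (R := R) L hL)
  exact acyclic_of_iso (BifCompare.iso (cbcData R S) L P) h

end BaseChange

end Groth.Agent.PerfB.RingKFlat
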