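import Groth.Agent.PerfB.SecTwist
import Groth.Agent.PerfB.SecEnd
import Groth.Agent.Ega2.TensPow
import Groth.Agent.Fdesc.LocGenAmple
import Groth.Agent.Cohder.SerreVerdier

/-!
# The sequence `O → M → M^{⊗2} → …` given by a section of `M`; vanishing criterion with an ample module
-/

set_option autoImplicit false

universe u

open CategoryTheory CategoryTheory.Limits AlgebraicGeometry Opposite TopologicalSpace
open Groth.Agent.Fdesc.LocGen Groth.Agent.PerfB.SecTwist Groth.Agent.Ega2.TensPow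
open Groth.Agent.PerfA Groth.Agent.PerfA.ExtZero Groth.Agent.PerfA.Hyp1
open Groth.Agent.Ega2

attribute [local instance] HasDerivedCategory.standard

namespace Groth.Agent.PerfB.SecAmple

variable {X : Scheme.{u}} {M : X.Modules}

/-- `N → N ⊗ M`, `x ↦ x ⊗ s`. -/
noncomputable def mulBy (s : Coh.structureModule X ⟶ M) (N : X.Modules) : N ⟶ CohB1.tensorMod N M :=
  (Tens.runit N).inv ≫ Tens.mapT (𝟙 N) s

lemma mulBy_app (s : Coh.structureModule X ⟶ M) (N : X.Modules) {U : X.Opens} (n : Γ(N, U)) :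
    (mulBy s N).app U n = tmul n (sec s U) := by
  have h1 : (Tens.runit N).inv.app U n = tmul n (one U) := Tens.runit_inv_app n
  change (Tens.mapT (𝟙 N) s).app U ((Tens.runit N).inv.app U n) = _
  rw [h1, mapT_tmul]
  rfl

/-- The sequence `O → M → M^{⊗2} → …`. -/
noncomputable def powSeq (s : Coh.structureModule X ⟶ M) : ℕ ⥤ X.Modules :=
  Functor.ofSequence (X := fun k : ℕ => CohB1.tensorPow M k) (fun k => mulBy s (CohB1.tensorPow M k))

lemma powSeq_map_succ (s : Coh.structureModule X ⟶ M) (k : ℕ) :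
    (powSeq s).map (homOfLE (Nat.le_succ k)) = mulBy s (CohB1.tensorPow M k) :=
  Functor.ofSequence_map_homOfLE_succ _ k

lemma loc_powSeq (s : Coh.structureModule X ⟶ M) {W : X.Opens} {e : Γ(M, W)} (he : IsGen e)
    {f : Γ(X, W)} (hf : sec s W = f • e) : Loc (powSeq s) W f (fun k => pow e k) where
  gen k := he.pow k
  map k := by
    rw [powSeq_map_succ]
    refine (mulBy_app s _ _).trans ?_
    rw [hf]
    exact tmul_smul _ _ _

lemma dat_powSeq (s : Coh.structureModule X ⟶ M) (hM : PicF.IsInvertible M) (x : X) :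
    ∃ W : X.Opens, x ∈ W ∧ Dat (powSeq s) (CohB1.genLocus M s) W := by
  obtain ⟨W, e, hxW, -, hW, he⟩ := TensGen.exists_affine_gen hM x (V := ⊤) trivial
  obtain ⟨f, hf⟩ := he.exists_eq (sec s W)
  refine ⟨W, hxW, hW, f, _, loc_powSeq s he hf, ?_⟩
  rw [inf_comm]
  exact genLocus_inf_eq s he hf

/-- Vanishing criterion: `M` invertible, `X_s` affine for enough sections of powers. -/
theorem isZero_homology_of_ample {L : X.Modules} (hL : CohB1.IsAmple L)
    {E : CochainComplex X.Modules ℤ} (hE : DCoh.IsQCohD (DerivedCategory.Q.obj E))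
    (hv : ∀ (n : ℕ) (i : ℤ) (φ : P 0 ⊤ ⟶ (DerivedCategory.Q.obj ((tcx E).obj (CohB1.tensorPow L n)))⟦i⟧),
      φ = 0) (q : ℤ) : IsZero (E.homology q) := by
  have hc : CompactSpace X := hL.2.1
  have hqs : QuasiSeparatedSpace X := quasiSeparatedSpace_of_isAmple hL
  have hq : Coh.IsQCoh (E.homology q) := (QCohD.isQCohD_Q_iff E).1 hE q
  have h1 : IsZero ((tL (E.homology q)).obj (Coh.structureModule X)) := by
    refine SecEnd.isZero_of_affine_sections _ ?_ ?_
    · exact QCohSerre.isQCoh_of_iso (Tens.runit (E.homology q)).symm hq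
    · intro x
      obtain ⟨n, s, hx, haff⟩ := hL.2.2 x
      refine ⟨_, haff, hx, ?_⟩
      have hM : PicF.IsInvertible (CohB1.tensorPow L (n + 1)) := isInvertible_tensorPow hL.1 (n + 1)
      refine sections_eq_zero (L := powSeq s) (fun k => isInvertible_tensorPow hM k) haff
        (dat_powSeq s hM) hE ?_ q
      intro k i φ
      let e : (DerivedCategory.Q.obj ((tcx E).obj (CohB1.tensorPow (CohB1.tensorPow L (n + 1)) k))) ≅
        (DerivedCategory.Q.obj ((tcx E).obj (CohB1.tensorPow L ((n + 1) * k)))) :=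
        DerivedCategory.Q.mapIso ((tcx E).mapIso (powMul L (n + 1) k))
      have h2 := hv ((n + 1) * k) i (φ ≫ (e.hom)⟦i⟧')
      change φ ≫ (e.hom)⟦i⟧' = 0 at h2
      exact (cancel_mono ((e.hom)⟦i⟧')).1 (h2.trans zero_comp.symm)
  exact h1.of_iso (Tens.runit (E.homology q)).symm

end Groth.Agent.PerfB.SecAmple
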