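import Groth.Agent.PerfB.SecTwist
import Groth.Agent.PerfB.BoundedInd
import Groth.Agent.PerfB.TensD

/-!
# Extending hypercohomology classes after twisting

`L : ℕ ⥤ X.Modules` a sequence of invertible modules as in `SecTwist`, relative to an affine open `Z`.  A class in
`H^b(Z, K)` extends to `H^b(X, K ⊗ L m)` for some `m`.
-/

set_option autoImplicit false

universe w w₁ w₂ v v₁ v₂ u u₁ u₂

open CategoryTheory CategoryTheory.Limits AlgebraicGeometry Opposite TopologicalSpace Pretriangulated

namespace Groth.Agent.PerfB.SecExtend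

open Groth.Agent.PerfA
open Groth.Agent.PerfB.SecNil Groth.Agent.PerfB.SecMV

section Abstract

variable {A : Type u} [Category.{v} A] [Abelian A] [HasDerivedCategory.{w} A]

lemma nil_single {F : ℕ ⥤ DerivedCategory A} {C : A}
    (h : Nil F ((DerivedCategory.singleFunctor A 0).obj C)) (b : ℤ) (n : ℕ)
    (x : (DerivedCategory.singleFunctor A b).obj C ⟶ F.obj n) :
    ∃ (m : ℕ) (hm : n ≤ m), x ≫ F.map (homOfLE hm) = 0 := by
  have h' : Nil F ((DerivedCategory.singleFunctor A b).obj C) :=
    BoundedInd.prop_single (Nil F) C h b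
  obtain ⟨m, hm, h0⟩ := h' 0 n (x ≫ (shiftFunctorZero (DerivedCategory A) ℤ).inv.app _)
  refine ⟨m, hm, ?_⟩
  rw [Category.assoc] at h0
  have h1 := (shiftFunctorZero (DerivedCategory A) ℤ).inv.naturality (F.map (homOfLE hm))
  rw [← h1, ← Category.assoc] at h0
  rw [← cancel_mono ((shiftFunctorZero (DerivedCategory A) ℤ).inv.app (F.obj m)), zero_comp]
  exact h0

/-- Extension along a monomorphism whose cokernel is in `Nil F`. -/
theorem extend {F : ℕ ⥤ DerivedCategory A} {M N : A} {g : M ⟶ N} [Mono g] (h : NM F g) (b : ℤ) (n : ℕ)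
    (φ : (DerivedCategory.singleFunctor A b).obj M ⟶ F.obj n) :
    ∃ (m : ℕ) (hm : n ≤ m) (ψ : (DerivedCategory.singleFunctor A b).obj N ⟶ F.obj m),
      φ ≫ F.map (homOfLE hm) = (DerivedCategory.singleFunctor A b).map g ≫ ψ := by
  have hS : (ShortComplex.mk g (cokernel.π g) (cokernel.condition g)).ShortExact :=
    { exact := ShortComplex.exact_cokernel g }
  have hnil := h _ _ _ hS
  obtain ⟨m, hm, h0⟩ := nil_single hnil (b + 1) n (Hyp2.sesδ hS rfl ≫ φ)
  obtain ⟨ψ, hψ⟩ := Hyp2.ses_exact₁ hS (rfl : b + 1 = b + 1) (φ ≫ F.map (homOfLE hm))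
    ((Category.assoc _ _ _).symm.trans h0)
  exact ⟨m, hm, ψ, hψ⟩

end Abstract

section Exact

open Groth.Agent.PerfA.ExactD

variable {A' : Type u₁} [Category.{v₁} A'] [Abelian A'] [HasDerivedCategory.{w₁} A']
  {B' : Type u₂} [Category.{v₂} B'] [Abelian B'] [HasDerivedCategory.{w₂} B']
  (F : A' ⥤ B') [F.Additive] [PreservesFiniteLimits F] [PreservesFiniteColimits F]

lemma mapHomology_app_Q (i : ℤ) (E : CochainComplex A' ℤ) :
    (mapHomology F i).hom.app (DerivedCategory.Q.obj E) = (mapHomologyQ F i).hom.app E := by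
  simp only [mapHomology, Localization.liftNatIso]
  dsimp
  rw [Localization.liftNatTrans_app]
  dsimp
  simp

omit [HasDerivedCategory.{w₁} A'] [HasDerivedCategory.{w₂} B'] in
lemma mapCxHomology_app (i : ℤ) (E : CochainComplex A' ℤ) :
    (mapCxHomology F (ComplexShape.up ℤ) i).hom.app E = ((E.sc i).mapHomologyIso F).hom := by
  have h2 : F.map (𝟙 (E.sc i).homology) = 𝟙 (F.obj (E.sc i).homology) := F.map_id _
  have h : (mapCxHomology F (ComplexShape.up ℤ) i).hom.app E = 
    (𝟙 ((E.sc i).map F).homology) ≫ (((E.sc i).mapHomologyIso F).hom ≫ 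
      F.map (𝟙 (E.sc i).homology)) := rfl
  rw [h, h2, Category.comp_id]
  exact Category.id_comp _

lemma mapHomology_factors (i : ℤ) (E : CochainComplex A' ℤ) :
    (mapHomology F i).hom.app (DerivedCategory.Q.obj E) ≫
      F.map ((DerivedCategory.homologyFunctorFactors A' i).hom.app E) =
    (DerivedCategory.homologyFunctor B' i).map (F.mapDerivedCategoryFactors.hom.app E) ≫
      (DerivedCategory.homologyFunctorFactors B' i).hom.app ((F.mapHomologicalComplex _).obj E) ≫
      ((E.sc i).mapHomologyIso F).hom := by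
  let a : (DerivedCategory.homologyFunctor B' i).obj (F.mapDerivedCategory.obj (DerivedCategory.Q.obj E)) ⟶
    (DerivedCategory.homologyFunctor B' i).obj (DerivedCategory.Q.obj ((F.mapHomologicalComplex _).obj E)) :=
    (DerivedCategory.homologyFunctor B' i).map (F.mapDerivedCategoryFactors.hom.app E)
  let b : (DerivedCategory.homologyFunctor B' i).obj (DerivedCategory.Q.obj ((F.mapHomologicalComplex _).obj E)) ⟶
    ((E.sc i).map F).homology := (DerivedCategory.homologyFunctorFactors B' i).hom.app _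
  let c : ((E.sc i).map F).homology ⟶ F.obj (E.sc i).homology := ((E.sc i).mapHomologyIso F).hom
  let d : F.obj (E.sc i).homology ⟶ F.obj ((DerivedCategory.homologyFunctor A' i).obj (DerivedCategory.Q.obj E)) :=
    F.map ((DerivedCategory.homologyFunctorFactors A' i).inv.app E)
  let e : F.obj ((DerivedCategory.homologyFunctor A' i).obj (DerivedCategory.Q.obj E)) ⟶ F.obj (E.sc i).homology :=
    F.map ((DerivedCategory.homologyFunctorFactors A' i).hom.app E)
  have hde : d ≫ e = 𝟙 _ := by
    have : d ≫ e = F.map ((DerivedCategory.homologyFunctorFactors A' i).inv.app E ≫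
      (DerivedCategory.homologyFunctorFactors A' i).hom.app E) := (F.map_comp _ _).symm
    rw [this, Iso.inv_hom_id_app]
    exact F.map_id _
  have h : (mapHomology F i).hom.app (DerivedCategory.Q.obj E) = a ≫ b ≫ c ≫ d := by
    rw [mapHomology_app_Q]
    have h' : (mapHomologyQ F i).hom.app E = a ≫ (b ≫ 
      ((mapCxHomology F (ComplexShape.up ℤ) i).hom.app E ≫ d)) := by
      simp [mapHomologyQ, a, b, d]
      rfl
    rw [h', mapCxHomology_app]
    rfl
  change (mapHomology F i).hom.app (DerivedCategory.Q.obj E) ≫ e = a ≫ b ≫ c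
  rw [h]
  simp only [Category.assoc]
  rw [hde, Category.comp_id]

end Exact

lemma mapHomologyIso_id {C : Type u} [Category.{v} C] [Abelian C] (S : ShortComplex C) :
    (S.mapHomologyIso (𝟭 C)).hom = 𝟙 _ := by
  rw [S.leftHomologyData.mapHomologyIso_eq (𝟭 C)]
  let h := S.leftHomologyData
  let h' : S.LeftHomologyData := S.leftHomologyData.map (𝟭 C)
  have hf : h'.f' = h.f' := ShortComplex.LeftHomologyData.map_f' h (𝟭 C)
  let γ : ShortComplex.LeftHomologyMapData (𝟙 S) h' h :=
    { φK := 𝟙 h.K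
      φH := 𝟙 h.H
      commi := (Category.id_comp h.i).trans (Category.comp_id h.i).symm
      commf' := by
        rw [hf]
        exact (Category.comp_id h.f').trans (Category.id_comp h.f').symm
      commπ := (Category.comp_id h.π).trans (Category.id_comp h.π).symm }
  have h1 := γ.homologyMap_eq
  rw [ShortComplex.homologyMap_id] at h1
  have h2 : h'.homologyIso.hom ≫ h.homologyIso.inv = 𝟙 _ := by
    rw [h1]
    congr 1
    exact (Category.id_comp _).symm
  exact h2

lemma mapHomologyIso_id_inv {C : Type u} [Category.{v} C] [Abelian C] (S : ShortComplex C)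
    {Y : C} (x : S.homology ⟶ Y) :
    (show S.homology ⟶ S.homology from (S.mapHomologyIso (𝟭 C)).inv) ≫ x = x := by
  have h : (show S.homology ⟶ S.homology from (S.mapHomologyIso (𝟭 C)).inv) ≫
      (show S.homology ⟶ S.homology from (S.mapHomologyIso (𝟭 C)).hom) = 𝟙 _ :=
    (S.mapHomologyIso (𝟭 C)).inv_hom_id
  have h1 : (show S.homology ⟶ S.homology from (S.mapHomologyIso (𝟭 C)).hom) = 𝟙 _ :=
    mapHomologyIso_id S
  rw [h1, Category.comp_id] at h
  rw [h, Category.id_comp]

attribute [local instance] HasDerivedCategory.standard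

open Groth.Agent.PerfA.ExtZero Groth.Agent.PerfA.Hyp0 Groth.Agent.PerfA.Hyp1
open Groth.Agent.Fdesc.LocGen Groth.Agent.PerfB.SecTwist TensExact TensD

variable {X : Scheme.{u}}

/-- The comparison `PW` for the whole space. -/
theorem PW_top [CompactSpace X] [QuasiSeparatedSpace X] {L : ℕ ⥤ X.Modules}
    (hL : ∀ n, PicF.IsInvertible (L.obj n)) {Z : X.Opens}
    (hdat : ∀ x : X, ∃ W : X.Opens, x ∈ W ∧ Dat L Z W)
    {E : CochainComplex X.Modules ℤ} (hE : DCoh.IsQCohD (DerivedCategory.Q.obj E)) :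
    PW (seq E L) Z ⊤ := by
  have hF := isQCohD_seq hL hE
  refine PW_of_isCompact (B := {W | Dat L Z W}) (fun U hU => hU.1) ?_ ?_ isCompact_univ
  · intro V x hx
    obtain ⟨W, hxW, hW⟩ := hdat x
    obtain ⟨_, ⟨U, hU, rfl⟩, hxU, hUV⟩ :=
      X.isBasis_affineOpens.exists_subset_of_mem_open (⟨hx, hxW⟩ : x ∈ V ⊓ W) (V ⊓ W).2
    exact ⟨U, hW.of_le hU (le_trans (show U ≤ V ⊓ W from hUV) inf_le_right), hxU,
      le_trans (show U ≤ V ⊓ W from hUV) inf_le_left⟩
  · intro U hU f
    exact (hU.of_le (hU.1.basicOpen f) (X.basicOpen_le f)).PW hL hE hF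

/-- Classes over `Z` extend to `X` after twisting. -/
theorem exists_extend [CompactSpace X] [QuasiSeparatedSpace X] {L : ℕ ⥤ X.Modules}
    (hL : ∀ n, PicF.IsInvertible (L.obj n)) {Z : X.Opens}
    (hdat : ∀ x : X, ∃ W : X.Opens, x ∈ W ∧ Dat L Z W)
    {E : CochainComplex X.Modules ℤ} (hE : DCoh.IsQCohD (DerivedCategory.Q.obj E)) (b : ℤ)
    (φ : P b Z ⟶ (seq E L).obj 0) :
    ∃ (m : ℕ) (ψ : P b ⊤ ⟶ (seq E L).obj m), φ ≫ (seq E L).map (homOfLE (Nat.zero_le m)) =
      res le_top ψ := by
  obtain ⟨m, hm, ψ, h⟩ := extend (PW_top hL hdat hE Z le_top (by simp)) b 0 φ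
  exact ⟨m, ψ, h⟩

/-! ### The map `K ⟶ K ⊗ N` attached to a section of `N` -/

/-- The natural transformation `M ⟶ M ⊗ N` given by `σ : O ⟶ N`. -/
noncomputable def iotaM {N : X.Modules} (σ : Coh.structureModule X ⟶ N) :
    𝟭 X.Modules ⟶ DCoh.tensorRightMod N :=
  tensorRightModUnit.inv ≫ tensorRightModMap σ

/-- The map of complexes `E ⟶ E ⊗ N`. -/
noncomputable def iotaE (E : CochainComplex X.Modules ℤ) {N : X.Modules}
    (σ : Coh.structureModule X ⟶ N) : E ⟶ (tcx E).obj N where
  f i := (iotaM σ).app (E.X i)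
  comm' i j _ := ((iotaM σ).naturality (E.d i j)).symm

lemma iotaM_comp {N N' : X.Modules} (σ : Coh.structureModule X ⟶ N) (τ : N ⟶ N') :
    iotaM (σ ≫ τ) = iotaM σ ≫ tensorRightModMap τ := by
  rw [iotaM, iotaM, tensorRightModMap_comp, Category.assoc]

lemma iotaE_comp (E : CochainComplex X.Modules ℤ) {N N' : X.Modules}
    (σ : Coh.structureModule X ⟶ N) (τ : N ⟶ N') :
    iotaE E (σ ≫ τ) = iotaE E σ ≫ (tcx E).map τ := by
  ext i : 1
  change (iotaM (σ ≫ τ)).app (E.X i) = (iotaM σ).app (E.X i) ≫ (tensorRightModMap τ).app (E.X i)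
  rw [iotaM_comp]
  rfl

/-- `m ↦ m ⊗ σ(1)`. -/
lemma iotaM_app {N : X.Modules} (σ : Coh.structureModule X ⟶ N) (M : X.Modules) (U : X.Opens)
    (m : Γ(M, U)) : ((iotaM σ).app M).app U m =
      Ega2.Tens.tmul m (σ.app U (Ega2.Tens.sm (1 : Γ(X, U)))) := by
  have h1 : ((tensorRightModUnit (X := X)).inv.app M).app U m =
      Ega2.Tens.tmul m (Ega2.Tens.sm (1 : Γ(X, U))) := Ega2.Tens.runit_inv_app m
  change ((tensorRightModMap σ).app M).app U (((tensorRightModUnit (X := X)).inv.app M).app U m) = _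
  rw [h1]
  exact tensorRightModMap_tmul σ M U m _

/-- The homology of `K ⟶ K ⊗ N`. -/
lemma homI_iota (E : CochainComplex X.Modules ℤ) (q : ℤ) {N : X.Modules}
    [PreservesFiniteLimits (DCoh.tensorRightMod N)] (σ : Coh.structureModule X ⟶ N) :
    (DerivedCategory.homologyFunctor X.Modules q).map (DerivedCategory.Q.map (iotaE E σ)) ≫
      (homI E q N).hom = (DerivedCategory.homologyFunctorFactors X.Modules q).hom.app E ≫
        (iotaM σ).app (E.homology q) := by
  have h1 : (DerivedCategory.homologyFunctor X.Modules q).map (DerivedCategory.Q.map (iotaE E σ)) ≫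
      (DerivedCategory.homologyFunctorFactors X.Modules q).hom.app ((tcx E).obj N) =
      (DerivedCategory.homologyFunctorFactors X.Modules q).hom.app E ≫
        HomologicalComplex.homologyMap (iotaE E σ) q :=
    (DerivedCategory.homologyFunctorFactors X.Modules q).hom.naturality (iotaE E σ)
  have h2 := NatTrans.app_homology (iotaM σ) (E.sc q)
  have h3 : HomologicalComplex.homologyMap (iotaE E σ) q ≫
      ((E.sc q).mapHomologyIso (DCoh.tensorRightMod N)).hom =
        (iotaM σ).app (E.sc q).homology := by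
    rw [h2]
    exact (mapHomologyIso_id_inv (E.sc q) _).symm
  change _ ≫ ((DerivedCategory.homologyFunctorFactors X.Modules q).hom.app ((tcx E).obj N) ≫
    ((E.sc q).mapHomologyIso (DCoh.tensorRightMod N)).hom) = _
  refine (Category.assoc _ _ _).symm.trans ?_
  refine (congrArg (· ≫ ((E.sc q).mapHomologyIso (DCoh.tensorRightMod N)).hom) h1).trans ?_
  refine (Category.assoc _ _ _).trans ?_
  exact congrArg ((DerivedCategory.homologyFunctorFactors X.Modules q).hom.app E ≫ ·) h3

/-- `homI` in terms of the functor on derived categories. -/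
lemma homI_eq (E : CochainComplex X.Modules ℤ) (q : ℤ) {N : X.Modules}
    [PreservesFiniteLimits (DCoh.tensorRightMod N)] :
    (DerivedCategory.homologyFunctor X.Modules q).map
        ((DCoh.tensorRightMod N).mapDerivedCategoryFactors.hom.app E) ≫ (homI E q N).hom =
      (ExactD.mapHomology (DCoh.tensorRightMod N) q).hom.app (DerivedCategory.Q.obj E) ≫
        (DCoh.tensorRightMod N).map ((DerivedCategory.homologyFunctorFactors X.Modules q).hom.app E) :=
  (mapHomology_factors (DCoh.tensorRightMod N) q E).symm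

end Groth.Agent.PerfB.SecExtend
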