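import Groth.Agent.PerfA.Hyp1
import Groth.Agent.Dcoh.DerSch

/-!
# Vanishing of `RΓ` and maps out of `O_X`
-/

set_option autoImplicit false

universe u

open CategoryTheory CategoryTheory.Limits AlgebraicGeometry Opposite TopologicalSpace
open Groth.Agent.PerfA.ExtZero Groth.Agent.PerfA.Hyp0 Groth.Agent.PerfA.Hyp1
open Groth.Agent.Dcoh.DerComp Groth.Agent.Dcoh.DerHo Groth.Agent.Dcoh.DerSch

attribute [local instance] HasDerivedCategory.standard

namespace Groth.Agent.PerfB.SecGamma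

variable (X : Scheme.{u})

/-- `Γ(X, -)` on complexes. -/
noncomputable abbrev gammaCx (I : CochainComplex X.Modules ℤ) : CochainComplex AddCommGrpCat.{u} ℤ :=
  ((DCoh.gammaAb X).mapHomologicalComplex (ComplexShape.up ℤ)).obj I

/-- `RΓ` is computed by K-injective complexes. -/
lemma nonempty_RΓIso [DCoh.HasRΓ X] (I : CochainComplex X.Modules ℤ) (hI : I.IsKInjective) :
    Nonempty ((DCoh.RΓ X).obj (DerivedCategory.Q.obj I) ≅ DerivedCategory.Q.obj (gammaCx X I)) := by
  let β : DCoh.gammaKh X ⟶ DerivedCategory.Qh ⋙ DCoh.RΓ X :=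
    (DCoh.gammaKh X).totalRightDerivedUnit DerivedCategory.Qh
      (HomotopyCategory.quasiIso X.Modules (ComplexShape.up ℤ))
  have h : IsIso (β.app ((HomotopyCategory.quotient _ _).obj I)) :=
    isIso_unit_app' (hasKInj X) (DCoh.RΓ X) β I hI
  have := isIso_unitQ_app (DCoh.gammaAb X) (DCoh.RΓ X) β I h
  exact ⟨(asIso ((unitQ (DCoh.gammaAb X) (DCoh.RΓ X) β).app I)).symm⟩

variable {X}

/-- Exactness of `Γ(I)` in terms of sections. -/
lemma exists_section_of_exactAt (I : CochainComplex X.Modules ℤ) (i j k : ℤ) (hij : i + 1 = j)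
    (hjk : j + 1 = k) (h : (gammaCx X I).ExactAt j) (a : Γ(I.X j, ⊤)) (ha : (I.d j k).app ⊤ a = 0) :
    ∃ b : Γ(I.X i, ⊤), (I.d i j).app ⊤ b = a := by
  rw [HomologicalComplex.exactAt_iff' _ i j k (by simp; omega) (by simp; omega)] at h
  rw [ShortComplex.ab_exact_iff] at h
  exact h a ha

/-- If all cohomology groups of `RΓ(X, K)` vanish, all maps `O_X ⟶ K[i]` vanish. -/
theorem hom_eq_zero_of_RΓ [DCoh.HasRΓ X] (K : DCoh.D X)
    (h : ∀ p : ℤ, IsZero ((DerivedCategory.homologyFunctor AddCommGrpCat.{u} p).obj ((DCoh.RΓ X).obj K)))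
    (i : ℤ) (φ : P 0 ⊤ ⟶ K⟦i⟧) : φ = 0 := by
  obtain ⟨I, f, hI, hf⟩ := hasKInj X (DerivedCategory.Q.objPreimage K)
  have hfQ : IsIso (DerivedCategory.Q.map f) := by
    rw [DerivedCategory.isIso_Q_map_iff_quasiIso]
    exact hf
  let e : K ≅ DerivedCategory.Q.obj I :=
    (DerivedCategory.Q.objObjPreimageIso K).symm ≪≫ asIso (DerivedCategory.Q.map f)
  obtain ⟨e'⟩ := nonempty_RΓIso X I hI
  have hex : ∀ p : ℤ, (gammaCx X I).ExactAt p := by
    intro p
    rw [HomologicalComplex.exactAt_iff_isZero_homology]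
    refine (h p).of_iso ?_
    exact ((DerivedCategory.homologyFunctorFactors AddCommGrpCat.{u} p).app _).symm ≪≫
      (DerivedCategory.homologyFunctor AddCommGrpCat.{u} p).mapIso (e'.symm ≪≫ (DCoh.RΓ X).mapIso e.symm)
  let e₂ : K⟦i⟧ ≅ DerivedCategory.Q.obj (I⟦i⟧) :=
    (shiftFunctor (DCoh.D X) i).mapIso e ≪≫ ((DerivedCategory.Q.commShiftIso i).app I).symm
  have hI' : CochainComplex.IsKInjective (I⟦i⟧) :=
    (CochainComplex.isKInjective_shift_iff I i).2 hI
  have key : ∀ ψ : P 0 ⊤ ⟶ DerivedCategory.Q.obj (I⟦i⟧), ψ = 0 := by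
    intro ψ
    obtain ⟨z, hz, rfl⟩ := exists_cocycle_of_isKInjective ψ
    obtain ⟨a, rfl⟩ := desc_surjective z
    have ha : (I.d (0 + i) (0 + 1 + i)).app ⊤ a = 0 := by
      rw [desc_comp] at hz
      have h1 := desc_injective (hz.trans desc_zero.symm)
      rw [CochainComplex.shiftFunctor_obj_d'] at h1
      have h2 : (i.negOnePow • I.d (0 + i) (0 + 1 + i)).app ⊤ a =
        i.negOnePow • (I.d (0 + i) (0 + 1 + i)).app ⊤ a := by
        rcases Int.even_or_odd i with hi | hi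
        · rw [Int.negOnePow_even _ hi, one_smul, one_smul]
        · rw [Int.negOnePow_odd _ hi, Units.neg_smul, one_smul, Units.neg_smul, one_smul]
          rfl
      have h3 : i.negOnePow • (I.d (0 + i) (0 + 1 + i)).app ⊤ a = 0 := h2.symm.trans h1
      rcases Int.even_or_odd i with hi | hi
      · rwa [Int.negOnePow_even _ hi, one_smul] at h3
      · rwa [Int.negOnePow_odd _ hi, Units.neg_smul, one_smul, neg_eq_zero] at h3
    obtain ⟨b, hb⟩ := exists_section_of_exactAt I (-1 + i) (0 + i) (0 + 1 + i) (by ring) (by ring)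
      (hex _) a ha
    have hb' : ∃ b' : Γ(I.X (-1 + i), ⊤), ((I⟦i⟧).d (-1) 0).app ⊤ b' = a := by
      rcases Int.even_or_odd i with hi | hi
      · refine ⟨b, ?_⟩
        rw [CochainComplex.shiftFunctor_obj_d', Int.negOnePow_even _ hi, one_smul]
        exact hb
      · refine ⟨-b, ?_⟩
        rw [CochainComplex.shiftFunctor_obj_d', Int.negOnePow_odd _ hi, Units.neg_smul, one_smul]
        change -((I.d (-1 + i) (0 + i)).app ⊤ (-b)) = a
        rw [map_neg, neg_neg]
        exact hb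
    obtain ⟨b', hb'⟩ := hb'
    refine ofCocycle_eq_zero (n := -1) (by lia) _ _ (desc (M := (I⟦i⟧).X (-1)) b') ?_
    rw [desc_comp]
    congr 1
  have := key (φ ≫ e₂.hom)
  rwa [← cancel_mono e₂.hom, zero_comp]

end Groth.Agent.PerfB.SecGamma
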