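import Groth.Agent.PerfB.SecTwist
import Groth.Agent.PerfB.SecEnd
import Groth.Agent.PerfA.UnitOU
import Groth.Agent.CohqA.HBiprod
import Groth.Agent.CohqB.FiniteType2

/-!
# Lifting sections of the top cohomology sheaf after twisting

`L : ℕ ⥤ X.Modules` a sequence of invertible modules as in `SecTwist`, `Z` affine.  Every section over `Z` of
`H^q(E) ⊗ L n` comes, after a transition, from a map `O_X[-q] ⟶ E ⊗ L m`.
-/

set_option autoImplicit false

universe u

open CategoryTheory CategoryTheory.Limits AlgebraicGeometry Opposite TopologicalSpace Pretriangulated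
open Groth.Agent.PerfA Groth.Agent.PerfA.ExtZero Groth.Agent.PerfA.Hyp0 Groth.Agent.PerfA.Hyp1
open Groth.Agent.PerfB.SecNil Groth.Agent.PerfB.SecMV Groth.Agent.PerfB.SecTwist
open Groth.Agent.Fdesc.LocGen

attribute [local instance] HasDerivedCategory.standard CategoryTheory.Abelian.hasFiniteBiproducts

namespace Groth.Agent.PerfB.SecLift

variable {X : Scheme.{u}}

/-- `PW` at the top for a sequence of twists. -/
theorem PW_top [CompactSpace X] [QuasiSeparatedSpace X] {L : ℕ ⥤ X.Modules}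
    (hL : ∀ n, PicF.IsInvertible (L.obj n)) {Z : X.Opens}
    (hdat : ∀ x : X, ∃ W : X.Opens, x ∈ W ∧ Dat L Z W)
    {E : CochainComplex X.Modules ℤ} (hE : DCoh.IsQCohD (DerivedCategory.Q.obj E)) :
    PW (seq E L) Z ⊤ := by
  have hF := isQCohD_seq hL hE
  refine PW_of_isCompact (B := {W | Dat L Z W}) (fun U hU => hU.1) ?_ ?_ isCompact_univ
  · intro V x hx
    obtain ⟨W, hxW, hW⟩ := hdat x
    obtain ⟨_, ⟨U, hU, rfl⟩, hxU, hUV⟩ :=
      X.isBasis_affineOpens.exists_subset_of_mem_open (⟨hx, hxW⟩ : x ∈ V ⊓ W) (V ⊓ W).2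
    exact ⟨U, hW.of_le hU (le_trans (show U ≤ V ⊓ W from hUV) inf_le_right), hxU,
      le_trans (show U ≤ V ⊓ W from hUV) inf_le_left⟩
  · intro U hU f
    exact (hU.of_le (hU.1.basicOpen f) (X.basicOpen_le f)).PW hL hE hF

section Shift

variable {C : Type*} [Category* C] [Abelian C] [HasDerivedCategory C]

/-- The version of `NM.exists_extend` for single complexes in an arbitrary degree. -/
lemma exists_extend' {F : ℕ ⥤ DerivedCategory C} {M N : C} {g : M ⟶ N} [Mono g] (h : NM F g) (q : ℤ)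
    (n : ℕ) (y : (DerivedCategory.singleFunctor C q).obj M ⟶ F.obj n) :
    ∃ (m : ℕ) (hm : n ≤ m) (z : (DerivedCategory.singleFunctor C q).obj N ⟶ F.obj m),
      (DerivedCategory.singleFunctor C q).map g ≫ z = y ≫ F.map (homOfLE hm) := by
  let σ : DerivedCategory.singleFunctor C q ⋙ shiftFunctor (DerivedCategory C) q ≅
      DerivedCategory.singleFunctor C 0 :=
    (DerivedCategory.singleFunctors C).shiftIso q 0 q (by lia)
  obtain ⟨m, hm, z', hz'⟩ := h.exists_extend q n (σ.inv.app M ≫ y⟦q⟧')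
  obtain ⟨z, hz⟩ := (shiftFunctor (DerivedCategory C) q).map_surjective (σ.hom.app N ≫ z')
  refine ⟨m, hm, z, ?_⟩
  apply (shiftFunctor (DerivedCategory C) q).map_injective
  rw [Functor.map_comp, Functor.map_comp, hz]
  have h1 := σ.hom.naturality g
  have h2 : ((DerivedCategory.singleFunctor C q).map g)⟦q⟧' ≫ σ.hom.app N =
    σ.hom.app M ≫ (DerivedCategory.singleFunctor C 0).map g := h1
  rw [← Category.assoc, h2, Category.assoc, hz', ← Category.assoc, ← Category.assoc,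
    Iso.hom_inv_id_app]
  congr 1
  exact Category.id_comp _

end Shift

/-- The image of a section of `H^q(E) ⊗ L n`. -/
noncomputable def sct {E : CochainComplex X.Modules ℤ} {N : X.Modules}
    [PreservesFiniteLimits (DCoh.tensorRightMod N)] {q : ℤ} {U : X.Opens}
    (z : P q U ⟶ DerivedCategory.Q.obj ((tcx E).obj N)) : Γ((tL (E.homology q)).obj N, U) :=
  (homI E q N).hom.app U (toHD z)

lemma sct_comp {E : CochainComplex X.Modules ℤ} {N N' : X.Modules}
    [PreservesFiniteLimits (DCoh.tensorRightMod N)] [PreservesFiniteLimits (DCoh.tensorRightMod N')]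
    {q : ℤ} {U : X.Opens}
    (z : P q U ⟶ DerivedCategory.Q.obj ((tcx E).obj N)) (σ : N ⟶ N') :
    sct (z ≫ DerivedCategory.Q.map ((tcx E).map σ)) = ((tL (E.homology q)).map σ).app U (sct z) := by
  have h1 := homI_naturality E q σ
  rw [sct, sct, toHD_comp]
  change ((DerivedCategory.homologyFunctor X.Modules q).map (DerivedCategory.Q.map ((tcx E).map σ)) ≫
      (homI E q N').hom).app U (toHD z) = ((homI E q N).hom ≫ (tL (E.homology q)).map σ).app U (toHD z)
  rw [h1]

lemma sct_res {E : CochainComplex X.Modules ℤ} {N : X.Modules}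
    [PreservesFiniteLimits (DCoh.tensorRightMod N)] {q : ℤ} {U V : X.Opens} (h : V ≤ U)
    (z : P q U ⟶ DerivedCategory.Q.obj ((tcx E).obj N)) :
    sct (Hyp1.res h z) = Fdesc.LocGen.res _ h (sct z) := by
  rw [sct, toHD_res, sct]
  exact app_res (homI E q N).hom h (toHD z)

lemma sct_bijective {E : CochainComplex X.Modules ℤ} {N : X.Modules}
    [PreservesFiniteLimits (DCoh.tensorRightMod N)] {q : ℤ} {U : X.Opens} (hU : IsAffineOpen U)
    (h : DCoh.IsQCohD (DerivedCategory.Q.obj ((tcx E).obj N))) :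
    Function.Bijective (sct : (P q U ⟶ DerivedCategory.Q.obj ((tcx E).obj N)) → _) := by
  refine Function.Bijective.comp ?_ (AffHD.toHD_bijective h hU q)
  have : IsIso (homI E q N).hom := inferInstance
  constructor
  · intro a b hab
    have := congrArg ((homI E q N).inv.app U) hab
    have h2 : ∀ c, (homI E q N).inv.app U ((homI E q N).hom.app U c) = c := fun c =>
      congr(($((homI E q N).hom_inv_id).app U) c)
    rwa [h2, h2] at this
  · intro b
    exact ⟨(homI E q N).inv.app U b, congr(($((homI E q N).inv_hom_id).app U) b)⟩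

/-- Lifting sections over `Z`. -/
theorem exists_lift [CompactSpace X] [QuasiSeparatedSpace X] {L : ℕ ⥤ X.Modules}
    (hL : ∀ n, PicF.IsInvertible (L.obj n)) [∀ n, PreservesFiniteLimits (DCoh.tensorRightMod (L.obj n))]
    {Z : X.Opens} (hZ : IsAffineOpen Z)
    (hdat : ∀ x : X, ∃ W : X.Opens, x ∈ W ∧ Dat L Z W)
    {E : CochainComplex X.Modules ℤ} (hE : DCoh.IsQCohD (DerivedCategory.Q.obj E)) (q : ℤ) (n : ℕ)
    (s : Γ((tL (E.homology q)).obj (L.obj n), Z)) :
    ∃ (m : ℕ) (hm : n ≤ m), ∀ (k : ℕ) (hk : m ≤ k), ∃ z : P q ⊤ ⟶ DerivedCategory.Q.obj ((tcx E).obj (L.obj k)),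
      Fdesc.LocGen.res _ le_top (sct z) =
        ((tL (E.homology q)).map (L.map (homOfLE (hm.trans hk)))).app Z s := by
  have hPW := PW_top hL hdat hE
  have hF := isQCohD_seq hL hE
  obtain ⟨y, hy⟩ := (sct_bijective (q := q) hZ (hF n)).2 s
  obtain ⟨m, hm, z, hz⟩ : ∃ (m : ℕ) (hm : n ≤ m) (z : P q ⊤ ⟶ DerivedCategory.Q.obj ((tcx E).obj (L.obj m))),
      Hyp1.res (le_top : Z ≤ ⊤) z = y ≫ DerivedCategory.Q.map ((tcx E).map (L.map (homOfLE hm))) :=
    exists_extend' (hPW Z le_top (top_inf_eq Z).symm) q n y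
  refine ⟨m, hm, fun k hk => ⟨z ≫ DerivedCategory.Q.map ((tcx E).map (L.map (homOfLE hk))), ?_⟩⟩
  rw [← sct_res]
  have h1 : Hyp1.res (le_top : Z ≤ ⊤) (z ≫ DerivedCategory.Q.map ((tcx E).map (L.map (homOfLE hk)))) =
      y ≫ DerivedCategory.Q.map ((tcx E).map (L.map (homOfLE (hm.trans hk)))) := by
    rw [res_comp, hz, Category.assoc, ← Functor.map_comp, ← Functor.map_comp, ← L.map_comp]
    rfl
  rw [h1, sct_comp, hy]

open Ega2 in
/-- Where `f` is invertible the transition maps are surjective. -/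
lemma Loc.surjective {M : X.Modules} {L : ℕ ⥤ X.Modules} {W : X.Opens} {f : Γ(X, W)}
    {e : ∀ n, Γ(L.obj n, W)} (h : Loc L W f e) (hf : IsUnit f) {n m : ℕ} (hnm : n ≤ m)
    (s : Γ((tL M).obj (L.obj m), W)) :
    ∃ t : Γ((tL M).obj (L.obj n), W), ((tL M).map (L.map (homOfLE hnm))).app W t = s := by
  obtain ⟨k, rfl⟩ := Nat.exists_eq_add_of_le hnm
  obtain ⟨a, rfl⟩ := TensGen.exists_eq_tmul (F := M) (h.gen (n + k)) s
  obtain ⟨g, hg⟩ := (hf.pow k).exists_right_inv
  refine ⟨tmul (g • a) (e n), ?_⟩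
  refine (h.map_tmul n k (g • a)).trans ?_
  rw [← mul_smul, hg, one_smul]

section Epi

/-- Combine finitely many maps out of a single complex. -/
lemma exists_sum {C : Type*} [Category* C] [Abelian C] [HasDerivedCategory C] {r : ℕ} {G : C}
    {K : DerivedCategory C} {q : ℤ}
    (z : Fin r → ((DerivedCategory.singleFunctor C q).obj G ⟶ K)) :
    ∃ φ : (DerivedCategory.singleFunctor C q).obj (⨁ fun _ : Fin r => G) ⟶ K,
      ∀ i, (DerivedCategory.singleFunctor C q).map (biproduct.ι (fun _ : Fin r => G) i) ≫ φ = z i := by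
  refine ⟨∑ j, (DerivedCategory.singleFunctor C q).map (biproduct.π (fun _ : Fin r => G) j) ≫ z j, fun i => ?_⟩
  rw [Preadditive.comp_sum, Finset.sum_eq_single i]
  · rw [← Category.assoc, ← Functor.map_comp, biproduct.ι_π_self, CategoryTheory.Functor.map_id,
      Category.id_comp]
  · intro j _ hj
    rw [← Category.assoc, ← Functor.map_comp, biproduct.ι_π_ne _ hj.symm, Functor.map_zero, zero_comp]
  · intro hi
    exact absurd (Finset.mem_univ i) hi

/-- An epimorphism criterion: `Ψ : ⨁ OU ⊤ ⟶ N` for `N` quasi-coherent, given that a module `M` with a map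
`σ : M ⟶ N` is generated over `Z` by sections whose images come from `Ψ`, and `σ` is surjective near `x`. -/
lemma isZero_cokernel {r : ℕ} {M N : X.Modules} (hN : Coh.IsQCoh N) (hM : Coh.IsQCoh M)
    (Ψ : (⨁ fun _ : Fin r => OU (⊤ : X.Opens)) ⟶ N)
    (h : ∀ x : X, ∃ (σ : M ⟶ N) (Z W : X.Opens), IsAffineOpen Z ∧ x ∈ W ∧ W ≤ Z ∧
      (∀ (V : X.Opens), V ≤ W → ∀ s : Γ(N, V), ∃ t : Γ(M, V), σ.app V t = s) ∧
      ∃ T : Set Γ(M, Z), Submodule.span Γ(X, Z) T = ⊤ ∧ ∀ t ∈ T, ∃ i : Fin r,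
        Fdesc.LocGen.res N le_top ((biproduct.ι (fun _ : Fin r => OU (⊤ : X.Opens)) i ≫ Ψ).app ⊤ (gen ⊤)) =
          σ.app Z t) : Epi Ψ := by
  have hB : Coh.IsQCoh (⨁ fun _ : Fin r => OU (⊤ : X.Opens)) :=
    CohqA.HBiprod.isQCoh_biproduct _ fun _ =>
      QCohSerre.isQCoh_of_iso (UnitOU.unitIsoOU X) (QCohSerre.isQCoh_unit X)
  have hC : Coh.IsQCoh (cokernel Ψ) := QCohSerre.isQCoh_cokernel Ψ hB hN
  have hKer : Coh.IsQCoh (kernel (cokernel.π Ψ)) := QCohSerre.isQCoh_kernel _ hN hC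
  let S : ShortComplex X.Modules :=
    ShortComplex.mk (kernel.ι (cokernel.π Ψ)) (cokernel.π Ψ) (kernel.condition _)
  have hS : S.ShortExact :=
    { exact := ShortComplex.exact_kernel _
      mono_f := inferInstanceAs (Mono (kernel.ι (cokernel.π Ψ)))
      epi_g := inferInstanceAs (Epi (cokernel.π Ψ)) }
  have hz : IsZero (cokernel Ψ) := by
    refine SecEnd.isZero_of_affine_sections _ hC fun x => ?_
    obtain ⟨σ, Z, W, hZ, hxW, hWZ, hsurj, T, hT, hTi⟩ := h x
    obtain ⟨g, hg, hxg⟩ := hZ.exists_basicOpen_le ⟨x, hxW⟩ (hWZ hxW)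
    refine ⟨X.basicOpen g, hZ.basicOpen g, hxg, fun c => ?_⟩
    obtain ⟨s, hs⟩ := QCohExt.app_surjective hS hKer (X.basicOpen g) (hZ.basicOpen g) c
    obtain ⟨t, ht⟩ := hsurj _ hg s
    obtain ⟨n, t', ht'⟩ := (Ega1.QCohLoc.isLocAt_of_isQCoh hM hZ g).surj t
    -- all sections of `M` over `Z` die
    have hdie : ∀ t' : Γ(M, Z), (cokernel.π Ψ).app Z (σ.app Z t') = 0 := by
      intro t'
      have hmem : t' ∈ Submodule.span Γ(X, Z) T := by rw [hT]; trivial
      induction hmem using Submodule.span_induction with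
      | mem t' h' =>
        obtain ⟨i, hi⟩ := hTi t' h'
        rw [← hi, app_res]
        have h0 : (biproduct.ι (fun _ : Fin r => OU (⊤ : X.Opens)) i ≫ Ψ) ≫ cokernel.π Ψ = 0 := by
          rw [Category.assoc, cokernel.condition, comp_zero]
        have h1 : (cokernel.π Ψ).app ⊤ ((biproduct.ι (fun _ : Fin r => OU (⊤ : X.Opens)) i ≫ Ψ).app ⊤ (gen ⊤)) = 0 :=
          congr(($(h0).app ⊤) (gen ⊤))
        rw [h1, map_zero]
      | zero => rw [map_zero, map_zero]
      | add a b _ _ ha hb => rw [map_add, map_add, ha, hb, add_zero]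
      | smul a b _ hb => rw [Scheme.Modules.Hom.app_smul, Scheme.Modules.Hom.app_smul, hb, smul_zero]
    have hunit : IsUnit (ores (X.basicOpen_le g) g) := X.toRingedSpace.isUnit_res_basicOpen g
    have h1 : (ores (X.basicOpen_le g) g) ^ n • c = 0 := by
      rw [← hs, ← Scheme.Modules.Hom.app_smul, ← ht, ← Scheme.Modules.Hom.app_smul]
      have h2 : (ores (X.basicOpen_le g) g) ^ n • t = Fdesc.LocGen.res M (X.basicOpen_le g) t' := ht'.symm
      rw [h2, app_res]
      change (cokernel.π Ψ).app _ _ = 0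
      rw [app_res, hdie, map_zero]
    exact (hunit.pow n).smul_eq_zero.1 h1
  have h0 : cokernel.π Ψ = 0 := hz.eq_of_tgt _ _
  exact Preadditive.epi_of_cokernel_zero h0

/-- After twisting, the cohomology sheaf `H^q(E)` is covered by finitely many copies of `O_X[-q] ⟶ E ⊗ N k`. -/
theorem exists_epi [CompactSpace X] [QuasiSeparatedSpace X] {ι : Type} [Finite ι] (N : ℕ → X.Modules)
    (τ : ι → ∀ k, N k ⟶ N (k + 1)) (hN : ∀ k, PicF.IsInvertible (N k))
    (hN0 : Nonempty (N 0 ≅ Coh.structureModule X))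
    (Z : ι → X.Opens) (hZ : ∀ j, IsAffineOpen (Z j)) (hcov : ∀ x : X, ∃ j, x ∈ Z j)
    (hdat : ∀ (j : ι) (x : X), ∃ W : X.Opens, x ∈ W ∧ Dat (Functor.ofSequence (τ j)) (Z j) W)
    {E : CochainComplex X.Modules ℤ} (hE : DCoh.IsQCohD (DerivedCategory.Q.obj E)) (q : ℤ)
    (hft : CohB1.IsFT (E.homology q)) :
    ∃ e₀ : ℕ, ∀ k, e₀ ≤ k → ∃ (r : ℕ)
      (φ : (DerivedCategory.singleFunctor X.Modules q).obj (⨁ fun _ : Fin r => OU (⊤ : X.Opens)) ⟶
        DerivedCategory.Q.obj ((tcx E).obj (N k))),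
      Epi ((DerivedCategory.homologyFunctor X.Modules q).map φ) := by
  classical
  have hpres : ∀ n, PreservesFiniteLimits (DCoh.tensorRightMod (N n)) := fun n =>
    TensInv.preservesFiniteLimits_of_isInvertible (hN n)
  let L : ι → ℕ ⥤ X.Modules := fun j => Functor.ofSequence (τ j)
  have hpres' : ∀ j n, PreservesFiniteLimits (DCoh.tensorRightMod ((L j).obj n)) := fun j n => hpres n
  have hL : ∀ j n, PicF.IsInvertible ((L j).obj n) := fun j n => hN n
  have hHq : Coh.IsQCoh (E.homology q) := (QCohD.isQCohD_Q_iff E).1 hE q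
  have hHN : ∀ k, Coh.IsQCoh ((tL (E.homology q)).obj (N k)) := fun k =>
    TensInv.isQCoh_tensorRightMod (hN k) _ hHq
  -- generators
  have hM0 : CohB1.IsFT ((tL (E.homology q)).obj (N 0)) := by
    obtain ⟨e⟩ := hN0
    exact CohqB.LocalQC.isFT_of_iso ((tL (E.homology q)).mapIso e ≪≫ Ega2.Tens.runit (E.homology q)).symm hft
  have hgen : ∀ j, ∃ T : Finset Γ((tL (E.homology q)).obj (N 0), Z j),
      Submodule.span Γ(X, Z j) (T : Set Γ((tL (E.homology q)).obj (N 0), Z j)) = ⊤ := by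
    intro j
    have := hHN 0
    exact (CohqB.FiniteType2.finite_sections_of_isFT _ hM0 (hZ j)).fg_top
  choose T hT using hgen
  let I := Σ j, T j
  have hI : Finite I := inferInstance
  have hlift : ∀ p : I, ∃ (m : ℕ) (hm : 0 ≤ m), ∀ (k : ℕ) (hk : m ≤ k),
      ∃ z : P q ⊤ ⟶ DerivedCategory.Q.obj ((tcx E).obj ((L p.1).obj k)),
      Fdesc.LocGen.res _ le_top (sct z) =
        ((tL (E.homology q)).map ((L p.1).map (homOfLE (hm.trans hk)))).app (Z p.1) p.2.1 :=
    fun p => exists_lift (hL p.1) (hZ p.1) (hdat p.1) hE q 0 p.2.1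
  choose m hm hz using hlift
  obtain ⟨e₀, he₀⟩ : ∃ e₀ : ℕ, ∀ p : I, m p ≤ e₀ := by
    obtain ⟨e₀, he₀⟩ := (Set.finite_range m).bddAbove
    exact ⟨e₀, fun p => he₀ ⟨p, rfl⟩⟩
  refine ⟨e₀, fun k hk => ?_⟩
  choose z hz' using fun p : I => hz p k ((he₀ p).trans hk)
  let r := Nat.card I
  let ε : I ≃ Fin r := Finite.equivFin I
  let z₁ : Fin r → (P q ⊤ ⟶ DerivedCategory.Q.obj ((tcx E).obj (N k))) := fun i => z (ε.symm i)
  obtain ⟨φ, hφ⟩ := exists_sum (G := OU (⊤ : X.Opens)) z₁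
  refine ⟨r, φ, ?_⟩
  let Ψ : (⨁ fun _ : Fin r => OU (⊤ : X.Opens)) ⟶ (tL (E.homology q)).obj (N k) :=
    toH φ ≫ (homI E q (N k)).hom
  have hΨ : ∀ i, (biproduct.ι (fun _ : Fin r => OU (⊤ : X.Opens)) i ≫ Ψ).app ⊤ (gen ⊤) = sct (z₁ i) := by
    intro i
    have h1 : biproduct.ι (fun _ : Fin r => OU (⊤ : X.Opens)) i ≫ Ψ =
        toH (z₁ i) ≫ (homI E q (N k)).hom := by
      rw [← hφ i, toH_map_comp, Category.assoc]
    rw [h1]
    change (homI E q (N k)).hom.app ⊤ ((toH (z₁ i)).app ⊤ (gen ⊤)) = _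
    rw [sct, toHD, homEquiv_apply]
  have hEpi : Epi Ψ := by
    refine isZero_cokernel (hHN k) (hHN 0) Ψ fun x => ?_
    obtain ⟨j, hj⟩ := hcov x
    obtain ⟨W, hxW, hW, f, e, he, hf⟩ := hdat j x
    refine ⟨(tL (E.homology q)).map ((L j).map (homOfLE (Nat.zero_le k))), Z j, W ⊓ Z j, hZ j, ⟨hxW, hj⟩,
      inf_le_right, ?_, T j, hT j, ?_⟩
    · intro V hV s
      have hVW : V ≤ W := hV.trans inf_le_left
      have hu : IsUnit (ores (X.basicOpen_le f) f) := X.toRingedSpace.isUnit_res_basicOpen f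
      have hu' : ∀ (V : X.Opens) (hV : V ≤ W), V ≤ X.basicOpen f → IsUnit (ores hV f) := by
        intro V hV hV'
        have := hu.map (ores hV')
        rwa [ores_ores] at this
      exact Loc.surjective (he.res' hVW) (hu' V hVW (by rw [← hf]; exact hV)) (Nat.zero_le k) s
    · intro t ht
      let p : I := ⟨j, t, ht⟩
      refine ⟨ε p, ?_⟩
      rw [hΨ]
      have h1 : z₁ (ε p) = z p := by
        change z (ε.symm (ε p)) = z p
        rw [Equiv.symm_apply_apply]
      rw [h1]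
      exact hz' p
  have h2 : toH φ = Ψ ≫ (homI E q (N k)).inv := by
    rw [Category.assoc, Iso.hom_inv_id, Category.comp_id]
  have h3 : (DerivedCategory.homologyFunctor X.Modules q).map φ =
      (DerivedCategory.singleFunctorCompHomologyFunctorIso X.Modules q).hom.app _ ≫ Ψ ≫
        (homI E q (N k)).inv := by
    rw [← h2, toH, Iso.hom_inv_id_app_assoc]
  rw [h3]
  infer_instance

end Epi

end Groth.Agent.PerfB.SecLift
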