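import Groth.Agent.PerfB.SecNil
import Groth.Agent.PerfB.AffHD

/-!
# Mayer-Vietoris for sequences of complexes

`F : ℕ ⥤ D(O_X)` with quasi-coherent cohomology, `Z` open.  If locally on `X`, sections of the cohomology sheaves
of `F` over `W` are eventually the same as those over `W ∩ Z`, then maps out of the cokernel of
`j_! O_{W ∩ Z} → j_! O_W` to `F` die eventually, for all quasi-compact opens `W`.
-/

set_option autoImplicit false

universe u

open CategoryTheory CategoryTheory.Limits AlgebraicGeometry Opposite TopologicalSpace Pretriangulated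
open Groth.Agent.PerfA Groth.Agent.PerfA.ExtZero Groth.Agent.PerfA.Hyp0 Groth.Agent.PerfA.Hyp1
open Groth.Agent.PerfB.SecNil

attribute [local instance] HasDerivedCategory.standard

namespace Groth.Agent.PerfB.SecMV

variable {X : Scheme.{u}}

/-- Sections over `W` vanishing on `W'` die eventually. -/
def CondA (G : ℕ ⥤ X.Modules) {W' W : X.Opens} (h : W' ≤ W) : Prop :=
  ∀ (n : ℕ) (s : Γ(G.obj n, W)), (G.obj n).presheaf.map (homOfLE h).op s = 0 →
    ∃ (m : ℕ) (hm : n ≤ m), (G.map (homOfLE hm)).app W s = 0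

/-- Sections over `W'` eventually extend to `W`. -/
def CondB (G : ℕ ⥤ X.Modules) {W' W : X.Opens} (h : W' ≤ W) : Prop :=
  ∀ (n : ℕ) (s : Γ(G.obj n, W')), ∃ (m : ℕ) (hm : n ≤ m) (t : Γ(G.obj m, W)),
    (G.obj m).presheaf.map (homOfLE h).op t = (G.map (homOfLE hm)).app W' s

lemma app_naturality {M N : X.Modules} (f : M ⟶ N) {W' W : X.Opens} (h : W' ≤ W) (s : Γ(M, W)) :
    f.app W' (M.presheaf.map (homOfLE h).op s) = N.presheaf.map (homOfLE h).op (f.app W s) :=
  NatTrans.naturality_apply f.mapPresheaf (homOfLE h).op s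

lemma CondA.of_iso {G G' : ℕ ⥤ X.Modules} (e : G ≅ G') {W' W : X.Opens} {h : W' ≤ W} (H : CondA G h) :
    CondA G' h := by
  intro n s hs
  obtain ⟨m, hm, h'⟩ := H n ((e.inv.app n).app W s) (by
    rw [← app_naturality, hs, map_zero])
  refine ⟨m, hm, ?_⟩
  have h1 : G'.map (homOfLE hm) = e.inv.app n ≫ G.map (homOfLE hm) ≫ e.hom.app m := by
    rw [← Category.assoc, ← e.inv.naturality, Category.assoc, Iso.inv_hom_id_app, Category.comp_id]
  rw [h1, Scheme.Modules.Hom.comp_app, Scheme.Modules.Hom.comp_app]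
  change (e.hom.app m).app W ((G.map (homOfLE hm)).app W ((e.inv.app n).app W s)) = 0
  rw [h', map_zero]

lemma CondB.of_iso {G G' : ℕ ⥤ X.Modules} (e : G ≅ G') {W' W : X.Opens} {h : W' ≤ W} (H : CondB G h) :
    CondB G' h := by
  intro n s
  obtain ⟨m, hm, t, ht⟩ := H n ((e.inv.app n).app W' s)
  refine ⟨m, hm, (e.hom.app m).app W t, ?_⟩
  have h1 : G'.map (homOfLE hm) = e.inv.app n ≫ G.map (homOfLE hm) ≫ e.hom.app m := by
    rw [← Category.assoc, ← e.inv.naturality, Category.assoc, Iso.inv_hom_id_app, Category.comp_id]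
  rw [h1, Scheme.Modules.Hom.comp_app, Scheme.Modules.Hom.comp_app, ← app_naturality, ht]
  rfl

/-- The local condition for a sequence of complexes. -/
structure Cond (F : ℕ ⥤ DCoh.D X) {W' W : X.Opens} (h : W' ≤ W) : Prop where
  a : ∀ q : ℤ, CondA (F ⋙ DerivedCategory.homologyFunctor X.Modules q) h
  b : ∀ q : ℤ, CondB (F ⋙ DerivedCategory.homologyFunctor X.Modules q) h

/-- The isomorphism relating the cohomology sheaves of the shifted sequence. -/
noncomputable def shiftI (F : ℕ ⥤ DCoh.D X) (i q r : ℤ) (h : i + q = r) :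
    F ⋙ DerivedCategory.homologyFunctor X.Modules r ≅
    (F ⋙ shiftFunctor (DCoh.D X) i) ⋙ DerivedCategory.homologyFunctor X.Modules q :=
  Functor.isoWhiskerLeft F ((DerivedCategory.homologyFunctor X.Modules 0).shiftIso i q r h).symm

lemma Cond.shift {F : ℕ ⥤ DCoh.D X} {W' W : X.Opens} {h : W' ≤ W} (H : Cond F h) (i : ℤ) :
    Cond (F ⋙ shiftFunctor (DCoh.D X) i) h where
  a q := CondA.of_iso (shiftI F i q _ rfl) (H.a (i + q))
  b q := CondB.of_iso (shiftI F i q _ rfl) (H.b (i + q))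

lemma toHD_sub {m : ℤ} {K : DCoh.D X} {U : X.Opens} (φ ψ : P m U ⟶ K) :
    toHD (φ - ψ) = toHD φ - toHD ψ := by
  have := toHD_add (φ - ψ) ψ
  rw [sub_add_cancel] at this
  rw [this, add_sub_cancel_right]

/-- The basic case. -/
theorem NM_of_cond {F : ℕ ⥤ DCoh.D X} (hF : ∀ n, DCoh.IsQCohD (F.obj n)) {W' W : X.Opens} (h : W' ≤ W)
    (hW' : IsAffineOpen W') (hW : IsAffineOpen W) (H : Cond F h) :
    NM F ((OUF X).map (homOfLE h)) := by
  intro C p w hS i n x
  -- the shifted sequence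
  let G : ℕ ⥤ DCoh.D X := F ⋙ shiftFunctor (DCoh.D X) i
  have hG : ∀ n, DCoh.IsQCohD (G.obj n) := fun n => QCohD.isQCohD_shift (hF n) i
  have HG : Cond G h := H.shift i
  change ∃ (m : ℕ) (hm : n ≤ m), x ≫ G.map (homOfLE hm) = 0
  change (DerivedCategory.singleFunctor X.Modules 0).obj C ⟶ G.obj n at x
  let y : P 0 W ⟶ G.obj n := (DerivedCategory.singleFunctor X.Modules 0).map p ≫ x
  have hy : res h y = 0 := by
    have h1 : (DerivedCategory.singleFunctor X.Modules 0).map ((OUF X).map (homOfLE h)) ≫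
      (DerivedCategory.singleFunctor X.Modules 0).map p = 0 := by
      rw [← Functor.map_comp, w, Functor.map_zero]
    change (DerivedCategory.singleFunctor X.Modules 0).map ((OUF X).map (homOfLE h)) ≫
      (DerivedCategory.singleFunctor X.Modules 0).map p ≫ x = 0
    rw [← Category.assoc, h1, zero_comp]
  obtain ⟨m, hm, hm'⟩ := HG.a 0 n (toHD y) (by
    change (DCoh.HD (G.obj n) 0).presheaf.map (homOfLE h).op (toHD y) = 0
    rw [← toHD_res, hy, toHD_zero])
  have hy' : y ≫ G.map (homOfLE hm) = 0 := by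
    apply (AffHD.toHD_bijective (hG m) hW 0).1
    rw [toHD_comp, toHD_zero]
    exact hm'
  obtain ⟨z, hz⟩ := Hyp2.ses_exact₃ (m := 0) (n := -1) hS (by lia) (x ≫ G.map (homOfLE hm))
    ((Category.assoc _ _ _).symm.trans hy')
  change P (-1) W' ⟶ G.obj m at z
  obtain ⟨k, hk, t, ht⟩ := HG.b (-1) m (toHD z)
  obtain ⟨z', hz'⟩ := (AffHD.toHD_bijective (hG k) hW (-1)).2 t
  have hzz : z ≫ G.map (homOfLE hk) = res h z' := by
    apply (AffHD.toHD_bijective (hG k) hW' (-1)).1
    rw [toHD_comp, toHD_res, hz']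
    exact ht.symm
  refine ⟨k, hm.trans hk, ?_⟩
  have h1 : G.map (homOfLE (hm.trans hk)) = G.map (homOfLE hm) ≫ G.map (homOfLE hk) := by
    rw [← G.map_comp]; rfl
  rw [h1, ← Category.assoc, hz]
  refine (Category.assoc _ _ _).trans ?_
  refine (congrArg (Hyp2.sesδ hS (by lia : (-1 : ℤ) + 1 = 0) ≫ ·) hzz).trans ?_
  have h2 := Hyp2.sesδ_map hS (by lia : (-1 : ℤ) + 1 = 0)
  refine (Category.assoc _ _ _).symm.trans ?_
  exact (congrArg (· ≫ z') h2).trans zero_comp

/-- The property that the cokernel of `j_!O_{W ∩ Z} → j_!O_W` is in `Nil F`. -/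
def PW (F : ℕ ⥤ DCoh.D X) (Z W : X.Opens) : Prop :=
  ∀ (W' : X.Opens) (h : W' ≤ W), W' = W ⊓ Z → NM F ((OUF X).map (homOfLE h))

lemma PW.of_NM {F : ℕ ⥤ DCoh.D X} {Z W : X.Opens} {W' : X.Opens} (h : W' ≤ W) (e : W' = W ⊓ Z)
    (H : NM F ((OUF X).map (homOfLE h))) : PW F Z W := by
  rintro W'' h' rfl
  subst e
  exact H

lemma PW_bot (F : ℕ ⥤ DCoh.D X) (Z : X.Opens) : PW F Z ⊥ := by
  intro W' h e
  have hW' : W' = ⊥ := le_bot_iff.1 h
  have := isIso_OUF_map_of_eq (homOfLE h) hW'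
  exact NM.of_isIso _

/-- Mayer-Vietoris. -/
lemma PW_sup {F : ℕ ⥤ DCoh.D X} {Z W₁ W₂ : X.Opens} (h₁ : PW F Z W₁) (h₂ : PW F Z W₂)
    (h₁₂ : PW F Z (W₁ ⊓ W₂)) : PW F Z (W₁ ⊔ W₂) := by
  have e : (W₁ ⊓ Z) ⊔ (W₂ ⊓ Z) = (W₁ ⊔ W₂) ⊓ Z := (inf_sup_right _ _ _).symm
  have e' : (W₁ ⊓ Z) ⊓ (W₂ ⊓ Z) = (W₁ ⊓ W₂) ⊓ Z := by
    rw [inf_inf_inf_comm, inf_idem]
  refine PW.of_NM (sup_le_sup inf_le_left inf_le_left) e ?_
  let f := Hyp2.mvShortComplexMap (inf_le_left : W₁ ⊓ Z ≤ W₁) (inf_le_left : W₂ ⊓ Z ≤ W₂)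
  refine NM.τ₃ f (mvShortComplex_shortExact _ _) (mvShortComplex_shortExact _ _)
    (mono_OUF_map _) ?_ (mono_OUF_map _) (h₁₂ _ _ e') ?_
  · change Mono (biprod.map _ _)
    infer_instance
  · exact NM.biprod_map (h₁ _ _ rfl) (h₂ _ _ rfl)

/-- A sup of a list of opens. -/
def lsup (l : List X.Opens) : X.Opens := l.foldr (· ⊔ ·) ⊥

@[simp] lemma lsup_nil : lsup ([] : List X.Opens) = ⊥ := rfl
@[simp] lemma lsup_cons (U : X.Opens) (l : List X.Opens) : lsup (U :: l) = U ⊔ lsup l := rfl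

lemma lsup_le {l : List X.Opens} {W : X.Opens} (h : ∀ U ∈ l, U ≤ W) : lsup l ≤ W := by
  induction l with
  | nil => exact bot_le
  | cons U l ih =>
    rw [lsup_cons]
    exact sup_le (h U (by simp)) (ih (fun V hV => h V (by simp [hV])))

lemma le_lsup {l : List X.Opens} {U : X.Opens} (h : U ∈ l) : U ≤ lsup l := by
  induction l with
  | nil => simp at h
  | cons V l ih =>
    rw [lsup_cons]
    rcases List.mem_cons.1 h with rfl | h
    · exact le_sup_left
    · exact (ih h).trans le_sup_right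

lemma inf_lsup (U : X.Opens) (l : List X.Opens) : U ⊓ lsup l = lsup (l.map (U ⊓ ·)) := by
  induction l with
  | nil => simp
  | cons V l ih => rw [lsup_cons, inf_sup_left, ih, List.map_cons, lsup_cons]

/-- A quasi-compact open is a finite union of elements of a basis. -/
lemma exists_list {B : Set X.Opens} {W : X.Opens} (hW : IsCompact (W : Set X))
    (hB : ∀ x ∈ W, ∃ U ∈ B, x ∈ U ∧ U ≤ W) : ∃ l : List X.Opens, (∀ U ∈ l, U ∈ B) ∧ W = lsup l := by
  choose! U hUB hxU hUW using hB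
  obtain ⟨t, ht⟩ := hW.elim_finite_subcover (fun x : W => (U x : Set X)) (fun x => (U x).2) (by
    intro x hx
    exact Set.mem_iUnion.2 ⟨⟨x, hx⟩, hxU x hx⟩)
  refine ⟨t.toList.map (fun x : W => U x.1), ?_, ?_⟩
  · intro V hV
    obtain ⟨x, -, hx⟩ := List.mem_map.1 hV
    subst hx
    exact hUB x.1 x.2
  · apply le_antisymm
    · intro x hx
      obtain ⟨y, hy⟩ := Set.mem_iUnion.1 (ht hx)
      obtain ⟨hy, hxy⟩ := Set.mem_iUnion.1 hy
      exact le_lsup (l := t.toList.map (fun x : W => U x.1))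
        (List.mem_map.2 ⟨y, Finset.mem_toList.2 hy, rfl⟩) hxy
    · apply lsup_le
      intro V hV
      obtain ⟨x, -, hx⟩ := List.mem_map.1 hV
      subst hx
      exact hUW x.1 x.2

/-- First step: quasi-compact opens contained in an affine open. -/
lemma PW_of_le_affine {F : ℕ ⥤ DCoh.D X} {Z W : X.Opens} (hW : IsAffineOpen W)
    (h : ∀ f : Γ(X, W), PW F Z (X.basicOpen f)) {W₀ : X.Opens} (hW₀ : IsCompact (W₀ : Set X))
    (hle : W₀ ≤ W) : PW F Z W₀ := by
  have key : ∀ (n : ℕ) (l : List Γ(X, W)), l.length = n → PW F Z (lsup (l.map X.basicOpen)) := by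
    intro n
    induction n with
    | zero =>
      intro l hl
      obtain rfl := List.length_eq_zero_iff.1 hl
      exact PW_bot F Z
    | succ n ih =>
      rintro (_ | ⟨f, l⟩) hl
      · simp at hl
      · have hl' : l.length = n := by simpa using hl
        rw [List.map_cons, lsup_cons]
        refine PW_sup (h f) (ih l hl') ?_
        rw [inf_lsup]
        have : (l.map X.basicOpen).map (X.basicOpen f ⊓ ·) =
            (l.map (f * ·)).map X.basicOpen := by
          rw [List.map_map, List.map_map]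
          apply List.map_congr_left
          intro g _
          exact (Scheme.basicOpen_mul X f g).symm
        rw [this]
        exact ih _ (by simpa using hl')
  obtain ⟨l, hl, rfl⟩ := exists_list (B := Set.range (fun f : Γ(X, W) => X.basicOpen f)) hW₀ (by
    intro x hx
    obtain ⟨f, hf, hxf⟩ := hW.exists_basicOpen_le ⟨x, hx⟩ (hle hx)
    exact ⟨_, ⟨f, rfl⟩, hxf, hf⟩)
  obtain ⟨l', rfl⟩ : ∃ l' : List Γ(X, W), l = l'.map X.basicOpen := by
    clear hW₀ hle
    induction l with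
    | nil => exact ⟨[], rfl⟩
    | cons U l ih =>
      obtain ⟨l', hl'⟩ := ih (fun V hV => hl V (by simp [hV]))
      obtain ⟨f, hf⟩ := hl U (by simp)
      exact ⟨f :: l', by rw [List.map_cons, ← hl']; congr 1; exact hf.symm⟩
  exact key _ l' rfl

/-- Second step: all quasi-compact opens. -/
theorem PW_of_isCompact [QuasiSeparatedSpace X] {F : ℕ ⥤ DCoh.D X} {Z : X.Opens} {B : Set X.Opens}
    (hB : ∀ U ∈ B, IsAffineOpen U) (hB' : ∀ (V : X.Opens) (x : X), x ∈ V → ∃ U ∈ B, x ∈ U ∧ U ≤ V)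
    (h : ∀ U ∈ B, ∀ f : Γ(X, U), PW F Z (X.basicOpen f)) {W : X.Opens} (hW : IsCompact (W : Set X)) :
    PW F Z W := by
  obtain ⟨l, hl, rfl⟩ := exists_list (B := B) hW (fun x hx => hB' W x hx)
  clear hW
  have hcpt : ∀ l : List X.Opens, (∀ U ∈ l, U ∈ B) → IsCompact (lsup l : Set X) := by
    intro l hl
    induction l with
    | nil => exact isCompact_empty
    | cons U l ih =>
      rw [lsup_cons]
      exact (hB U (hl U (by simp))).isCompact.union (ih (fun V hV => hl V (by simp [hV])))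
  induction l with
  | nil => exact PW_bot F Z
  | cons U l ih =>
    rw [lsup_cons]
    have hU := hl U (by simp)
    have hl' : ∀ V ∈ l, V ∈ B := fun V hV => hl V (by simp [hV])
    refine PW_sup (PW_of_le_affine (hB U hU) (h U hU) (hB U hU).isCompact le_rfl) (ih hl') ?_
    refine PW_of_le_affine (hB U hU) (h U hU) ?_ inf_le_left
    exact QuasiSeparatedSpace.inter_isCompact (U : Set X) (lsup l : Set X) U.2 (hB U hU).isCompact (lsup l).2
      (hcpt l hl')

/-- Sections over `Z` of the cohomology sheaves die eventually if the global cohomology vanishes. -/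
theorem exists_map_eq_zero {F : ℕ ⥤ DCoh.D X} (hF : ∀ n, DCoh.IsQCohD (F.obj n)) {Z : X.Opens}
    (hZ : IsAffineOpen Z) (hPW : PW F Z ⊤)
    (hv : ∀ (n : ℕ) (i : ℤ) (φ : P 0 ⊤ ⟶ (F.obj n)⟦i⟧), φ = 0) (q : ℤ) (n : ℕ)
    (s : Γ(DCoh.HD (F.obj n) q, Z)) :
    ∃ (m : ℕ) (hm : n ≤ m),
      ((DerivedCategory.homologyFunctor X.Modules q).map (F.map (homOfLE hm))).app Z s = 0 := by
  let G : ℕ ⥤ DCoh.D X := F ⋙ shiftFunctor (DCoh.D X) q
  have hG : ∀ n, DCoh.IsQCohD (G.obj n) := fun n => QCohD.isQCohD_shift (hF n) q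
  let e := shiftI F q 0 q (add_zero q)
  let s' : Γ(DCoh.HD (G.obj n) 0, Z) := (e.hom.app n).app Z s
  obtain ⟨y, hy⟩ := (AffHD.toHD_bijective (hG n) hZ 0).2 s'
  obtain ⟨m, hm, z, hz⟩ := (hPW Z le_top (top_inf_eq Z).symm).exists_extend q n y
  have hz0 : z = 0 := hv m q z
  have hy0 : y ≫ G.map (homOfLE hm) = 0 := by
    refine hz.symm.trans ?_
    rw [hz0, comp_zero]
  have h1 : ((DerivedCategory.homologyFunctor X.Modules 0).map (G.map (homOfLE hm))).app Z s' = 0 := by
    rw [← hy, ← toHD_comp, hy0, toHD_zero]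
  refine ⟨m, hm, ?_⟩
  have h2 : (DerivedCategory.homologyFunctor X.Modules q).map (F.map (homOfLE hm)) =
      e.hom.app n ≫ (DerivedCategory.homologyFunctor X.Modules 0).map (G.map (homOfLE hm)) ≫
        e.inv.app m := by
    have := e.hom.naturality (homOfLE hm)
    rw [← Category.assoc]
    refine Eq.trans ?_ (congrArg (· ≫ e.inv.app m) this)
    rw [Category.assoc, Iso.hom_inv_id_app, Category.comp_id]
    rfl
  rw [h2, Scheme.Modules.Hom.comp_app, Scheme.Modules.Hom.comp_app]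
  change (e.inv.app m).app Z (((DerivedCategory.homologyFunctor X.Modules 0).map
    (G.map (homOfLE hm))).app Z s') = 0
  rw [h1, map_zero]

end Groth.Agent.PerfB.SecMV
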