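import Mathlib.CategoryTheory.Triangulated.Subcategory
import Mathlib.CategoryTheory.Triangulated.Yoneda
import Mathlib.Algebra.Homology.DerivedCategory.SingleTriangle
import Mathlib.Algebra.Homology.DerivedCategory.Ext.Basic
import Mathlib.Algebra.Homology.ShortComplex.SnakeLemma

/-!
# Objects all of whose maps to a sequence die eventually

`Nil F` (`F : ℕ ⥤ T`, `T` pretriangulated): the objects `C` such that every map `C ⟶ F n[i]` is killed by
some transition map.  It is a triangulated subcategory.  `NM F g` for a monomorphism `g` of an abelian category: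
the cokernel of `g` is in `Nil F`.
-/

set_option autoImplicit false
set_option linter.unusedSectionVars false

universe w v u

open CategoryTheory CategoryTheory.Limits CategoryTheory.Pretriangulated ZeroObject

namespace Groth.Agent.PerfB.SecNil

section Triangulated

variable {T : Type u} [Category.{v} T] [Preadditive T] [HasZeroObject T] [HasShift T ℤ]
  [∀ n : ℤ, (shiftFunctor T n).Additive] [Pretriangulated T]

/-- Every map `C ⟶ F n[i]` is eventually killed. -/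
def Nil (F : ℕ ⥤ T) : ObjectProperty T := fun C =>
  ∀ (i : ℤ) (n : ℕ) (x : C ⟶ (F.obj n)⟦i⟧), ∃ (m : ℕ) (h : n ≤ m), x ≫ (F.map (homOfLE h))⟦i⟧' = 0

variable {F : ℕ ⥤ T}

lemma Nil.of_iso {C C' : T} (e : C ≅ C') (h : Nil F C) : Nil F C' := by
  intro i n x
  obtain ⟨m, hm, h'⟩ := h i n (e.hom ≫ x)
  refine ⟨m, hm, ?_⟩
  rw [← cancel_epi e.hom, ← Category.assoc, h', comp_zero]

instance : (Nil F).IsClosedUnderIsomorphisms where
  of_iso e h := Nil.of_iso e h

lemma Nil.of_isZero {C : T} (h : IsZero C) : Nil F C := by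
  intro i n x
  exact ⟨n, le_rfl, by rw [h.eq_of_src x 0, zero_comp]⟩

lemma Nil.ext₂ (t : Triangle T) (ht : t ∈ distTriang T) (h₁ : Nil F t.obj₁) (h₃ : Nil F t.obj₃) :
    Nil F t.obj₂ := by
  intro i n x
  obtain ⟨m, hm, h⟩ := h₁ i n (t.mor₁ ≫ x)
  obtain ⟨y, hy⟩ := Triangle.yoneda_exact₂ t ht (x ≫ (F.map (homOfLE hm))⟦i⟧')
    (by rw [← Category.assoc, h])
  obtain ⟨k, hk, h'⟩ := h₃ i m y
  refine ⟨k, hm.trans hk, ?_⟩
  have h1 : F.map (homOfLE (hm.trans hk)) = F.map (homOfLE hm) ≫ F.map (homOfLE hk) := by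
    rw [← F.map_comp]; rfl
  rw [h1, Functor.map_comp, ← Category.assoc, hy, Category.assoc, h', comp_zero]

lemma Nil.shift {C : T} (h : Nil F C) (a : ℤ) : Nil F (C⟦a⟧) := by
  intro i n x
  obtain ⟨m, hm, h'⟩ := h (i + (-a)) n ((shiftShiftNeg C a).inv ≫ x⟦-a⟧' ≫
    (shiftFunctorAdd T i (-a)).inv.app (F.obj n))
  refine ⟨m, hm, ?_⟩
  apply (shiftFunctor T (-a)).map_injective
  rw [Functor.map_zero, Functor.map_comp]
  have hnat := (shiftFunctorAdd T i (-a)).inv.naturality (F.map (homOfLE hm))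
  have h2 : (shiftShiftNeg C a).inv ≫ (x⟦-a⟧' ≫ ((F.map (homOfLE hm))⟦i⟧')⟦-a⟧') ≫
      (shiftFunctorAdd T i (-a)).inv.app (F.obj m) = 0 := by
    rw [← h']
    simp only [Category.assoc]
    congr 2
  rw [← cancel_mono ((shiftFunctorAdd T i (-a)).inv.app (F.obj m)),
    ← cancel_epi (shiftShiftNeg C a).inv, h2, zero_comp, comp_zero]

instance : (Nil F).IsTriangulated where
  exists_zero := ⟨0, isZero_zero T, Nil.of_isZero (isZero_zero T)⟩
  isStableUnderShiftBy n := ⟨fun _ hK => Nil.shift hK n⟩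
  ext₂' t ht h₁ h₃ := ObjectProperty.le_isoClosure _ _ (Nil.ext₂ t ht h₁ h₃)

end Triangulated

section Abelian

variable {A : Type u} [Category.{v} A] [Abelian A]

/-- The snake lemma for a monomorphism of short exact sequences. -/
lemma exists_cokernel_shortExact {S S' : ShortComplex A} (f : S ⟶ S') (hS : S.ShortExact)
    (hS' : S'.ShortExact) (h₁ : Mono f.τ₁) (h₂ : Mono f.τ₂) (h₃ : Mono f.τ₃) :
    ∃ (S'' : ShortComplex A) (p : S' ⟶ S'') (w₁ : f.τ₁ ≫ p.τ₁ = 0) (w₂ : f.τ₂ ≫ p.τ₂ = 0)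
      (w₃ : f.τ₃ ≫ p.τ₃ = 0), S''.ShortExact ∧ (ShortComplex.mk _ _ w₁).ShortExact ∧
      (ShortComplex.mk _ _ w₂).ShortExact ∧ (ShortComplex.mk _ _ w₃).ShortExact := by
  have := hS.epi_g
  have := hS'.mono_f
  let X : ShortComplex.SnakeInput A :=
    { L₀ := kernel f
      L₁ := S
      L₂ := S'
      L₃ := cokernel f
      v₀₁ := kernel.ι f
      v₁₂ := f
      v₂₃ := cokernel.π f
      w₀₂ := kernel.condition f
      w₁₃ := cokernel.condition f
      h₀ := kernelIsKernel f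
      h₃ := cokernelIsCokernel f
      L₁_exact := hS.exact
      L₂_exact := hS'.exact
      epi_L₁_g := hS.epi_g
      mono_L₂_f := hS'.mono_f }
  have hz : IsZero X.L₀.X₃ := by
    have hm : Mono X.v₀₁.τ₃ := ShortComplex.SnakeInput.mono_v₀₁_τ₃ X
    have h0 : X.v₀₁.τ₃ = 0 := by
      have : X.v₀₁.τ₃ ≫ f.τ₃ = 0 := X.w₀₂_τ₃
      rwa [← cancel_mono f.τ₃, zero_comp]
    exact IsZero.of_mono_eq_zero _ h0
  have hmono : Mono X.L₃.f := by
    have := X.L₂'_exact
    exact this.mono_g (hz.eq_of_src _ _)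
  have hepi : Epi X.L₃.g := by
    have h1 : Epi S'.g := hS'.epi_g
    have h2 : Epi X.v₂₃.τ₃ := ShortComplex.SnakeInput.epi_v₂₃_τ₃ X
    have : Epi (X.v₂₃.τ₂ ≫ X.L₃.g) := by
      rw [X.v₂₃.comm₂₃]
      exact epi_comp _ _
    exact epi_of_epi X.v₂₃.τ₂ X.L₃.g
  refine ⟨X.L₃, X.v₂₃, X.w₁₃_τ₁, X.w₁₃_τ₂, X.w₁₃_τ₃, ⟨X.L₃_exact⟩, ?_, ?_, ?_⟩
  · exact { exact := X.exact_C₁_down, mono_f := h₁, epi_g := ShortComplex.SnakeInput.epi_v₂₃_τ₁ X }
  · exact { exact := X.exact_C₂_down, mono_f := h₂, epi_g := ShortComplex.SnakeInput.epi_v₂₃_τ₂ X }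
  · exact { exact := X.exact_C₃_down, mono_f := h₃, epi_g := ShortComplex.SnakeInput.epi_v₂₃_τ₃ X }

variable [HasDerivedCategory.{w} A] (F : ℕ ⥤ DerivedCategory A)

/-- The cokernel of the monomorphism `g` is in `Nil F`. -/
def NM {M N : A} (g : M ⟶ N) : Prop :=
  ∀ (C : A) (p : N ⟶ C) (w : g ≫ p = 0), (ShortComplex.mk g p w).ShortExact →
    Nil F ((DerivedCategory.singleFunctor A 0).obj C)

variable {F}

lemma NM.of_shortExact {M N C : A} {g : M ⟶ N} {p : N ⟶ C} {w : g ≫ p = 0}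
    (h : (ShortComplex.mk g p w).ShortExact)
    (hC : Nil F ((DerivedCategory.singleFunctor A 0).obj C)) : NM F g := by
  intro C' p' w' h'
  refine Nil.of_iso ((DerivedCategory.singleFunctor A 0).mapIso ?_) hC
  exact IsColimit.coconePointUniqueUpToIso h.gIsCokernel h'.gIsCokernel

lemma NM.nil {M N C : A} {g : M ⟶ N} {p : N ⟶ C} {w : g ≫ p = 0} (hg : NM F g)
    (h : (ShortComplex.mk g p w).ShortExact) :
    Nil F ((DerivedCategory.singleFunctor A 0).obj C) := hg C p w h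

lemma NM.of_isIso {M N : A} (g : M ⟶ N) [IsIso g] : NM F g := by
  intro C p w h
  have hp : p = 0 := by rw [← cancel_epi g, w, comp_zero]
  have := h.epi_g
  have hC : IsZero C := by
    have h1 : Epi p := h.epi_g
    exact IsZero.of_epi_eq_zero p hp
  exact Nil.of_isZero ((DerivedCategory.singleFunctor A 0).map_isZero hC)

lemma NM.τ₃ {S S' : ShortComplex A} (f : S ⟶ S') (hS : S.ShortExact)
    (hS' : S'.ShortExact) (m₁ : Mono f.τ₁) (m₂ : Mono f.τ₂) (m₃ : Mono f.τ₃)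
    (h₁ : NM F f.τ₁) (h₂ : NM F f.τ₂) : NM F f.τ₃ := by
  obtain ⟨S'', p, w₁, w₂, w₃, hS'', e₁, e₂, e₃⟩ := exists_cokernel_shortExact f hS hS' m₁ m₂ m₃
  refine NM.of_shortExact e₃ ?_
  exact (Nil F).ext_of_isTriangulatedClosed₃ _ hS''.singleTriangle_distinguished (h₁.nil e₁) (h₂.nil e₂)

lemma NM.τ₂ {S S' : ShortComplex A} (f : S ⟶ S') (hS : S.ShortExact)
    (hS' : S'.ShortExact) (m₁ : Mono f.τ₁) (m₂ : Mono f.τ₂) (m₃ : Mono f.τ₃)
    (h₁ : NM F f.τ₁) (h₃ : NM F f.τ₃) : NM F f.τ₂ := by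
  obtain ⟨S'', p, w₁, w₂, w₃, hS'', e₁, e₂, e₃⟩ := exists_cokernel_shortExact f hS hS' m₁ m₂ m₃
  refine NM.of_shortExact e₂ ?_
  exact (Nil F).ext_of_isTriangulatedClosed₂ _ hS''.singleTriangle_distinguished (h₁.nil e₁) (h₃.nil e₃)

lemma biprod_shortExact (M N : A) :
    (ShortComplex.mk (biprod.inl : M ⟶ M ⊞ N) (biprod.snd : M ⊞ N ⟶ N) (by simp)).ShortExact where
  exact := by
    refine ShortComplex.Splitting.exact ?_
    exact ShortComplex.Splitting.ofHasBinaryBiproduct M N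
  mono_f := inferInstanceAs (Mono (biprod.inl : M ⟶ M ⊞ N))
  epi_g := inferInstanceAs (Epi (biprod.snd : M ⊞ N ⟶ N))

lemma NM.biprod_map {M N M' N' : A} {g : M ⟶ N} {g' : M' ⟶ N'} [Mono g] [Mono g']
    (h : NM F g) (h' : NM F g') : NM F (biprod.map g g') := by
  let f : ShortComplex.mk (biprod.inl : M ⟶ M ⊞ M') (biprod.snd : M ⊞ M' ⟶ M') (by simp) ⟶
      ShortComplex.mk (biprod.inl : N ⟶ N ⊞ N') (biprod.snd : N ⊞ N' ⟶ N') (by simp) :=
    { τ₁ := g
      τ₂ := biprod.map g g'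
      τ₃ := g' }
  exact NM.τ₂ f (biprod_shortExact M M') (biprod_shortExact N N') ‹Mono g›
    (inferInstanceAs (Mono (biprod.map g g'))) ‹Mono g'› h h'

/-- What `NM` gives: given `y : M ⟶ F n[i]`, some transition of `y` extends along `g`. -/
lemma NM.exists_extend {M N : A} {g : M ⟶ N} [Mono g] (h : NM F g) (i : ℤ) (n : ℕ)
    (y : (DerivedCategory.singleFunctor A 0).obj M ⟶ (F.obj n)⟦i⟧) :
    ∃ (m : ℕ) (hm : n ≤ m) (z : (DerivedCategory.singleFunctor A 0).obj N ⟶ (F.obj m)⟦i⟧),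
      (DerivedCategory.singleFunctor A 0).map g ≫ z = y ≫ (F.map (homOfLE hm))⟦i⟧' := by
  have hS : (ShortComplex.mk g (cokernel.π g) (cokernel.condition g)).ShortExact :=
    { exact := ShortComplex.exact_cokernel g
      mono_f := ‹Mono g›
      epi_g := inferInstanceAs (Epi (cokernel.π g)) }
  have hC := h.nil hS
  have hT := hS.singleTriangle_distinguished
  have hC' := Nil.shift hC (-1)
  obtain ⟨m, hm, h'⟩ := hC' i n (hS.singleTriangle.invRotate.mor₁ ≫ y)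
  obtain ⟨z, hz⟩ := Triangle.yoneda_exact₂ _ (inv_rot_of_distTriang _ hT)
    (y ≫ (F.map (homOfLE hm))⟦i⟧') (by rw [← Category.assoc]; exact h')
  exact ⟨m, hm, z, hz.symm⟩

end Abelian

end Groth.Agent.PerfB.SecNil
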