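import Groth.Agent.PerfB.SecLift
import Groth.Agent.PerfB.SecProj
import Groth.Agent.PerfA.ExactD

/-!
# Negative twists surject onto the top cohomology sheaf on projective space
-/

set_option autoImplicit false

universe u

open CategoryTheory CategoryTheory.Limits AlgebraicGeometry Opposite
open Groth.Agent.PerfB.TwistDer Groth.Agent.PerfB.SecProj
open Groth.Agent.PerfB.SecTwist Groth.Agent.PerfA Groth.Agent.PerfA.ExtZero Groth.Agent.PerfA.Hyp1

attribute [local instance] HasDerivedCategory.standard CategoryTheory.Abelian.hasFiniteBiproducts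

namespace Groth.Agent.PerfB.SecTop

variable {n : ℕ} {A : Type u} [CommRing A]

theorem compactSpace_proj (R : Type u) [CommRing R] (n : ℕ) : CompactSpace (CohB1.ProjSpace n R) := by
  refine ⟨?_⟩
  have h1 : (Set.univ : Set (Proj (CohB1.polyGrading n R))) =
      ⋃ i : Fin (n + 1), ((Proj.basicOpen (CohB1.polyGrading n R) (MvPolynomial.X i) :
        (Proj (CohB1.polyGrading n R)).Opens) : Set (Proj (CohB1.polyGrading n R))) := by
    rw [← TopologicalSpace.Opens.coe_iSup, ProjSpaceCover.iSup_basicOpen_X n R, TopologicalSpace.Opens.coe_top]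
  change IsCompact (Set.univ : Set (Proj (CohB1.polyGrading n R)))
  rw [h1]
  exact isCompact_iUnion fun i =>
    (Proj.isAffineOpen_basicOpen (CohB1.polyGrading n R) (MvPolynomial.X i) (MvPolynomial.isHomogeneous_X _ i)
      one_pos).isCompact

/-- A coordinate. -/
noncomputable def coord (n : ℕ) (A : Type u) [CommRing A] (j : Fin (n + 1)) : CohB1.polyGrading n A 1 :=
  ⟨MvPolynomial.X j, MvPolynomial.isHomogeneous_X _ _⟩

/-- The case of a complex, before untwisting. -/
lemma exists_epi_twist {E : CochainComplex (CohB1.ProjSpace n A).Modules ℤ}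
    (hE : DCoh.IsQCohD (DerivedCategory.Q.obj E)) (b : ℤ) (hft : CohB1.IsFT (E.homology b)) :
    ∃ e₀ : ℕ, ∀ k : ℕ, e₀ ≤ k → ∃ (r : ℕ)
      (φ : (DerivedCategory.singleFunctor (CohB1.ProjSpace n A).Modules b).obj
        (⨁ fun _ : Fin r => OU (⊤ : (CohB1.ProjSpace n A).Opens)) ⟶
        DerivedCategory.Q.obj ((tcx E).obj (tw n A (k : ℤ)))),
      Epi ((DerivedCategory.homologyFunctor (CohB1.ProjSpace n A).Modules b).map φ) := by
  have hc := compactSpace_proj A n
  have hqs : QuasiSeparatedSpace (CohB1.ProjSpace n A) :=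
    inferInstanceAs (QuasiSeparatedSpace (Proj (CohB1.polyGrading n A)))
  refine SecLift.exists_epi (X := CohB1.ProjSpace n A) (ι := Fin (n + 1)) (fun k => tw n A (k : ℤ))
    (fun j k => TwistMul.mulT (coord n A j) (k : ℤ) ((k + 1 : ℕ) : ℤ) (by push_cast; rfl))
    (fun k => isInvertible_tw n A (k : ℤ)) ⟨(twZero n A).symm⟩
    (fun j => Proj.basicOpen (CohB1.polyGrading n A) (coord n A j).1)
    (fun j => Proj.isAffineOpen_basicOpen _ (coord n A j).1 (coord n A j).2 one_pos)
    (fun x => ProjSpaceCover.exists_mem_basicOpen_X n A x) ?_ hE b hft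
  intro j x
  obtain ⟨i, hi⟩ := ProjSpaceCover.exists_mem_basicOpen_X n A x
  exact ⟨_, hi, dat_Lseq (coord n A j) (coord n A i)⟩

/-- `O(k)(-k) = O`. -/
noncomputable def untwist (k : ℤ) (E : CochainComplex (CohB1.ProjSpace n A).Modules ℤ) :
    (twD n A (-k)).obj (DerivedCategory.Q.obj ((tcx E).obj (tw n A k))) ≅ DerivedCategory.Q.obj E :=
  (twD n A (-k)).mapIso ((twM n A k).mapDerivedCategoryFactors.app E).symm ≪≫
    (twDComp n A k (-k) 0 (by ring)).app _ ≪≫ (twDZero n A).app _

/-- `O^r (-k)[-b]`. -/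
noncomputable def sumIso (k b : ℤ) (r : ℕ) :
    (DerivedCategory.singleFunctor (CohB1.ProjSpace n A).Modules b).obj (⨁ fun _ : Fin r => tw n A (-k)) ≅
      (twD n A (-k)).obj ((DerivedCategory.singleFunctor (CohB1.ProjSpace n A).Modules b).obj
        (⨁ fun _ : Fin r => OU (⊤ : (CohB1.ProjSpace n A).Opens))) :=
  (DerivedCategory.singleFunctor (CohB1.ProjSpace n A).Modules b).mapIso
    (biproduct.mapIso (fun _ : Fin r => (Ega2.Tens.lunit (tw n A (-k))).symm ≪≫
      (twM n A (-k)).mapIso (UnitOU.unitIsoOU _)) ≪≫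
    ((twM n A (-k)).mapBiproduct (fun _ : Fin r => OU (⊤ : (CohB1.ProjSpace n A).Opens))).symm) ≪≫
    (((twM n A (-k)).mapDerivedCategorySingleFunctor b).app _).symm

/-- For `K ∈ D_QCoh(P^n_A)` with `H^b(K)` of finite type, `O(-e)^r[-b] ⟶ K` surjective on `H^b`, for `e ≫ 0`. -/
theorem exists_epi_top (K : DCoh.D (CohB1.ProjSpace n A)) (hK : DCoh.IsQCohD K) (b : ℤ)
    (hft : CohB1.IsFT (DCoh.HD K b)) :
    ∃ e₀ : ℕ, ∀ e : ℕ, e₀ ≤ e → ∃ (r : ℕ)
      (φ : (DerivedCategory.singleFunctor (CohB1.ProjSpace n A).Modules b).obj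
        (⨁ fun _ : Fin r => tw n A (-(e : ℤ))) ⟶ K),
      Epi ((DerivedCategory.homologyFunctor (CohB1.ProjSpace n A).Modules b).map φ) := by
  let E := DerivedCategory.Q.objPreimage K
  let eK : DerivedCategory.Q.obj E ≅ K := DerivedCategory.Q.objObjPreimageIso K
  have hE : DCoh.IsQCohD (DerivedCategory.Q.obj E) := QCohD.isQCohD_of_iso eK.symm hK
  have hft' : CohB1.IsFT (E.homology b) :=
    CohqB.LocalQC.isFT_of_iso ((DerivedCategory.homologyFunctor _ b).mapIso eK.symm ≪≫
      (DerivedCategory.homologyFunctorFactors _ b).app E) hft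
  obtain ⟨e₀, he₀⟩ := exists_epi_twist hE b hft'
  refine ⟨e₀, fun e he => ?_⟩
  obtain ⟨r, φ, hφ⟩ := he₀ e he
  refine ⟨r, (sumIso (e : ℤ) b r).hom ≫ (twD n A (-(e : ℤ))).map φ ≫ (untwist (e : ℤ) E).hom ≫ eK.hom, ?_⟩
  have h1 : Epi ((twD n A (-(e : ℤ)) ⋙ DerivedCategory.homologyFunctor (CohB1.ProjSpace n A).Modules b).map φ) := by
    have hnat := (ExactD.mapHomology (twM n A (-(e : ℤ))) b).hom.naturality φ
    have h2 : (twD n A (-(e : ℤ)) ⋙ DerivedCategory.homologyFunctor (CohB1.ProjSpace n A).Modules b).map φ =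
        (ExactD.mapHomology (twM n A (-(e : ℤ))) b).hom.app _ ≫
        (DerivedCategory.homologyFunctor (CohB1.ProjSpace n A).Modules b ⋙ twM n A (-(e : ℤ))).map φ ≫
        (ExactD.mapHomology (twM n A (-(e : ℤ))) b).inv.app _ := by
      rw [← Category.assoc, ← hnat, Category.assoc, Iso.hom_inv_id_app, Category.comp_id]
    rw [h2]
    have h3 : Epi ((DerivedCategory.homologyFunctor (CohB1.ProjSpace n A).Modules b ⋙ twM n A (-(e : ℤ))).map φ) :=
      inferInstanceAs (Epi ((twM n A (-(e : ℤ))).map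
        ((DerivedCategory.homologyFunctor (CohB1.ProjSpace n A).Modules b).map φ)))
    infer_instance
  rw [Functor.map_comp, Functor.map_comp, Functor.map_comp]
  have h4 : Epi ((DerivedCategory.homologyFunctor (CohB1.ProjSpace n A).Modules b).map
    ((twD n A (-(e : ℤ))).map φ)) := h1
  infer_instance

end Groth.Agent.PerfB.SecTop
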