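import Groth.Agent.PerfB.SecMV
import Groth.Agent.PerfB.TensInv
import Mathlib.Algebra.Homology.ShortComplex.PreservesHomology

/-!
# Sequences of twists of a complex

`L : ℕ ⥤ X.Modules` a sequence of invertible modules which locally looks like `O → O → …`, all transition maps being
multiplication by a function `f` whose nonvanishing locus is `Z`.  If `K ⊗ L n` has no global
cohomology for all `n`, then the cohomology sheaves of `K ⊗ L 0` have no sections over `Z`.
-/

set_option autoImplicit false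

universe u

open CategoryTheory CategoryTheory.Limits AlgebraicGeometry Opposite TopologicalSpace Pretriangulated
open Groth.Agent.PerfA Groth.Agent.PerfA.ExtZero Groth.Agent.PerfA.Hyp0 Groth.Agent.PerfA.Hyp1
open Groth.Agent.PerfB.SecNil Groth.Agent.PerfB.SecMV
open Groth.Agent.Fdesc.LocGen

attribute [local instance] HasDerivedCategory.standard

namespace Groth.Agent.PerfB.SecTwist

variable {X : Scheme.{u}}

/-- `M ⊗ -`. -/
noncomputable def tL (M : X.Modules) : X.Modules ⥤ X.Modules where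
  obj N := (DCoh.tensorRightMod N).obj M
  map σ := (TensExact.tensorRightModMap σ).app M
  map_id N := by rw [TensExact.tensorRightModMap_id]; rfl
  map_comp σ τ := by rw [TensExact.tensorRightModMap_comp]; rfl

/-- `E ⊗ -` for a complex `E`. -/
noncomputable def tcx (E : CochainComplex X.Modules ℤ) : X.Modules ⥤ CochainComplex X.Modules ℤ where
  obj N := ((DCoh.tensorRightMod N).mapHomologicalComplex _).obj E
  map σ := (NatTrans.mapHomologicalComplex (TensExact.tensorRightModMap σ) _).app E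
  map_id N := by
    ext i : 1
    exact (tL (E.X i)).map_id N
  map_comp σ τ := by
    ext i : 1
    exact (tL (E.X i)).map_comp σ τ

/-- The sequence of complexes `E ⊗ L n` in `D(O_X)`. -/
noncomputable def seq (E : CochainComplex X.Modules ℤ) (L : ℕ ⥤ X.Modules) : ℕ ⥤ DCoh.D X :=
  L ⋙ tcx E ⋙ DerivedCategory.Q

section Homology

variable (E : CochainComplex X.Modules ℤ) (q : ℤ)

/-- `H^q(E ⊗ N) = H^q(E) ⊗ N` for `N` flat. -/
noncomputable def homI (N : X.Modules) [PreservesFiniteLimits (DCoh.tensorRightMod N)] :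
    (DerivedCategory.homologyFunctor X.Modules q).obj (DerivedCategory.Q.obj ((tcx E).obj N)) ≅
      (tL (E.homology q)).obj N :=
  (DerivedCategory.homologyFunctorFactors X.Modules q).app _ ≪≫
    (E.sc q).mapHomologyIso (DCoh.tensorRightMod N)

lemma homI_naturality {N N' : X.Modules} [PreservesFiniteLimits (DCoh.tensorRightMod N)]
    [PreservesFiniteLimits (DCoh.tensorRightMod N')] (σ : N ⟶ N') :
    (DerivedCategory.homologyFunctor X.Modules q).map (DerivedCategory.Q.map ((tcx E).map σ)) ≫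
      (homI E q N').hom = (homI E q N).hom ≫ (tL (E.homology q)).map σ := by
  have h1 : (DerivedCategory.homologyFunctor X.Modules q).map (DerivedCategory.Q.map ((tcx E).map σ)) ≫
      (DerivedCategory.homologyFunctorFactors X.Modules q).hom.app ((tcx E).obj N') =
      (DerivedCategory.homologyFunctorFactors X.Modules q).hom.app ((tcx E).obj N) ≫
        HomologicalComplex.homologyMap ((tcx E).map σ) q :=
    (DerivedCategory.homologyFunctorFactors X.Modules q).hom.naturality ((tcx E).map σ)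
  have h2 := NatTrans.app_homology (TensExact.tensorRightModMap σ) (E.sc q)
  have h3 : HomologicalComplex.homologyMap ((tcx E).map σ) q ≫
      ((E.sc q).mapHomologyIso (DCoh.tensorRightMod N')).hom =
      ((E.sc q).mapHomologyIso (DCoh.tensorRightMod N)).hom ≫
        (TensExact.tensorRightModMap σ).app (E.sc q).homology := by
    rw [h2, Iso.hom_inv_id_assoc]
    rfl
  change _ ≫ ((DerivedCategory.homologyFunctorFactors X.Modules q).hom.app ((tcx E).obj N') ≫
    ((E.sc q).mapHomologyIso (DCoh.tensorRightMod N')).hom) =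
    ((DerivedCategory.homologyFunctorFactors X.Modules q).hom.app ((tcx E).obj N) ≫
      ((E.sc q).mapHomologyIso (DCoh.tensorRightMod N)).hom) ≫
      (TensExact.tensorRightModMap σ).app (E.sc q).homology
  refine (Category.assoc _ _ _).symm.trans ?_
  refine (congrArg (· ≫ ((E.sc q).mapHomologyIso (DCoh.tensorRightMod N')).hom) h1).trans ?_
  refine (Category.assoc _ _ _).trans ?_
  refine Eq.trans ?_ (Category.assoc _ _ _).symm
  exact congrArg ((DerivedCategory.homologyFunctorFactors X.Modules q).hom.app ((tcx E).obj N) ≫ ·) h3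

variable (L : ℕ ⥤ X.Modules) (hL : ∀ n, PicF.IsInvertible (L.obj n))

include hL in
/-- The cohomology sheaves of the sequence. -/
lemma nonempty_seqHomology : Nonempty (seq E L ⋙ DerivedCategory.homologyFunctor X.Modules q ≅
    L ⋙ tL (E.homology q)) := by
  have : ∀ n, PreservesFiniteLimits (DCoh.tensorRightMod (L.obj n)) := fun n =>
    TensInv.preservesFiniteLimits_of_isInvertible (hL n)
  exact ⟨NatIso.ofComponents (fun n => homI E q (L.obj n)) (fun {n m} f => homI_naturality E q (L.map f))⟩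

end Homology

section Local

variable (M : X.Modules) (L : ℕ ⥤ X.Modules)

/-- Local generators of the sequence, compatible up to `f`. -/
structure Loc (L : ℕ ⥤ X.Modules) (W : X.Opens) (f : Γ(X, W)) (e : ∀ n, Γ(L.obj n, W)) : Prop where
  gen : ∀ n, IsGen (e n)
  map : ∀ n, (L.map (homOfLE (Nat.le_succ n))).app W (e n) = f • e (n + 1)

variable {L} {W : X.Opens} {f : Γ(X, W)} {e : ∀ n, Γ(L.obj n, W)}

lemma Loc.res' (h : Loc L W f e) {V : X.Opens} (hV : V ≤ W) :
    Loc L V (ores hV f) (fun n => res (L.obj n) hV (e n)) where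
  gen n := (h.gen n).res hV
  map n := by
    rw [app_res, h.map n, res_smul]

lemma Loc.map_add (h : Loc L W f e) (n k : ℕ) :
    (L.map (homOfLE (Nat.le_add_right n k))).app W (e n) = f ^ k • e (n + k) := by
  induction k with
  | zero =>
    rw [pow_zero, one_smul]
    have : homOfLE (Nat.le_add_right n 0) = 𝟙 n := rfl
    rw [this, L.map_id]
    rfl
  | succ k ih =>
    have h1 : L.map (homOfLE (Nat.le_add_right n (k + 1))) =
        L.map (homOfLE (Nat.le_add_right n k)) ≫ L.map (homOfLE (Nat.le_succ (n + k))) := by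
      rw [← L.map_comp]; rfl
    rw [h1, Scheme.Modules.Hom.comp_app]
    change (L.map (homOfLE (Nat.le_succ (n + k)))).app W ((L.map (homOfLE (Nat.le_add_right n k))).app W (e n)) = _
    rw [ih, Scheme.Modules.Hom.app_smul, h.map, ← mul_smul, pow_succ]
    rfl

variable {M}

lemma Loc.map_tmul (h : Loc L W f e) (n k : ℕ) (m : Γ(M, W)) :
    ((L ⋙ tL M).map (homOfLE (Nat.le_add_right n k))).app W (tmul m (e n)) =
      tmul (f ^ k • m) (e (n + k)) := by
  have h1 : ((L ⋙ tL M).map (homOfLE (Nat.le_add_right n k))).app W (tmul m (e n)) =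
    tmul m ((L.map (homOfLE (Nat.le_add_right n k))).app W (e n)) :=
    TensExact.tensorRightModMap_tmul _ M W m (e n)
  rw [h1, h.map_add]
  exact (tmul_smul _ _ _).trans (smul_tmul _ _ _).symm

open Ega1.QCohLoc (IsLocAt) in
lemma Loc.condA (h : Loc L W f e) (hM : IsLocAt M W f) {W' : X.Opens} (hW' : W' = X.basicOpen f)
    (hle : W' ≤ W) : CondA (L ⋙ tL M) hle := by
  intro n s hs
  obtain ⟨m, rfl⟩ := Ega2.TensGen.exists_eq_tmul (F := M) (h.gen n) s
  have h1 : tmul (res M hle m) (res (L.obj n) hle (e n)) = 0 :=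
    (res_tmul hle m (e n)).symm.trans hs
  obtain ⟨k, hk⟩ := hM.inj' hW' hle m (Ega2.TensGen.tmul_gen_eq_zero ((h.gen n).res hle) h1)
  refine ⟨n + k, Nat.le_add_right n k, ?_⟩
  rw [h.map_tmul, hk]
  exact Ega2.TensGen.zero_tmul _

open Ega1.QCohLoc (IsLocAt) in
lemma Loc.condB (h : Loc L W f e) (hM : IsLocAt M W f) {W' : X.Opens} (hW' : W' = X.basicOpen f)
    (hle : W' ≤ W) : CondB (L ⋙ tL M) hle := by
  intro n s
  obtain ⟨m, rfl⟩ := Ega2.TensGen.exists_eq_tmul (F := M) ((h.gen n).res hle) s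
  obtain ⟨k, t, ht⟩ := hM.surj' hW' hle m
  refine ⟨n + k, Nat.le_add_right n k, tmul t (e (n + k)), ?_⟩
  rw [(h.res' hle).map_tmul]
  refine (res_tmul hle t (e (n + k))).trans ?_
  have ht' : res M hle t = (ores hle f) ^ k • m := ht
  rw [ht']

/-- Over the nonvanishing locus of `f` the transition maps are injective. -/
lemma Loc.injective (h : Loc L W f e) (hf : IsUnit f) {n m : ℕ} (hnm : n ≤ m) (s : Γ((L ⋙ tL M).obj n, W))
    (hs : ((L ⋙ tL M).map (homOfLE hnm)).app W s = 0) : s = 0 := by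
  obtain ⟨k, rfl⟩ := Nat.exists_eq_add_of_le hnm
  obtain ⟨m, rfl⟩ := Ega2.TensGen.exists_eq_tmul (F := M) (h.gen n) s
  rw [h.map_tmul] at hs
  have h1 : f ^ k • m = 0 := Ega2.TensGen.tmul_gen_eq_zero (h.gen _) hs
  have h2 : m = 0 := (hf.pow k).smul_eq_zero.1 h1
  rw [h2]
  exact Ega2.TensGen.zero_tmul _

end Local

/-- The local data at `W`, relative to the open `Z`. -/
def Dat (L : ℕ ⥤ X.Modules) (Z W : X.Opens) : Prop :=
  IsAffineOpen W ∧ ∃ (f : Γ(X, W)) (e : ∀ n, Γ(L.obj n, W)), Loc L W f e ∧ W ⊓ Z = X.basicOpen f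

lemma Dat.of_le {L : ℕ ⥤ X.Modules} {Z W : X.Opens} (h : Dat L Z W) {V : X.Opens} (hV : IsAffineOpen V)
    (hVW : V ≤ W) : Dat L Z V := by
  obtain ⟨-, f, e, he, hf⟩ := h
  refine ⟨hV, ores hVW f, fun n => res (L.obj n) hVW (e n), he.res' hVW, ?_⟩
  rw [show X.basicOpen (ores hVW f) = V ⊓ X.basicOpen f from Ega1.QCohLoc.basicOpen_resO hVW f, ← hf,
    ← inf_assoc, inf_eq_left.2 hVW]

lemma Dat.PW {L : ℕ ⥤ X.Modules} (hL : ∀ n, PicF.IsInvertible (L.obj n)) {Z W : X.Opens}
    (h : Dat L Z W) {E : CochainComplex X.Modules ℤ} (hE : DCoh.IsQCohD (DerivedCategory.Q.obj E))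
    (hF : ∀ n, DCoh.IsQCohD ((seq E L).obj n)) : PW (seq E L) Z W := by
  obtain ⟨hW, f, e, he, hf⟩ := h
  have hle : X.basicOpen f ≤ W := X.basicOpen_le f
  refine PW.of_NM hle hf.symm ?_
  refine NM_of_cond hF hle (hW.basicOpen f) hW ⟨fun q => ?_, fun q => ?_⟩
  · obtain ⟨i⟩ := nonempty_seqHomology E q L hL
    exact (he.condA (Ega1.QCohLoc.isLocAt_of_isQCoh ((QCohD.isQCohD_Q_iff E).1 hE q) hW f) rfl hle).of_iso
      i.symm
  · obtain ⟨i⟩ := nonempty_seqHomology E q L hL
    exact (he.condB (Ega1.QCohLoc.isLocAt_of_isQCoh ((QCohD.isQCohD_Q_iff E).1 hE q) hW f) rfl hle).of_iso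
      i.symm

lemma isQCohD_seq {L : ℕ ⥤ X.Modules} (hL : ∀ n, PicF.IsInvertible (L.obj n))
    {E : CochainComplex X.Modules ℤ} (hE : DCoh.IsQCohD (DerivedCategory.Q.obj E)) (n : ℕ) :
    DCoh.IsQCohD ((seq E L).obj n) := by
  intro q
  have := TensInv.preservesFiniteLimits_of_isInvertible (hL n)
  refine QCohSerre.isQCoh_of_iso (homI E q (L.obj n)).symm ?_
  exact TensInv.isQCoh_tensorRightMod (hL n) _ ((QCohD.isQCohD_Q_iff E).1 hE q)

/-- The main statement: vanishing of global cohomology of all `K ⊗ L n` implies vanishing of the sections over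
the affine open `Z` of the cohomology sheaves of `K ⊗ L 0`. -/
theorem sections_eq_zero [CompactSpace X] [QuasiSeparatedSpace X] {L : ℕ ⥤ X.Modules}
    (hL : ∀ n, PicF.IsInvertible (L.obj n)) {Z : X.Opens} (hZ : IsAffineOpen Z)
    (hdat : ∀ x : X, ∃ W : X.Opens, x ∈ W ∧ Dat L Z W)
    {E : CochainComplex X.Modules ℤ} (hE : DCoh.IsQCohD (DerivedCategory.Q.obj E))
    (hv : ∀ (n : ℕ) (i : ℤ) (φ : P 0 ⊤ ⟶ ((seq E L).obj n)⟦i⟧), φ = 0) (q : ℤ)
    (s : Γ((tL (E.homology q)).obj (L.obj 0), Z)) : s = 0 := by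
  have hF := isQCohD_seq hL hE
  have hPW : PW (seq E L) Z ⊤ := by
    refine PW_of_isCompact (B := {W | Dat L Z W}) (fun U hU => hU.1) ?_ ?_ isCompact_univ
    · intro V x hx
      obtain ⟨W, hxW, hW⟩ := hdat x
      obtain ⟨_, ⟨U, hU, rfl⟩, hxU, hUV⟩ :=
        X.isBasis_affineOpens.exists_subset_of_mem_open (⟨hx, hxW⟩ : x ∈ V ⊓ W) (V ⊓ W).2
      exact ⟨U, hW.of_le hU (le_trans (show U ≤ V ⊓ W from hUV) inf_le_right), hxU,
        le_trans (show U ≤ V ⊓ W from hUV) inf_le_left⟩
    · intro U hU f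
      exact (hU.of_le (hU.1.basicOpen f) (X.basicOpen_le f)).PW hL hE hF
  obtain ⟨i⟩ := nonempty_seqHomology E q L hL
  obtain ⟨m, hm, h⟩ := exists_map_eq_zero hF hZ hPW hv q 0 ((i.inv.app 0).app Z s)
  have h1 : ((L ⋙ tL (E.homology q)).map (homOfLE hm)).app Z s = 0 := by
    have h2 : (L ⋙ tL (E.homology q)).map (homOfLE hm) = i.inv.app 0 ≫
        (DerivedCategory.homologyFunctor X.Modules q).map ((seq E L).map (homOfLE hm)) ≫ i.hom.app m := by
      have := i.inv.naturality (homOfLE hm)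
      rw [← Category.assoc]
      refine Eq.trans ?_ (congrArg (· ≫ i.hom.app m) this)
      rw [Category.assoc, Iso.inv_hom_id_app, Category.comp_id]
    rw [h2, Scheme.Modules.Hom.comp_app, Scheme.Modules.Hom.comp_app]
    change (i.hom.app m).app Z (((DerivedCategory.homologyFunctor X.Modules q).map
      ((seq E L).map (homOfLE hm))).app Z ((i.inv.app 0).app Z s)) = 0
    rw [h, _root_.map_zero]
  choose W hxW hW using hdat
  refine Ega1.QCohLoc.eq_of_locally_eq _ (fun x : Z => W x.1 ⊓ Z) Z (fun x => inf_le_right) ?_ s 0 ?_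
  · intro x hx
    exact Opens.mem_iSup.2 ⟨⟨x, hx⟩, hxW x, hx⟩
  · rintro ⟨x, hx⟩
    obtain ⟨-, f, e, he, hf⟩ := hW x
    rw [_root_.map_zero]
    have hle : W x ⊓ Z ≤ W x := inf_le_left
    have hle' : W x ⊓ Z ≤ Z := inf_le_right
    refine (he.res' hle).injective (M := E.homology q) ?_ hm _ ?_
    · have hu : IsUnit (ores (X.basicOpen_le f) f) := by
        exact X.toLocallyRingedSpace.toRingedSpace.isUnit_res_basicOpen f
      have : ∀ (V : X.Opens) (hV : V ≤ W x), V = X.basicOpen f → IsUnit (ores hV f) := by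
        rintro V hV rfl
        exact hu
      exact this _ hle hf
    · refine (Ega1.QCohLoc.res_app _ hle' s).trans ?_
      rw [h1, _root_.map_zero]

end Groth.Agent.PerfB.SecTwist
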