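import Mathlib.Algebra.Homology.Single
import Mathlib.Algebra.Homology.DerivedCategory.Basic
import Mathlib.Algebra.Homology.ShortComplex.HomologicalComplex
import Mathlib.Algebra.Homology.HomologicalComplexAbelian

/-!
# Splitting off a term of a complex with zero differentials around it

`F` a cochain complex in an abelian category with `d^{n-1,n} = 0` and `d^{n,n+1} = 0`.  Then
`F ≅ F^n[-n] ⊞ P` where `P` is zero in degree `n` and has the same terms as `F` in the other degrees.
-/

set_option autoImplicit false
universe w v u
open CategoryTheory CategoryTheory.Limits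

namespace Groth.Agent.PerfB.SplitCx

variable {C : Type u} [Category.{v} C] [Abelian C] (F : CochainComplex C ℤ) (n : ℤ)

/-- The inclusion of the term in degree `n`. -/
noncomputable def incl (h : F.d n (n + 1) = 0) :
    (HomologicalComplex.single C (ComplexShape.up ℤ) n).obj (F.X n) ⟶ F :=
  HomologicalComplex.mkHomFromSingle (𝟙 _) (fun k hk => by
    obtain rfl : n + 1 = k := hk
    rw [h, comp_zero])

/-- The projection to the term in degree `n`. -/
noncomputable def proj (h : F.d (n - 1) n = 0) :
    F ⟶ (HomologicalComplex.single C (ComplexShape.up ℤ) n).obj (F.X n) :=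
  HomologicalComplex.mkHomToSingle (𝟙 _) (fun k hk => by
    have hk' : k + 1 = n := hk
    obtain rfl : n - 1 = k := by lia
    rw [h, zero_comp])

lemma incl_proj (h : F.d n (n + 1) = 0) (h' : F.d (n - 1) n = 0) :
    incl F n h ≫ proj F n h' = 𝟙 _ := by
  apply HomologicalComplex.from_single_hom_ext
  rw [HomologicalComplex.comp_f, incl, proj, HomologicalComplex.mkHomFromSingle_f,
    HomologicalComplex.mkHomToSingle_f]
  simp

variable (h : F.d n (n + 1) = 0) (h' : F.d (n - 1) n = 0)

/-- The complement. -/
noncomputable def compl (h' : F.d (n - 1) n = 0) : CochainComplex C ℤ := kernel (proj F n h')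

/-- The splitting. -/
noncomputable def splitIso (h : F.d n (n + 1) = 0) (h' : F.d (n - 1) n = 0) :
    F ≅ (HomologicalComplex.single C (ComplexShape.up ℤ) n).obj (F.X n) ⊞ compl F n h' := by
  let S : ShortComplex (CochainComplex C ℤ) :=
    ShortComplex.mk (kernel.ι (proj F n h')) (proj F n h') (kernel.condition _)
  have hS : S.Exact := ShortComplex.exact_kernel _
  exact (ShortComplex.Splitting.ofExactOfSection S hS (incl F n h) (incl_proj F n h h')
    inferInstance).isoBinaryBiproduct ≪≫ biprod.braiding _ _

/-- The terms of the complement. -/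
noncomputable def complX (i : ℤ) (hi : i ≠ n) : (compl F n h').X i ≅ F.X i := by
  have hz : IsZero (((HomologicalComplex.single C (ComplexShape.up ℤ) n).obj (F.X n)).X i) :=
    HomologicalComplex.isZero_single_obj_X _ _ _ _ hi
  let e : (compl F n h').X i ≅ kernel ((proj F n h').f i) :=
    PreservesKernel.iso (HomologicalComplex.eval C (ComplexShape.up ℤ) i) (proj F n h')
  have : (proj F n h').f i = 0 := hz.eq_of_tgt _ _
  exact e ≪≫ kernelIsoOfEq this ≪≫ kernelZeroIsoSource

lemma isZero_compl_X (i : ℤ) (hi : i ≠ n) (hz : IsZero (F.X i)) : IsZero ((compl F n h').X i) :=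
  hz.of_iso (complX F n h' i hi)

lemma isZero_compl_X_self : IsZero ((compl F n h').X n) := by
  let e : (compl F n h').X n ≅ kernel ((proj F n h').f n) :=
    PreservesKernel.iso (HomologicalComplex.eval C (ComplexShape.up ℤ) n) (proj F n h')
  have : IsIso ((proj F n h').f n) := by
    rw [proj, HomologicalComplex.mkHomToSingle_f]
    infer_instance
  exact (isZero_kernel_of_mono _).of_iso e

section Derived

variable [HasDerivedCategory.{w} C]

/-- The splitting in the derived category. -/
noncomputable def splitIsoQ (h : F.d n (n + 1) = 0) (h' : F.d (n - 1) n = 0) :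
    DerivedCategory.Q.obj F ≅
      (DerivedCategory.singleFunctor C n).obj (F.X n) ⊞ DerivedCategory.Q.obj (compl F n h') :=
  haveI : PreservesBinaryBiproducts (DerivedCategory.Q (C := C)) :=
    preservesBinaryBiproducts_of_preservesBiproducts _
  DerivedCategory.Q.mapIso (splitIso F n h h') ≪≫
    DerivedCategory.Q.mapBiprod _ _

end Derived

end Groth.Agent.PerfB.SplitCx
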