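import Groth.Agent.Dcoh.FinLocFree
import Groth.Agent.Dcoh.LocalD

/-!
# Maps out of the structure module killed by a monomorphism `O ⟶ O`

If `a : O_X ⟶ O_X` is a monomorphism and `a ≫ φ = 0` with `φ : O_X ⟶ M`, `M` finite locally free, then `φ = 0`
(endomorphisms of `O_X` commute).
-/

set_option autoImplicit false
universe u
open CategoryTheory CategoryTheory.Limits AlgebraicGeometry TopologicalSpace Opposite

attribute [local instance] HasDerivedCategory.standard

namespace Groth.Agent.PerfB.UnitComm

open Groth.Agent.Dcoh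

variable {X : Scheme.{u}}

/-- Endomorphisms of the structure module commute. -/
lemma end_comm (a b : Coh.structureModule X ⟶ Coh.structureModule X) : a ≫ b = b ≫ a := by
  apply FinLocFree.hom_ext_unit
  rw [FinLocFree.unitSec_comp, FinLocFree.unitSec_comp]
  obtain ⟨r, hr⟩ := (FinLocFree.fn (⊤ : X.Opens)).surjective (FinLocFree.unitSec a)
  obtain ⟨s, hs⟩ := (FinLocFree.fn (⊤ : X.Opens)).surjective (FinLocFree.unitSec b)
  rw [← hr, ← hs, FinLocFree.app_eq_smul, FinLocFree.app_eq_smul, ← hr, ← hs]
  have e : (homOfLE (le_top (a := (⊤ : X.Opens)))).op = 𝟙 (op (⊤ : X.Opens)) := rfl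
  rw [e, CategoryTheory.Functor.map_id]
  change r • FinLocFree.fn ⊤ s = s • FinLocFree.fn ⊤ r
  rw [← map_smul, ← map_smul, smul_eq_mul, smul_eq_mul, mul_comm]

lemma eq_zero_of_mono_comp (a b : Coh.structureModule X ⟶ Coh.structureModule X) [Mono a]
    (h : a ≫ b = 0) : b = 0 := by
  rw [← cancel_mono a, end_comm b a, h, zero_comp]

lemma eq_zero_of_mono_comp_free {n : ℕ} (a : Coh.structureModule X ⟶ Coh.structureModule X) [Mono a]
    (b : Coh.structureModule X ⟶ FlatMod.freeMod X n) (h : a ≫ b = 0) : b = 0 := by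
  -- finite coproduct is a biproduct
  have : HasFiniteBiproducts X.Modules := HasFiniteBiproducts.of_hasFiniteProducts
  let e : FlatMod.freeMod X n ≅ ⨁ (fun _ : Fin n => Coh.structureModule X) :=
    (biproduct.isoCoproduct _).symm
  rw [← cancel_mono e.hom, zero_comp]
  apply biproduct.hom_ext
  intro i
  rw [zero_comp]
  apply eq_zero_of_mono_comp a
  rw [Category.assoc, reassoc_of% h, zero_comp]

/-- A map from `O_X` to a finite locally free module annihilated by precomposition with a mono
endomorphism of `O_X` is zero. -/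
theorem eq_zero_of_mono_comp_locFree {M : X.Modules} (hM : FlatMod.IsFinLocFree M)
    (a : Coh.structureModule X ⟶ Coh.structureModule X) [Mono a]
    (b : Coh.structureModule X ⟶ M) (h : a ≫ b = 0) : b = 0 := by
  apply FinLocFree.hom_ext_unit
  change FinLocFree.unitSec b = 0
  -- check locally
  refine TopCat.Sheaf.eq_of_locally_eq' (⟨M.presheaf, M.isSheaf⟩ : TopCat.Sheaf Ab.{u} X)
    (fun x : X => (hM x).choose) ⊤ (fun x => homOfLE le_top) ?_ _ _ ?_
  · intro x _
    exact Opens.mem_iSup.2 ⟨x, (hM x).choose_spec.choose_spec.1⟩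
  · intro x
    obtain ⟨n, hx, ⟨e⟩⟩ := (hM x).choose_spec
    set U := (hM x).choose with hU
    have hmono : Mono ((Scheme.Modules.restrictFunctor U.ι).map a) := inferInstance
    let r := FinLocFree.unitRes U.ι
    let a' : Coh.structureModule (U : Scheme.{u}) ⟶ Coh.structureModule (U : Scheme.{u}) :=
      r.hom ≫ (Scheme.Modules.restrictFunctor U.ι).map a ≫ r.inv
    have ha' : Mono a' := inferInstance
    let b' : Coh.structureModule (U : Scheme.{u}) ⟶ FlatMod.freeMod (U : Scheme.{u}) n :=
      r.hom ≫ (Scheme.Modules.restrictFunctor U.ι).map b ≫ e.hom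
    have hb' : b' = 0 := by
      apply eq_zero_of_mono_comp_free a'
      simp only [a', b', Category.assoc, Iso.inv_hom_id_assoc, ← Functor.map_comp_assoc, h]
      simp
    have h2 : r.hom ≫ (Scheme.Modules.restrictFunctor U.ι).map b = 0 := by
      rw [← cancel_mono e.hom, Category.assoc, zero_comp]
      exact hb'
    have h3 := FinLocFree.unitSec_restrict U.ι b
    rw [show (FinLocFree.unitRes U.ι).hom ≫ (Scheme.Modules.restrictFunctor U.ι).map b = 0 from h2] at h3
    have h4 : (M.presheaf.map (homOfLE (le_top (a := U.ι ''ᵁ ⊤))).op) (FinLocFree.unitSec b) = 0 := h3.symm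
    have h5 : U.ι ''ᵁ ⊤ = U := by simp
    have h6 : (M.presheaf.map (homOfLE (le_top (a := U))).op) (FinLocFree.unitSec b) = 0 := by
      have h7 : U ≤ U.ι ''ᵁ ⊤ := h5.ge
      have h8 := congrArg (M.presheaf.map (homOfLE h7).op) h4
      rw [← ConcreteCategory.comp_apply, ← Functor.map_comp, map_zero] at h8
      exact h8
    exact h6.trans (map_zero _).symm

end Groth.Agent.PerfB.UnitComm
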