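import Groth.Agent.PerfB.MinModel
import Groth.Agent.PerfB.FlatPull
import Groth.Agent.PerfB.SplitCx
import Groth.Agent.PerfB.UnitComm
import Groth.Agent.PerfB.FiberUnit
import Groth.Agent.PerfB.FreeRank
import Groth.Agent.Ega2.QCohLocal

/-!
# Splitting off `O_S` from a perfect complex whose `H^0` contains `O_S` and whose fibre at `s` is in degrees `≥ 0`
with one-dimensional `H^0`
-/

set_option autoImplicit false
universe u
open CategoryTheory CategoryTheory.Limits AlgebraicGeometry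
attribute [local instance] HasDerivedCategory.standard

namespace Groth.Agent.PerfB.SplitH0

open Groth.Agent.Dcoh Groth.Agent.Dcoh.LocalD Groth.Agent.PerfB.MinModel

variable {S : Scheme.{u}}

/-- The differential `d^0` vanishes if `O` embeds in `H^0` and `F^{-1} = 0`, `F^0 ≅ O`, `F^1` finite locally free. -/
theorem d_eq_zero {V : Scheme.{u}} (F : CochainComplex V.Modules ℤ)
    (h1 : IsZero (F.X (-1))) (e0 : F.X 0 ≅ Coh.structureModule V) (hF : FlatMod.IsFinLocFree (F.X 1))
    (a : Coh.structureModule V ⟶ F.homology 0) [Mono a] : F.d 0 1 = 0 := by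
  have hd : F.d (-1) 0 = 0 := h1.eq_of_src _ _
  have i1 : IsIso (F.homologyπ 0) := by
    refine F.isIso_homologyπ (-1) 0 (by simp) hd
  let i : Coh.structureModule V ⟶ F.X 0 := a ≫ inv (F.homologyπ 0) ≫ F.iCycles 0
  have hi : Mono i := inferInstance
  have hc : i ≫ F.d 0 1 = 0 := by simp [i]
  have h2 := UnitComm.eq_zero_of_mono_comp_locFree hF (i ≫ e0.hom) (e0.inv ≫ F.d 0 1) (by
    rw [Category.assoc, e0.hom_inv_id_assoc, hc])
  rw [← cancel_epi e0.inv, h2, comp_zero]

/-- Near `s`, a perfect object `E` with a monomorphism `O_S ⟶ H^0(E)` and such that the fibre at `s` is in degrees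
`≥ 0` with `H^0` of rank `1` splits as `O ⊕ C` with `C` strictly perfect in degrees `≥ 1`. -/
theorem exists_split (E : DCoh.D S) (hE : DCoh.IsPerfect E)
    (i : Coh.structureModule S ⟶ DCoh.HD E 0) [Mono i] (s : S)
    (hfib : ∀ (U : Scheme.{u}) (k : U ⟶ S) [IsOpenImmersion k] (u₀ : U) (_ : k u₀ = s)
      (M : CochainComplex U.Modules ℤ) (_ : DCoh.IsStrictlyPerfect M)
      (_ : Nonempty ((DCoh.restrictD k).obj E ≅ DerivedCategory.Q.obj M)),
      (∀ n : ℤ, n < 0 → IsZero ((((Scheme.Modules.pullback (U.fromSpecResidueField u₀)).mapHomologicalComplex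
        (ComplexShape.up ℤ)).obj M).homology n)) ∧
      Nonempty ((((Scheme.Modules.pullback (U.fromSpecResidueField u₀)).mapHomologicalComplex
        (ComplexShape.up ℤ)).obj M).homology 0 ≅ Coh.structureModule _)) :
    ∃ (V : S.Opens) (_ : s ∈ V) (C : CochainComplex (V : Scheme.{u}).Modules ℤ) (b : ℤ),
      DCoh.VanishesOutside C 1 b ∧ (∀ n, FlatMod.IsFinLocFree (C.X n)) ∧
      Nonempty ((DCoh.restrictD V.ι).obj E ≅
        DCoh.inD (V : Scheme.{u}) (Coh.structureModule (V : Scheme.{u})) ⊞ DerivedCategory.Q.obj C) := by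
  obtain ⟨V₀, hs₀, E₀, hE₀, ⟨a₀⟩⟩ := (isPerfect_iff_locally E).1 hE s
  obtain ⟨U, j, hj, u₀, hu₀, M, φ, m, a, b, hφ, hM, hm, hmin⟩ :=
    exists_minModel_of_isStrictlyPerfect (⟨s, hs₀⟩ : (V₀ : Scheme.{u})) E₀ hE₀
  let k : U ⟶ S := j ≫ V₀.ι
  have hku : k u₀ = s := by
    change (j ≫ V₀.ι) u₀ = s
    rw [Scheme.Hom.comp_apply, hu₀]
    rfl
  have hQφ : IsIso (DerivedCategory.Q.map φ) := inferInstance
  let eM : (DCoh.restrictD k).obj E ≅ DerivedCategory.Q.obj M :=
    ((restrictComp j V₀.ι).app E).symm ≪≫ (DCoh.restrictD j).mapIso a₀ ≪≫ QRestrict j E₀ ≪≫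
      asIso (DerivedCategory.Q.map φ)
  have hMperf : DCoh.IsStrictlyPerfect M := isStrictlyPerfect_of_termsFree hm hM
  obtain ⟨hneg, ⟨hz⟩⟩ := hfib U k u₀ hku M hMperf ⟨eM⟩
  -- the fibre complex
  let g := U.fromSpecResidueField u₀
  let N := ((Scheme.Modules.pullback g).mapHomologicalComplex (ComplexShape.up ℤ)).obj M
  have hN : ∀ n, N.d n (n + 1) = 0 := hmin
  have eN : ∀ n, N.homology n ≅ FlatMod.freeMod (Spec (U.residueField u₀)) (m n) := fun n =>
    FreeRank.homologyIsoOfZero N n hN ≪≫ (Scheme.Modules.pullback g).mapIso (hM n).some ≪≫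
      FlatPull.pullbackFreeMod g (m n)
  let z : Spec (U.residueField u₀) := Classical.arbitrary _
  have hmneg : ∀ n : ℤ, n < 0 → m n = 0 := fun n hn =>
    FreeRank.rank_eq_zero z ((hneg n hn).of_iso (eN n).symm)
  have hm0 : m 0 = 1 :=
    FreeRank.rank_eq z ((eN 0).symm ≪≫ hz ≪≫ Ega2.QCohLocal.freeModOneIso _)
  -- transport to an open subset
  let V : S.Opens := k.opensRange
  let e : (V : Scheme.{u}) ⟶ U := k.isoOpensRange.inv
  have he : e ≫ k = V.ι := k.isoOpensRange_inv_comp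
  let F := ((Scheme.Modules.restrictFunctor e).mapHomologicalComplex (ComplexShape.up ℤ)).obj M
  let eF : (DCoh.restrictD V.ι).obj E ≅ DerivedCategory.Q.obj F :=
    ((restrictCompEq he).app E).symm ≪≫ (DCoh.restrictD e).mapIso eM ≪≫ QRestrict e M
  have eFX : ∀ n, Nonempty (F.X n ≅ FlatMod.freeMod V (m n)) := fun n =>
    ⟨(Scheme.Modules.restrictFunctor e).mapIso (hM n).some ≪≫ freeModRestrict e (m n)⟩
  have hFz : ∀ n, m n = 0 → IsZero (F.X n) := fun n hn => by
    have e1 := (eFX n).some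
    rw [hn] at e1
    exact (MinModel.isZero_freeMod_zero _).of_iso e1
  have hFfree : ∀ n, FlatMod.IsFinLocFree (F.X n) := fun n =>
    isFinLocFree_of_iso (eFX n).some.symm (MinModel.isFinLocFree_freeMod _ _)
  have eF0 : F.X 0 ≅ Coh.structureModule (V : Scheme.{u}) := by
    have e1 := (eFX 0).some
    rw [hm0] at e1
    exact e1 ≪≫ (Ega2.QCohLocal.freeModOneIso _).symm
  -- the monomorphism
  let α : Coh.structureModule (V : Scheme.{u}) ⟶ F.homology 0 :=
    (structureRestrict V.ι).inv ≫ (Scheme.Modules.restrictFunctor V.ι).map i ≫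
      (HDRestrict V.ι E 0).inv ≫ (DerivedCategory.homologyFunctor _ 0).map eF.hom ≫
      (DerivedCategory.homologyFunctorFactors _ 0).hom.app F
  have hα : Mono α := by
    have m1 : Mono ((Scheme.Modules.restrictFunctor V.ι).map i) := inferInstance
    have m2 : IsIso ((DerivedCategory.homologyFunctorFactors (V : Scheme.{u}).Modules 0).hom.app F) :=
      inferInstance
    have m3 : IsIso ((DerivedCategory.homologyFunctor (V : Scheme.{u}).Modules 0).map eF.hom) :=
      inferInstance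
    have m4 : Mono ((HDRestrict V.ι E 0).inv) := inferInstance
    have m5 : Mono ((structureRestrict V.ι).inv) := inferInstance
    have m6 : Mono ((DerivedCategory.homologyFunctorFactors (V : Scheme.{u}).Modules 0).hom.app F) :=
      @IsIso.mono_of_iso _ _ _ _ _ m2
    exact mono_comp' m5 (mono_comp' m1 (mono_comp' m4 (mono_comp' inferInstance m6)))
  have hd0 : F.d 0 1 = 0 := d_eq_zero F (hFz _ (hmneg _ (by norm_num))) eF0 (hFfree 1) α
  have hdm : F.d (0 - 1) 0 = 0 := (hFz _ (hmneg _ (by norm_num))).eq_of_src _ _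
  refine ⟨V, ⟨u₀, hku⟩, SplitCx.compl F 0 hdm, b, ?_, ?_, ⟨?_⟩⟩
  · intro n hn
    by_cases h0 : n = 0
    · subst h0
      exact SplitCx.isZero_compl_X_self F 0 hdm
    · refine SplitCx.isZero_compl_X F 0 hdm n h0 (hFz n ?_)
      rcases hn with hn | hn
      · exact hmneg n (by lia)
      · exact hm n (Or.inr hn)
  · intro n
    by_cases h0 : n = 0
    · subst h0
      exact FinLocFree.isFinLocFree_of_isZero (SplitCx.isZero_compl_X_self F 0 hdm)
    · exact isFinLocFree_of_iso (SplitCx.complX F 0 hdm n h0).symm (hFfree n)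
  · exact eF ≪≫ SplitCx.splitIsoQ F 0 hd0 hdm ≪≫
      biprod.mapIso ((DerivedCategory.singleFunctor _ 0).mapIso eF0) (Iso.refl _)

end Groth.Agent.PerfB.SplitH0
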