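import Groth.Agent.PerfB.HomBijOn
import Groth.Agent.Dcoh.Sigma
import Mathlib.Algebra.Homology.DerivedCategory.TStructure
import Mathlib.Algebra.Homology.DerivedCategory.FullyFaithful
import Mathlib.Algebra.Homology.HomotopyCategory.DegreewiseSplit
import Mathlib.Algebra.Homology.HomotopyCategory.SingleFunctors

/-!
# Maps from single complexes in the homotopy category and in the derived category

Let `G` be an object of an abelian category, `F` a complex with `Ext^i(G, F^n) = 0` for `i > 0`, such
that `Hom(G[-m], σ_{<n} F) = 0` in the derived category for `m ≥ n + N`.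
Then `Hom_K(G[-m], F) = Hom_D(G[-m], F)` for all `m`.
-/

universe w v u

set_option linter.unusedSectionVars false

namespace Groth.Agent.PerfB.StupidK

open CategoryTheory CategoryTheory.Limits CategoryTheory.Pretriangulated
open Groth.Agent.PerfB.HomBijOn Groth.Agent.Dcoh.Sigma CochainComplex

variable {A : Type u} [Category.{v} A] [Abelian A]

/-- The quotient `σ_{<n} E` of a complex by its stupid truncation. -/
noncomputable abbrev quo (E : CochainComplex A ℤ) (n : ℤ) : CochainComplex A ℤ :=
  cokernel (sigι E n)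

/-- The terms of the quotient. -/
noncomputable def quoXIso' (E : CochainComplex A ℤ) (n i : ℤ) :
    (quo E n).X i ≅ cokernel ((sigι E n).f i) :=
  PreservesCokernel.iso (HomologicalComplex.eval A (.up ℤ) i) (sigι E n)

lemma isZero_quo_X (E : CochainComplex A ℤ) {n i : ℤ} (h : n ≤ i) : IsZero ((quo E n).X i) := by
  have := isIso_sigι_f E h
  exact (isZero_cokernel_of_epi ((sigι E n).f i)).of_iso (quoXIso' E n i)

/-- The terms of the quotient in low degrees. -/
noncomputable def quoXIso (E : CochainComplex A ℤ) {n i : ℤ} (h : i < n) :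
    (quo E n).X i ≅ E.X i :=
  quoXIso' E n i ≪≫ cokernelIsoOfEq ((isZero_sig_X E (not_le.2 h)).eq_of_src _ 0) ≪≫
    cokernelZeroIsoTarget

instance isStrictlyLE_quo (E : CochainComplex A ℤ) (n : ℤ) : (quo E n).IsStrictlyLE (n - 1) := by
  rw [CochainComplex.isStrictlyLE_iff]
  intro i hi
  exact isZero_quo_X E (by lia)

instance isStrictlyGE_sig (E : CochainComplex A ℤ) (n : ℤ) : (sig E n).IsStrictlyGE n := by
  rw [CochainComplex.isStrictlyGE_iff]
  intro i hi
  exact isZero_sig_X E (by lia)

/-- The short complex of the stupid truncation. -/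
noncomputable def S (E : CochainComplex A ℤ) (n : ℤ) : ShortComplex (CochainComplex A ℤ) :=
  ShortComplex.mk (sigι E n) (cokernel.π (sigι E n)) (cokernel.condition _)

lemma shortExact_S (E : CochainComplex A ℤ) (n : ℤ) : (S E n).ShortExact where
  exact := ShortComplex.exact_of_g_is_cokernel _ (cokernelIsCokernel _)
  mono_f := inferInstanceAs (Mono (sigι E n))
  epi_g := inferInstanceAs (Epi (cokernel.π (sigι E n)))

/-- The retraction onto the stupid truncation. -/
noncomputable def retr (E : CochainComplex A ℤ) (n i : ℤ) : E.X i ⟶ (sig E n).X i :=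
  if h : n ≤ i then (sigXIso E h).inv else 0

lemma sigι_retr (E : CochainComplex A ℤ) (n i : ℤ) : (sigι E n).f i ≫ retr E n i = 𝟙 _ := by
  by_cases h : n ≤ i
  · rw [retr, dif_pos h, sigι_f E h, Iso.hom_inv_id]
  · exact (isZero_sig_X E h).eq_of_src _ _

/-- The degreewise splitting. -/
noncomputable def splitting (E : CochainComplex A ℤ) (n i : ℤ) :
    ((S E n).map (HomologicalComplex.eval A (.up ℤ) i)).Splitting :=
  have hS : ((S E n).map (HomologicalComplex.eval A (.up ℤ) i)).ShortExact :=
    (shortExact_S E n).map_of_exact (HomologicalComplex.eval A (.up ℤ) i)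
  ShortComplex.Splitting.ofExactOfRetraction _ hS.exact (retr E n i) (sigι_retr E n i) hS.epi_g

/-- The stupid truncation triangle in the homotopy category. -/
noncomputable abbrev tri (E : CochainComplex A ℤ) (n : ℤ) :
    Triangle (HomotopyCategory A (ComplexShape.up ℤ)) :=
  trianglehOfDegreewiseSplit (S E n) (splitting E n)

lemma tri_distinguished (E : CochainComplex A ℤ) (n : ℤ) :
    tri E n ∈ distTriang (HomotopyCategory A (ComplexShape.up ℤ)) := by
  rw [HomotopyCategory.distinguished_iff_iso_trianglehOfDegreewiseSplit]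
  exact ⟨_, _, ⟨Iso.refl _⟩⟩

/-- Chain maps from a single complex to a complex with vanishing term are zero. -/
lemma hom_single_eq_zero (G : A) (m : ℤ) (E : CochainComplex A ℤ) (h : IsZero (E.X m))
    (φ : (HomotopyCategory.singleFunctor A m).obj G ⟶ (HomotopyCategory.quotient A _).obj E) :
    φ = 0 := by
  obtain ⟨f, rfl⟩ := (HomotopyCategory.quotient A _).map_surjective φ
  have : f = 0 := by
    apply HomologicalComplex.from_single_hom_ext
    exact h.eq_of_tgt _ _
  rw [this, Functor.map_zero]
  rfl

lemma hom_single_shift_eq_zero (G : A) (m : ℤ) (E : CochainComplex A ℤ)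
    (h : IsZero (E.X (m + 1)))
    (φ : (HomotopyCategory.singleFunctor A m).obj G ⟶
      ((HomotopyCategory.quotient A _).obj E)⟦(1 : ℤ)⟧) : φ = 0 := by
  let e := ((HomotopyCategory.quotient A (ComplexShape.up ℤ)).commShiftIso (1 : ℤ)).app E
  rw [← cancel_mono e.inv, zero_comp]
  exact hom_single_eq_zero G m (E⟦(1 : ℤ)⟧) h _

/-- The shifts of `G` in the homotopy category. -/
def gcls (G : A) : ObjectProperty (HomotopyCategory A (ComplexShape.up ℤ)) :=
  fun X => ∃ m : ℤ, Nonempty (X ≅ (HomotopyCategory.singleFunctor A m).obj G)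

lemma gcls_single (G : A) (m : ℤ) : gcls G ((HomotopyCategory.singleFunctor A m).obj G) :=
  ⟨m, ⟨Iso.refl _⟩⟩

instance (G : A) : (gcls G).IsStableUnderShift ℤ where
  isStableUnderShiftBy n :=
    { le_shift := by
        rintro X ⟨m, ⟨e⟩⟩
        exact ⟨m - n, ⟨(CategoryTheory.shiftFunctor _ n).mapIso e ≪≫
          ((HomotopyCategory.singleFunctors A).shiftIso n (m - n) m (by lia)).app G⟩⟩ }

variable [HasDerivedCategory.{w} A]

/-- The complexes receiving the same maps from the shifts of `G` in the homotopy category and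
in the derived category. -/
abbrev good (G : A) : ObjectProperty (HomotopyCategory A (ComplexShape.up ℤ)) :=
  homBijOn (DerivedCategory.Qh : HomotopyCategory A (ComplexShape.up ℤ) ⥤ _) (gcls G)

lemma good_iff (G : A) (E : HomotopyCategory A (ComplexShape.up ℤ)) :
    good G E ↔ ∀ m : ℤ, Function.Bijective
      (fun f : (HomotopyCategory.singleFunctor A m).obj G ⟶ E => DerivedCategory.Qh.map f) := by
  constructor
  · intro h m
    exact h _ (gcls_single G m)
  · rintro h X ⟨m, ⟨e⟩⟩
    exact Groth.Agent.PerfB.DQTri.bijective_map_of_iso _ e.symm (Iso.refl _) (h m)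

/-- `M` has no higher `Ext` from `G`. -/
def Acyc (G M : A) : Prop :=
  ∀ (m n : ℤ), n < m → ∀ φ : (DerivedCategory.singleFunctor A m).obj G ⟶
    (DerivedCategory.singleFunctor A n).obj M, φ = 0

lemma Acyc.of_iso {G M M' : A} (h : Acyc G M) (e : M ≅ M') : Acyc G M' := by
  intro m n hn φ
  have := h m n hn (φ ≫ (DerivedCategory.singleFunctor A n).map e.inv)
  rw [← cancel_mono ((DerivedCategory.singleFunctor A n).map e.inv), this, zero_comp]

lemma Acyc.of_isZero {G M : A} (h : IsZero M) : Acyc G M := fun _ n _ _ =>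
  ((DerivedCategory.singleFunctor A n).map_isZero h).eq_of_tgt _ _

lemma good_single {G M : A} (h : Acyc G M) (n : ℤ) :
    good G ((HomotopyCategory.singleFunctor A n).obj M) := by
  rw [good_iff]
  intro m
  by_cases hmn : m = n
  · subst hmn
    constructor
    · intro f f' hff'
      obtain ⟨f, rfl⟩ := (HomotopyCategory.quotient A _).map_surjective f
      obtain ⟨f', rfl⟩ := (HomotopyCategory.quotient A _).map_surjective f'
      obtain ⟨g, rfl⟩ := (CochainComplex.singleFunctor A m).map_surjective f
      obtain ⟨g', rfl⟩ := (CochainComplex.singleFunctor A m).map_surjective f'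
      have : g = g' := (DerivedCategory.singleFunctor A m).map_injective hff'
      rw [this]
    · intro f
      obtain ⟨g, hg⟩ := (DerivedCategory.singleFunctor A m).map_surjective f
      exact ⟨(HomotopyCategory.singleFunctor A m).map g, hg⟩
  · have h1 : ∀ f : (HomotopyCategory.singleFunctor A m).obj G ⟶
        (HomotopyCategory.singleFunctor A n).obj M, f = 0 :=
      hom_single_eq_zero G m _ (HomologicalComplex.isZero_single_obj_X _ _ _ _ hmn)
    have h2 : ∀ f : (DerivedCategory.singleFunctor A m).obj G ⟶
        (DerivedCategory.singleFunctor A n).obj M, f = 0 := by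
      intro f
      rcases lt_or_gt_of_ne hmn with hlt | hgt
      · exact DerivedCategory.TStructure.t.zero_of_isLE_of_isGE f m n hlt inferInstance
          inferInstance
      · exact h m n hgt f
    exact ⟨fun f f' _ => (h1 f).trans (h1 f').symm, fun f => ⟨0, (h2 _).trans (h2 f).symm⟩⟩

lemma good_of_bounded {G : A} (a : ℤ) (k : ℕ) (E : CochainComplex A ℤ)
    (h : ∀ i, Acyc G (E.X i)) (h₁ : ∀ i < a, IsZero (E.X i)) (h₂ : ∀ i, a + k ≤ i → IsZero (E.X i)) :
    good G ((HomotopyCategory.quotient A _).obj E) := by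
  induction k generalizing a E with
  | zero =>
    apply homBijOn_of_isZero
    refine Functor.map_isZero _ ?_
    rw [IsZero.iff_id_eq_zero]
    ext i
    by_cases hi : i < a
    · exact (h₁ i hi).eq_of_src _ _
    · exact (h₂ i (by push_cast; lia)).eq_of_src _ _
  | succ k ih =>
    refine (good G).ext_of_isTriangulatedClosed₂ _ (tri_distinguished E (a + 1)) ?_ ?_
    · refine ih (a + 1) (sig E (a + 1)) (fun i => ?_) (fun i hi => isZero_sig_X E (by lia))
        (fun i hi => ?_)
      · by_cases hi : a + 1 ≤ i
        · exact (h i).of_iso (sigXIso E hi).symm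
        · exact Acyc.of_isZero (isZero_sig_X E hi)
      · by_cases hi' : a + 1 ≤ i
        · exact (h₂ i (by push_cast; lia)).of_iso (sigXIso E hi')
        · exact isZero_sig_X E hi'
    · have h1 : (quo E (a + 1)).IsStrictlyLE a := by
        rw [CochainComplex.isStrictlyLE_iff]
        intro i hi
        exact isZero_quo_X E (by lia)
      have h2 : (quo E (a + 1)).IsStrictlyGE a := by
        rw [CochainComplex.isStrictlyGE_iff]
        intro i hi
        exact (h₁ i hi).of_iso (quoXIso E (by lia))
      obtain ⟨M, ⟨e⟩⟩ := CochainComplex.exists_iso_single (quo E (a + 1)) a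
      have hM : Acyc G M := (h a).of_iso ((quoXIso E (by lia)).symm ≪≫
        (HomologicalComplex.eval A (.up ℤ) a).mapIso e ≪≫
          HomologicalComplex.singleObjXSelf (.up ℤ) a M)
      exact (good G).prop_of_iso ((HomotopyCategory.quotient A _).mapIso e.symm)
        (good_single hM a)

lemma zero_of_isGE {G : A} (K : DerivedCategory A) (n m : ℤ) [K.IsGE n] (h : m < n)
    (φ : (DerivedCategory.singleFunctor A m).obj G ⟶ K) : φ = 0 :=
  DerivedCategory.TStructure.t.zero_of_isLE_of_isGE φ m n h inferInstance inferInstance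

lemma zero_of_shift {G : A} (K : DerivedCategory A) (m : ℤ)
    (h : ∀ φ : (DerivedCategory.singleFunctor A (m - 1)).obj G ⟶ K, φ = 0)
    (φ : (DerivedCategory.singleFunctor A m).obj G ⟶ K⟦(-1 : ℤ)⟧) : φ = 0 := by
  let e : ((DerivedCategory.singleFunctor A m).obj G)⟦(1 : ℤ)⟧ ≅
      (DerivedCategory.singleFunctor A (m - 1)).obj G :=
    ((DerivedCategory.singleFunctors A).shiftIso 1 (m - 1) m (by lia)).app G
  let e' : (K⟦(-1 : ℤ)⟧)⟦(1 : ℤ)⟧ ≅ K := (shiftEquiv (DerivedCategory A) (1 : ℤ)).counitIso.app _
  have h1 : e.inv ≫ φ⟦(1 : ℤ)⟧' ≫ e'.hom = 0 := h _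
  apply (CategoryTheory.shiftFunctor (DerivedCategory A) (1 : ℤ)).map_injective
  rw [Functor.map_zero, ← cancel_epi e.inv, ← cancel_mono e'.hom, Category.assoc]
  refine h1.trans ?_
  simp

/-- Main theorem. -/
theorem good_of_bound {G : A} (E : CochainComplex A ℤ) (h : ∀ i, Acyc G (E.X i)) (N : ℤ)
    (hN : ∀ (n m : ℤ), n + N ≤ m → ∀ φ : (DerivedCategory.singleFunctor A m).obj G ⟶
      DerivedCategory.Q.obj (quo E n), φ = 0) :
    good G ((HomotopyCategory.quotient A _).obj E) := by
  rw [good_iff]
  intro m
  let n : ℤ := min m (m - 1 - N)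
  have hn1 : n ≤ m := min_le_left _ _
  have hn2 : n ≤ m - 1 - N := min_le_right _ _
  refine bijective_of_obj₁ DerivedCategory.Qh (tri_distinguished E n) ?_
    (hom_single_eq_zero G m _ (isZero_quo_X E hn1)) (hN n m (by lia)) ?_
  · refine bijective_of_obj₃ DerivedCategory.Qh (tri_distinguished (sig E n) (m + 2)) ?_
      (hom_single_eq_zero G m _ (isZero_sig_X (sig E n) (by lia)))
      (hom_single_shift_eq_zero G m _ (isZero_sig_X (sig E n) (by lia))) ?_
    · have := good_of_bounded (G := G) n (m + 2 - n).toNat (quo (sig E n) (m + 2)) (fun i => ?_)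
        (fun i hi => ?_) (fun i hi => isZero_quo_X _ (by lia))
      · rw [good_iff] at this
        exact this m
      · by_cases hi : i < m + 2
        · by_cases hi' : n ≤ i
          · exact (h i).of_iso ((sigXIso E hi').symm ≪≫ (quoXIso (sig E n) hi).symm)
          · exact Acyc.of_isZero ((isZero_sig_X E hi').of_iso (quoXIso (sig E n) hi))
        · exact Acyc.of_isZero (isZero_quo_X _ (by lia))
      · exact (isZero_sig_X E (by lia)).of_iso (quoXIso (sig E n) (by lia))
    · exact fun φ => zero_of_isGE (DerivedCategory.Q.obj (sig (sig E n) (m + 2))) (m + 2) m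
        (by lia) φ
  · exact fun φ => zero_of_shift (DerivedCategory.Q.obj (quo E n)) m (hN n (m - 1) (by lia)) φ

end Groth.Agent.PerfB.StupidK
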