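import Groth.Prelude.Def_Coh
import Mathlib.AlgebraicGeometry.Morphisms.Flat
import Mathlib.Algebra.Category.ModuleCat.Sheaf.PullbackFree

/-!
# `O_Y ⟶ f_* O_X` and its injectivity for `f` flat and surjective
-/

set_option autoImplicit false
universe u
open CategoryTheory CategoryTheory.Limits AlgebraicGeometry

namespace Groth.Agent.PerfB.UnitMono

variable {X Y : Scheme.{u}} (f : X ⟶ Y)

/-- The canonical map `O_Y ⟶ f_* O_X`. -/
noncomputable def unitMap :
    Coh.structureModule Y ⟶ (Scheme.Modules.pushforward f).obj (Coh.structureModule X) :=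
  SheafOfModules.unitToPushforwardObjUnit f.toRingCatSheafHom

lemma unitMap_app (U : Y.Opens) (r : Γ(Y, U)) :
    ((unitMap f).app U (show Γ(Coh.structureModule Y, U) from r) :
      Γ((Scheme.Modules.pushforward f).obj (Coh.structureModule X), U)) = (f.app U r : Γ(X, f ⁻¹ᵁ U)) := rfl

lemma stalkMap_injective [Flat f] (x : X) : Function.Injective (f.stalkMap x) := by
  algebraize [(f.stalkMap x).hom]
  have : Module.FaithfullyFlat (Y.presheaf.stalk (f x)) (X.presheaf.stalk x) :=
    @Module.FaithfullyFlat.of_flat_of_isLocalHom _ _ _ _ _ _ _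
      (Flat.stalkMap f x) (f.toLRSHom.prop x)
  exact ‹RingHom.FaithfullyFlat _›.injective

/-- For `f` flat and surjective, `Γ(Y, U) ⟶ Γ(X, f⁻¹ U)` is injective. -/
theorem app_injective [Flat f] [Surjective f] (U : Y.Opens) : Function.Injective (f.app U) := by
  rw [injective_iff_map_eq_zero]
  intro s hs
  apply TopCat.Presheaf.section_ext Y.sheaf U
  intro y hy
  obtain ⟨x, rfl⟩ := f.surjective y
  apply stalkMap_injective f x
  have h1 := Scheme.Hom.germ_stalkMap_apply f U x hy s
  have h2 : X.presheaf.germ (f ⁻¹ᵁ U) x hy (f.app U s) = 0 := by rw [hs, map_zero]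
  have h3 : (f.stalkMap x) ((Y.presheaf.germ U (f x) hy) 0) = 0 := by rw [map_zero, map_zero]
  exact (h1.trans h2).trans h3.symm

instance mono_unitMap [Flat f] [Surjective f] : Mono (unitMap f) := by
  constructor
  intro K a b hab
  ext U x
  apply app_injective f U
  exact congrArg (fun ψ : K ⟶ (Scheme.Modules.pushforward f).obj (Coh.structureModule X) => ψ.app U x) hab

end Groth.Agent.PerfB.UnitMono
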