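import Groth.Agent.PerfB.FlatAdj
import Groth.Agent.S0998
import Groth.Agent.CohqA.HOpen
import Groth.Agent.PerfA.HypBound

/-!
# The unit `O_Y ⟶ Rf_* O_X`, `f` flat over an affine base
-/

set_option autoImplicit false

universe w₁ w₂ v₁ v₂ u₁ u₂ u

open CategoryTheory CategoryTheory.Limits AlgebraicGeometry Opposite TopologicalSpace Pretriangulated

namespace Groth.Agent.PerfB.UnitStr

section Abstract

variable {A : Type u₁} [Category.{v₁} A] [Abelian A] [HasDerivedCategory.{w₁} A]
  {B : Type u₂} [Category.{v₂} B] [Abelian B] [HasDerivedCategory.{w₂} B]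
  (F : A ⥤ B) [F.Additive] [PreservesFiniteLimits F] [PreservesFiniteColimits F]

/-- Full faithfulness on maps between objects in degree `0`. -/
theorem bijective_map_single (G M : A) (h : Function.Bijective (fun a : G ⟶ M => F.map a)) :
    Function.Bijective (fun φ : (DerivedCategory.singleFunctor A 0).obj G ⟶
      (DerivedCategory.singleFunctor A 0).obj M => F.mapDerivedCategory.map φ) := by
  let e := F.mapDerivedCategorySingleFunctor 0
  have key : ∀ a : G ⟶ M, F.mapDerivedCategory.map ((DerivedCategory.singleFunctor A 0).map a) =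
      e.hom.app G ≫ (DerivedCategory.singleFunctor B 0).map (F.map a) ≫ e.inv.app M := by
    intro a
    have := e.hom.naturality a
    rw [← Category.assoc, ← Iso.app_inv, Iso.eq_comp_inv]
    exact this
  have h1 : Function.Bijective (fun a : G ⟶ M =>
      F.mapDerivedCategory.map ((DerivedCategory.singleFunctor A 0).map a)) := by
    constructor
    · intro a b hab
      dsimp only at hab
      rw [key, key, cancel_epi, cancel_mono] at hab
      exact h.1 ((DerivedCategory.singleFunctor B 0).map_injective hab)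
    · intro φ
      obtain ⟨b, hb⟩ := (DerivedCategory.singleFunctor B 0).map_surjective
        (e.inv.app G ≫ φ ≫ e.hom.app M)
      obtain ⟨a, ha⟩ := h.2 b
      refine ⟨a, ?_⟩
      dsimp only at ha ⊢
      rw [key, ha, hb]
      simp
  constructor
  · intro φ ψ hφ
    obtain ⟨a, rfl⟩ := (DerivedCategory.singleFunctor A 0).map_surjective φ
    obtain ⟨b, rfl⟩ := (DerivedCategory.singleFunctor A 0).map_surjective ψ
    rw [h1.1 hφ]
  · intro φ
    obtain ⟨a, ha⟩ := h1.2 φ
    exact ⟨_, ha⟩

end Abstract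

attribute [local instance] HasDerivedCategory.standard

open Groth.Agent.Dcoh.DerSch
open Groth.Agent.PerfA Groth.Agent.PerfA.ExtZero Groth.Agent.PerfA.Hyp0 Groth.Agent.PerfA.Hyp1
open FlatPull FlatAdj Groth.Agent.Fga.UnitRestrict

/-- No maps `O_X[-m] ⟶ M` for `m ≠ 0` if the higher cohomology of `M` vanishes. -/
theorem P_hom_eq_zero {X : Scheme.{u}} (M : X.Modules) (h : ∀ q : ℕ, Subsingleton (Coh.HH X M (q + 1)))
    (m : ℤ) (hm : m ≠ 0) (φ : P m (⊤ : X.Opens) ⟶ DCoh.inD X M) : φ = 0 := by
  rcases lt_or_gt_of_ne hm with hm | hm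
  · exact HypBound.eq_zero_of_isGE (DCoh.inD X M) 0 m hm ⊤ φ
  · have := HasExt.standard X.Modules
    refine AffVan.hom_single_eq_zero _ _ (fun q x => ?_) m 0 hm φ
    have := h q
    apply ((AffVan.extEquiv (⊤ : X.Opens) M (q + 1)).trans (CohqA.HOpen.HHTopEquiv M (q + 1)).symm).injective
    exact Subsingleton.elim _ _

/-- No maps `O_X[-m] ⟶ M` for all `m` if the cohomology of `M` vanishes. -/
theorem P_hom_eq_zero' {X : Scheme.{u}} (M : X.Modules) (h : ∀ q : ℕ, Subsingleton (Coh.HH X M q))
    (m : ℤ) (φ : P m (⊤ : X.Opens) ⟶ DCoh.inD X M) : φ = 0 := by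
  by_cases hm : m = 0
  · subst hm
    obtain ⟨a, rfl⟩ := (DerivedCategory.singleFunctor X.Modules 0).map_surjective φ
    have := HasExt.standard X.Modules
    have := h 0
    have h0 : a = 0 := by
      apply (Abelian.Ext.addEquiv₀ (X := OU (⊤ : X.Opens)) (Y := M)).symm.injective
      apply ((AffVan.extEquiv (⊤ : X.Opens) M 0).trans (CohqA.HOpen.HHTopEquiv M 0).symm).injective
      exact Subsingleton.elim _ _
    rw [h0, Functor.map_zero]
  · exact P_hom_eq_zero M (fun q => h (q + 1)) m hm φ

variable {X Y : Scheme.{u}} (f : X ⟶ Y)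

/-- `f^*` on `Hom(O_Y, O_Y)`. -/
theorem bijective_pullback_map (hf : Function.Bijective f.appTop) :
    Function.Bijective (fun a : OU (⊤ : Y.Opens) ⟶ Coh.structureModule Y =>
      (Scheme.Modules.pullback f).map a) := by
  let adj := Scheme.Modules.pullbackPushforwardAdjunction f
  let G : X.Modules := (Scheme.Modules.pullback f).obj (Coh.structureModule Y)
  let β₁ : ((Scheme.Modules.pullback f).obj (OU (⊤ : Y.Opens)) ⟶ G) →
      (OU (⊤ : Y.Opens) ⟶ (Scheme.Modules.pushforward f).obj G) := adj.homEquiv _ _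
  let β₂ : (OU (⊤ : Y.Opens) ⟶ (Scheme.Modules.pushforward f).obj G) →
      (OU (⊤ : Y.Opens) ⟶ (Scheme.Modules.pushforward f).obj (Coh.structureModule X)) := fun b =>
    b ≫ (Scheme.Modules.pushforward f).map (pullbackUnitHom f)
  let β₃ := homEquiv (⊤ : Y.Opens) ((Scheme.Modules.pushforward f).obj (Coh.structureModule X))
  have hβ₁ : Function.Bijective β₁ := (adj.homEquiv _ _).bijective
  have hβ₂ : Function.Bijective β₂ :=
    ⟨fun a b hab => (cancel_mono _).1 hab, fun y =>
      ⟨y ≫ inv ((Scheme.Modules.pushforward f).map (pullbackUnitHom f)), by simp [β₂]⟩⟩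
  have hβ : Function.Bijective (fun b => β₃ (β₂ (β₁ b))) := β₃.bijective.comp (hβ₂.comp hβ₁)
  have key : (fun a : OU (⊤ : Y.Opens) ⟶ Coh.structureModule Y =>
      β₃ (β₂ (β₁ ((Scheme.Modules.pullback f).map a)))) =
      (fun x : Γ(Y, ⊤) => (f.appTop x : Γ(X, ⊤))) ∘ (homEquiv ⊤ (Coh.structureModule Y)) := by
    funext a
    have h1 : β₂ (β₁ ((Scheme.Modules.pullback f).map a)) = a ≫ unitToPush f := by
      change (adj.homEquiv _ _ ((Scheme.Modules.pullback f).map a)) ≫
        (Scheme.Modules.pushforward f).map (pullbackUnitHom f) = _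
      rw [Adjunction.homEquiv_unit, ← unit_pullbackUnitHom, ← Category.assoc]
      exact congrArg (· ≫ (Scheme.Modules.pushforward f).map (pullbackUnitHom f))
        (adj.unit.naturality a).symm
    rw [h1]
    exact homEquiv_comp a (unitToPush f)
  have h2 : Function.Bijective (fun a : OU (⊤ : Y.Opens) ⟶ Coh.structureModule Y =>
      β₃ (β₂ (β₁ ((Scheme.Modules.pullback f).map a)))) := by
    rw [key]
    exact hf.comp (homEquiv ⊤ _).bijective
  exact (Function.Bijective.of_comp_iff' hβ (fun a : OU (⊤ : Y.Opens) ⟶ Coh.structureModule Y =>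
      (Scheme.Modules.pullback f).map a)).1 h2

variable [Flat f] [DCoh.HasRpush f]

/-- `Lf^* O_Y = O_X`. -/
noncomputable def pullO : (pullbackD f).obj (DCoh.inD Y (Coh.structureModule Y)) ≅
    DCoh.inD X (Coh.structureModule X) :=
  ((Scheme.Modules.pullback f).mapDerivedCategorySingleFunctor 0).app _ ≪≫
    (DerivedCategory.singleFunctor X.Modules 0).mapIso (pullbackUnit f)

/-- The unit `O_Y ⟶ Rf_* Lf^* O_Y` is an isomorphism, for `f` flat qcqs over an affine base with
`Γ(Y, O_Y) = Γ(X, O_X)` and `H^m(X, O_X) = 0` for `m ≠ 0`. -/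
theorem isIso_unit_structure [IsAffine Y] [QuasiCompact f] [QuasiSeparated f]
    (hf : Function.Bijective f.appTop)
    (hH : ∀ m : ℤ, m ≠ 0 → ∀ φ : P m (⊤ : X.Opens) ⟶ DCoh.inD X (Coh.structureModule X), φ = 0) :
    IsIso ((pullAdj f).unit.app (DCoh.inD Y (Coh.structureModule Y))) := by
  have hY : DCoh.IsQCohD (DCoh.inD Y (Coh.structureModule Y)) :=
    (PcTop.pc_structureModule Y).isQCohD
  have hX : DCoh.IsQCohD (DCoh.inD X (Coh.structureModule X)) :=
    (PcTop.pc_structureModule X).isQCohD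
  refine isIso_unit_of_P f hY (Groth.Agent.S0998.result f _
    (QCohD.isQCohD_of_iso (pullO f).symm hX)) fun m => ?_
  by_cases hm : m = 0
  · subst hm
    exact bijective_map_single (Scheme.Modules.pullback f) _ _ (bijective_pullback_map f hf)
  · have h1 : ∀ φ : P m (⊤ : Y.Opens) ⟶ DCoh.inD Y (Coh.structureModule Y), φ = 0 := by
      intro φ
      rcases lt_or_gt_of_ne hm with hm | hm
      · exact HypBound.eq_zero_of_isGE (DCoh.inD Y (Coh.structureModule Y)) 0 m hm ⊤ φ
      · exact AffVan.hom_single_OU_eq_zero _ (Ega2.QCohLocal.isQCoh_structureModule Y) ⊤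
          (isAffineOpen_top Y) m 0 hm φ
    have h2 : ∀ φ : (pullbackD f).obj (P m (⊤ : Y.Opens)) ⟶
        (pullbackD f).obj (DCoh.inD Y (Coh.structureModule Y)), φ = 0 := by
      intro φ
      have h3 := hH m hm ((pullP f m).inv ≫ φ ≫ (pullO f).hom)
      rw [← cancel_epi (pullP f m).inv, ← cancel_mono (pullO f).hom, Category.assoc, h3]
      simp
    exact ⟨fun a b _ => (h1 a).trans (h1 b).symm, fun y => ⟨0, by rw [h2 y]; exact Functor.map_zero _ _ _⟩⟩

end Groth.Agent.PerfB.UnitStr
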